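import Cfsg.Agent.H5.Cert

/-! Matrices over the field with four elements as bit patterns. -/

set_option autoImplicit false

namespace Cfsg.Agent.H5

open Finset

theorem testBit_pack_const (s r c i k : ℕ) (hc : c < 2 ^ s) (hi : i < r) (hk : k < s) :
    (pack (2 ^ s) (fun _ => c) r).testBit (s * i + k) = c.testBit k := by
  have h := digit_pack (B := 2 ^ s) (f := fun _ => c) (n := r) (fun _ _ => hc) hi
  have h2 := congrArg (fun x => Nat.testBit x k) h
  simpa only [← pow_mul, Nat.testBit_mod_two_pow, Nat.testBit_div_two_pow, hk, decide_true,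
    Bool.true_and, add_comm k] using h2

section
variable (F : Type*) [Field F] (ω : F)

/-- entry `(i, j)` of the matrix with code `A` (`d` columns) -/
def ent4 (d A i j : ℕ) : F := bit F A (2 * d * i + j) + bit F A (2 * d * i + (d + j)) * ω

/-- multiplication of all entries by `ω`; `LO` masks the lower halves of the rows -/
def om4 (d LO A : ℕ) : ℕ :=
  Nat.xor (Nat.land (Nat.shiftRight A d) LO)
    (Nat.shiftLeft (Nat.land (Nat.xor A (Nat.shiftRight A d)) LO) d)

def tilde4 (d LO FULL S B : ℕ) : ℕ := Nat.xor (Nat.land B FULL) (Nat.shiftLeft (om4 d LO B) S)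

def lo4 (d r : ℕ) : ℕ := pack (2 ^ (2 * d)) (fun _ => 2 ^ d - 1) r
def col1 (s r : ℕ) : ℕ := pack (2 ^ s) (fun _ => 1) r

theorem testBit_lo4 {d r i k : ℕ} (hi : i < r) (hk : k < 2 * d) :
    (lo4 d r).testBit (2 * d * i + k) = decide (k < d) := by
  rw [lo4, testBit_pack_const _ _ _ _ _ _ hi hk, Nat.testBit_two_pow_sub_one]
  have : 2 ^ d ≤ 2 ^ (2 * d) := Nat.pow_le_pow_right (by norm_num) (by omega)
  have := Nat.two_pow_pos d
  omega

theorem testBit_om4_lo {d r A i k : ℕ} (hi : i < r) (hk : k < d) :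
    (om4 d (lo4 d r) A).testBit (2 * d * i + k) = A.testBit (2 * d * i + (d + k)) := by
  change (((A >>> d) &&& _) ^^^ (((A ^^^ (A >>> d)) &&& _) <<< d)).testBit _ = _
  rw [Nat.testBit_xor, Nat.testBit_and, testBit_lo4 hi (by omega), Nat.testBit_shiftLeft,
    Nat.testBit_and, Nat.testBit_shiftRight]
  have : (decide (2 * d * i + k ≥ d) && ((A ^^^ A >>> d).testBit (2 * d * i + k - d) &&
      (lo4 d r).testBit (2 * d * i + k - d))) = false := by
    rcases Nat.eq_zero_or_pos i with rfl | hpos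
    · have : ¬ (2 * d * 0 + k ≥ d) := by omega
      simp only [this, decide_false, Bool.false_and]
    · obtain ⟨i, rfl⟩ : ∃ j, i = j + 1 := ⟨i - 1, by omega⟩
      have e : 2 * d * (i + 1) + k - d = 2 * d * i + (d + k) := by
        rw [mul_add]; omega
      rw [e, testBit_lo4 (by omega) (by omega)]
      simp
  rw [this, show d + (2 * d * i + k) = 2 * d * i + (d + k) by ring]
  simp [hk]

theorem testBit_om4_hi {d r A i k : ℕ} (hi : i < r) (hk : k < d) :
    (om4 d (lo4 d r) A).testBit (2 * d * i + (d + k)) =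
      (A.testBit (2 * d * i + k) ^^ A.testBit (2 * d * i + (d + k))) := by
  change (((A >>> d) &&& _) ^^^ (((A ^^^ (A >>> d)) &&& _) <<< d)).testBit _ = _
  rw [Nat.testBit_xor, Nat.testBit_and, testBit_lo4 hi (by omega), Nat.testBit_shiftLeft,
    Nat.testBit_and, show 2 * d * i + (d + k) - d = 2 * d * i + k by omega,
    testBit_lo4 hi (by omega), Nat.testBit_xor, Nat.testBit_shiftRight (i := d) (j := 2 * d * i + k),
    show d + (2 * d * i + k) = 2 * d * i + (d + k) by ring]
  have h1 : ¬ (d + k < d) := by omega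
  have h2 : 2 * d * i + (d + k) ≥ d := by omega
  simp [hk, h1, h2]

variable {F ω}

theorem bit_add_self [CharP F 2] (x : F) : x + x = 0 := CharTwo.add_self_eq_zero x

theorem ent4_om4 [CharP F 2] (hω : ω ^ 2 + ω + 1 = 0) {d r A i k : ℕ} (hi : i < r) (hk : k < d) :
    ent4 F ω d (om4 d (lo4 d r) A) i k = ω * ent4 F ω d A i k := by
  have h2 : (2 : F) = 0 := CharTwo.two_eq_zero
  simp only [ent4, bit, testBit_om4_lo hi hk, testBit_om4_hi hi hk]
  cases A.testBit (2 * d * i + k) <;> cases A.testBit (2 * d * i + (d + k)) <;> simp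
  · linear_combination (-1) * hω + (1 + ω) * h2
  · linear_combination (-1) * hω + h2

theorem bit_tilde4_lo {d LO B j k : ℕ} (hj : j < d) (hk : k < 2 * d) :
    bit F (tilde4 d LO (2 ^ (2 * d * d) - 1) (2 * d * d) B) (2 * d * j + k) =
      bit F B (2 * d * j + k) := by
  have : 2 * d * j + k < 2 * d * d := by nlinarith
  have h2 : ¬ (2 * d * j + k ≥ 2 * d * d) := by omega
  change bit F ((B &&& _) ^^^ (_ <<< _)) _ = _
  simp only [bit, Nat.testBit_xor, Nat.testBit_and, Nat.testBit_shiftLeft,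
    Nat.testBit_two_pow_sub_one, this, h2, decide_true, decide_false, Bool.and_true,
    Bool.false_and, Bool.xor_false]

theorem bit_tilde4_hi {d LO B j k : ℕ} :
    bit F (tilde4 d LO (2 ^ (2 * d * d) - 1) (2 * d * d) B) (2 * d * (d + j) + k) =
      bit F (om4 d LO B) (2 * d * j + k) := by
  have : ¬ (2 * d * (d + j) + k < 2 * d * d) := by rw [mul_add]; omega
  have h2 : (2 * d * (d + j) + k ≥ 2 * d * d) := by omega
  change bit F ((B &&& _) ^^^ (_ <<< _)) _ = _
  simp only [bit, Nat.testBit_xor, Nat.testBit_and, Nat.testBit_shiftLeft,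
    Nat.testBit_two_pow_sub_one, this, h2, decide_true, decide_false, Bool.and_false,
    Bool.true_and, Bool.false_xor, show 2 * d * (d + j) + k - 2 * d * d = 2 * d * j + k by
      rw [mul_add]; omega]

/-- product of an `r × d` matrix and a `d × d` matrix -/
noncomputable def mul4 (d r A B : ℕ) : ℕ :=
  bmul (2 * d) (col1 (2 * d) r) (2 ^ (2 * d) - 1) (2 * d) A
    (tilde4 d (lo4 d d) (2 ^ (2 * d * d) - 1) (2 * d * d) B)

theorem mul4_lt (d r A B : ℕ) (hd : d ≠ 0) : mul4 d r A B < 2 ^ (2 * d * r) :=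
  bmul_lt _ _ _ _ _ (by omega)

theorem ent4_mul4 [CharP F 2] (hω : ω ^ 2 + ω + 1 = 0) {d r : ℕ} (A B : ℕ) {i k : ℕ} (hi : i < r)
    (hk : k < d) :
    ent4 F ω d (mul4 d r A B) i k = ∑ j ∈ range d, ent4 F ω d A i j * ent4 F ω d B j k := by
  rw [ent4, mul4, col1, bit_bmul F _ _ _ _ _ _ _ hi (by omega),
    bit_bmul F _ _ _ _ _ _ _ hi (by omega)]
  have hs : ∀ f : ℕ → F, ∑ j ∈ range (2 * d), f j = ∑ j ∈ range d, (f j + f (d + j)) := by
    intro f; rw [two_mul, sum_range_add, sum_add_distrib]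
  rw [hs, hs, sum_mul, ← sum_add_distrib]
  refine sum_congr rfl fun j hj => ?_
  have hj' := mem_range.1 hj
  rw [bit_tilde4_lo hj' (by omega), bit_tilde4_lo hj' (by omega), bit_tilde4_hi, bit_tilde4_hi]
  have := ent4_om4 hω (r := d) (A := B) hj' hk
  simp only [ent4] at this ⊢
  linear_combination (bit F A (2 * d * i + (d + j))) * this

/-- the elements `0, 1, ω, 1 + ω` -/
def el4 (ω : F) (e : ℕ) : F := bit F e 0 + bit F e 1 * ω

/-- the two bits of an entry -/
def e4 (d A i j : ℕ) : ℕ :=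
  Nat.add (Nat.land (Nat.shiftRight A (Nat.add (Nat.mul (Nat.mul 2 d) i) j)) 1)
    (Nat.mul 2 (Nat.land (Nat.shiftRight A (Nat.add (Nat.mul (Nat.mul 2 d) i) (Nat.add d j))) 1))

theorem land_one_eq (A t : ℕ) : (A >>> t) &&& 1 = if A.testBit t then 1 else 0 := by
  rw [Nat.and_one_is_mod, Nat.testBit_eq_decide_div_mod_eq, Nat.shiftRight_eq_div_pow]
  rcases Nat.mod_two_eq_zero_or_one (A / 2 ^ t) with h | h <;> simp [h]

theorem e4_eq (d A i j : ℕ) : e4 d A i j = (if A.testBit (2 * d * i + j) then 1 else 0) +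
    2 * (if A.testBit (2 * d * i + (d + j)) then 1 else 0) := by
  rw [← land_one_eq, ← land_one_eq]; rfl

theorem e4_lt (d A i j : ℕ) : e4 d A i j < 4 := by
  rw [e4_eq]; split_ifs <;> omega

theorem ent4_eq_el4 (d A i j : ℕ) : ent4 F ω d A i j = el4 ω (e4 d A i j) := by
  rw [e4_eq, ent4, el4]
  simp only [bit]
  cases A.testBit (2 * d * i + j) <;> cases A.testBit (2 * d * i + (d + j)) <;>
    simp [Nat.testBit_eq_decide_div_mod_eq]

theorem el4_zero : el4 ω 0 = 0 := by simp [el4, bit]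
theorem el4_one : el4 ω 1 = 1 := by simp [el4, bit, Nat.testBit_eq_decide_div_mod_eq]
theorem el4_two : el4 ω 2 = ω := by simp [el4, bit, Nat.testBit_eq_decide_div_mod_eq]
theorem el4_three : el4 ω 3 = 1 + ω := by simp [el4, bit, Nat.testBit_eq_decide_div_mod_eq]

theorem omega_sq [CharP F 2] (hω : ω ^ 2 + ω + 1 = 0) : ω ^ 2 = 1 + ω := by
  have h2 : (2 : F) = 0 := CharTwo.two_eq_zero
  linear_combination hω - (1 + ω) * h2

theorem omega_ne_zero (hω : ω ^ 2 + ω + 1 = 0) : ω ≠ 0 := by
  rintro rfl; simp at hω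

theorem omega_ne_one [CharP F 2] (hω : ω ^ 2 + ω + 1 = 0) : ω ≠ 1 := by
  have h2 : (2 : F) = 0 := CharTwo.two_eq_zero
  rintro rfl
  have : (1 : F) = 0 := by linear_combination hω - h2
  exact one_ne_zero this

theorem el4_inj [CharP F 2] (hω : ω ^ 2 + ω + 1 = 0) {a b : ℕ} (ha : a < 4) (hb : b < 4)
    (e : el4 ω a = el4 ω b) : a = b := by
  have h2 : (2 : F) = 0 := CharTwo.two_eq_zero
  have h0 := omega_ne_zero hω
  have h1 := omega_ne_one hω
  have h3 : 1 + ω ≠ 0 := fun h => h1 (by linear_combination h - h2)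
  have h4 : 1 + ω ≠ 1 := fun h => h0 (by linear_combination h)
  have h5 : 1 + ω ≠ ω := fun h => one_ne_zero (α := F) (by linear_combination h)
  interval_cases a <;> interval_cases b <;>
    simp only [el4_zero, el4_one, el4_two, el4_three] at e <;>
    first | rfl | exact absurd e (by first | assumption | exact one_ne_zero)
          | exact absurd e.symm (by first | assumption | exact one_ne_zero)

theorem el4_surj [CharP F 2] [Fintype F] (hF : Fintype.card F = 4) (hω : ω ^ 2 + ω + 1 = 0)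
    (x : F) : ∃ a < 4, el4 ω a = x := by
  have : Function.Bijective (fun a : Fin 4 => el4 ω a) := by
    rw [Fintype.bijective_iff_injective_and_card]
    exact ⟨fun a b e => Fin.ext (el4_inj hω a.2 b.2 e), by simp [hF]⟩
  obtain ⟨a, ha⟩ := this.2 x
  exact ⟨a, a.2, ha⟩

theorem charP_of_card_four [Fintype F] (hF : Fintype.card F = 4) : CharP F 2 := by
  obtain ⟨p, hp⟩ := CharP.exists F
  obtain ⟨n, hpp, hn⟩ := FiniteField.card F p
  have : p ∣ 2 ^ 2 := by rw [show 2 ^ 2 = 4 by norm_num, ← hF, hn]; exact dvd_pow_self _ n.ne_zero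
  have := (Nat.prime_dvd_prime_iff_eq hpp Nat.prime_two).1 (hpp.dvd_of_dvd_pow this)
  subst this; exact hp

/-- codes with equal entries are equal -/
theorem eq_of_e4 {d r A B : ℕ} (hA : A < 2 ^ (2 * d * r)) (hB : B < 2 ^ (2 * d * r))
    (h : ∀ i < r, ∀ j < d, e4 d A i j = e4 d B i j) : A = B := by
  apply Nat.eq_of_testBit_eq
  intro t
  by_cases ht : t < 2 * d * r
  · have hd : 0 < 2 * d := by
      rcases Nat.eq_zero_or_pos (2 * d) with h0 | h0
      · rw [h0] at ht; simp at ht
      · exact h0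
    have hi : t / (2 * d) < r := (Nat.div_lt_iff_lt_mul hd).2 (by rwa [mul_comm])
    have hk := Nat.mod_lt t hd
    have e := Nat.div_add_mod t (2 * d)
    by_cases hlo : t % (2 * d) < d
    · have := h _ hi _ hlo
      rw [e4_eq, e4_eq, e] at this
      revert this
      cases A.testBit t <;> cases B.testBit t <;> split_ifs <;> simp_all
    · have := h _ hi (t % (2 * d) - d) (by omega)
      rw [e4_eq, e4_eq, show d + (t % (2 * d) - d) = t % (2 * d) by omega, e] at this
      revert this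
      cases A.testBit t <;> cases B.testBit t <;> split_ifs <;> simp_all
  · rw [Nat.testBit_lt_two_pow (lt_of_lt_of_le hA (Nat.pow_le_pow_right (by norm_num) (by omega))),
      Nat.testBit_lt_two_pow (lt_of_lt_of_le hB (Nat.pow_le_pow_right (by norm_num) (by omega)))]

/-- a code with prescribed entries -/
noncomputable def mk4 (d r : ℕ) (e : ℕ → ℕ → ℕ) : ℕ :=
  pack 2 (fun t => if t % (2 * d) < d then e (t / (2 * d)) (t % (2 * d)) % 2
    else e (t / (2 * d)) (t % (2 * d) - d) / 2 % 2) (2 * d * r)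

theorem testBit_pack_two {f : ℕ → ℕ} {n t : ℕ} (hf : ∀ i < n, f i < 2) (ht : t < n) :
    (pack 2 f n).testBit t = decide (f t = 1) := by
  rw [Nat.testBit_eq_decide_div_mod_eq, digit_pack hf ht]

theorem mk4_lt (d r : ℕ) (e : ℕ → ℕ → ℕ) : mk4 d r e < 2 ^ (2 * d * r) :=
  pack_lt fun i _ => by split_ifs <;> omega

theorem e4_mk4 {d r : ℕ} (e : ℕ → ℕ → ℕ) {i j : ℕ} (hi : i < r) (hj : j < d) (he : e i j < 4) :
    e4 d (mk4 d r e) i j = e i j := by
  have hd : 0 < 2 * d := by omega
  have l1 : 2 * d * i + j < 2 * d * r := by nlinarith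
  have l2 : 2 * d * i + (d + j) < 2 * d * r := by nlinarith
  rw [e4_eq, mk4, testBit_pack_two (fun i _ => by split_ifs <;> omega) l1,
    testBit_pack_two (fun i _ => by split_ifs <;> omega) l2,
    Nat.mul_add_mod, Nat.mul_add_mod, Nat.mod_eq_of_lt (show j < 2 * d by omega),
    Nat.mod_eq_of_lt (show d + j < 2 * d by omega), Nat.mul_add_div hd, Nat.mul_add_div hd,
    Nat.div_eq_of_lt (show j < 2 * d by omega), Nat.div_eq_of_lt (show d + j < 2 * d by omega),
    if_pos hj, if_neg (show ¬ (d + j < d) by omega), add_zero, Nat.add_sub_cancel_left]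
  simp only [decide_eq_true_eq]
  split_ifs <;> omega

/-- row extraction -/
theorem e4_fld (d Y i k : ℕ) (hk : k < d) :
    e4 d (fld Y (2 * d) (2 ^ (2 * d) - 1) i) 0 k = e4 d Y i k := by
  rw [fld_eq, e4_eq, e4_eq, ← pow_mul]
  simp only [Nat.testBit_mod_two_pow, Nat.testBit_div_two_pow, mul_zero, zero_add,
    show k < 2 * d by omega, show d + k < 2 * d by omega, decide_true, Bool.true_and,
    add_comm _ (2 * d * i)]

end

end Cfsg.Agent.H5
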