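import Cfsg.Agent.H5.DC2

/-! Glue lemmas for generated certificates. -/

set_option autoImplicit false

namespace Cfsg.Agent.H5

open Subgroup

/-- sum of `f` over `[a, a + k)` -/
noncomputable def rng (f : ℕ → ℕ) (a k : ℕ) : ℕ := sumTo (fun i => force (Nat.add a i) f) k

/-- sum of `f` over `[64 a, 64 (a + k))`, restricted to `i < n` -/
noncomputable def rngB (f : ℕ → ℕ) (n a k : ℕ) : ℕ :=
  sumTo (fun q => force (Nat.add a q) (s64 (below n fun i => force i f))) k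

theorem all0 (f : ℕ → ℕ) : ∀ i < 0, f i = 0 := fun _ h => absurd h (Nat.not_lt_zero _)

theorem rng_step {f : ℕ → ℕ} {a k : ℕ} (h1 : ∀ i < a, f i = 0) (h2 : rng f a k = 0) :
    ∀ i < a + k, f i = 0 := fun i hi => by
  by_cases h : i < a
  · exact h1 i h
  · have : f (a + (i - a)) = 0 := sumTo_zero h2 (i - a) (by omega)
    rwa [show a + (i - a) = i by omega] at this

theorem rngB_step {f : ℕ → ℕ} {n a k : ℕ} (h1 : ∀ i < n, i < 64 * a → f i = 0)
    (h2 : rngB f n a k = 0) : ∀ i < n, i < 64 * (a + k) → f i = 0 := fun i hi hi2 => by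
  by_cases h : i < 64 * a
  · exact h1 i hi h
  · have h3 : s64 (below n fun i => force i f) (a + (i / 64 - a)) = 0 :=
      sumTo_zero h2 (i / 64 - a) (by omega)
    rw [s64_blk, Finset.sum_eq_zero_iff] at h3
    have h4 := h3 (i % 64) (Finset.mem_range.2 (Nat.mod_lt _ (by norm_num)))
    rwa [show (a + (i / 64 - a)) * 64 + i % 64 = i by omega, below_eq, if_pos hi] at h4

theorem allB0 (f : ℕ → ℕ) (n : ℕ) : ∀ i < n, i < 64 * 0 → f i = 0 :=
  fun _ _ h => absurd h (Nat.not_lt_zero _)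

theorem allB {f : ℕ → ℕ} {n a : ℕ} (h : ∀ i < n, i < 64 * a → f i = 0) (hn : n ≤ 64 * a) :
    ∀ i < n, f i = 0 := fun i hi => h i hi (by omega)

/-- entry of a list of words -/
noncomputable def getW (l : List (List ℕ)) : ℕ → List ℕ :=
  List.rec (motive := fun _ => ℕ → List ℕ) (fun _ => [])
    (fun a _ ih i => Nat.rec (motive := fun _ => List ℕ) a (fun j _ => ih j) i) l

/-- entry of a list of numbers -/
noncomputable def getN (l : List ℕ) : ℕ → ℕ :=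
  List.rec (motive := fun _ => ℕ → ℕ) (fun _ => 0)
    (fun a _ ih i => Nat.rec (motive := fun _ => ℕ) a (fun j _ => ih j) i) l

/-- the generators `gl'` are words in the generators `gl` -/
noncomputable def chkW (mul : ℕ → ℕ → ℕ) (one : ℕ) (gl : ℕ → ℕ) (ws : List (List ℕ)) (gl' : ℕ → ℕ)
    (s : ℕ) : ℕ := Nat.xor (wd mul one gl (getW ws s)) (gl' s)

/-- generator `s` fixes point `r` (`cs` are the scalars) -/
noncomputable def chkF (img : ℕ → ℕ → ℕ → ℕ → ℕ) (row : ℕ → ℕ → ℕ) (ch : ℕ → ℕ) (r : ℕ)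
    (cs : List ℕ) (s : ℕ) : ℕ :=
  force (Nat.shiftRight r (nat_lit 6)) fun q => force (getN cs s) fun c =>
    Nat.xor (img (ch q) s c (Nat.land r (nat_lit 63))) (pt row ch r)

/-- generator `s` maps point `r` to point `getN ts s` -/
noncomputable def chkM (img : ℕ → ℕ → ℕ → ℕ → ℕ) (row : ℕ → ℕ → ℕ) (ch : ℕ → ℕ) (r : ℕ)
    (ch' : ℕ → ℕ) (ts cs : List ℕ) (s : ℕ) : ℕ :=
  force (Nat.shiftRight r (nat_lit 6)) fun q => force (getN cs s) fun c =>
    Nat.xor (img (ch q) s c (Nat.land r (nat_lit 63))) (pt row ch' (getN ts s))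

/-- inverses -/
noncomputable def chkI (mul : ℕ → ℕ → ℕ) (one : ℕ) (gl gi : ℕ → ℕ) (s : ℕ) : ℕ :=
  Nat.add (Nat.xor (mul (gl s) (gi s)) one) (Nat.xor (mul (gi s) (gl s)) one)

/-- `gl s = e (a s)` -/
noncomputable def chkE (gl e : ℕ → ℕ) (a : List ℕ) (s : ℕ) : ℕ :=
  force (getN a s) fun x => Nat.xor (e x) (gl s)

/-- `D * gl s = e (a s) * D` -/
noncomputable def chkL (mul : ℕ → ℕ → ℕ) (D : ℕ) (gl e : ℕ → ℕ) (a : List ℕ) (s : ℕ) : ℕ :=
  force (getN a s) fun x => Nat.xor (mul D (gl s)) (mul (e x) D)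

/-- `gl s * D = D * e (a s)` -/
noncomputable def chkK (mul : ℕ → ℕ → ℕ) (D : ℕ) (gl e : ℕ → ℕ) (a : List ℕ) (s : ℕ) : ℕ :=
  force (getN a s) fun x => Nat.xor (mul (gl s) D) (mul D (e x))

namespace Mdl

variable {G M : Type*} [Group G] [Monoid M] {m : Mdl G M}

theorem el_gn {g0 : ℕ → ℕ} {ng : ℕ} (h : ∀ s < ng, m.In ⊤ (pad m.one ng g0 s)) :
    m.El (m.gn (pad m.one ng g0) ng) (pad m.one ng g0) := fun s => by
  by_cases hs : s < ng
  · exact in_gn h s hs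
  · rw [pad_eq, if_neg hs]; exact in_one _

theorem el_of_pad {H : Subgroup G} {g0 : ℕ → ℕ} {n : ℕ} (h : ∀ s < n, m.In H (pad m.one n g0 s)) :
    m.El H (pad m.one n g0) := fun s => by
  by_cases hs : s < n
  · exact h s hs
  · rw [pad_eq, if_neg hs]; exact in_one _

theorem in_of_chkW {H : Subgroup G} {gl gl' : ℕ → ℕ} {ws : List (List ℕ)} {ng : ℕ} (h : m.El H gl)
    (hc : ∀ s < ng, chkW m.mul m.one gl ws gl' s = 0) : ∀ s < ng, m.In H (gl' s) :=
  fun s hs => (h.wd _).of_eq (hc s hs)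

theorem in_of_chkE {H : Subgroup G} {gl e : ℕ → ℕ} {a : List ℕ} {ng : ℕ} (h : m.El H e)
    (hc : ∀ s < ng, chkE gl e a s = 0) : ∀ s < ng, m.In H (gl s) :=
  fun s hs => (h _).of_eq (hc s hs)

theorem in_of_chkL {H : Subgroup G} {gl e : ℕ → ℕ} {a : List ℕ} {ng D : ℕ} (h : m.El H e)
    (hD : m.In ⊤ D) (hg : ∀ s < ng, m.In H (gl s)) (hc : ∀ s < ng, chkL m.mul D gl e a s = 0) :
    ∀ s < ng, m.In (Lc H (m.elt D)) (gl s) :=
  fun s hs => in_Lc hD.elt (hg s hs) (h _) (xor_eq_zero' (hc s hs))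

theorem in_of_chkK {H : Subgroup G} {gl e : ℕ → ℕ} {a : List ℕ} {ng D : ℕ} (h : m.El H e)
    (hD : m.In ⊤ D) (hg : ∀ s < ng, m.In H (gl s)) (hc : ∀ s < ng, chkK m.mul D gl e a s = 0) :
    ∀ s < ng, m.In (Lc H (m.elt D)⁻¹) (gl s) :=
  fun s hs => in_Lc_inv hD.elt (hg s hs) (h _) (xor_eq_zero' (hc s hs))

theorem in_of_chkI {G : Type*} [Monoid G] (m : Mdl Gˣ G) (hφ : ∀ g, m.φ g = g) {gl gi : ℕ → ℕ}
    {ng : ℕ} (hc : ∀ s < ng, chkI m.mul m.one gl gi s = 0) : ∀ s < ng, m.In ⊤ (gl s) :=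
  fun s hs => in_of_inv m hφ (xor_eq_zero' (add_eq_zero' (hc s hs)).1)
    (xor_eq_zero' (add_eq_zero' (hc s hs)).2)

variable {X : Type*} [MulAction G X]

/-- `img` computes the action of the generators `gl` -/
def Acts (m : Mdl G M) (pv : ℕ → X) (img : ℕ → ℕ → ℕ → ℕ → ℕ) (row : ℕ → ℕ → ℕ) (gl : ℕ → ℕ) : Prop :=
  ∀ s g, m.φ g = m.ev (gl s) → Img pv img row s g

theorem Acts.ex {pv : ℕ → X} {img : ℕ → ℕ → ℕ → ℕ → ℕ} {row : ℕ → ℕ → ℕ} {gl : ℕ → ℕ}
    (h : m.Acts pv img row gl) {H : Subgroup G} (he : m.El H gl) :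
    ∀ s, ∃ g ∈ H, Img pv img row s g := fun s =>
  let ⟨g, hg, e⟩ := he s; ⟨g, hg, h s g e⟩

theorem gn_le_stab {pv : ℕ → X} {img : ℕ → ℕ → ℕ → ℕ → ℕ} {row : ℕ → ℕ → ℕ} {gl ch : ℕ → ℕ}
    (h : m.Acts pv img row gl) {ng r : ℕ} {cs : List ℕ}
    (hc : ∀ s < ng, chkF img row ch r cs s = 0) :
    m.gn gl ng ≤ MulAction.stabilizer G (pv (pt row ch r)) := by
  rw [gn, closure_le]
  rintro g ⟨s, hs, e⟩
  have h1 : img _ s _ _ = pt row ch r := xor_eq_zero' (hc s hs)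
  change g • _ = _
  conv_rhs => rw [← h1, h s g e _ _ _ (land63 r)]
  rfl

theorem smul_of_chkM {pv : ℕ → X} {img : ℕ → ℕ → ℕ → ℕ → ℕ} {row : ℕ → ℕ → ℕ} {gl ch ch' : ℕ → ℕ}
    (h : m.Acts pv img row gl) {r s : ℕ} {ts cs : List ℕ} {g : G} (e : m.φ g = m.ev (gl s))
    (hc : chkM img row ch r ch' ts cs s = 0) :
    g • pv (pt row ch r) = pv (pt row ch' (getN ts s)) := by
  have h1 : img _ s _ _ = pt row ch' (getN ts s) := xor_eq_zero' hc
  conv_rhs => rw [← h1, h s g e _ _ _ (land63 r)]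
  rfl

/-- one step of a lower bound -/
theorem lower [Finite G] {H K : Subgroup G} {Y : ℕ → X} {n r B : ℕ} (hY : Dist Y n)
    (h : Reach H Y n [r]) (h1 : K ≤ H) (h2 : K ≤ MulAction.stabilizer G (Y r))
    (hB : B ≤ Nat.card K) : n * B ≤ Nat.card H :=
  card_ge hY h (hB.trans (card_le_of_le (le_inf h1 h2)))

theorem upper {H K : Subgroup G} {n B : ℕ} (h : Nat.card H ≤ n * Nat.card K) (hB : Nat.card K ≤ B) :
    Nat.card H ≤ n * B := h.trans (Nat.mul_le_mul_left _ hB)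

theorem one_le_card [Finite G] (K : Subgroup G) : 1 ≤ Nat.card K := Nat.card_pos

theorem card_bot_le : Nat.card (⊥ : Subgroup G) ≤ 1 := card_bot.le

end Mdl

section vec

variable {G F : Type*} [Group G] [CommRing F] {N : ℕ}

theorem Cfg.Ok.acts {C : Cfg} [CharP F C.p] (h : C.Ok) (hN : C.n = N) (hr : C.r = 64)
    {m : Mdl G (Matrix (Fin N) (Fin N) F)} (hm : m.ev = C.ev F N) (gl : ℕ → ℕ) :
    m.Acts (fun x => (⟨C.vec F N x⟩ : Vc m.φ)) (C.imgV gl) C.row gl :=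
  fun _ _ e => h.imgV hN hr m.φ (hm ▸ e)

theorem Cfg.Ok.actsL {C : Cfg} [Fact C.p.Prime] (h : C.Ok) (hN : C.n = N) (hr : C.r = 64)
    {m : Mdl G (Matrix (Fin N) (Fin N) (ZMod C.p))} (hm : m.ev = C.ev (ZMod C.p) N) (gl : ℕ → ℕ) :
    m.Acts (fun x => ln m.φ (C.vec (ZMod C.p) N x)) (C.imgL gl) C.row gl :=
  fun _ _ e => h.imgL hN hr m.φ (hm ▸ e)

/-- a normal subgroup fixing a vector whose images span acts trivially: the columns of the
invertible matrix `B` are images of `v` -/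
theorem eq_one_of_fix {φ : G →* Matrix (Fin N) (Fin N) F} (inj : Function.Injective φ)
    {B B' : Matrix (Fin N) (Fin N) F} (hB : B * B' = 1) {g : G}
    (h : ∀ j, (φ g).mulVec (fun i => B i j) = fun i => B i j) : g = 1 := by
  apply inj
  have : φ g * B = B := by
    funext i j
    exact congrFun (h j) i
  rw [map_one, ← hB, ← mul_one (φ g), ← hB, ← mul_assoc, this]

end vec

end Cfsg.Agent.H5
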