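import Cfsg.Agent.H5.Pack

/-! Certificates for orders, maximality and simplicity of explicit groups. -/

set_option autoImplicit false

namespace Cfsg.Agent.H5

open Subgroup

theorem closure_ind_fin {G : Type*} [Group G] {S : Set G} (hS : ∀ s ∈ S, IsOfFinOrder s)
    {P : G → Prop} (h1 : P 1) (hm : ∀ s ∈ S, ∀ g, P g → P (s * g)) :
    ∀ g ∈ closure S, P g := by
  intro g hg
  induction hg using closure_induction_left with
  | one => exact h1
  | mul_left x hx y _ ih => exact hm x hx y ih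
  | inv_mul_cancel x hx y _ ih =>
    have hp : ∀ k : ℕ, P (x ^ k * y) := by
      intro k
      induction k with
      | zero => simpa using ih
      | succ k ihk => rw [pow_succ', mul_assoc]; exact hm x hx _ ihk
    have hpos := (hS x hx).orderOf_pos
    have : x⁻¹ = x ^ (orderOf x - 1) := by
      rw [inv_eq_iff_mul_eq_one, ← pow_succ', Nat.sub_add_cancel hpos, pow_orderOf_eq_one]
    rw [this]; exact hp _

/-- A computational model: group elements are represented by codes. -/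
structure Mdl (G M : Type*) [Group G] [Monoid M] where
  φ : G →* M
  inj : Function.Injective φ
  ev : ℕ → M
  mul : ℕ → ℕ → ℕ
  ev_mul : ∀ a b, ev (mul a b) = ev a * ev b
  one : ℕ
  ev_one : ev one = 1

namespace Mdl

variable {G M : Type*} [Group G] [Monoid M] (m : Mdl G M)

def In (H : Subgroup G) (a : ℕ) : Prop := ∃ g ∈ H, m.φ g = m.ev a

def gen (l : List ℕ) : Subgroup G := closure {g | ∃ a ∈ l, m.φ g = m.ev a}

variable {m}

theorem In.mono {H K : Subgroup G} (h : H ≤ K) {a : ℕ} (ha : m.In H a) : m.In K a :=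
  let ⟨g, hg, e⟩ := ha; ⟨g, h hg, e⟩

theorem In.top {H : Subgroup G} {a : ℕ} (ha : m.In H a) : m.In ⊤ a := ha.mono le_top

theorem in_one (H : Subgroup G) : m.In H m.one := ⟨1, H.one_mem, by rw [map_one, m.ev_one]⟩

theorem In.mul {H : Subgroup G} {a b : ℕ} (ha : m.In H a) (hb : m.In H b) : m.In H (m.mul a b) :=
  let ⟨g, hg, e⟩ := ha; let ⟨h, hh, e'⟩ := hb
  ⟨g * h, H.mul_mem hg hh, by rw [map_mul, e, e', m.ev_mul]⟩

theorem In.of_ev {H : Subgroup G} {a b : ℕ} (ha : m.In H a) (e : m.ev a = m.ev b) : m.In H b :=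
  let ⟨g, hg, e'⟩ := ha; ⟨g, hg, e'.trans e⟩

theorem In.mem {H : Subgroup G} {a : ℕ} (ha : m.In H a) {g : G} (e : m.φ g = m.ev a) : g ∈ H := by
  obtain ⟨h, hh, e'⟩ := ha
  rwa [m.inj (e.trans e'.symm)]

theorem In.cancel_left {H : Subgroup G} {s t u k : ℕ} (hs : m.In H s) (hu : m.In H u)
    (hk : m.In H k) (e : m.ev s * m.ev t = m.ev u * m.ev k) : m.In H t := by
  obtain ⟨a, ha, ea⟩ := hs
  obtain ⟨b, hb, eb⟩ := hu
  obtain ⟨c, hc, ec⟩ := hk
  refine ⟨a⁻¹ * (b * c), H.mul_mem (H.inv_mem ha) (H.mul_mem hb hc), ?_⟩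
  rw [map_mul, map_mul, eb, ec, ← e, ← ea, ← mul_assoc, ← map_mul, inv_mul_cancel, map_one, one_mul]

theorem In.cancel_right {H : Subgroup G} {s t u k : ℕ} (hs : m.In H s) (ht : m.In H t)
    (hk : m.In H k) (e : m.ev s * m.ev t = m.ev u * m.ev k) : m.In H u := by
  obtain ⟨a, ha, ea⟩ := hs
  obtain ⟨b, hb, eb⟩ := ht
  obtain ⟨c, hc, ec⟩ := hk
  refine ⟨a * b * c⁻¹, H.mul_mem (H.mul_mem ha hb) (H.inv_mem hc), ?_⟩
  rw [map_mul, map_mul, ea, eb, e, ← ec, mul_assoc, ← map_mul, mul_inv_cancel, map_one, mul_one]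

theorem in_gen {l : List ℕ} {a : ℕ} (ha : a ∈ l) (h : m.In ⊤ a) : m.In (m.gen l) a :=
  let ⟨g, _, e⟩ := h; ⟨g, subset_closure ⟨a, ha, e⟩, e⟩

theorem gen_le {l : List ℕ} {H : Subgroup G} (h : ∀ a ∈ l, m.In H a) : m.gen l ≤ H := by
  rw [gen, closure_le]
  rintro g ⟨a, ha, e⟩
  exact (h a ha).mem e

/-- product of a list of codes -/
noncomputable def prodL (m : Mdl G M) (l : List ℕ) : ℕ :=
  List.rec (motive := fun _ => ℕ) m.one (fun a _ ih => m.mul a ih) l

theorem in_prodL {H : Subgroup G} {l : List ℕ} (h : ∀ a ∈ l, m.In H a) : m.In H (m.prodL l) := by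
  induction l with
  | nil => exact in_one H
  | cons a l ih =>
    exact (h a (by simp)).mul (ih fun b hb => h b (by simp [hb]))

noncomputable def powC (m : Mdl G M) (a n : ℕ) : ℕ :=
  Nat.rec (motive := fun _ => ℕ) m.one (fun _ ih => m.mul a ih) n

theorem ev_powC (a n : ℕ) : m.ev (m.powC a n) = m.ev a ^ n := by
  induction n with
  | zero => rw [pow_zero]; exact m.ev_one
  | succ n ih => rw [pow_succ', ← ih, ← m.ev_mul]; rfl

theorem In.pow {H : Subgroup G} {a : ℕ} (ha : m.In H a) (n : ℕ) : m.In H (m.powC a n) :=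
  let ⟨g, hg, e⟩ := ha
  ⟨g ^ n, H.pow_mem hg n, by rw [map_pow, e, ev_powC]⟩

theorem pow_eq_one_of_powC {g : G} {a n : ℕ} (e : m.φ g = m.ev a) (h : m.powC a n = m.one) :
    g ^ n = 1 := m.inj (by rw [map_pow, e, ← ev_powC, h, m.ev_one, map_one])

/-- `s * T i = T j * k` with `k ∈ K`. -/
def Step (m : Mdl G M) (K : Subgroup G) (T : ℕ → ℕ) (s i j : ℕ) : Prop :=
  ∃ k, m.In K k ∧ m.ev s * m.ev (T i) = m.ev (T j) * m.ev k

theorem step_of_eq {K : Subgroup G} {T : ℕ → ℕ} {s i j k : ℕ} (hk : m.In K k)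
    (e : m.mul s (T i) = m.mul (T j) k) : m.Step K T s i j :=
  ⟨k, hk, by rw [← m.ev_mul, e, m.ev_mul]⟩

theorem step_of_eq' {K : Subgroup G} {T : ℕ → ℕ} {s i j : ℕ}
    (e : m.mul s (T i) = T j) : m.Step K T s i j :=
  ⟨m.one, in_one K, by rw [← m.ev_mul, e, m.ev_one, mul_one]⟩

/-- `g` lies in the `i`-th coset -/
def Cos (m : Mdl G M) (K : Subgroup G) (T : ℕ → ℕ) (g : G) (i : ℕ) : Prop :=
  ∃ k ∈ K, m.φ g = m.ev (T i) * m.φ k

theorem Cos.step {K : Subgroup G} {T : ℕ → ℕ} {g s' : G} {s i j : ℕ} (h : m.Cos K T g i)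
    (e : m.φ s' = m.ev s) (hs : m.Step K T s i j) : m.Cos K T (s' * g) j := by
  obtain ⟨k, hk, ek⟩ := h
  obtain ⟨k', ⟨k'', hk'', ek''⟩, e'⟩ := hs
  exact ⟨k'' * k, K.mul_mem hk'' hk, by
    rw [map_mul, e, ek, ← mul_assoc, e', map_mul, ek'', mul_assoc]⟩

theorem cover {l : List ℕ} (hfin : ∀ g : G, (∃ a ∈ l, m.φ g = m.ev a) → IsOfFinOrder g)
    {K : Subgroup G} {T : ℕ → ℕ} {n : ℕ} (hn : 0 < n) (h0 : m.ev (T 0) = 1)
    (step : ∀ s ∈ l, ∀ i < n, ∃ j < n, m.Step K T s i j) :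
    ∀ g ∈ m.gen l, ∃ i < n, m.Cos K T g i := by
  refine closure_ind_fin hfin ⟨0, hn, 1, K.one_mem, by simp [h0]⟩ ?_
  rintro s' ⟨s, hs, e⟩ g ⟨i, hi, hc⟩
  obtain ⟨j, hj, hst⟩ := step s hs i hi
  exact ⟨j, hj, hc.step e hst⟩

theorem card_le_of_cover {H K : Subgroup G} [Finite K] {T : ℕ → ℕ} {n : ℕ}
    (h : ∀ g ∈ H, ∃ i < n, m.Cos K T g i) : Finite H ∧ Nat.card H ≤ n * Nat.card K := by
  choose i hi k hk e using h
  let f : H → Fin n × K := fun g => (⟨i g g.2, hi g g.2⟩, ⟨k g g.2, hk g g.2⟩)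
  have hf : Function.Injective f := by
    intro a b hab
    simp only [f, Prod.mk.injEq, Fin.mk.injEq, Subtype.mk.injEq] at hab
    apply Subtype.ext
    apply m.inj
    rw [e a a.2, e b b.2, hab.1, hab.2]
  refine ⟨Finite.of_injective f hf, ?_⟩
  simpa using Nat.card_le_card_of_injective f hf

theorem Cos.in {K H : Subgroup G} (hK : K ≤ H) {T : ℕ → ℕ} {g : G} (hg : g ∈ H) {i : ℕ}
    (h : m.Cos K T g i) : m.In H (T i) := by
  obtain ⟨k, hk, e⟩ := h
  refine ⟨g * k⁻¹, H.mul_mem hg (H.inv_mem (hK hk)), ?_⟩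
  rw [map_mul, e, mul_assoc, ← map_mul, mul_inv_cancel, map_one, mul_one]

theorem Cos.mem {K H : Subgroup G} (hK : K ≤ H) {T : ℕ → ℕ} {g : G} {i : ℕ}
    (h : m.Cos K T g i) (hi : m.In H (T i)) : g ∈ H := by
  obtain ⟨k, hk, e⟩ := h
  obtain ⟨t, ht, et⟩ := hi
  rw [← et, ← map_mul] at e
  rw [m.inj e]; exact H.mul_mem ht (hK hk)

/-- all transversal elements lie in `H` -/
theorem in_of_desc {K H : Subgroup G} (hK : K ≤ H) {T : ℕ → ℕ} {n : ℕ}
    (h : ∀ i < n, m.In H (T i) ∨ ∃ s, m.In H s ∧ ∃ j < i, m.Step K T s i j) :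
    ∀ i < n, m.In H (T i) := by
  intro i
  induction i using Nat.strong_induction_on with
  | _ i ih =>
    intro hi
    rcases h i hi with h1 | ⟨s, hs, j, hj, k, hk, e⟩
    · exact h1
    · exact hs.cancel_left (ih j hj (by omega)) (hk.mono hK) e

theorem maximal_of_desc {K : Subgroup G} {T : ℕ → ℕ} {n : ℕ} (h0 : m.ev (T 0) = 1)
    (hc : ∀ g : G, ∃ i < n, m.Cos K T g i)
    (h : ∀ i < n, 0 < i → (∀ H : Subgroup G, K ≤ H → m.In H (T i) → H = ⊤) ∨
      ∃ s, m.In K s ∧ ∃ j < i, 0 < j ∧ m.Step K T s i j) :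
    ∀ H : Subgroup G, K ≤ H → H = K ∨ H = ⊤ := by
  have key : ∀ i < n, 0 < i → ∀ H : Subgroup G, K ≤ H → m.In H (T i) → H = ⊤ := by
    intro i
    induction i using Nat.strong_induction_on with
    | _ i ih =>
      intro hi hpos
      rcases h i hi hpos with h1 | ⟨s, hs, j, hj, hj0, k, hk, e⟩
      · exact h1
      · intro H hH hT
        exact ih j hj (by omega) hj0 H hH ((hs.mono hH).cancel_right hT (hk.mono hH) e)
  intro H hH
  by_cases hle : H ≤ K
  · exact Or.inl (le_antisymm hle hH)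
  · right
    obtain ⟨g, hg, hgK⟩ := SetLike.not_le_iff_exists.1 hle
    obtain ⟨i, hi, hcos⟩ := hc g
    rcases Nat.eq_zero_or_pos i with rfl | hpos
    · exact absurd (hcos.mem le_rfl ⟨1, K.one_mem, by rw [map_one, h0]⟩) hgK
    · exact key i hi hpos H hH (hcos.in hH hg)

end Mdl

/-- Lower bound for an order from an orbit and a subgroup of the stabiliser. -/
theorem card_ge_of_orbit {G X : Type*} [Group G] (act : G → X → X)
    (hact : ∀ g h x, act (g * h) x = act g (act h x)) (H H' : Subgroup G) [Finite H] (hle : H' ≤ H)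
    (x : X) (hx : ∀ h ∈ H', act h x = x) (S : Set X) (hS : ∀ y ∈ S, ∃ g ∈ H, act g x = y) :
    S.ncard * Nat.card H' ≤ Nat.card H := by
  choose g hg e using hS
  let f : S × H' → H := fun p => ⟨g p.1 p.1.2 * p.2, H.mul_mem (hg _ _) (hle p.2.2)⟩
  have hf : Function.Injective f := by
    rintro ⟨a, h⟩ ⟨b, k⟩ hab
    simp only [f, Subtype.mk.injEq] at hab
    have h1 : a = b := by
      apply Subtype.ext
      rw [← e a a.2, ← e b b.2, ← hx h h.2, ← hact, hab, hact, hx k k.2, hx h h.2]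
    subst h1
    simpa using hab
  have := Nat.card_le_card_of_injective f hf
  rwa [Nat.card_prod] at this

theorem ncard_image_range {X : Type*} (f : ℕ → X) (n : ℕ)
    (hf : ∀ i < n, ∀ j < n, f i = f j → i = j) : (f '' {i | i < n}).ncard = n := by
  rw [Set.InjOn.ncard_image (s := {i | i < n}) (fun i hi j hj => hf i hi j hj)]
  have : {i | i < n} = ↑(Finset.range n) := by ext; simp
  rw [this, Set.ncard_coe_finset, Finset.card_range]

theorem inj_of_succ_lt {x : ℕ → ℕ} {n : ℕ} (h : ∀ i, i + 1 < n → x i < x (i + 1)) :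
    ∀ i < n, ∀ j < n, x i = x j → i = j := by
  have key : ∀ j < n, ∀ i < j, x i < x j := by
    intro j
    induction j with
    | zero => intro _ i hi; omega
    | succ j ih =>
      intro hj i hi
      rcases Nat.lt_succ_iff_lt_or_eq.1 hi with h1 | rfl
      · exact (ih (by omega) i h1).trans (h j hj)
      · exact h i hj
  intro i hi j hj e
  rcases lt_trichotomy i j with h1 | h1 | h1
  · have := key j hj i h1; omega
  · exact h1
  · have := key i hi j h1; omega

theorem mem_of_coprime_index {G : Type*} [Group G] (N : Subgroup G) [N.Normal] {x : G} {n : ℕ}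
    (hx : x ^ n = 1) (hc : Nat.Coprime n N.index) : x ∈ N := by
  have h1 : x ^ N.index ∈ N := N.pow_index_mem x
  rw [← QuotientGroup.eq_one_iff] at h1 ⊢
  have h2 : (x : G ⧸ N) ^ n = 1 := by rw [← QuotientGroup.mk_pow, hx]; rfl
  rw [QuotientGroup.mk_pow] at h1
  have := orderOf_dvd_of_pow_eq_one h1
  have := orderOf_dvd_of_pow_eq_one h2
  exact orderOf_eq_one_iff.1 (Nat.eq_one_of_dvd_coprimes hc ‹_› ‹_›)

theorem normal_dichotomy {G : Type*} [Group G] (Z K : Subgroup G) (p : ℕ)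
    (hp : Nat.Coprime p (Nat.card K))
    (hmax : ∀ H : Subgroup G, K ≤ H → H = K ∨ H = ⊤)
    (hcore : ∀ N : Subgroup G, N.Normal → N ≤ K → N ≤ Z)
    (hgen : ∀ N : Subgroup G, N.Normal → (∀ x : G, x ^ p = 1 → x ∈ N) → N ⊔ Z = ⊤)
    (N : Subgroup G) (hN : N.Normal) : N ≤ Z ∨ N ⊔ Z = ⊤ := by
  by_cases h : N ≤ K
  · exact Or.inl (hcore N hN h)
  · right
    have h1 : K ⊔ N = ⊤ := (hmax _ le_sup_left).resolve_left fun e => h (e ▸ le_sup_right)
    have h2 : N.index ∣ Nat.card K := by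
      have := relIndex_sup_right K N
      rw [h1, relIndex_top_right] at this
      rw [this]; exact relIndex_dvd_card _ _
    exact hgen N hN fun x hx => mem_of_coprime_index N hx (hp.coprime_dvd_right h2)

theorem simple_of_dichotomy {G : Type*} [Group G] (Z : Subgroup G) (hZ : Z ≤ center G)
    (hd : ∀ N : Subgroup G, N.Normal → N ≤ Z ∨ N ⊔ Z = ⊤) (hnc : ∃ a b : G, a * b ≠ b * a) :
    center G = Z ∧ IsSimpleGroup (G ⧸ center G) := by
  obtain ⟨a, b, hab⟩ := hnc
  have hc : center G ≠ ⊤ := fun h => hab (mem_center_iff.1 (h ▸ mem_top b : b ∈ center G) a)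
  have h1 : center G = Z := by
    rcases hd (center G) inferInstance with h | h
    · exact le_antisymm h hZ
    · rw [sup_eq_left.2 hZ] at h; exact absurd h hc
  refine ⟨h1, ?_⟩
  have : Nontrivial (G ⧸ center G) := QuotientGroup.nontrivial_iff.2 hc
  refine ⟨fun N hN => ?_⟩
  rcases hd (N.comap (QuotientGroup.mk' _)) inferInstance with h | h
  · left
    rw [eq_bot_iff]
    intro x hx
    obtain ⟨g, rfl⟩ := QuotientGroup.mk_surjective x
    rw [mem_bot, QuotientGroup.eq_one_iff]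
    exact hZ (h hx)
  · right
    have h2 : Z ≤ N.comap (QuotientGroup.mk' _) := fun z hz => by
      rw [mem_comap, QuotientGroup.mk'_apply, (QuotientGroup.eq_one_iff z).2 (hZ hz)]
      exact N.one_mem
    rw [sup_eq_left.2 h2] at h
    rw [eq_top_iff]
    intro x _
    obtain ⟨g, rfl⟩ := QuotientGroup.mk_surjective x
    exact (h ▸ mem_top g : g ∈ N.comap (QuotientGroup.mk' _))

/-- A simple group with a subgroup of index `n` as a transitive permutation group on `Fin n`. -/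
theorem exists_perm_rep {Q : Type*} [Group Q] [IsSimpleGroup Q] (K : Subgroup Q) (n : ℕ)
    (hn : K.index = n + 1) (hK : K ≠ ⊤) :
    ∃ (H : Subgroup (Equiv.Perm (Fin (n + 1)))) (e : Q ≃* H),
      MulAction.IsPretransitive H (Fin (n + 1)) ∧
        (MulAction.stabilizer H (0 : Fin (n + 1))) = K.map e.toMonoidHom := by
  classical
  have hfin : Finite (Q ⧸ K) := Nat.finite_of_card_ne_zero (by rw [← index, hn]; omega)
  let e0 : Q ⧸ K ≃ Fin (n + 1) := Finite.equivFinOfCardEq hn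
  let e1 : Q ⧸ K ≃ Fin (n + 1) := e0.trans (Equiv.swap (e0 (1 : Q)) 0)
  have he1 : e1 (1 : Q) = 0 := by simp [e1]
  let ψ : Q →* Equiv.Perm (Fin (n + 1)) :=
    (e1.permCongrHom.toMonoidHom).comp (MulAction.toPermHom Q (Q ⧸ K))
  have hψ : ∀ g x, ψ g x = e1 (g • e1.symm x) := fun g x => rfl
  have hinj : Function.Injective ψ := by
    rw [← MonoidHom.ker_eq_bot_iff]
    rcases IsSimpleGroup.eq_bot_or_eq_top_of_normal ψ.ker inferInstance with h | h
    · exact h
    · exfalso; apply hK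
      rw [eq_top_iff]; intro g _
      have h1 : ψ g = 1 := (h ▸ mem_top g : g ∈ ψ.ker)
      have h2 := hψ g 0
      rw [h1, ← he1, Equiv.symm_apply_apply, Equiv.Perm.one_apply, e1.apply_eq_iff_eq] at h2
      have h3 : ((1 : Q) : Q ⧸ K) = (g : Q ⧸ K) := by simpa using h2
      simpa using QuotientGroup.eq.1 h3
  refine ⟨ψ.range, MonoidHom.ofInjective hinj, ⟨fun x y => ?_⟩, ?_⟩
  · obtain ⟨g, hg⟩ := MulAction.exists_smul_eq Q (e1.symm x) (e1.symm y)
    refine ⟨⟨ψ g, g, rfl⟩, ?_⟩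
    change ψ g x = y
    rw [hψ, hg, Equiv.apply_symm_apply]
  · ext ⟨_, g, rfl⟩
    rw [MulAction.mem_stabilizer_iff, mem_map]
    change ψ g 0 = 0 ↔ _
    have : ψ g 0 = 0 ↔ g ∈ K := by
      rw [hψ, ← he1, Equiv.symm_apply_apply, e1.apply_eq_iff_eq]
      have : g • ((1 : Q) : Q ⧸ K) = (g : Q ⧸ K) := by simp
      rw [this, eq_comm, QuotientGroup.eq]; simp
    rw [this]
    constructor
    · intro h; exact ⟨g, h, rfl⟩
    · rintro ⟨k, hk, e⟩
      have : ψ k = ψ g := congrArg Subtype.val e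
      rwa [← hinj this]

end Cfsg.Agent.H5
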