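import Cfsg.Agent.H5.FpMat

/-! Double coset certificates, orbit certificates. -/

set_option autoImplicit false

namespace Cfsg.Agent.H5

open Subgroup

section pure

variable {G : Type*} [Group G]

theorem closure_ind_right [Finite G] {S : Set G} {P : G → Prop} (h1 : P 1)
    (hm : ∀ s ∈ S, ∀ g, P g → P (g * s)) : ∀ g ∈ closure S, P g := by
  intro g hg
  induction hg using closure_induction_right with
  | one => exact h1
  | mul_right x _ y hy ih => exact hm y hy x ih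
  | mul_inv_cancel x _ y hy ih =>
    have hp : ∀ k : ℕ, P (x * y ^ k) := by
      intro k
      induction k with
      | zero => simpa using ih
      | succ k ihk => rw [pow_succ, ← mul_assoc]; exact hm y hy _ ihk
    have hpos := orderOf_pos y
    have : y⁻¹ = y ^ (orderOf y - 1) := by
      rw [inv_eq_iff_mul_eq_one, ← pow_succ', Nat.sub_add_cancel hpos, pow_orderOf_eq_one]
    rw [this]; exact hp _

/-- `g ∈ H d H` -/
def DCos (H : Subgroup G) (d g : G) : Prop := ∃ a ∈ H, ∃ b ∈ H, g = a * d * b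

/-- the elements of `H` that `d` conjugates into `H` -/
def Lc (H : Subgroup G) (d : G) : Subgroup G := H ⊓ H.comap (MulAut.conj d).toMonoidHom

theorem mem_Lc {H : Subgroup G} {d l : G} : l ∈ Lc H d ↔ l ∈ H ∧ d * l * d⁻¹ ∈ H := Iff.rfl

theorem Lc_le (H : Subgroup G) (d : G) : Lc H d ≤ H := inf_le_left

theorem dc_cover [Finite G] {H : Subgroup G} {t : G} {d : ℕ → G} {n : ℕ} (hn : 0 < n)
    (h0 : d 0 = 1) (step : ∀ i < n, ∀ h ∈ H, ∃ j < n, DCos H (d j) (d i * h * t)) :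
    ∀ g ∈ H ⊔ zpowers t, ∃ i < n, DCos H (d i) g := by
  have : H ⊔ zpowers t = closure (H ∪ {t}) := by
    rw [Subgroup.closure_union, closure_eq, zpowers_eq_closure]
  rw [this]
  refine closure_ind_right ⟨0, hn, 1, H.one_mem, 1, H.one_mem, by simp [h0]⟩ ?_
  rintro s (hs | rfl) g ⟨i, hi, a, ha, b, hb, rfl⟩
  · exact ⟨i, hi, a, ha, b * s, H.mul_mem hb hs, by group⟩
  · obtain ⟨j, hj, a', ha', b', hb', e⟩ := step i hi b hb
    exact ⟨j, hj, a * a', H.mul_mem ha ha', b', hb', by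
      calc _ = a * (d i * b * s) := by group
        _ = _ := by rw [e]; group⟩

theorem dc_step {H : Subgroup G} {t d d' l r k : G} (hl : l ∈ Lc H d) (hk : k ∈ Lc H t⁻¹)
    (h : DCos H d' (d * r * t)) : DCos H d' (d * (l * r * k) * t) := by
  obtain ⟨a, ha, b, hb, e⟩ := h
  refine ⟨d * l * d⁻¹ * a, H.mul_mem hl.2 ha, b * (t⁻¹ * k * t⁻¹⁻¹), H.mul_mem hb hk.2, ?_⟩
  calc d * (l * r * k) * t = d * l * d⁻¹ * (d * r * t) * (t⁻¹ * k * t⁻¹⁻¹) := by group
    _ = _ := by rw [e]; group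

theorem dc_card [Finite G] {H G' : Subgroup G} {d : ℕ → G} {n : ℕ}
    (h : ∀ g ∈ G', ∃ i < n, DCos H (d i) g) :
    Nat.card G' ≤ ∑ i ∈ Finset.range n, Nat.card H * (Lc H (d i)).relIndex H := by
  let f : (Σ i : Fin n, H × (H ⧸ (Lc H (d i)).subgroupOf H)) → G :=
    fun x => x.2.1 * d x.1 * (x.2.2.out : H)⁻¹
  have hf : (G' : Set G) ⊆ Set.range f := by
    intro g hg
    obtain ⟨i, hi, a, ha, b, hb, rfl⟩ := h g hg
    obtain ⟨l, hl⟩ := QuotientGroup.mk_out_eq_mul ((Lc H (d i)).subgroupOf H) (⟨b, hb⟩⁻¹ : H)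
    have hl2 : ((l : H) : G) ∈ Lc H (d i) := l.2
    refine ⟨⟨⟨i, hi⟩, ⟨a * (d i * (l : H) * (d i)⁻¹), H.mul_mem ha hl2.2⟩,
      ((⟨b, hb⟩⁻¹ : H) : H ⧸ _)⟩, ?_⟩
    simp only [f, hl]
    push_cast
    group
  have h1 : Nat.card G' ≤ Nat.card (Σ i : Fin n, H × (H ⧸ (Lc H (d i)).subgroupOf H)) :=
    (Set.ncard_le_ncard hf).trans (Nat.card_le_card_of_surjective _ Set.rangeFactorization_surjective)
  rw [Nat.card_sigma, Finset.sum_range] at *
  simp only [Nat.card_prod] at h1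
  exact h1

theorem relIndex_le {H L : Subgroup G} [Finite G] (hL : L ≤ H) {A B C : ℕ} (hA : Nat.card H ≤ A)
    (hB : B ≤ Nat.card L) (e : A = B * C) : L.relIndex H ≤ C := by
  have h1 : Nat.card L * L.relIndex H = Nat.card H := by
    rw [← Nat.card_congr (subgroupOfEquivOfLe hL).toEquiv]; exact (L.subgroupOf H).card_mul_index
  have h2 : 0 < Nat.card L := Nat.card_pos
  by_contra h3
  push Not at h3
  nlinarith

theorem dc_card_le [Finite G] {H G' : Subgroup G} {d : ℕ → G} {n : ℕ}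
    (h : ∀ g ∈ G', ∃ i < n, DCos H (d i) g) {A : ℕ} (hA : Nat.card H ≤ A) (B C : ℕ → ℕ)
    (hB : ∀ i < n, B i ≤ Nat.card (Lc H (d i))) (e : ∀ i < n, A = B i * C i) :
    Nat.card G' ≤ A * ∑ i ∈ Finset.range n, C i := by
  refine (dc_card h).trans ?_
  rw [Finset.mul_sum]
  exact Finset.sum_le_sum fun i hi => Nat.mul_le_mul hA
    (relIndex_le (Lc_le _ _) hA (hB i (Finset.mem_range.1 hi)) (e i (Finset.mem_range.1 hi)))

/-- maximality from the double cosets -/
theorem dc_max {H G' : Subgroup G} {t : G} {d : ℕ → G} {n : ℕ} (h0 : d 0 = 1)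
    (hG : G' ≤ H ⊔ zpowers t) (h : ∀ g ∈ G', ∃ i < n, DCos H (d i) g)
    (hd : ∀ i < n, 0 < i → ∀ M : Subgroup G, H ≤ M → d i ∈ M → t ∈ M) (M : Subgroup G)
    (hM : H ≤ M) (hM' : M ≤ G') : M = H ∨ M = G' := by
  by_cases hle : M ≤ H
  · exact Or.inl (le_antisymm hle hM)
  · right
    obtain ⟨g, hg, hgH⟩ := SetLike.not_le_iff_exists.1 hle
    obtain ⟨i, hi, a, ha, b, hb, rfl⟩ := h g (hM' hg)
    rcases Nat.eq_zero_or_pos i with rfl | hpos
    · exact absurd (by rw [h0, mul_one]; exact H.mul_mem ha hb) hgH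
    · refine le_antisymm hM' (hG.trans (sup_le hM (zpowers_le.2 (hd i hi hpos M hM ?_))))
      rwa [M.mul_mem_cancel_right (hM hb), M.mul_mem_cancel_left (hM ha)] at hg

variable {X : Type*} [MulAction G X]

theorem card_eq_orbit (H : Subgroup G) (x : X) :
    Nat.card H = (MulAction.orbit H x).ncard * Nat.card (H ⊓ MulAction.stabilizer G x : Subgroup G) := by
  rw [← MulAction.index_stabilizer, mul_comm, ← (MulAction.stabilizer H x).card_mul_index]
  congr 1
  have : MulAction.stabilizer H x = (H ⊓ MulAction.stabilizer G x).subgroupOf H := by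
    ext g; simp [mem_subgroupOf, MulAction.mem_stabilizer_iff, Subgroup.smul_def]
  rw [this]
  exact Nat.card_congr (subgroupOfEquivOfLe inf_le_left).toEquiv

/-- every listed point can be moved to a root -/
def Reach (L : Subgroup G) (Y : ℕ → X) (n : ℕ) (roots : List ℕ) : Prop :=
  ∀ i < n, ∃ r ∈ roots, ∃ g ∈ L, g • Y i = Y r

theorem Reach.mono {L H : Subgroup G} (hL : L ≤ H) {Y : ℕ → X} {n : ℕ} {roots : List ℕ}
    (h : Reach L Y n roots) : Reach H Y n roots := fun i hi =>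
  let ⟨r, hr, g, hg, e⟩ := h i hi; ⟨r, hr, g, hL hg, e⟩

theorem Reach.sub {H : Subgroup G} {Y : ℕ → X} {n : ℕ} {roots : List ℕ} (h : Reach H Y n roots)
    {x : X} (hr : ∀ r ∈ roots, ∃ g ∈ H, g • x = Y r) :
    Y '' {i | i < n} ⊆ MulAction.orbit H x := by
  rintro _ ⟨i, hi, rfl⟩
  obtain ⟨r, hr', g, hg, e⟩ := h i hi
  obtain ⟨g', hg', e'⟩ := hr r hr'
  exact ⟨⟨g⁻¹ * g', H.mul_mem (H.inv_mem hg) hg'⟩, by
    change (g⁻¹ * g') • x = _
    rw [mul_smul, e', ← e, inv_smul_smul]⟩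

/-- the listed points are distinct -/
def Dist (Y : ℕ → X) (n : ℕ) : Prop := ∀ i < n, ∀ j < n, Y i = Y j → i = j

theorem orbit_finite [Finite G] (H : Subgroup G) (x : X) : (MulAction.orbit H x).Finite :=
  Set.finite_range _

theorem le_orbit [Finite G] {H : Subgroup G} {Y : ℕ → X} {n : ℕ} (hY : Dist Y n) {x : X}
    (h : Y '' {i | i < n} ⊆ MulAction.orbit H x) : n ≤ (MulAction.orbit H x).ncard :=
  (ncard_image_range Y n hY).symm.le.trans (Set.ncard_le_ncard h (orbit_finite H x))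

/-- lower bound for the order -/
theorem card_ge [Finite G] {H : Subgroup G} {Y : ℕ → X} {n r : ℕ} (hY : Dist Y n)
    (h : Reach H Y n [r]) {B : ℕ}
    (hB : B ≤ Nat.card (H ⊓ MulAction.stabilizer G (Y r) : Subgroup G)) : n * B ≤ Nat.card H := by
  rw [card_eq_orbit H (Y r)]
  exact Nat.mul_le_mul (le_orbit hY (h.sub fun r' hr => ⟨1, H.one_mem, by
    rw [List.mem_singleton.1 hr, one_smul]⟩)) hB

/-- the orbit and the stabiliser from the order -/
theorem orbit_eq_of_card [Finite G] {H P : Subgroup G} {Y : ℕ → X} {n : ℕ} (hY : Dist Y n) {x : X}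
    (h : Y '' {i | i < n} ⊆ MulAction.orbit H x) (hP : P ≤ H ⊓ MulAction.stabilizer G x) {B : ℕ}
    (hB : B ≤ Nat.card P) (hH : Nat.card H ≤ n * B) :
    MulAction.orbit H x = Y '' {i | i < n} ∧ H ⊓ MulAction.stabilizer G x = P ∧
      Nat.card H = n * B ∧ Nat.card P = B := by
  have h1 := card_eq_orbit H x
  have h2 := le_orbit hY h
  have h3 := Subgroup.card_le_of_le hP
  have h4 : 0 < Nat.card P := Nat.card_pos
  have h5 : 0 < Nat.card H := Nat.card_pos
  have hn : 0 < n := Nat.pos_of_ne_zero (by rintro rfl; omega)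
  have hb : 0 < B := Nat.pos_of_ne_zero (by rintro rfl; omega)
  have h6 : (MulAction.orbit H x).ncard ≤ n := by nlinarith
  have h7 : Nat.card (H ⊓ MulAction.stabilizer G x : Subgroup G) ≤ B := by nlinarith
  refine ⟨(Set.eq_of_subset_of_ncard_le h ?_ (orbit_finite H x)).symm,
    (Subgroup.eq_of_le_of_card_ge hP (by omega)).symm, ?_, by omega⟩
  · rwa [ncard_image_range Y n hY]
  · refine le_antisymm hH ?_
    rw [h1]; exact Nat.mul_le_mul h2 (by omega)

/-- double cosets from orbits -/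
theorem cover_of_reach {H L : Subgroup G} (hL : L ≤ H) {Y : ℕ → X} {n : ℕ} {roots : List ℕ} {x : X}
    (ho : MulAction.orbit H x ⊆ Y '' {i | i < n}) (h : Reach L Y n roots) {Q : G → Prop}
    (hr : ∀ r ∈ roots, ∃ g ∈ H, g • x = Y r ∧ Q g) :
    ∀ h ∈ H, ∃ l ∈ L, ∃ g, Q g ∧ ∃ p ∈ H ⊓ MulAction.stabilizer G x, h = l * g * p := by
  intro a ha
  obtain ⟨i, hi, e⟩ := ho ⟨⟨a, ha⟩, rfl⟩
  obtain ⟨r, hr', l, hl, e'⟩ := h i hi
  obtain ⟨g, hg, eg, hq⟩ := hr r hr'
  refine ⟨l⁻¹, L.inv_mem hl, g, hq, g⁻¹ * l * a,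
    ⟨H.mul_mem (H.mul_mem (H.inv_mem hg) (hL hl)) ha, ?_⟩, by group⟩
  change (g⁻¹ * l * a) • x = x
  have e2 : Y i = a • x := e
  rw [mul_smul, mul_smul, ← e2, e', ← eg, inv_smul_smul]

/-- a closed set of points gives a divisor of the order -/
theorem dvd_card_of_closed [Finite G] {S : Set G} {Y : ℕ → X} {n r : ℕ} (hY : Dist Y n) (hr : r < n)
    (h : Reach (closure S) Y n [r]) (hc : ∀ s ∈ S, ∀ i < n, ∃ j < n, s • Y i = Y j) :
    Nat.card (closure S) =
      n * Nat.card (closure S ⊓ MulAction.stabilizer G (Y r) : Subgroup G) := by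
  rw [card_eq_orbit _ (Y r)]
  congr 1
  rw [← ncard_image_range Y n hY]
  congr 1
  refine Set.Subset.antisymm ?_ (h.sub fun r' hr => ⟨1, one_mem _, by
    rw [List.mem_singleton.1 hr, one_smul]⟩)
  rintro _ ⟨⟨g, hg⟩, rfl⟩
  change g • Y r ∈ _
  refine closure_ind_fin (P := fun g => g • Y r ∈ Y '' {i | i < n})
    (fun s _ => isOfFinOrder_of_finite s) ⟨r, hr, by simp⟩ ?_ g hg
  rintro s hs g ⟨i, hi, e⟩
  obtain ⟨j, hj, e'⟩ := hc s hs i hi
  exact ⟨j, hj, by rw [mul_smul, ← e, e']⟩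

end pure

/-! ### checking functions -/

/-- zero iff `x ∈ l` -/
noncomputable def nmem (l : List ℕ) (x : ℕ) : ℕ :=
  List.rec (motive := fun _ => ℕ) (nat_lit 1) (fun a _ ih => ifz (Nat.xor a x) (nat_lit 0) ih) l

theorem mem_of_nmem {l : List ℕ} {x : ℕ} (h : nmem l x = 0) : x ∈ l := by
  induction l with
  | nil => exact absurd h Nat.one_ne_zero
  | cons a l ih =>
    change ifz (Nat.xor a x) 0 (nmem l x) = 0 at h
    rw [ifz_eq] at h
    split_ifs at h with h1
    · rw [← xor_eq_zero' h1]; exact List.mem_cons_self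
    · exact List.mem_cons_of_mem _ (ih h)

/-- zero iff `a < b` -/
def lt0 (a b : ℕ) : ℕ := Nat.sub (Nat.succ a) b

theorem lt_of_lt0 {a b : ℕ} (h : lt0 a b = 0) : a < b := lt_of_sub_succ h

noncomputable def sumL' {α : Type} (l : List α) (f : α → ℕ) : ℕ :=
  List.rec (motive := fun _ => ℕ) (nat_lit 0) (fun a _ ih => Nat.add (f a) ih) l

theorem sumL'_zero {α : Type} {l : List α} {f : α → ℕ} (h : sumL' l f = 0) : ∀ a ∈ l, f a = 0 := by
  induction l with
  | nil => simp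
  | cons a l ih =>
    obtain ⟨h1, h2⟩ := add_eq_zero' h
    intro b hb
    rcases List.mem_cons.1 hb with rfl | hb
    · exact h1
    · exact ih h2 b hb

/-- the leaves of a table -/
noncomputable def Tr.leaves (t : Tr) : List ℕ :=
  Tr.rec (motive := fun _ => List ℕ) (fun v => [v]) (fun _ _ a b => a ++ b) t

theorem Tr.get_mem (t : Tr) (i : ℕ) : t.get i ∈ t.leaves := by
  induction t generalizing i with
  | l v => exact List.mem_singleton.2 rfl
  | n a b iha ihb =>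
    change ifz _ (a.get _) (b.get _) ∈ a.leaves ++ b.leaves
    rw [ifz_eq]; split_ifs
    · exact List.mem_append_left _ (iha _)
    · exact List.mem_append_right _ (ihb _)

/-- point `i` of a list stored in chunks of 64 -/
noncomputable def pt (row : ℕ → ℕ → ℕ) (ch : ℕ → ℕ) (i : ℕ) : ℕ :=
  force (Nat.shiftRight i (nat_lit 6)) fun q => row (ch q) (Nat.land i (nat_lit 63))

/-- entry of an orbit certificate: target (24 bits), generator (6), scalar (4), depth (6) -/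
noncomputable def aux (A : Tr) (i : ℕ) : ℕ :=
  look A (nat_lit 8) (nat_lit 255) (nat_lit 40) (nat_lit 1099511627775) i

noncomputable def chkO' (img : ℕ → ℕ → ℕ → ℕ → ℕ) (row : ℕ → ℕ → ℕ) (ch : ℕ → ℕ) (A : Tr) (n : ℕ)
    (roots : List ℕ) (i e : ℕ) : ℕ :=
  ifz (Nat.shiftRight e (nat_lit 34)) (nmem roots i)
    (force (Nat.shiftRight i (nat_lit 6)) fun q =>
      force (Nat.land (Nat.shiftRight e (nat_lit 24)) (nat_lit 63)) fun s =>
      force (Nat.land (Nat.shiftRight e (nat_lit 30)) (nat_lit 15)) fun c =>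
      force (Nat.land e (nat_lit 16777215)) fun j =>
      Nat.add (Nat.add (Nat.xor (img (ch q) s c (Nat.land i (nat_lit 63))) (pt row ch j)) (lt0 j n))
        (lt0 (Nat.shiftRight (aux A j) (nat_lit 34)) (Nat.shiftRight e (nat_lit 34))))

/-- the orbit check -/
noncomputable def chkO (img : ℕ → ℕ → ℕ → ℕ → ℕ) (row : ℕ → ℕ → ℕ) (ch : ℕ → ℕ) (A : Tr) (n : ℕ)
    (roots : List ℕ) (i : ℕ) : ℕ :=
  force (aux A i) (chkO' img row ch A n roots i)

/-- the check for distinctness -/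
noncomputable def chkY (can row : ℕ → ℕ → ℕ) (ch : ℕ → ℕ) (n i : ℕ) : ℕ :=
  Nat.add (force (Nat.shiftRight i (nat_lit 6)) fun q => can (ch q) (Nat.land i (nat_lit 63)))
    (below (Nat.pred n) (fun i => lt0 (pt row ch i) (pt row ch (Nat.succ i))) i)

/-- the check for closure under generator `s`: the target is entry `i` of `A` -/
noncomputable def chkC (img : ℕ → ℕ → ℕ → ℕ → ℕ) (row : ℕ → ℕ → ℕ) (ch : ℕ → ℕ) (A : Tr) (n s i : ℕ) :
    ℕ :=
  force (aux A i) fun e => force (Nat.shiftRight i (nat_lit 6)) fun q =>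
    force (Nat.land (Nat.shiftRight e (nat_lit 30)) (nat_lit 15)) fun c =>
    force (Nat.land e (nat_lit 16777215)) fun j =>
      Nat.add (Nat.xor (img (ch q) s c (Nat.land i (nat_lit 63))) (pt row ch j)) (lt0 j n)

theorem land63 (i : ℕ) : Nat.land i 63 < 64 := Nat.lt_succ_of_le Nat.and_le_right

section checks

variable {G : Type*} [Group G] {X : Type*} [MulAction G X]

/-- `img A s c i` is the image of row `i` of `A` under `g` -/
def Img (pv : ℕ → X) (img : ℕ → ℕ → ℕ → ℕ → ℕ) (row : ℕ → ℕ → ℕ) (s : ℕ) (g : G) : Prop :=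
  ∀ A c, ∀ i < 64, pv (img A s c i) = g • pv (row A i)

theorem reach_of_chk {pv : ℕ → X} {img : ℕ → ℕ → ℕ → ℕ → ℕ} {row : ℕ → ℕ → ℕ} {ch : ℕ → ℕ}
    {A : Tr} {n : ℕ} {roots : List ℕ} {L : Subgroup G} (hs : ∀ s, ∃ g ∈ L, Img pv img row s g)
    (h : ∀ i < n, chkO img row ch A n roots i = 0) :
    Reach L (fun i => pv (pt row ch i)) n roots := by
  refine descent (fun i => i < n) _ (fun i => Nat.shiftRight (aux A i) 34) fun i hi => ?_
  have h1 := h i hi
  simp only [chkO, chkO', force_eq, ifz_eq] at h1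
  split_ifs at h1 with h2
  · exact Or.inl ⟨i, mem_of_nmem h1, 1, L.one_mem, one_smul _ _⟩
  · obtain ⟨h3, h4⟩ := add_eq_zero' h1
    obtain ⟨h5, h6⟩ := add_eq_zero' h3
    refine Or.inr ⟨_, lt_of_lt0 h6, lt_of_lt0 h4, ?_⟩
    rintro ⟨r, hr, g, hg, e⟩
    obtain ⟨g', hg', e'⟩ := hs (Nat.land (Nat.shiftRight (aux A i) 24) 63)
    refine ⟨r, hr, g * g', L.mul_mem hg hg', ?_⟩
    rw [← e, mul_smul]
    beta_reduce
    rw [← xor_eq_zero' h5, e' _ _ _ (land63 i)]
    rfl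

theorem closed_of_chk {pv : ℕ → X} {img : ℕ → ℕ → ℕ → ℕ → ℕ} {row : ℕ → ℕ → ℕ} {ch : ℕ → ℕ}
    {A : Tr} {n s : ℕ} {g : G} (hs : Img pv img row s g)
    (h : ∀ i < n, chkC img row ch A n s i = 0) :
    ∀ i < n, ∃ j < n, g • pv (pt row ch i) = pv (pt row ch j) := by
  intro i hi
  have h1 := h i hi
  simp only [chkC, force_eq] at h1
  obtain ⟨h5, h6⟩ := add_eq_zero' h1
  refine ⟨_, lt_of_lt0 h6, ?_⟩
  rw [← xor_eq_zero' h5, hs _ _ _ (land63 i)]
  rfl

/-- `can` is a sound test for canonical codes -/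
def CanT (pv : ℕ → X) (can row : ℕ → ℕ → ℕ) : Prop :=
  ∀ A, ∀ i < 64, ∀ B, ∀ j < 64, can A i = 0 → can B j = 0 → pv (row A i) = pv (row B j) →
    row A i = row B j

theorem dist_of_chk {pv : ℕ → X} {can row : ℕ → ℕ → ℕ} {ch : ℕ → ℕ} {n : ℕ}
    (hc : CanT pv can row) (h : ∀ i < n, chkY can row ch n i = 0) :
    Dist (fun i => pv (pt row ch i)) n := by
  intro i hi j hj e
  refine inj_of_succ_lt (x := pt row ch) (fun i hi => ?_) i hi j hj ?_
  · have h1 := (add_eq_zero' (h i (by omega))).2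
    rw [below_eq, if_pos (show i < n.pred from (by omega : i < n - 1))] at h1
    exact lt_of_lt0 h1
  · exact hc _ _ (land63 i) _ _ (land63 j) (add_eq_zero' (h i hi)).1 (add_eq_zero' (h j hj)).1 e

end checks

end Cfsg.Agent.H5
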