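import Cfsg.Agent.H5.DC

/-! Code-level certificates: stabiliser chains, words, vector and line models. -/

set_option autoImplicit false

namespace Cfsg.Agent.H5

open Subgroup

/-- spread the `c`-bit digits of a number to `w`-bit digits (at most `2 ^ L` digits, `nb t` blocks
at level `t`); no property of this function is used -/
noncomputable def spread (c w N L x : ℕ) : ℕ :=
  Nat.rec (motive := fun _ => ℕ → ℕ) (fun x => x)
    (fun t ih x => force (Nat.land x (rep (Nat.shiftLeft w (Nat.succ t))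
        (Nat.shiftLeft (Nat.pred (Nat.pow 2 (Nat.shiftLeft c t))) (Nat.shiftLeft c t))
        (Nat.succ (Nat.shiftRight (Nat.pred N) (Nat.succ t))))) fun h =>
      force (Nat.add (Nat.xor x h) (Nat.shiftLeft h (Nat.shiftLeft (Nat.sub w c) t))) ih) L x

attribute [irreducible] spread

noncomputable def mulTo (f : ℕ → ℕ) (n : ℕ) : ℕ :=
  Nat.rec (motive := fun _ => ℕ) 1 (fun m ih => Nat.mul ih (f m)) n

theorem mulTo_zero {f : ℕ → ℕ} {n : ℕ} (h : mulTo f n = 0) : ∃ i < n, f i = 0 := by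
  induction n with
  | zero => exact absurd h one_ne_zero
  | succ n ih =>
    rcases Nat.mul_eq_zero.1 h with h | h
    · obtain ⟨i, hi, e⟩ := ih h; exact ⟨i, by omega, e⟩
    · exact ⟨n, by omega, h⟩

/-- product of a word in the generators `gl` -/
noncomputable def wd (mul : ℕ → ℕ → ℕ) (one : ℕ) (gl : ℕ → ℕ) (w : List ℕ) : ℕ :=
  List.rec (motive := fun _ => ℕ) one (fun a _ ih => mul (gl a) ih) w

/-- an element of a chain: table entry times an element of the next level -/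
noncomputable def cel (mul : ℕ → ℕ → ℕ) (T : ℕ → ℕ) (b : ℕ) (e : ℕ → ℕ) (m : ℕ) : ℕ :=
  force (Nat.land m (Nat.pred (Nat.pow 2 b))) fun i => force (Nat.shiftRight m b) fun m' =>
    mul (T i) (e m')

/-- the last level of a chain -/
noncomputable def cel0 (T : ℕ → ℕ) (b : ℕ) (m : ℕ) : ℕ := force (Nat.land m (Nat.pred (Nat.pow 2 b))) T

/-- an element of a double coset -/
noncomputable def del (mul : ℕ → ℕ → ℕ) (D : ℕ → ℕ) (b W : ℕ) (e : ℕ → ℕ) (m : ℕ) : ℕ :=
  force (Nat.land m (Nat.pred (Nat.pow 2 b))) fun i =>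
    force (Nat.land (Nat.shiftRight m b) (Nat.pred (Nat.pow 2 W))) fun m1 =>
    force (Nat.shiftRight m (Nat.add b W)) fun m2 => mul (e m1) (mul (D i) (e m2))

/-- a table padded with the identity -/
noncomputable def pad (one n : ℕ) (T : ℕ → ℕ) (i : ℕ) : ℕ :=
  Bool.rec (motive := fun _ => ℕ) (T i) one (Nat.ble n i)

theorem pad_eq (one n : ℕ) (T : ℕ → ℕ) (i : ℕ) : pad one n T i = if i < n then T i else one := by
  unfold pad
  by_cases h : i < n
  · have : Nat.ble n i = false := by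
      rw [Bool.eq_false_iff]; intro h'; have := Nat.le_of_ble_eq_true h'; omega
    rw [this, if_pos h]
  · have : Nat.ble n i = true := Nat.ble_eq_true_of_le (by omega)
    rw [this, if_neg h]

/-- The Schreier check: `ct (i * ng + s) = (j, m)` with `gl s * T i = T j * e m`. -/
noncomputable def chkS (mul : ℕ → ℕ → ℕ) (gl : ℕ → ℕ) (ng : ℕ) (T e ct : ℕ → ℕ) (jb n i : ℕ) : ℕ :=
  force i fun i => Nat.add
    (sumTo (fun s => force (ct (Nat.add (Nat.mul i ng) s)) fun x =>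
      force (Nat.land x (Nat.pred (Nat.pow 2 jb))) fun j => force (Nat.shiftRight x jb) fun mm =>
        Nat.add (Nat.xor (mul (gl s) (T i)) (mul (T j) (e mm))) (lt0 j n)) ng)
    (ifz i 0 (mulTo (fun s =>
      lt0 (Nat.land (ct (Nat.add (Nat.mul i ng) s)) (Nat.pred (Nat.pow 2 jb))) i) ng))

namespace Mdl

variable {G M : Type*} [Group G] [Monoid M] {m : Mdl G M}

/-- all values of `e` describe elements of `H` -/
def El (m : Mdl G M) (H : Subgroup G) (e : ℕ → ℕ) : Prop := ∀ i, m.In H (e i)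

theorem El.mono {H K : Subgroup G} (h : H ≤ K) {e : ℕ → ℕ} (he : m.El H e) : m.El K e :=
  fun i => (he i).mono h

theorem el_one (H : Subgroup G) : m.El H fun _ => m.one := fun _ => in_one H

theorem El.pad {H : Subgroup G} {T : ℕ → ℕ} {n : ℕ} (h : ∀ i < n, m.In H (T i)) :
    m.El H (pad m.one n T) := fun i => by
  rw [pad_eq]; split_ifs with hi
  · exact h i hi
  · exact in_one H

theorem El.cel {H : Subgroup G} {T e : ℕ → ℕ} (hT : m.El H T) (he : m.El H e) (b : ℕ) :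
    m.El H (cel m.mul T b e) := fun _ => (hT _).mul (he _)

theorem El.cel0 {H : Subgroup G} {T : ℕ → ℕ} (hT : m.El H T) (b : ℕ) : m.El H (cel0 T b) :=
  fun _ => hT _

theorem El.del {H : Subgroup G} {D e : ℕ → ℕ} (hD : m.El H D) (he : m.El H e) (b W : ℕ) :
    m.El H (del m.mul D b W e) := fun _ => (he _).mul ((hD _).mul (he _))

theorem El.wd {H : Subgroup G} {gl : ℕ → ℕ} (h : m.El H gl) (w : List ℕ) :
    m.In H (wd m.mul m.one gl w) := by
  induction w with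
  | nil => exact in_one H
  | cons a l ih => exact (h a).mul ih

theorem In.of_mul_eq {H : Subgroup G} {a b k : ℕ} (ha : m.In H a) (hb : m.In H b)
    (e : m.mul a k = b) : m.In H k :=
  ha.cancel_left hb (in_one H) (by rw [← m.ev_mul, e, m.ev_one, mul_one])

theorem In.of_eq {H : Subgroup G} {a b : ℕ} (ha : m.In H a) (e : Nat.xor a b = 0) : m.In H b :=
  xor_eq_zero' e ▸ ha

/-- the group generated by the first `ng` values of `gl` -/
def gn (m : Mdl G M) (gl : ℕ → ℕ) (ng : ℕ) : Subgroup G := closure {g | ∃ s < ng, m.φ g = m.ev (gl s)}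

theorem in_gn {gl : ℕ → ℕ} {ng : ℕ} (h : ∀ s < ng, m.In ⊤ (gl s)) :
    ∀ s < ng, m.In (m.gn gl ng) (gl s) := fun s hs =>
  let ⟨g, _, e⟩ := h s hs; ⟨g, subset_closure ⟨s, hs, e⟩, e⟩

theorem gn_le {gl : ℕ → ℕ} {ng : ℕ} {H : Subgroup G} (h : ∀ s < ng, m.In H (gl s)) :
    m.gn gl ng ≤ H := by
  rw [gn, closure_le]
  rintro g ⟨a, ha, e⟩
  exact (h a ha).mem e

/-- soundness of the Schreier check -/
theorem schreier [Finite G] {gl T e ct : ℕ → ℕ} {ng jb n : ℕ} {K : Subgroup G} (he : m.El K e)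
    (hn : 0 < n) (h0 : T 0 = m.one) (hg : ∀ s < ng, m.In ⊤ (gl s)) (hK : K ≤ m.gn gl ng)
    (h : ∀ i < n, chkS m.mul gl ng T e ct jb n i = 0) :
    (∀ g ∈ m.gn gl ng, ∃ i < n, m.Cos K T g i) ∧ (∀ i < n, m.In (m.gn gl ng) (T i)) ∧
      Nat.card (m.gn gl ng) ≤ n * Nat.card K := by
  have h0' : m.ev (T 0) = 1 := by rw [h0, m.ev_one]
  have st : ∀ i < n, ∀ s < ng, Nat.land (ct (i * ng + s)) (Nat.pred (Nat.pow 2 jb)) < n ∧
      m.Step K T (gl s) i (Nat.land (ct (i * ng + s)) (Nat.pred (Nat.pow 2 jb))) := by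
    intro i hi s hs
    have h1 := sumTo_zero (add_eq_zero' (h i hi)).1 s hs
    obtain ⟨h2, h3⟩ := add_eq_zero' h1
    exact ⟨lt_of_lt0 h3, step_of_eq (he _) (xor_eq_zero' h2)⟩
  have h1 : ∀ g ∈ m.gn gl ng, ∃ i < n, m.Cos K T g i := by
    refine closure_ind_fin (fun g _ => isOfFinOrder_of_finite g)
      ⟨0, hn, 1, K.one_mem, by simp [h0']⟩ ?_
    rintro s' ⟨s, hs, e⟩ g ⟨i, hi, hc⟩
    exact ⟨_, (st i hi s hs).1, hc.step e (st i hi s hs).2⟩
  refine ⟨h1, in_of_desc hK fun i hi => ?_, (card_le_of_cover h1).2⟩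
  have h2 := (add_eq_zero' (h i hi)).2
  rw [ifz_eq] at h2
  split_ifs at h2 with h3
  · left; rw [h3, h0]; exact in_one _
  · obtain ⟨s, hs, e⟩ := mulTo_zero h2
    exact Or.inr ⟨gl s, in_gn hg s hs, _, lt_of_lt0 e, (st i hi s hs).2⟩

theorem in_Lc {H : Subgroup G} {d : G} {D s a : ℕ} (hd : m.φ d = m.ev D) (hs : m.In H s)
    (ha : m.In H a) (e : m.mul D s = m.mul a D) : m.In (Lc H d) s := by
  obtain ⟨g, hg, eg⟩ := hs
  obtain ⟨h, hh, eh⟩ := ha
  refine ⟨g, ⟨hg, ?_⟩, eg⟩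
  have : d * g = h * d := m.inj (by rw [map_mul, map_mul, hd, eg, eh, ← m.ev_mul, e, m.ev_mul])
  change d * g * d⁻¹ ∈ H
  rwa [this, mul_inv_cancel_right]

theorem in_Lc_inv {H : Subgroup G} {t : G} {D s a : ℕ} (hd : m.φ t = m.ev D) (hs : m.In H s)
    (ha : m.In H a) (e : m.mul s D = m.mul D a) : m.In (Lc H t⁻¹) s := by
  obtain ⟨g, hg, eg⟩ := hs
  obtain ⟨h, hh, eh⟩ := ha
  refine ⟨g, ⟨hg, ?_⟩, eg⟩
  have : g * t = t * h := m.inj (by rw [map_mul, map_mul, hd, eg, eh, ← m.ev_mul, e, m.ev_mul])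
  change t⁻¹ * g * t⁻¹⁻¹ ∈ H
  rwa [inv_inv, mul_assoc, this, inv_mul_cancel_left]

theorem dcos_of_eq {H : Subgroup G} {d g : G} {D x a b : ℕ} (hd : m.φ d = m.ev D)
    (hg : m.φ g = m.ev x) (ha : m.In H a) (hb : m.In H b) (e : x = m.mul a (m.mul D b)) :
    DCos H d g := by
  obtain ⟨a', ha', ea⟩ := ha
  obtain ⟨b', hb', eb⟩ := hb
  exact ⟨a', ha', b', hb', m.inj (by
    rw [hg, e, map_mul, map_mul, ea, eb, hd, m.ev_mul, m.ev_mul, mul_assoc])⟩

theorem rep_mul {g h : G} {a b : ℕ} (hg : m.φ g = m.ev a) (hh : m.φ h = m.ev b) :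
    m.φ (g * h) = m.ev (m.mul a b) := by rw [map_mul, hg, hh, m.ev_mul]

theorem in_inf {H K : Subgroup G} {a : ℕ} (h1 : m.In H a) (h2 : m.In K a) : m.In (H ⊓ K) a := by
  obtain ⟨g, hg, e⟩ := h1
  exact ⟨g, ⟨hg, h2.mem e⟩, e⟩

/-- the element described by a code -/
noncomputable def elt (m : Mdl G M) (a : ℕ) : G := by
  classical exact if h : m.In ⊤ a then h.choose else 1

theorem In.elt {H : Subgroup G} {a : ℕ} (h : m.In H a) : m.φ (m.elt a) = m.ev a := by
  rw [Mdl.elt, dif_pos h.top]; exact h.top.choose_spec.2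

theorem In.elt_mem {H : Subgroup G} {a : ℕ} (h : m.In H a) : m.elt a ∈ H := h.mem h.elt

theorem elt_one : m.elt m.one = 1 := m.inj (by rw [(in_one ⊤).elt, m.ev_one, map_one])

theorem in_of_inv {G : Type*} [Monoid G] (m : Mdl Gˣ G) (hφ : ∀ g, m.φ g = g) {a b : ℕ}
    (h1 : m.mul a b = m.one) (h2 : m.mul b a = m.one) : m.In ⊤ a :=
  ⟨⟨m.ev a, m.ev b, by rw [← m.ev_mul, h1, m.ev_one], by rw [← m.ev_mul, h2, m.ev_one]⟩,
    mem_top _, hφ _⟩

end Mdl

/-! ### vectors and lines -/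

section vec

variable {G F : Type*} [Group G] [CommRing F] {N : ℕ}

/-- vectors with the action through `φ` -/
@[ext] structure Vc (φ : G →* Matrix (Fin N) (Fin N) F) where
  v : Fin N → F

instance (φ : G →* Matrix (Fin N) (Fin N) F) : MulAction G (Vc φ) where
  smul g v := ⟨(φ g).mulVec v.v⟩
  one_smul v := Vc.ext (by change (φ 1).mulVec v.v = v.v; rw [map_one, Matrix.one_mulVec])
  mul_smul g h v := Vc.ext (by
    change (φ (g * h)).mulVec v.v = (φ g).mulVec ((φ h).mulVec v.v)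
    rw [map_mul, Matrix.mulVec_mulVec])

theorem Vc.smul_v (φ : G →* Matrix (Fin N) (Fin N) F) (g : G) (v : Vc φ) :
    (g • v).v = (φ g).mulVec v.v := rfl

/-- sets of vectors with the action through `φ` -/
@[ext] structure Ln (φ : G →* Matrix (Fin N) (Fin N) F) where
  S : Set (Fin N → F)

instance (φ : G →* Matrix (Fin N) (Fin N) F) : MulAction G (Ln φ) where
  smul g S := ⟨(φ g).mulVec '' S.S⟩
  one_smul S := Ln.ext (by
    change (φ 1).mulVec '' S.S = S.S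
    rw [map_one]; simp [Matrix.one_mulVec])
  mul_smul g h S := Ln.ext (by
    change (φ (g * h)).mulVec '' S.S = (φ g).mulVec '' ((φ h).mulVec '' S.S)
    rw [map_mul, Set.image_image]
    simp only [Matrix.mulVec_mulVec])

theorem Ln.smul_S (φ : G →* Matrix (Fin N) (Fin N) F) (g : G) (v : Ln φ) :
    (g • v).S = (φ g).mulVec '' v.S := rfl

/-- the line through a vector -/
def ln (φ : G →* Matrix (Fin N) (Fin N) F) (v : Fin N → F) : Ln φ := ⟨Set.range fun c : Fˣ => c • v⟩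

theorem smul_ln (φ : G →* Matrix (Fin N) (Fin N) F) (g : G) (v : Fin N → F) :
    g • ln φ v = ln φ ((φ g).mulVec v) := by
  apply Ln.ext
  change (φ g).mulVec '' Set.range _ = Set.range _
  rw [← Set.range_comp]
  congr 1
  funext c
  simp [Units.smul_def, Matrix.mulVec_smul]

theorem ln_smul (φ : G →* Matrix (Fin N) (Fin N) F) (c : Fˣ) (v : Fin N → F) :
    ln φ (c • v) = ln φ v := by
  apply Ln.ext
  change Set.range _ = Set.range _
  have : (fun d : Fˣ => d • c • v) = (fun d : Fˣ => d • v) ∘ fun d => d * c := by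
    funext d; simp [mul_smul]
  rw [this, (mul_right_surjective c).range_comp]

theorem exists_of_ln_eq {φ : G →* Matrix (Fin N) (Fin N) F} {v w : Fin N → F}
    (h : ln φ v = ln φ w) : ∃ c : Fˣ, c • v = w := by
  have : w ∈ (ln φ w).S := ⟨1, one_smul _ _⟩
  rw [← h] at this
  exact this

namespace Cfg

noncomputable def imgV (C : Cfg) (gl : ℕ → ℕ) (A s _c i : ℕ) : ℕ := C.row (C.pm A (gl s)) i

noncomputable def canV (C : Cfg) (A i : ℕ) : ℕ := Nat.xor (C.row (C.pm A C.one) i) (C.row A i)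

/-- multiply all entries of a reduced batch by `c` -/
noncomputable def scal (C : Cfg) (A c : ℕ) : ℕ := force (Nat.mul A c) C.red

noncomputable def imgL (C : Cfg) (gl : ℕ → ℕ) (A s c i : ℕ) : ℕ :=
  C.row (C.scal (C.pm A (gl s)) (Nat.succ (Nat.mod c (Nat.pred C.p)))) i

noncomputable def canL (C : Cfg) (A i : ℕ) : ℕ :=
  Nat.add (C.canV A i) (sumTo (fun c =>
    Nat.sub (C.row A i) (C.row (C.scal (C.pm A C.one) (Nat.succ c)) i)) (Nat.pred C.p))

variable {C : Cfg} [CharP F C.p]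

theorem Ok.imgV (h : C.Ok) (hN : C.n = N) (hr : C.r = 64) (φ : G →* Matrix (Fin N) (Fin N) F)
    {gl : ℕ → ℕ} {s : ℕ} {g : G} (e : φ g = C.ev F N (gl s)) :
    Img (fun x => (⟨C.vec F N x⟩ : Vc φ)) (C.imgV gl) C.row s g := fun A _ i hi => Vc.ext (by
  rw [Vc.smul_v, e]; exact h.vec_row hN A _ (hr ▸ hi))

theorem Ok.canV (h : C.Ok) (hr : C.r = 64) {A i : ℕ} (hi : i < 64) (e : C.canV A i = 0) :
    C.Can (C.row A i) := xor_eq_zero' e ▸ h.can_row A C.one (hr ▸ hi)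

theorem Ok.canT (h : C.Ok) (hN : C.n = N) (hr : C.r = 64) (φ : G →* Matrix (Fin N) (Fin N) F) :
    CanT (fun x => (⟨C.vec F N x⟩ : Vc φ)) C.canV C.row := fun _ _ hi _ _ hj e1 e2 e =>
  h.vec_inj hN (h.canV hr hi e1) (h.canV hr hj e2) (congrArg Vc.v e)

theorem Ok.scal_pm (h : C.Ok) (A B : ℕ) {c : ℕ} (hc : c < C.p) :
    C.scal (C.pm A B) c = pack (2 ^ C.w) (fun t => C.ent (C.pm A B) t * c % C.p) (C.r * C.n) := by
  have hp : 0 < C.p := lt_trans one_pos h.p1
  have h1 : ∀ x < C.p, x ≤ 2 ^ C.c - 1 := fun x hx => by have := h.pc; omega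
  rw [scal, force_eq]
  conv_lhs => rw [h.pm_eq]
  change C.red (_ * c) = _
  rw [pack_mul, h.red_eq]
  · refine pack_congr fun t ht => ?_
    rw [h.pm_eq, h.ent_pack (fun _ _ => Nat.mod_lt _ hp) ht]
  · intro t
    exact (Nat.mul_le_mul (h1 _ (Nat.mod_lt _ hp)) (h1 _ hc)).trans
      (Nat.le_mul_of_pos_left _ (Nat.pos_of_ne_zero h.n0))

theorem Ok.ent_scal (h : C.Ok) (A B : ℕ) {c i k : ℕ} (hc : c < C.p) (hi : i < C.r) (hk : k < C.n) :
    C.ent (C.scal (C.pm A B) c) (C.n * i + k) = C.ent (C.pm A B) (C.n * i + k) * c % C.p := by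
  rw [h.scal_pm A B hc, h.ent_pack (fun _ _ => Nat.mod_lt _ (lt_trans one_pos h.p1)) (by nlinarith)]

theorem Ok.can_scal (h : C.Ok) (A B : ℕ) {c i : ℕ} (hc : c < C.p) (hi : i < C.r) :
    C.Can (C.row (C.scal (C.pm A B) c) i) :=
  ⟨_, fun k hk => by rw [h.ent_scal A B hc hi hk]; exact Nat.mod_lt _ (lt_trans one_pos h.p1),
    h.row_eq _ _⟩

theorem Ok.vec_scal (h : C.Ok) (hN : C.n = N) (A B : ℕ) {c i : ℕ} (hc : c < C.p) (hi : i < C.r) :
    C.vec F N (C.row (C.scal (C.pm A B) c) i) = (c : F) • C.vec F N (C.row (C.pm A B) i) := by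
  subst hN
  funext k
  simp only [vec, h.ent_row _ _ k.2, h.ent_scal A B hc hi k.2, Pi.smul_apply, smul_eq_mul]
  rw [CharP.cast_eq_mod F C.p _ |>.symm, Nat.cast_mul, mul_comm]

end Cfg

end vec

section line

variable {G : Type*} [Group G] {N : ℕ} {C : Cfg} [Fact C.p.Prime]

theorem Cfg.Ok.imgL (h : C.Ok) (hN : C.n = N) (hr : C.r = 64)
    (φ : G →* Matrix (Fin N) (Fin N) (ZMod C.p))
    {gl : ℕ → ℕ} {s : ℕ} {g : G} (e : φ g = C.ev (ZMod C.p) N (gl s)) :
    Img (fun x => ln φ (C.vec (ZMod C.p) N x)) (C.imgL gl) C.row s g := fun A c i hi => by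
  have h1 := h.p1
  have hc : (c % (C.p - 1)) + 1 < C.p := by
    have := Nat.mod_lt c (show C.p - 1 > 0 by omega); omega
  have hc0 : (((c % (C.p - 1)) + 1 : ℕ) : ZMod C.p) ≠ 0 := by
    rw [Ne, ZMod.natCast_eq_zero_iff]
    exact Nat.not_dvd_of_pos_of_lt (Nat.succ_pos _) hc
  beta_reduce
  rw [smul_ln, e, ← h.vec_row hN A _ (hr ▸ hi)]
  exact (congrArg _ (h.vec_scal hN A _ hc (hr ▸ hi))).trans (ln_smul φ (Units.mk0 _ hc0) _)

theorem Cfg.Ok.le_of_canL (h : C.Ok) (hN : C.n = N) (hr : C.r = 64) {A i B j : ℕ} (hi : i < 64)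
    (hj : j < 64) (e1 : C.canL A i = 0) (e2 : C.canL B j = 0) (c : (ZMod C.p)ˣ)
    (e : c • C.vec (ZMod C.p) N (C.row A i) = C.vec (ZMod C.p) N (C.row B j)) :
    C.row A i ≤ C.row B j := by
  obtain ⟨a1, a2⟩ := add_eq_zero' e1
  have h1 := h.p1
  have hc0 : (c : ZMod C.p).val ≠ 0 := by rw [Ne, ZMod.val_eq_zero]; exact c.ne_zero
  have hc : (c : ZMod C.p).val < C.p := ZMod.val_lt _
  have a3 : C.row A i - C.row (C.scal (C.pm A C.one) ((c : ZMod C.p).val - 1 + 1)) i = 0 :=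
    sumTo_zero a2 _ (show _ < C.p - 1 by omega)
  rw [Nat.sub_add_cancel (by omega)] at a3
  have a4 : C.row (C.scal (C.pm A C.one) (c : ZMod C.p).val) i = C.row B j := by
    refine h.vec_inj (F := ZMod C.p) hN (h.can_scal _ _ hc (hr ▸ hi))
      (h.canV hr hj (add_eq_zero' e2).1) ?_
    rw [h.vec_scal hN _ _ hc (hr ▸ hi), xor_eq_zero' a1, ← e, ZMod.natCast_zmod_val]
    rfl
  omega

theorem Cfg.Ok.canTL (h : C.Ok) (hN : C.n = N) (hr : C.r = 64)
    (φ : G →* Matrix (Fin N) (Fin N) (ZMod C.p)) :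
    CanT (fun x => ln φ (C.vec (ZMod C.p) N x)) C.canL C.row := fun _ _ hi _ _ hj e1 e2 e => by
  obtain ⟨c, hc⟩ := exists_of_ln_eq e
  obtain ⟨d, hd⟩ := exists_of_ln_eq e.symm
  exact le_antisymm (h.le_of_canL hN hr hi hj e1 e2 c hc) (h.le_of_canL hN hr hj hi e2 e1 d hd)

end line

end Cfsg.Agent.H5
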