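import Cfsg.Agent.H5.DC3

/-! Maximality and simplicity from certificates. -/

set_option autoImplicit false

namespace Cfsg.Agent.H5

open Subgroup

noncomputable def pw (mul : ℕ → ℕ → ℕ) (one a n : ℕ) : ℕ :=
  Nat.rec (motive := fun _ => ℕ) one (fun _ ih => mul a ih) n

/-- `gl s` is a product of elements `e a` with `(e a) ^ p = 1` -/
noncomputable def chkP (mul : ℕ → ℕ → ℕ) (one : ℕ) (gl e : ℕ → ℕ) (ws : List (List ℕ)) (p s : ℕ) : ℕ :=
  Nat.add (Nat.xor (wd mul one e (getW ws s)) (gl s))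
    (sumL' (getW ws s) fun a => Nat.xor (pw mul one (e a) p) one)

/-- `D i * e a * D j = e b * D k * e c` for the entry `[i, a, j, b, k, c]` -/
noncomputable def chkD (mul : ℕ → ℕ → ℕ) (D e : ℕ → ℕ) (ws : List (List ℕ)) (s : ℕ) : ℕ :=
  force (getN (getW ws s) 0) fun i => force (getN (getW ws s) 1) fun a =>
  force (getN (getW ws s) 2) fun j => force (getN (getW ws s) 3) fun b =>
  force (getN (getW ws s) 4) fun k => force (getN (getW ws s) 5) fun c =>
    Nat.xor (mul (mul (D i) (e a)) (D j)) (mul (e b) (mul (D k) (e c)))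

noncomputable def cons1 (a : ℕ) (f : ℕ → ℕ) (s : ℕ) : ℕ :=
  Nat.rec (motive := fun _ => ℕ) a (fun s' _ => f s') s

section pure

variable {G : Type*} [Group G] {X : Type*} [MulAction G X]

theorem normal_le_stab {N : Subgroup G} (hN : N.Normal) {x y : X}
    (h : N ≤ MulAction.stabilizer G x) {H : Subgroup G} (hy : y ∈ MulAction.orbit H x) :
    N ≤ MulAction.stabilizer G y := by
  obtain ⟨⟨g, hg⟩, rfl⟩ := hy
  intro a ha
  have := h (hN.conj_mem a ha g⁻¹)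
  change a • g • x = g • x
  rw [MulAction.mem_stabilizer_iff, inv_inv, mul_smul, mul_smul, inv_smul_eq_iff] at this
  exact this

theorem mem_orbit_of_eq {H : Subgroup G} {Y : ℕ → X} {n : ℕ} {x y : X}
    (ho : MulAction.orbit H x = Y '' {i | i < n}) {j : ℕ} (hj : j < n) (e : y = Y j) :
    y ∈ MulAction.orbit H x := ho ▸ ⟨j, hj, e.symm⟩

/-- a transitive overgroup of the stabiliser is everything -/
theorem eq_top_of_reach {K M : Subgroup G} {Y : ℕ → X} {n r : ℕ}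
    (ho : MulAction.orbit (⊤ : Subgroup G) (Y r) = Y '' {i | i < n})
    (hK : ⊤ ⊓ MulAction.stabilizer G (Y r) = K) (hM : K ≤ M) (h : Reach M Y n [r]) : M = ⊤ := by
  rw [eq_top_iff]
  intro a ha
  obtain ⟨i, hi, e⟩ : a • Y r ∈ Y '' {i | i < n} := ho ▸ ⟨⟨a, ha⟩, rfl⟩
  obtain ⟨r', hr', g, hg, e'⟩ := h i hi
  rw [List.mem_singleton.1 hr', e, ← mul_smul] at e'
  have : g * a ∈ K := hK ▸ ⟨mem_top _, e'⟩
  exact (M.mul_mem_cancel_left hg).1 (hM this)

theorem simple_of_prim (K : Subgroup G) (p : ℕ) (hp : Nat.Coprime p (Nat.card K)) (hK : K ≠ ⊤)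
    (hmax : ∀ H : Subgroup G, K ≤ H → H = K ∨ H = ⊤)
    (hcore : ∀ N : Subgroup G, N.Normal → N ≤ K → N ≤ ⊥)
    (hgen : ∀ N : Subgroup G, N.Normal → (∀ x : G, x ^ p = 1 → x ∈ N) → N = ⊤) :
    IsSimpleGroup G := by
  have : Nontrivial G := by
    by_contra h
    rw [not_nontrivial_iff_subsingleton] at h
    exact hK (Subsingleton.elim _ _)
  refine ⟨fun N hN => ?_⟩
  rcases normal_dichotomy ⊥ K p hp hmax hcore (fun N hN h => by rw [hgen N hN h, top_sup_eq]) N hN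
    with h | h
  · exact Or.inl (le_bot_iff.1 h)
  · exact Or.inr (by rwa [sup_bot_eq] at h)

/-- maximality from the orbits of the stabiliser -/
theorem max_of_roots {K : Subgroup G} {Y : ℕ → X} {n r : ℕ} {roots : List ℕ}
    (ho : MulAction.orbit (⊤ : Subgroup G) (Y r) = Y '' {i | i < n})
    (hK : ⊤ ⊓ MulAction.stabilizer G (Y r) = K) (h : Reach K Y n roots)
    (hr : ∀ j ∈ roots, j = r ∨ ∃ t, t • Y r = Y j ∧ ∀ M : Subgroup G, K ≤ M → t ∈ M → M = ⊤) :
    ∀ M : Subgroup G, K ≤ M → M = K ∨ M = ⊤ := by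
  intro M hM
  by_cases hle : M ≤ K
  · exact Or.inl (le_antisymm hle hM)
  right
  obtain ⟨g, hg, hgK⟩ := SetLike.not_le_iff_exists.1 hle
  obtain ⟨l, hl, t, ht, p, hp, e⟩ := cover_of_reach (H := ⊤) le_top ho.le h
    (Q := fun t => t = 1 ∨ ∀ M : Subgroup G, K ≤ M → t ∈ M → M = ⊤) (fun j hj => by
      rcases hr j hj with rfl | ⟨t, e, ht⟩
      · exact ⟨1, mem_top _, one_smul _ _, Or.inl rfl⟩
      · exact ⟨t, mem_top _, e, Or.inr ht⟩) g (mem_top _)
  rw [hK] at hp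
  rcases ht with rfl | ht
  · exact absurd (by rw [e, mul_one]; exact K.mul_mem hl hp) hgK
  · refine ht M hM ?_
    rwa [e, M.mul_mem_cancel_right (hM hp), M.mul_mem_cancel_left (hM hl)] at hg

end pure

namespace Mdl

variable {G M : Type*} [Group G] [Monoid M] {m : Mdl G M}

theorem pw_eq (a n : ℕ) : pw m.mul m.one a n = m.powC a n := rfl

theorem in_of_chkP {N : Subgroup G} {p : ℕ} (hN : ∀ x : G, x ^ p = 1 → x ∈ N) {gl e : ℕ → ℕ}
    (he : m.El ⊤ e) {ws : List (List ℕ)} {ng : ℕ}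
    (hc : ∀ s < ng, chkP m.mul m.one gl e ws p s = 0) : ∀ s < ng, m.In N (gl s) := by
  intro s hs
  obtain ⟨h1, h2⟩ := add_eq_zero' (hc s hs)
  have h3 := sumL'_zero h2
  refine In.of_eq ?_ h1
  generalize getW ws s = w at h3
  induction w with
  | nil => exact in_one _
  | cons a l ih =>
    refine In.mul ?_ (ih fun b hb => h3 b (List.mem_cons_of_mem _ hb))
    obtain ⟨g, -, eg⟩ := he a
    exact ⟨g, hN g (pow_eq_one_of_powC eg (xor_eq_zero' (h3 a List.mem_cons_self))), eg⟩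

theorem eq_of_chkD {H : Subgroup G} {D e : ℕ → ℕ} {ws : List (List ℕ)} {s : ℕ} (hD : m.El ⊤ D)
    (he : m.El H e) (h : chkD m.mul D e ws s = 0) :
    ∃ a ∈ H, ∃ b ∈ H, ∃ c ∈ H, m.φ a = m.ev (e (getN (getW ws s) 1)) ∧
      m.elt (D (getN (getW ws s) 0)) * a * m.elt (D (getN (getW ws s) 2)) =
        b * m.elt (D (getN (getW ws s) 4)) * c := by
  refine ⟨_, (he (getN (getW ws s) 1)).elt_mem, _, (he (getN (getW ws s) 3)).elt_mem, _,
    (he (getN (getW ws s) 5)).elt_mem, (he _).elt, m.inj ?_⟩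
  have h1 := congrArg m.ev (xor_eq_zero' h)
  simp only [m.ev_mul] at h1
  simp only [map_mul, (hD _).elt, (he _).elt]
  rw [h1, mul_assoc]

theorem El.cons1 {H : Subgroup G} {a : ℕ} {f : ℕ → ℕ} (ha : m.In H a) (hf : m.El H f) :
    m.El H (cons1 a f) := fun s => by
  cases s with
  | zero => exact ha
  | succ s => exact hf s

theorem root_ok {X : Type*} [MulAction G X] {pv : ℕ → X} {img : ℕ → ℕ → ℕ → ℕ → ℕ}
    {row : ℕ → ℕ → ℕ} {ch g1 : ℕ → ℕ} {a n r j c : ℕ} {A : Tr} {K : Subgroup G}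
    (acts : m.Acts pv img row (H5.cons1 a g1)) (ha : m.In ⊤ a) (hg : m.El K g1)
    (ho : MulAction.orbit (⊤ : Subgroup G) (pv (pt row ch r)) =
      (fun i => pv (pt row ch i)) '' {i | i < n})
    (hK : ⊤ ⊓ MulAction.stabilizer G (pv (pt row ch r)) = K)
    (hM : chkM img row ch r ch [j] [c] 0 = 0) (hO : ∀ i < n, chkO img row ch A n [r] i = 0) :
    ∃ t : G, t • pv (pt row ch r) = pv (pt row ch j) ∧
      ∀ M : Subgroup G, K ≤ M → t ∈ M → M = ⊤ :=
  ⟨m.elt a, smul_of_chkM acts ha.elt hM, fun M hKM ht =>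
    eq_top_of_reach (Y := fun i => pv (pt row ch i)) ho hK hKM
      (reach_of_chk (acts.ex (El.cons1 ⟨_, ht, ha.elt⟩ (hg.mono hKM))) hO)⟩

/-- one step of an exact stabiliser chain -/
theorem exact [Finite G] {X : Type*} [MulAction G X] {H K : Subgroup G} {Y : ℕ → X} {n r B : ℕ}
    (hY : Dist Y n) (h : Reach H Y n [r]) (h1 : K ≤ H) (h2 : K ≤ MulAction.stabilizer G (Y r))
    (hB : B ≤ Nat.card K) (hH : Nat.card H ≤ n * B) :
    MulAction.orbit H (Y r) = Y '' {i | i < n} ∧ H ⊓ MulAction.stabilizer G (Y r) = K ∧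
      Nat.card H = n * B ∧ Nat.card K = B :=
  orbit_eq_of_card hY (h.sub fun r' hr => ⟨1, H.one_mem, by
    rw [List.mem_singleton.1 hr, one_smul]⟩) (le_inf h1 h2) hB hH

theorem gn_sub_top {gl : ℕ → ℕ} {ng : ℕ} (m' : Mdl (m.gn gl ng) M) (hφ : ∀ g, m'.φ g = m.φ g)
    (hev : m'.ev = m.ev) : m'.gn gl ng = ⊤ := by
  have := Subgroup.closure_closure_coe_preimage (k := {g | ∃ s < ng, m.φ g = m.ev (gl s)})
  refine Eq.trans (congrArg Subgroup.closure ?_) this
  ext g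
  simp only [Set.mem_ofPred_eq, Set.mem_preimage, hφ, hev]
  rfl

theorem In.sub {H : Subgroup G} (m' : Mdl H M) (hφ : ∀ g, m'.φ g = m.φ g) (hev : m'.ev = m.ev)
    {a : ℕ} (h : m.In H a) : m'.In ⊤ a :=
  let ⟨g, hg, e⟩ := h; ⟨⟨g, hg⟩, mem_top _, by rw [hφ, hev]; exact e⟩

end Mdl

end Cfsg.Agent.H5
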