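import Cfsg.Agent.H5.Cert

/-! Matrices over a prime field as packed numbers. -/

set_option autoImplicit false

namespace Cfsg.Agent.H5

open Finset

/-- the digit `a` repeated `L` times in base `2 ^ v` -/
def rep (v a L : ℕ) : ℕ :=
  Nat.mul a (Nat.div (Nat.sub (Nat.pow 2 (Nat.mul v L)) 1) (Nat.sub (Nat.pow 2 v) 1))

theorem rep_eq {v : ℕ} (hv : v ≠ 0) (a L : ℕ) : rep v a L = pack (2 ^ v) (fun _ => a) L := by
  change a * ((2 ^ (v * L) - 1) / (2 ^ v - 1)) = _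
  rw [pack, ← mul_sum, pow_mul, Nat.geomSum_eq (Nat.le_self_pow hv 2)]

theorem extract (x s v t L : ℕ) (ht : t ≤ v) (hv : v ≠ 0) :
    (x >>> s) &&& rep v (2 ^ t - 1) L = pack (2 ^ v) (fun i => x / 2 ^ (v * i + s) % 2 ^ t) L := by
  have h1 : 2 ^ t - 1 < 2 ^ v :=
    lt_of_lt_of_le (Nat.sub_lt (Nat.two_pow_pos t) one_pos) (Nat.pow_le_pow_right two_pos ht)
  rw [rep_eq hv, land_pack _ _ _ _ fun _ _ => h1]
  refine pack_congr fun i _ => ?_
  rw [Nat.and_two_pow_sub_one_eq_mod, Nat.mod_mod_of_dvd _ (pow_dvd_pow 2 ht),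
    Nat.shiftRight_eq_div_pow, Nat.div_div_eq_div_mul, ← pow_mul, ← pow_add, add_comm s]

theorem pack_pair (w : ℕ) (f : ℕ → ℕ) (L : ℕ) :
    pack (2 ^ w) f (2 * L) = pack (2 ^ (2 * w)) (fun i => f (2 * i)) L +
      pack (2 ^ (2 * w)) (fun i => f (2 * i + 1)) L * 2 ^ w := by
  induction L with
  | zero => simp [pack]
  | succ L ih =>
    rw [mul_add 2 L 1, mul_one, pack_succ, pack_succ, ih, pack_succ, pack_succ]
    simp only [← pow_mul]
    rw [show w * (2 * L + 1) = 2 * w * L + w by ring, show w * (2 * L) = 2 * w * L by ring, pow_add]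
    ring

theorem pack_nest (B n : ℕ) (g : ℕ → ℕ → ℕ) (r : ℕ) :
    pack (B ^ n) (fun i => pack B (g i) n) r = pack B (fun t => g (t / n) (t % n)) (r * n) := by
  induction r with
  | zero => simp [pack]
  | succ r ih =>
    rw [pack_succ, ih, add_mul r 1 n, one_mul, pack_add_index, ← pow_mul, mul_comm n r,
      mul_comm (B ^ (r * n))]
    congr 2
    refine pack_congr fun k hk => ?_
    rw [add_comm, Nat.add_mul_div_right _ _ (by omega), Nat.div_eq_of_lt hk, zero_add,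
      Nat.add_mul_mod_self_right, Nat.mod_eq_of_lt hk]

theorem pack_pad (B : ℕ) (f : ℕ → ℕ) {N L : ℕ} (h : N ≤ L) :
    pack B f N = pack B (fun t => if t < N then f t else 0) L := by
  obtain ⟨k, rfl⟩ := Nat.exists_eq_add_of_le h
  rw [pack_add_index, pack_congr (g := f) fun i hi => if_pos hi]
  have : pack B (fun i => if N + i < N then f (N + i) else 0) k = 0 := by simp [pack]
  rw [this]; simp

theorem pack_sum (B : ℕ) (f : ℕ → ℕ → ℕ) (m n : ℕ) :
    ∑ j ∈ range m, pack B (f j) n = pack B (fun i => ∑ j ∈ range m, f j i) n := by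
  simp only [pack, sum_mul]
  exact sum_comm

/-- Parameters: `r × n` times `n × n` matrices modulo `p`, entries of `c` bits in digits of
`w` bits. -/
structure Cfg where
  r : ℕ
  n : ℕ
  p : ℕ
  c : ℕ
  w : ℕ
  W : ℕ
  m : ℕ
  k : ℕ
  M : ℕ
  R : ℕ
  ME : ℕ
  MQ : ℕ

namespace Cfg

/-- the standard parameters -/
def mk' (r n p c w m k : ℕ) : Cfg where
  r := r
  n := n
  p := p
  c := c
  w := w
  W := Nat.mul n w
  m := m
  k := k
  M := rep (Nat.mul n w) (Nat.sub (Nat.pow 2 c) 1) r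
  R := rep w (Nat.sub (Nat.pow 2 c) 1) n
  ME := rep (Nat.mul 2 w) (Nat.sub (Nat.pow 2 w) 1) (Nat.div (Nat.succ (Nat.mul r n)) 2)
  MQ := rep (Nat.mul 2 w) (Nat.sub (Nat.pow 2 (Nat.sub (Nat.mul 2 w) k)) 1)
    (Nat.div (Nat.succ (Nat.mul r n)) 2)

variable (C : Cfg)

def pstep (A B j : ℕ) : ℕ :=
  Nat.mul (Nat.land (Nat.shiftRight A (Nat.mul C.w j)) C.M)
    (Nat.land (Nat.shiftRight B (Nat.mul C.W j)) C.R)

def quo (e : ℕ) : ℕ := Nat.land (Nat.shiftRight (Nat.mul (Nat.land e C.ME) C.m) C.k) C.MQ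

def red (x : ℕ) : ℕ :=
  Nat.sub x (Nat.mul (Nat.add (C.quo x) (Nat.shiftLeft (C.quo (Nat.shiftRight x C.w)) C.w)) C.p)

/-- product of an `r × n` and an `n × n` matrix -/
noncomputable def pm (A B : ℕ) : ℕ := force (sumTo (C.pstep A B) C.n) C.red

/-- the identity matrix -/
def one : ℕ := rep (Nat.add C.W C.w) 1 C.n

noncomputable def barr : ℕ :=
  sumTo (fun t => Nat.xor (Nat.shiftRight (Nat.mul t C.m) C.k) (Nat.div t C.p))
    (Nat.succ (Nat.mul C.n (Nat.mul (Nat.sub (Nat.pow 2 C.c) 1) (Nat.sub (Nat.pow 2 C.c) 1))))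

structure Ok : Prop where
  e : C = mk' C.r C.n C.p C.c C.w C.m C.k
  n0 : C.n ≠ 0
  p1 : 1 < C.p
  pc : C.p ≤ 2 ^ C.c
  cw : C.c ≤ C.w
  bw : C.n * ((2 ^ C.c - 1) * (2 ^ C.c - 1)) < 2 ^ C.w
  mw : C.m ≤ 2 ^ C.w
  kw : C.k ≤ 2 * C.w
  br : C.barr = 0

theorem ok_mk {r n p c w m k : ℕ} (h : (n ≠ 0 ∧ 1 < p ∧ p ≤ 2 ^ c ∧ c ≤ w ∧
    n * ((2 ^ c - 1) * (2 ^ c - 1)) < 2 ^ w ∧ m ≤ 2 ^ w ∧ k ≤ 2 * w) ∧
    (mk' r n p c w m k).barr = 0) : (mk' r n p c w m k).Ok :=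
  ⟨rfl, h.1.1, h.1.2.1, h.1.2.2.1, h.1.2.2.2.1, h.1.2.2.2.2.1, h.1.2.2.2.2.2.1, h.1.2.2.2.2.2.2, h.2⟩

/-- entry `t` of a code -/
def ent (a t : ℕ) : ℕ := a / 2 ^ (C.w * t) % 2 ^ C.c

variable {C}

theorem ent_le (a t : ℕ) : C.ent a t ≤ 2 ^ C.c - 1 :=
  Nat.le_sub_one_of_lt (Nat.mod_lt _ (Nat.two_pow_pos _))

namespace Ok

variable (h : C.Ok)
include h

theorem W_eq : C.W = C.n * C.w := congrArg Cfg.W h.e
theorem M_eq : C.M = rep (C.n * C.w) (2 ^ C.c - 1) C.r := congrArg Cfg.M h.e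
theorem R_eq : C.R = rep C.w (2 ^ C.c - 1) C.n := congrArg Cfg.R h.e
theorem ME_eq : C.ME = rep (2 * C.w) (2 ^ C.w - 1) ((C.r * C.n + 1) / 2) := congrArg Cfg.ME h.e
theorem MQ_eq : C.MQ = rep (2 * C.w) (2 ^ (2 * C.w - C.k) - 1) ((C.r * C.n + 1) / 2) :=
  congrArg Cfg.MQ h.e

theorem c0 : C.c ≠ 0 := fun e => by
  have := h.pc; have := h.p1; rw [e] at *; omega
theorem w0 : C.w ≠ 0 := by have := h.c0; have := h.cw; omega
theorem pw : C.p ≤ 2 ^ C.w := h.pc.trans (Nat.pow_le_pow_right two_pos h.cw)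

theorem pstep_eq (A B j : ℕ) : C.pstep A B j =
    pack (2 ^ C.w) (fun t => C.ent A (C.n * (t / C.n) + j) * C.ent B (C.n * j + t % C.n))
      (C.r * C.n) := by
  change ((A >>> (C.w * j)) &&& C.M) * ((B >>> (C.W * j)) &&& C.R) = _
  have h1 := h.w0
  have h2 := h.n0
  have h3 := h.cw
  rw [h.M_eq, h.R_eq, h.W_eq, extract _ _ _ _ _ (h3.trans (Nat.le_mul_of_pos_left _ (by omega)))
    (mul_ne_zero h2 h1), extract _ _ _ _ _ h3 h1, pack_mul,
    ← pack_nest (2 ^ C.w) C.n (fun i k => C.ent A (C.n * i + j) * C.ent B (C.n * j + k)),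
    ← pow_mul, mul_comm C.w C.n]
  refine pack_congr fun i _ => ?_
  rw [mul_comm, pack_mul]
  refine pack_congr fun k _ => ?_
  rw [mul_comm, ent, ent]
  congr 4 <;> ring

theorem quo_eq {x : ℕ} {f : ℕ → ℕ}
    (hf : ∀ i, f i ≤ C.n * ((2 ^ C.c - 1) * (2 ^ C.c - 1)))
    (hx : ∀ i < (C.r * C.n + 1) / 2, x / 2 ^ (2 * C.w * i) % 2 ^ C.w = f i) :
    C.quo x = pack (2 ^ (2 * C.w)) (fun i => f i / C.p) ((C.r * C.n + 1) / 2) := by
  change (((x &&& C.ME) * C.m) >>> C.k) &&& C.MQ = _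
  have h1 := h.w0
  have e := extract x 0 (2 * C.w) C.w ((C.r * C.n + 1) / 2) (by omega) (by omega)
  simp only [Nat.shiftRight_zero, add_zero] at e
  rw [h.ME_eq, e, pack_congr (g := f) hx, pack_mul, h.MQ_eq, extract _ _ _ _ _ (by omega) (by omega)]
  have hlt : ∀ i < (C.r * C.n + 1) / 2, f i * C.m < 2 ^ (2 * C.w) := fun i _ => by
    have := hf i
    have := h.bw
    rw [two_mul, pow_add]
    exact Nat.mul_lt_mul_of_lt_of_le (by omega) h.mw (Nat.two_pow_pos _)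
  refine pack_congr fun i hi => ?_
  have hd := digit_pack hlt hi
  have hb : (f i * C.m) >>> C.k = f i / C.p :=
    xor_eq_zero' (sumTo_zero h.br (f i) (Nat.lt_succ_of_le (hf i)))
  rw [← hb, ← hd, Nat.shiftRight_eq_div_pow, ← pow_mul, pow_add, ← Nat.div_div_eq_div_mul]
  generalize pack (2 ^ (2 * C.w)) (fun i => f i * C.m) ((C.r * C.n + 1) / 2) / 2 ^ (2 * C.w * i) = y
  conv_rhs => rw [show 2 * C.w = C.k + (2 * C.w - C.k) by have := h.kw; omega, pow_add]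
  rw [Nat.mod_mul_right_div_self]

theorem red_eq {f : ℕ → ℕ} (hf : ∀ i, f i ≤ C.n * ((2 ^ C.c - 1) * (2 ^ C.c - 1))) :
    C.red (pack (2 ^ C.w) f (C.r * C.n)) = pack (2 ^ C.w) (fun i => f i % C.p) (C.r * C.n) := by
  have hL : C.r * C.n ≤ 2 * ((C.r * C.n + 1) / 2) := by omega
  rw [pack_pad _ f hL, pack_pad _ _ hL]
  obtain ⟨g, hg⟩ : ∃ g : ℕ → ℕ, g = fun t => if t < C.r * C.n then f t else 0 := ⟨_, rfl⟩
  have hg2 : (fun t => if t < C.r * C.n then f t % C.p else 0) = fun t => g t % C.p := by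
    funext t; rw [hg]; dsimp only; split_ifs <;> simp
  have hg3 : ∀ i, g i ≤ C.n * ((2 ^ C.c - 1) * (2 ^ C.c - 1)) := fun i => by
    rw [hg]; dsimp only; split_ifs
    · exact hf i
    · exact Nat.zero_le _
  have hg4 : ∀ i < 2 * ((C.r * C.n + 1) / 2), g i < 2 ^ C.w := fun i _ => (hg3 i).trans_lt h.bw
  rw [← hg, hg2]
  obtain ⟨x, hx⟩ : ∃ x, x = pack (2 ^ C.w) g (2 * ((C.r * C.n + 1) / 2)) := ⟨_, rfl⟩
  rw [← hx]
  change x - (C.quo x + (C.quo (x >>> C.w)) <<< C.w) * C.p = _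
  rw [h.quo_eq (f := fun i => g (2 * i)) (fun i => hg3 _) (fun i hi => by
      rw [hx, ← digit_pack hg4 (show 2 * i < _ by omega), ← pow_mul]; congr 3; ring),
    h.quo_eq (f := fun i => g (2 * i + 1)) (fun i => hg3 _) (fun i hi => by
      rw [hx, ← digit_pack hg4 (show 2 * i + 1 < _ by omega), ← pow_mul,
        Nat.shiftRight_eq_div_pow, Nat.div_div_eq_div_mul, ← pow_add]; congr 3; ring),
    Nat.shiftLeft_eq, ← pack_pair C.w (fun i => g i / C.p), pack_mul, hx]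
  apply Nat.sub_eq_of_eq_add
  rw [pack_add]
  exact pack_congr fun i _ => (Nat.mod_add_div' _ _).symm

theorem pm_eq (A B : ℕ) : C.pm A B = pack (2 ^ C.w) (fun t => (∑ j ∈ range C.n,
    C.ent A (C.n * (t / C.n) + j) * C.ent B (C.n * j + t % C.n)) % C.p) (C.r * C.n) := by
  rw [pm, force_eq, sumTo_eq, sum_congr rfl fun j _ => h.pstep_eq A B j, pack_sum, h.red_eq]
  intro t
  calc _ ≤ ∑ _j ∈ range C.n, (2 ^ C.c - 1) * (2 ^ C.c - 1) :=
        sum_le_sum fun j _ => Nat.mul_le_mul (ent_le _ _) (ent_le _ _)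
    _ = _ := by simp

theorem ent_pack {f : ℕ → ℕ} {N t : ℕ} (hf : ∀ i < N, f i < C.p) (ht : t < N) :
    C.ent (pack (2 ^ C.w) f N) t = f t := by
  rw [ent, ← Nat.mod_mod_of_dvd _ (pow_dvd_pow 2 h.cw), pow_mul,
    digit_pack (fun i hi => (hf i hi).trans_le h.pw) ht,
    Nat.mod_eq_of_lt ((hf t ht).trans_le h.pc)]

theorem ent_pm (A B : ℕ) {i k : ℕ} (hi : i < C.r) (hk : k < C.n) :
    C.ent (C.pm A B) (C.n * i + k) =
      (∑ j ∈ range C.n, C.ent A (C.n * i + j) * C.ent B (C.n * j + k)) % C.p := by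
  have hp : 0 < C.p := lt_trans one_pos h.p1
  rw [h.pm_eq, h.ent_pack (fun _ _ => Nat.mod_lt _ hp) (by nlinarith),
    Nat.mul_add_div (by omega), Nat.div_eq_of_lt hk, add_zero, Nat.mul_add_mod,
    Nat.mod_eq_of_lt hk]

theorem ent_one {i k : ℕ} (hi : i < C.n) (hk : k < C.n) :
    C.ent C.one (C.n * i + k) = if i = k then 1 else 0 := by
  have h1 := h.w0
  have e : C.one = pack (2 ^ C.w) (fun t => if t / C.n = t % C.n then 1 else 0) (C.n * C.n) := by
    rw [← pack_nest (2 ^ C.w) C.n (fun i k => if i = k then 1 else 0), one]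
    change rep (C.W + C.w) 1 C.n = _
    rw [rep_eq (by omega), h.W_eq]
    simp only [pack]
    refine sum_congr rfl fun i hi => ?_
    simp only [ite_mul, one_mul, zero_mul, sum_ite_eq, hi, if_true]
    rw [← pow_mul, ← pow_mul, ← pow_mul, ← pow_mul, ← pow_add]
    congr 1; ring
  rw [e, h.ent_pack (fun _ _ => by have := h.p1; split_ifs <;> omega) (by nlinarith),
    Nat.mul_add_div (by omega), Nat.div_eq_of_lt hk, add_zero, Nat.mul_add_mod,
    Nat.mod_eq_of_lt hk]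

end Ok

variable (C)

/-- the matrix of a code (stored column by column) -/
def ev (F : Type*) [NatCast F] (N a : ℕ) : Matrix (Fin N) (Fin N) F :=
  fun i j => (C.ent a (N * j + i) : ℕ)

/-- the vector of a code -/
def vec (F : Type*) [NatCast F] (N a : ℕ) : Fin N → F := fun i => (C.ent a i : ℕ)

/-- row `i` of a packed list of vectors -/
def row (A i : ℕ) : ℕ := Nat.land (Nat.shiftRight A (Nat.mul C.W i)) C.R

/-- canonical vector codes -/
def Can (x : ℕ) : Prop := ∃ f : ℕ → ℕ, (∀ i < C.n, f i < C.p) ∧ x = pack (2 ^ C.w) f C.n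

variable {C}
variable {F : Type*} [CommRing F]

theorem Ok.row_eq (h : C.Ok) (A i : ℕ) :
    C.row A i = pack (2 ^ C.w) (fun k => C.ent A (C.n * i + k)) C.n := by
  change (A >>> (C.W * i)) &&& C.R = _
  rw [h.R_eq, extract _ _ _ _ _ h.cw h.w0, h.W_eq]
  refine pack_congr fun k _ => ?_
  rw [ent]; congr 3; ring

theorem Ok.ent_row (h : C.Ok) (A i : ℕ) {k : ℕ} (hk : k < C.n) :
    C.ent (C.row A i) k = C.ent A (C.n * i + k) := by
  have h2 : ∀ t, C.ent A t < 2 ^ C.c := fun t => Nat.mod_lt _ (Nat.two_pow_pos _)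
  rw [h.row_eq, ent, ← Nat.mod_mod_of_dvd _ (pow_dvd_pow 2 h.cw), pow_mul,
    digit_pack (fun i _ => (h2 _).trans_le (Nat.pow_le_pow_right two_pos h.cw)) hk,
    Nat.mod_eq_of_lt (h2 _)]

theorem Ok.can_row (h : C.Ok) (A B : ℕ) {i : ℕ} (hi : i < C.r) : C.Can (C.row (C.pm A B) i) :=
  ⟨_, fun k hk => by rw [h.ent_pm A B hi hk]; exact Nat.mod_lt _ (lt_trans one_pos h.p1),
    h.row_eq _ _⟩

theorem Ok.vec_inj (h : C.Ok) [CharP F C.p] {N : ℕ} (hN : C.n = N) {x y : ℕ} (hx : C.Can x)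
    (hy : C.Can y) (e : C.vec F N x = C.vec F N y) : x = y := by
  subst hN
  obtain ⟨f, hf, rfl⟩ := hx
  obtain ⟨g, hg, rfl⟩ := hy
  refine pack_congr fun i hi => ?_
  have := congrFun e ⟨i, hi⟩
  simp only [vec, h.ent_pack hf hi, h.ent_pack hg hi] at this
  exact CharP.natCast_injOn_Iio F C.p (hf i hi) (hg i hi) this

theorem Ok.vec_row (h : C.Ok) [CharP F C.p] {N : ℕ} (hN : C.n = N) (A B : ℕ) {i : ℕ}
    (hi : i < C.r) :
    C.vec F N (C.row (C.pm A B) i) = (C.ev F N B).mulVec (C.vec F N (C.row A i)) := by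
  subst hN
  funext k
  simp only [vec, Matrix.mulVec, dotProduct, ev, h.ent_row _ _ k.2, h.ent_pm A B hi k.2]
  rw [CharP.cast_eq_mod F C.p _ |>.symm, Nat.cast_sum, ← Fin.sum_univ_eq_sum_range
    (fun j => ((C.ent A (C.n * i + j) * C.ent B (C.n * j + k) : ℕ) : F))]
  exact sum_congr rfl fun j _ => by rw [h.ent_row _ _ j.2, Nat.cast_mul, mul_comm]

theorem Ok.ev_pm (h : C.Ok) [CharP F C.p] {N : ℕ} (hN : C.n = N) (hr : C.r = N) (A B : ℕ) :
    C.ev F N (C.pm B A) = C.ev F N A * C.ev F N B := by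
  subst hN
  funext i k
  simp only [ev, Matrix.mul_apply, h.ent_pm B A (k.2.trans_eq hr.symm) i.2]
  rw [CharP.cast_eq_mod F C.p _ |>.symm, Nat.cast_sum, ← Fin.sum_univ_eq_sum_range
    (fun j => ((C.ent B (C.n * k + j) * C.ent A (C.n * j + i) : ℕ) : F))]
  exact sum_congr rfl fun j _ => by rw [Nat.cast_mul, mul_comm]

theorem Ok.ev_one (h : C.Ok) {N : ℕ} (hN : C.n = N) : C.ev F N C.one = 1 := by
  subst hN
  funext i k
  simp only [ev, h.ent_one k.2 i.2, Matrix.one_apply, Fin.ext_iff, eq_comm (a := k.1)]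
  split_ifs <;> simp

/-- the product of the model: the matrices are stored column by column -/
noncomputable def mul (C : Cfg) (a b : ℕ) : ℕ := C.pm b a

/-- A group with a faithful representation over a ring of characteristic `p`. -/
noncomputable def Ok.mdl (h : C.Ok) (F : Type*) [CommRing F] [CharP F C.p] {N : ℕ} (hN : C.n = N)
    (hr : C.r = N) {G : Type*} [Group G] (φ : G →* Matrix (Fin N) (Fin N) F)
    (inj : Function.Injective φ) : Mdl G (Matrix (Fin N) (Fin N) F) where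
  φ := φ
  inj := inj
  ev := C.ev F N
  mul := C.mul
  ev_mul a b := h.ev_pm hN hr a b
  one := C.one
  ev_one := h.ev_one hN

attribute [irreducible] one mul pm row

end Cfg

end Cfsg.Agent.H5
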