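import Cfsg.Agent.H5.HnxD0

set_option autoImplicit false
set_option maxRecDepth 100000
set_option Elab.async false

namespace Cfsg.Agent.H5.Hn

theorem pW0_0 : rng pW0f (nat_lit 0) (nat_lit 2) = 0 := by decide +kernel
theorem pW1_0 : rng pW1f (nat_lit 0) (nat_lit 2) = 0 := by decide +kernel
theorem pW2_0 : rng pW2f (nat_lit 0) (nat_lit 2) = 0 := by decide +kernel
theorem pW3_0 : rng pW3f (nat_lit 0) (nat_lit 2) = 0 := by decide +kernel
theorem pW4_0 : rng pW4f (nat_lit 0) (nat_lit 2) = 0 := by decide +kernel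
theorem pW5_0 : rng pW5f (nat_lit 0) (nat_lit 2) = 0 := by decide +kernel
theorem pW6_0 : rng pW6f (nat_lit 0) (nat_lit 2) = 0 := by decide +kernel
theorem pW7_0 : rng pW7f (nat_lit 0) (nat_lit 2) = 0 := by decide +kernel
theorem pW8_0 : rng pW8f (nat_lit 0) (nat_lit 2) = 0 := by decide +kernel
theorem py9Y_0 : rngB py9Yf (nat_lit 3) (nat_lit 0) (nat_lit 1) = 0 := by decide +kernel
theorem pO9_0 : rngB pO9f (nat_lit 3) (nat_lit 0) (nat_lit 1) = 0 := by decide +kernel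
theorem py8Y_0 : rngB py8Yf (nat_lit 4) (nat_lit 0) (nat_lit 1) = 0 := by decide +kernel
theorem pO8_0 : rngB pO8f (nat_lit 4) (nat_lit 0) (nat_lit 1) = 0 := by decide +kernel
theorem pF8_0 : rng pF8f (nat_lit 0) (nat_lit 2) = 0 := by decide +kernel
theorem py7Y_0 : rngB py7Yf (nat_lit 5) (nat_lit 0) (nat_lit 1) = 0 := by decide +kernel
theorem pO7_0 : rngB pO7f (nat_lit 5) (nat_lit 0) (nat_lit 1) = 0 := by decide +kernel
theorem pF7_0 : rng pF7f (nat_lit 0) (nat_lit 2) = 0 := by decide +kernel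
theorem py6Y_0 : rngB py6Yf (nat_lit 6) (nat_lit 0) (nat_lit 1) = 0 := by decide +kernel
theorem pO6_0 : rngB pO6f (nat_lit 6) (nat_lit 0) (nat_lit 1) = 0 := by decide +kernel
theorem pF6_0 : rng pF6f (nat_lit 0) (nat_lit 2) = 0 := by decide +kernel
theorem py5Y_0 : rngB py5Yf (nat_lit 7) (nat_lit 0) (nat_lit 1) = 0 := by decide +kernel
theorem pO5_0 : rngB pO5f (nat_lit 7) (nat_lit 0) (nat_lit 1) = 0 := by decide +kernel
theorem pF5_0 : rng pF5f (nat_lit 0) (nat_lit 2) = 0 := by decide +kernel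
theorem py4Y_0 : rngB py4Yf (nat_lit 8) (nat_lit 0) (nat_lit 1) = 0 := by decide +kernel
theorem pO4_0 : rngB pO4f (nat_lit 8) (nat_lit 0) (nat_lit 1) = 0 := by decide +kernel
theorem pF4_0 : rng pF4f (nat_lit 0) (nat_lit 2) = 0 := by decide +kernel
theorem py3Y_0 : rngB py3Yf (nat_lit 9) (nat_lit 0) (nat_lit 1) = 0 := by decide +kernel
theorem pO3_0 : rngB pO3f (nat_lit 9) (nat_lit 0) (nat_lit 1) = 0 := by decide +kernel
theorem pF3_0 : rng pF3f (nat_lit 0) (nat_lit 2) = 0 := by decide +kernel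
theorem py2Y_0 : rngB py2Yf (nat_lit 10) (nat_lit 0) (nat_lit 1) = 0 := by decide +kernel
theorem pO2_0 : rngB pO2f (nat_lit 10) (nat_lit 0) (nat_lit 1) = 0 := by decide +kernel
theorem pF2_0 : rng pF2f (nat_lit 0) (nat_lit 2) = 0 := by decide +kernel
theorem py1Y_0 : rngB py1Yf (nat_lit 11) (nat_lit 0) (nat_lit 1) = 0 := by decide +kernel
theorem pO1_0 : rngB pO1f (nat_lit 11) (nat_lit 0) (nat_lit 1) = 0 := by decide +kernel
theorem pF1_0 : rng pF1f (nat_lit 0) (nat_lit 2) = 0 := by decide +kernel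
theorem py0Y_0 : rngB py0Yf (nat_lit 12) (nat_lit 0) (nat_lit 1) = 0 := by decide +kernel
theorem pO0_0 : rngB pO0f (nat_lit 12) (nat_lit 0) (nat_lit 1) = 0 := by decide +kernel
theorem pF0_0 : rng pF0f (nat_lit 0) (nat_lit 2) = 0 := by decide +kernel
theorem bW0_0 : rng bW0f (nat_lit 0) (nat_lit 2) = 0 := by decide +kernel
theorem bW1_0 : rng bW1f (nat_lit 0) (nat_lit 2) = 0 := by decide +kernel
theorem bW2_0 : rng bW2f (nat_lit 0) (nat_lit 2) = 0 := by decide +kernel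
theorem bW3_0 : rng bW3f (nat_lit 0) (nat_lit 2) = 0 := by decide +kernel
theorem bW4_0 : rng bW4f (nat_lit 0) (nat_lit 2) = 0 := by decide +kernel
theorem bW5_0 : rng bW5f (nat_lit 0) (nat_lit 2) = 0 := by decide +kernel
theorem bS6_0 : rng bS6f (nat_lit 0) (nat_lit 15) = 0 := by decide +kernel
theorem bS6_1 : rng bS6f (nat_lit 15) (nat_lit 15) = 0 := by decide +kernel
theorem bS6_2 : rng bS6f (nat_lit 30) (nat_lit 15) = 0 := by decide +kernel
theorem bS6_3 : rng bS6f (nat_lit 45) (nat_lit 15) = 0 := by decide +kernel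
theorem bT0_6 : bT6 0 = ppone := by decide +kernel
theorem bS5_0 : rng bS5f (nat_lit 0) (nat_lit 10) = 0 := by decide +kernel
theorem bS5_1 : rng bS5f (nat_lit 10) (nat_lit 10) = 0 := by decide +kernel
theorem bS5_2 : rng bS5f (nat_lit 20) (nat_lit 10) = 0 := by decide +kernel
theorem bS5_3 : rng bS5f (nat_lit 30) (nat_lit 10) = 0 := by decide +kernel
theorem bS5_4 : rng bS5f (nat_lit 40) (nat_lit 2) = 0 := by decide +kernel
theorem bT0_5 : bT5 0 = ppone := by decide +kernel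
theorem bS4_0 : rng bS4f (nat_lit 0) (nat_lit 7) = 0 := by decide +kernel
theorem bS4_1 : rng bS4f (nat_lit 7) (nat_lit 1) = 0 := by decide +kernel
theorem bT0_4 : bT4 0 = ppone := by decide +kernel
theorem bS3_0 : rng bS3f (nat_lit 0) (nat_lit 6) = 0 := by decide +kernel
theorem bS3_1 : rng bS3f (nat_lit 6) (nat_lit 3) = 0 := by decide +kernel
theorem bT0_3 : bT3 0 = ppone := by decide +kernel
theorem bS2_0 : rng bS2f (nat_lit 0) (nat_lit 5) = 0 := by decide +kernel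
theorem bS2_1 : rng bS2f (nat_lit 5) (nat_lit 5) = 0 := by decide +kernel
theorem bT0_2 : bT2 0 = ppone := by decide +kernel
theorem bS1_0 : rng bS1f (nat_lit 0) (nat_lit 4) = 0 := by decide +kernel
theorem bS1_1 : rng bS1f (nat_lit 4) (nat_lit 4) = 0 := by decide +kernel
theorem bS1_2 : rng bS1f (nat_lit 8) (nat_lit 3) = 0 := by decide +kernel
theorem bT0_1 : bT1 0 = ppone := by decide +kernel
theorem bS0_0 : rng bS0f (nat_lit 0) (nat_lit 3) = 0 := by decide +kernel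
theorem bS0_1 : rng bS0f (nat_lit 3) (nat_lit 3) = 0 := by decide +kernel
theorem bS0_2 : rng bS0f (nat_lit 6) (nat_lit 3) = 0 := by decide +kernel
theorem bS0_3 : rng bS0f (nat_lit 9) (nat_lit 3) = 0 := by decide +kernel
theorem bT0_0 : bT0 0 = ppone := by decide +kernel
theorem bP_0 : rng bPf (nat_lit 0) (nat_lit 2) = 0 := by decide +kernel
theorem aW0_0 : rng aW0f (nat_lit 0) (nat_lit 2) = 0 := by decide +kernel
theorem aW1_0 : rng aW1f (nat_lit 0) (nat_lit 4) = 0 := by decide +kernel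
theorem aW2_0 : rng aW2f (nat_lit 0) (nat_lit 3) = 0 := by decide +kernel
theorem ay3Y_0 : rngB ay3Yf (nat_lit 24) (nat_lit 0) (nat_lit 1) = 0 := by decide +kernel
theorem aO3_0 : rngB aO3f (nat_lit 24) (nat_lit 0) (nat_lit 1) = 0 := by decide +kernel
theorem ay2Y_0 : rngB ay2Yf (nat_lit 96) (nat_lit 0) (nat_lit 2) = 0 := by decide +kernel
theorem aO2_0 : rngB aO2f (nat_lit 96) (nat_lit 0) (nat_lit 2) = 0 := by decide +kernel
theorem aF2_0 : rng aF2f (nat_lit 0) (nat_lit 3) = 0 := by decide +kernel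
theorem ay1Y_0 : rngB ay1Yf (nat_lit 225) (nat_lit 0) (nat_lit 4) = 0 := by decide +kernel
theorem aO1_0 : rngB aO1f (nat_lit 225) (nat_lit 0) (nat_lit 4) = 0 := by decide +kernel
theorem aF1_0 : rng aF1f (nat_lit 0) (nat_lit 4) = 0 := by decide +kernel
theorem ay0Y_0 : rngB ay0Yf (nat_lit 462) (nat_lit 0) (nat_lit 8) = 0 := by decide +kernel
theorem aO0_0 : rngB aO0f (nat_lit 462) (nat_lit 0) (nat_lit 8) = 0 := by decide +kernel
theorem aF0_0 : rng aF0f (nat_lit 0) (nat_lit 2) = 0 := by decide +kernel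
theorem dD0 : dD 0 = c133.one := by decide +kernel
theorem dT_0 : rng dTf (nat_lit 0) (nat_lit 7) = 0 := by decide +kernel
theorem dT_1 : rng dTf (nat_lit 7) (nat_lit 3) = 0 := by decide +kernel
theorem l2W0_0 : rng l2W0f (nat_lit 0) (nat_lit 3) = 0 := by decide +kernel
theorem l2W1_0 : rng l2W1f (nat_lit 0) (nat_lit 2) = 0 := by decide +kernel
theorem l2y2Y_0 : rngB l2y2Yf (nat_lit 4) (nat_lit 0) (nat_lit 1) = 0 := by decide +kernel
theorem l2O2_0 : rngB l2O2f (nat_lit 4) (nat_lit 0) (nat_lit 1) = 0 := by decide +kernel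
theorem l2y1Y_0 : rngB l2y1Yf (nat_lit 24) (nat_lit 0) (nat_lit 1) = 0 := by decide +kernel
theorem l2O1_0 : rngB l2O1f (nat_lit 24) (nat_lit 0) (nat_lit 1) = 0 := by decide +kernel
theorem l2F1_0 : rng l2F1f (nat_lit 0) (nat_lit 2) = 0 := by decide +kernel
theorem l2y0Y_0 : rngB l2y0Yf (nat_lit 240) (nat_lit 0) (nat_lit 4) = 0 := by decide +kernel
theorem l2O0_0 : rngB l2O0f (nat_lit 240) (nat_lit 0) (nat_lit 4) = 0 := by decide +kernel
theorem l2F0_0 : rng l2F0f (nat_lit 0) (nat_lit 3) = 0 := by decide +kernel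
theorem l2E_0 : rng l2Ef (nat_lit 0) (nat_lit 2) = 0 := by decide +kernel
theorem l3W0_0 : rng l3W0f (nat_lit 0) (nat_lit 3) = 0 := by decide +kernel
theorem l3W1_0 : rng l3W1f (nat_lit 0) (nat_lit 2) = 0 := by decide +kernel
theorem l3y2Y_0 : rngB l3y2Yf (nat_lit 4) (nat_lit 0) (nat_lit 1) = 0 := by decide +kernel
theorem l3O2_0 : rngB l3O2f (nat_lit 4) (nat_lit 0) (nat_lit 1) = 0 := by decide +kernel
theorem l3y1Y_0 : rngB l3y1Yf (nat_lit 36) (nat_lit 0) (nat_lit 1) = 0 := by decide +kernel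
theorem l3O1_0 : rngB l3O1f (nat_lit 36) (nat_lit 0) (nat_lit 1) = 0 := by decide +kernel
theorem l3F1_0 : rng l3F1f (nat_lit 0) (nat_lit 2) = 0 := by decide +kernel
theorem l3y0Y_0 : rngB l3y0Yf (nat_lit 54) (nat_lit 0) (nat_lit 1) = 0 := by decide +kernel
theorem l3O0_0 : rngB l3O0f (nat_lit 54) (nat_lit 0) (nat_lit 1) = 0 := by decide +kernel
theorem l3F0_0 : rng l3F0f (nat_lit 0) (nat_lit 3) = 0 := by decide +kernel
theorem l3E_0 : rng l3Ef (nat_lit 0) (nat_lit 3) = 0 := by decide +kernel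

end Cfsg.Agent.H5.Hn
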