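import Cfsg.Agent.H5.HnxD0

set_option autoImplicit false
set_option maxRecDepth 100000
set_option Elab.async false

namespace Cfsg.Agent.H5.Hn

theorem l4W0_0 : rng l4W0f (nat_lit 0) (nat_lit 4) = 0 := by decide +kernel
theorem l4W1_0 : rng l4W1f (nat_lit 0) (nat_lit 2) = 0 := by decide +kernel
theorem l4y2Y_0 : rngB l4y2Yf (nat_lit 2) (nat_lit 0) (nat_lit 1) = 0 := by decide +kernel
theorem l4O2_0 : rngB l4O2f (nat_lit 2) (nat_lit 0) (nat_lit 1) = 0 := by decide +kernel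
theorem l4y1Y_0 : rngB l4y1Yf (nat_lit 32) (nat_lit 0) (nat_lit 1) = 0 := by decide +kernel
theorem l4O1_0 : rngB l4O1f (nat_lit 32) (nat_lit 0) (nat_lit 1) = 0 := by decide +kernel
theorem l4F1_0 : rng l4F1f (nat_lit 0) (nat_lit 2) = 0 := by decide +kernel
theorem l4y0Y_0 : rngB l4y0Yf (nat_lit 225) (nat_lit 0) (nat_lit 4) = 0 := by decide +kernel
theorem l4O0_0 : rngB l4O0f (nat_lit 225) (nat_lit 0) (nat_lit 4) = 0 := by decide +kernel
theorem l4F0_0 : rng l4F0f (nat_lit 0) (nat_lit 4) = 0 := by decide +kernel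
theorem l4E_0 : rng l4Ef (nat_lit 0) (nat_lit 2) = 0 := by decide +kernel
theorem l5W0_0 : rng l5W0f (nat_lit 0) (nat_lit 2) = 0 := by decide +kernel
theorem l5y1Y_0 : rngB l5y1Yf (nat_lit 4) (nat_lit 0) (nat_lit 1) = 0 := by decide +kernel
theorem l5O1_0 : rngB l5O1f (nat_lit 4) (nat_lit 0) (nat_lit 1) = 0 := by decide +kernel
theorem l5y0Y_0 : rngB l5y0Yf (nat_lit 192) (nat_lit 0) (nat_lit 3) = 0 := by decide +kernel
theorem l5O0_0 : rngB l5O0f (nat_lit 192) (nat_lit 0) (nat_lit 3) = 0 := by decide +kernel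
theorem l5F0_0 : rng l5F0f (nat_lit 0) (nat_lit 2) = 0 := by decide +kernel
theorem l5E_0 : rng l5Ef (nat_lit 0) (nat_lit 2) = 0 := by decide +kernel
theorem l6W0_0 : rng l6W0f (nat_lit 0) (nat_lit 2) = 0 := by decide +kernel
theorem l6W1_0 : rng l6W1f (nat_lit 0) (nat_lit 2) = 0 := by decide +kernel
theorem l6y2Y_0 : rngB l6y2Yf (nat_lit 3) (nat_lit 0) (nat_lit 1) = 0 := by decide +kernel
theorem l6O2_0 : rngB l6O2f (nat_lit 3) (nat_lit 0) (nat_lit 1) = 0 := by decide +kernel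
theorem l6y1Y_0 : rngB l6y1Yf (nat_lit 24) (nat_lit 0) (nat_lit 1) = 0 := by decide +kernel
theorem l6O1_0 : rngB l6O1f (nat_lit 24) (nat_lit 0) (nat_lit 1) = 0 := by decide +kernel
theorem l6F1_0 : rng l6F1f (nat_lit 0) (nat_lit 2) = 0 := by decide +kernel
theorem l6y0Y_0 : rngB l6y0Yf (nat_lit 48) (nat_lit 0) (nat_lit 1) = 0 := by decide +kernel
theorem l6O0_0 : rngB l6O0f (nat_lit 48) (nat_lit 0) (nat_lit 1) = 0 := by decide +kernel
theorem l6F0_0 : rng l6F0f (nat_lit 0) (nat_lit 2) = 0 := by decide +kernel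
theorem l6E_0 : rng l6Ef (nat_lit 0) (nat_lit 3) = 0 := by decide +kernel
theorem l7W0_0 : rng l7W0f (nat_lit 0) (nat_lit 2) = 0 := by decide +kernel
theorem l7y1Y_0 : rngB l7y1Yf (nat_lit 10) (nat_lit 0) (nat_lit 1) = 0 := by decide +kernel
theorem l7O1_0 : rngB l7O1f (nat_lit 10) (nat_lit 0) (nat_lit 1) = 0 := by decide +kernel
theorem l7y0Y_0 : rngB l7y0Yf (nat_lit 66) (nat_lit 0) (nat_lit 2) = 0 := by decide +kernel
theorem l7O0_0 : rngB l7O0f (nat_lit 66) (nat_lit 0) (nat_lit 2) = 0 := by decide +kernel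
theorem l7F0_0 : rng l7F0f (nat_lit 0) (nat_lit 2) = 0 := by decide +kernel
theorem l7E_0 : rng l7Ef (nat_lit 0) (nat_lit 2) = 0 := by decide +kernel
theorem l8W0_0 : rng l8W0f (nat_lit 0) (nat_lit 3) = 0 := by decide +kernel
theorem l8W1_0 : rng l8W1f (nat_lit 0) (nat_lit 2) = 0 := by decide +kernel
theorem l8y2Y_0 : rngB l8y2Yf (nat_lit 2) (nat_lit 0) (nat_lit 1) = 0 := by decide +kernel
theorem l8O2_0 : rngB l8O2f (nat_lit 2) (nat_lit 0) (nat_lit 1) = 0 := by decide +kernel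
theorem l8y1Y_0 : rngB l8y1Yf (nat_lit 6) (nat_lit 0) (nat_lit 1) = 0 := by decide +kernel
theorem l8O1_0 : rngB l8O1f (nat_lit 6) (nat_lit 0) (nat_lit 1) = 0 := by decide +kernel
theorem l8F1_0 : rng l8F1f (nat_lit 0) (nat_lit 2) = 0 := by decide +kernel
theorem l8y0Y_0 : rngB l8y0Yf (nat_lit 120) (nat_lit 0) (nat_lit 2) = 0 := by decide +kernel
theorem l8O0_0 : rngB l8O0f (nat_lit 120) (nat_lit 0) (nat_lit 2) = 0 := by decide +kernel
theorem l8F0_0 : rng l8F0f (nat_lit 0) (nat_lit 3) = 0 := by decide +kernel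
theorem l8E_0 : rng l8Ef (nat_lit 0) (nat_lit 2) = 0 := by decide +kernel
theorem l9W0_0 : rng l9W0f (nat_lit 0) (nat_lit 4) = 0 := by decide +kernel
theorem l9W0_1 : rng l9W0f (nat_lit 4) (nat_lit 1) = 0 := by decide +kernel
theorem l9W1_0 : rng l9W1f (nat_lit 0) (nat_lit 2) = 0 := by decide +kernel
theorem l9y2Y_0 : rngB l9y2Yf (nat_lit 4) (nat_lit 0) (nat_lit 1) = 0 := by decide +kernel
theorem l9O2_0 : rngB l9O2f (nat_lit 4) (nat_lit 0) (nat_lit 1) = 0 := by decide +kernel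
theorem l9y1Y_0 : rngB l9y1Yf (nat_lit 4) (nat_lit 0) (nat_lit 1) = 0 := by decide +kernel
theorem l9O1_0 : rngB l9O1f (nat_lit 4) (nat_lit 0) (nat_lit 1) = 0 := by decide +kernel
theorem l9F1_0 : rng l9F1f (nat_lit 0) (nat_lit 2) = 0 := by decide +kernel
theorem l9y0Y_0 : rngB l9y0Yf (nat_lit 90) (nat_lit 0) (nat_lit 2) = 0 := by decide +kernel
theorem l9O0_0 : rngB l9O0f (nat_lit 90) (nat_lit 0) (nat_lit 2) = 0 := by decide +kernel
theorem l9F0_0 : rng l9F0f (nat_lit 0) (nat_lit 5) = 0 := by decide +kernel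
theorem l9E_0 : rng l9Ef (nat_lit 0) (nat_lit 2) = 0 := by decide +kernel
theorem l10W0_0 : rng l10W0f (nat_lit 0) (nat_lit 2) = 0 := by decide +kernel
theorem l10W1_0 : rng l10W1f (nat_lit 0) (nat_lit 3) = 0 := by decide +kernel
theorem l10y2Y_0 : rngB l10y2Yf (nat_lit 8) (nat_lit 0) (nat_lit 1) = 0 := by decide +kernel
theorem l10O2_0 : rngB l10O2f (nat_lit 8) (nat_lit 0) (nat_lit 1) = 0 := by decide +kernel
theorem l10y1Y_0 : rngB l10y1Yf (nat_lit 180) (nat_lit 0) (nat_lit 3) = 0 := by decide +kernel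
theorem l10O1_0 : rngB l10O1f (nat_lit 180) (nat_lit 0) (nat_lit 3) = 0 := by decide +kernel
theorem l10F1_0 : rng l10F1f (nat_lit 0) (nat_lit 3) = 0 := by decide +kernel
theorem l10y0Y_0 : rngB l10y0Yf (nat_lit 66) (nat_lit 0) (nat_lit 2) = 0 := by decide +kernel
theorem l10O0_0 : rngB l10O0f (nat_lit 66) (nat_lit 0) (nat_lit 2) = 0 := by decide +kernel
theorem l10F0_0 : rng l10F0f (nat_lit 0) (nat_lit 2) = 0 := by decide +kernel
theorem l10E_0 : rng l10Ef (nat_lit 0) (nat_lit 2) = 0 := by decide +kernel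
theorem l11W0_0 : rng l11W0f (nat_lit 0) (nat_lit 2) = 0 := by decide +kernel
theorem l11W1_0 : rng l11W1f (nat_lit 0) (nat_lit 2) = 0 := by decide +kernel
theorem l11y2Y_0 : rngB l11y2Yf (nat_lit 4) (nat_lit 0) (nat_lit 1) = 0 := by decide +kernel
theorem l11O2_0 : rngB l11O2f (nat_lit 4) (nat_lit 0) (nat_lit 1) = 0 := by decide +kernel
theorem l11y1Y_0 : rngB l11y1Yf (nat_lit 60) (nat_lit 0) (nat_lit 1) = 0 := by decide +kernel
theorem l11O1_0 : rngB l11O1f (nat_lit 60) (nat_lit 0) (nat_lit 1) = 0 := by decide +kernel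
theorem l11F1_0 : rng l11F1f (nat_lit 0) (nat_lit 2) = 0 := by decide +kernel
theorem l11y0Y_0 : rngB l11y0Yf (nat_lit 396) (nat_lit 0) (nat_lit 7) = 0 := by decide +kernel
theorem l11O0_0 : rngB l11O0f (nat_lit 396) (nat_lit 0) (nat_lit 7) = 0 := by decide +kernel
theorem l11F0_0 : rng l11F0f (nat_lit 0) (nat_lit 2) = 0 := by decide +kernel
theorem l11E_0 : rng l11Ef (nat_lit 0) (nat_lit 2) = 0 := by decide +kernel
theorem dK_0 : rng dKf (nat_lit 0) (nat_lit 2) = 0 := by decide +kernel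
theorem dL0_0 : rng dL0f (nat_lit 0) (nat_lit 2) = 0 := by decide +kernel
theorem dM0_0 : rng dM0f (nat_lit 0) (nat_lit 1) = 0 := by decide +kernel
theorem dR0_0 : rng dR0f (nat_lit 0) (nat_lit 1) = 0 := by decide +kernel
theorem dL1_0 : rng dL1f (nat_lit 0) (nat_lit 2) = 0 := by decide +kernel
theorem dO1_0 : rngB dO1f (nat_lit 462) (nat_lit 0) (nat_lit 8) = 0 := by decide +kernel
theorem dM1_0 : rng dM1f (nat_lit 0) (nat_lit 4) = 0 := by decide +kernel
theorem dR1_0 : rng dR1f (nat_lit 0) (nat_lit 2) = 0 := by decide +kernel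
theorem dR1_1 : rng dR1f (nat_lit 2) (nat_lit 2) = 0 := by decide +kernel
theorem dL2_0 : rng dL2f (nat_lit 0) (nat_lit 2) = 0 := by decide +kernel
theorem dO2_0 : rngB dO2f (nat_lit 462) (nat_lit 0) (nat_lit 8) = 0 := by decide +kernel
theorem dM2_0 : rng dM2f (nat_lit 0) (nat_lit 5) = 0 := by decide +kernel
theorem dR2_0 : rng dR2f (nat_lit 0) (nat_lit 2) = 0 := by decide +kernel
theorem dR2_1 : rng dR2f (nat_lit 2) (nat_lit 2) = 0 := by decide +kernel
theorem dR2_2 : rng dR2f (nat_lit 4) (nat_lit 1) = 0 := by decide +kernel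
theorem dL3_0 : rng dL3f (nat_lit 0) (nat_lit 3) = 0 := by decide +kernel
theorem dO3_0 : rngB dO3f (nat_lit 462) (nat_lit 0) (nat_lit 8) = 0 := by decide +kernel
theorem dM3_0 : rng dM3f (nat_lit 0) (nat_lit 5) = 0 := by decide +kernel
theorem dR3_0 : rng dR3f (nat_lit 0) (nat_lit 2) = 0 := by decide +kernel
theorem dR3_1 : rng dR3f (nat_lit 2) (nat_lit 2) = 0 := by decide +kernel
theorem dR3_2 : rng dR3f (nat_lit 4) (nat_lit 1) = 0 := by decide +kernel
theorem dL4_0 : rng dL4f (nat_lit 0) (nat_lit 2) = 0 := by decide +kernel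
theorem dO4_0 : rngB dO4f (nat_lit 462) (nat_lit 0) (nat_lit 8) = 0 := by decide +kernel
theorem dM4_0 : rng dM4f (nat_lit 0) (nat_lit 5) = 0 := by decide +kernel
theorem dR4_0 : rng dR4f (nat_lit 0) (nat_lit 2) = 0 := by decide +kernel
theorem dR4_1 : rng dR4f (nat_lit 2) (nat_lit 2) = 0 := by decide +kernel
theorem dR4_2 : rng dR4f (nat_lit 4) (nat_lit 1) = 0 := by decide +kernel
theorem dL5_0 : rng dL5f (nat_lit 0) (nat_lit 2) = 0 := by decide +kernel
theorem dO5_0 : rngB dO5f (nat_lit 462) (nat_lit 0) (nat_lit 8) = 0 := by decide +kernel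
theorem dM5_0 : rng dM5f (nat_lit 0) (nat_lit 7) = 0 := by decide +kernel
theorem dM5_1 : rng dM5f (nat_lit 7) (nat_lit 4) = 0 := by decide +kernel
theorem dR5_0 : rng dR5f (nat_lit 0) (nat_lit 2) = 0 := by decide +kernel
theorem dR5_1 : rng dR5f (nat_lit 2) (nat_lit 2) = 0 := by decide +kernel
theorem dR5_2 : rng dR5f (nat_lit 4) (nat_lit 2) = 0 := by decide +kernel
theorem dR5_3 : rng dR5f (nat_lit 6) (nat_lit 2) = 0 := by decide +kernel
theorem dR5_4 : rng dR5f (nat_lit 8) (nat_lit 2) = 0 := by decide +kernel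
theorem dR5_5 : rng dR5f (nat_lit 10) (nat_lit 1) = 0 := by decide +kernel

end Cfsg.Agent.H5.Hn
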