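import Cfsg.Agent.H5.HnxD0

set_option autoImplicit false
set_option maxRecDepth 100000
set_option Elab.async false

namespace Cfsg.Agent.H5.Hn

theorem dL6_0 : rng dL6f (nat_lit 0) (nat_lit 3) = 0 := by decide +kernel
theorem dO6_0 : rngB dO6f (nat_lit 462) (nat_lit 0) (nat_lit 8) = 0 := by decide +kernel
theorem dM6_0 : rng dM6f (nat_lit 0) (nat_lit 6) = 0 := by decide +kernel
theorem dR6_0 : rng dR6f (nat_lit 0) (nat_lit 2) = 0 := by decide +kernel
theorem dR6_1 : rng dR6f (nat_lit 2) (nat_lit 2) = 0 := by decide +kernel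
theorem dR6_2 : rng dR6f (nat_lit 4) (nat_lit 2) = 0 := by decide +kernel
theorem dL7_0 : rng dL7f (nat_lit 0) (nat_lit 2) = 0 := by decide +kernel
theorem dO7_0 : rngB dO7f (nat_lit 462) (nat_lit 0) (nat_lit 8) = 0 := by decide +kernel
theorem dM7_0 : rng dM7f (nat_lit 0) (nat_lit 6) = 0 := by decide +kernel
theorem dR7_0 : rng dR7f (nat_lit 0) (nat_lit 2) = 0 := by decide +kernel
theorem dR7_1 : rng dR7f (nat_lit 2) (nat_lit 2) = 0 := by decide +kernel
theorem dR7_2 : rng dR7f (nat_lit 4) (nat_lit 2) = 0 := by decide +kernel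
theorem dL8_0 : rng dL8f (nat_lit 0) (nat_lit 2) = 0 := by decide +kernel
theorem dO8_0 : rngB dO8f (nat_lit 462) (nat_lit 0) (nat_lit 8) = 0 := by decide +kernel
theorem dM8_0 : rng dM8f (nat_lit 0) (nat_lit 7) = 0 := by decide +kernel
theorem dM8_1 : rng dM8f (nat_lit 7) (nat_lit 3) = 0 := by decide +kernel
theorem dR8_0 : rng dR8f (nat_lit 0) (nat_lit 2) = 0 := by decide +kernel
theorem dR8_1 : rng dR8f (nat_lit 2) (nat_lit 2) = 0 := by decide +kernel
theorem dR8_2 : rng dR8f (nat_lit 4) (nat_lit 2) = 0 := by decide +kernel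
theorem dR8_3 : rng dR8f (nat_lit 6) (nat_lit 2) = 0 := by decide +kernel
theorem dR8_4 : rng dR8f (nat_lit 8) (nat_lit 2) = 0 := by decide +kernel
theorem dL9_0 : rng dL9f (nat_lit 0) (nat_lit 2) = 0 := by decide +kernel
theorem dO9_0 : rngB dO9f (nat_lit 462) (nat_lit 0) (nat_lit 8) = 0 := by decide +kernel
theorem dM9_0 : rng dM9f (nat_lit 0) (nat_lit 7) = 0 := by decide +kernel
theorem dM9_1 : rng dM9f (nat_lit 7) (nat_lit 3) = 0 := by decide +kernel
theorem dR9_0 : rng dR9f (nat_lit 0) (nat_lit 2) = 0 := by decide +kernel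
theorem dR9_1 : rng dR9f (nat_lit 2) (nat_lit 2) = 0 := by decide +kernel
theorem dR9_2 : rng dR9f (nat_lit 4) (nat_lit 2) = 0 := by decide +kernel
theorem dR9_3 : rng dR9f (nat_lit 6) (nat_lit 2) = 0 := by decide +kernel
theorem dR9_4 : rng dR9f (nat_lit 8) (nat_lit 2) = 0 := by decide +kernel
theorem dL10_0 : rng dL10f (nat_lit 0) (nat_lit 2) = 0 := by decide +kernel
theorem dO10_0 : rngB dO10f (nat_lit 462) (nat_lit 0) (nat_lit 8) = 0 := by decide +kernel
theorem dM10_0 : rng dM10f (nat_lit 0) (nat_lit 2) = 0 := by decide +kernel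
theorem dR10_0 : rng dR10f (nat_lit 0) (nat_lit 2) = 0 := by decide +kernel
theorem dL11_0 : rng dL11f (nat_lit 0) (nat_lit 2) = 0 := by decide +kernel
theorem dO11_0 : rngB dO11f (nat_lit 462) (nat_lit 0) (nat_lit 8) = 0 := by decide +kernel
theorem dM11_0 : rng dM11f (nat_lit 0) (nat_lit 2) = 0 := by decide +kernel
theorem dR11_0 : rng dR11f (nat_lit 0) (nat_lit 2) = 0 := by decide +kernel
theorem dX7 : chkD c133.mul dD hE [[nat_lit 7, nat_lit 37912691, nat_lit 7, nat_lit 188945968, nat_lit 1, nat_lit 1145843713]] 0 = 0 := by decide +kernel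
theorem dX8 : chkD c133.mul dD hE [[nat_lit 8, nat_lit 1813926753, nat_lit 8, nat_lit 1520403113, nat_lit 7, nat_lit 1019564102]] 0 = 0 := by decide +kernel
theorem dX9 : chkD c133.mul dD hE [[nat_lit 9, nat_lit 574502059, nat_lit 9, nat_lit 1561735683, nat_lit 7, nat_lit 1312249769]] 0 = 0 := by decide +kernel
theorem dX10 : chkD c133.mul dD hE [[nat_lit 10, nat_lit 1155999241, nat_lit 10, nat_lit 1722226295, nat_lit 7, nat_lit 793666449]] 0 = 0 := by decide +kernel
theorem dX11 : chkD c133.mul dD hE [[nat_lit 11, nat_lit 1814263890, nat_lit 11, nat_lit 955929666, nat_lit 7, nat_lit 542574600]] 0 = 0 := by decide +kernel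
theorem dX2 : chkD c133.mul dD hE [[nat_lit 2, nat_lit 34554167, nat_lit 2, nat_lit 988157216, nat_lit 7, nat_lit 1586129019]] 0 = 0 := by decide +kernel
theorem dX3 : chkD c133.mul dD hE [[nat_lit 3, nat_lit 282622038, nat_lit 3, nat_lit 713847314, nat_lit 7, nat_lit 1620006547]] 0 = 0 := by decide +kernel
theorem dX4 : chkD c133.mul dD hE [[nat_lit 4, nat_lit 1827284544, nat_lit 4, nat_lit 1656821637, nat_lit 7, nat_lit 1329627171]] 0 = 0 := by decide +kernel
theorem dX5 : chkD c133.mul dD hE [[nat_lit 5, nat_lit 1831011706, nat_lit 5, nat_lit 1829061155, nat_lit 7, nat_lit 68626052]] 0 = 0 := by decide +kernel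
theorem dX6 : chkD c133.mul dD hE [[nat_lit 6, nat_lit 1147672935, nat_lit 6, nat_lit 741950609, nat_lit 2, nat_lit 1044347027]] 0 = 0 := by decide +kernel
theorem dI_0 : rng dIf (nat_lit 0) (nat_lit 3) = 0 := by decide +kernel
theorem dP_0 : rng dPf (nat_lit 0) (nat_lit 1) = 0 := by decide +kernel
theorem dP_1 : rng dPf (nat_lit 1) (nat_lit 1) = 0 := by decide +kernel

end Cfsg.Agent.H5.Hn
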