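import Cfsg.Agent.H5.HnxD0

set_option autoImplicit false
set_option maxRecDepth 100000
set_option Elab.async false

namespace Cfsg.Agent.H5.Hn

theorem dP_2 : rng dPf (nat_lit 2) (nat_lit 1) = 0 := by decide +kernel
theorem s2W0_0 : rng s2W0f (nat_lit 0) (nat_lit 4) = 0 := by decide +kernel
theorem s2y1Y_0 : rngB s2y1Yf (nat_lit 256) (nat_lit 0) (nat_lit 4) = 0 := by decide +kernel
theorem s2O1_0 : rngB s2O1f (nat_lit 256) (nat_lit 0) (nat_lit 4) = 0 := by decide +kernel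
theorem s2y0Y_0 : rngB s2y0Yf (nat_lit 64) (nat_lit 0) (nat_lit 1) = 0 := by decide +kernel
theorem s2O0_0 : rngB s2O0f (nat_lit 64) (nat_lit 0) (nat_lit 1) = 0 := by decide +kernel
theorem s2F0_0 : rng s2F0f (nat_lit 0) (nat_lit 4) = 0 := by decide +kernel
theorem s2C1_0_0 : rngB s2C1_0f (nat_lit 256) (nat_lit 0) (nat_lit 4) = 0 := by decide +kernel
theorem s2C1_1_0 : rngB s2C1_1f (nat_lit 256) (nat_lit 0) (nat_lit 4) = 0 := by decide +kernel
theorem s2C1_2_0 : rngB s2C1_2f (nat_lit 256) (nat_lit 0) (nat_lit 4) = 0 := by decide +kernel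
theorem s2C1_3_0 : rngB s2C1_3f (nat_lit 256) (nat_lit 0) (nat_lit 4) = 0 := by decide +kernel
theorem s2C0_0_0 : rngB s2C0_0f (nat_lit 64) (nat_lit 0) (nat_lit 1) = 0 := by decide +kernel
theorem s2C0_1_0 : rngB s2C0_1f (nat_lit 64) (nat_lit 0) (nat_lit 1) = 0 := by decide +kernel
theorem s2C0_2_0 : rngB s2C0_2f (nat_lit 64) (nat_lit 0) (nat_lit 1) = 0 := by decide +kernel
theorem s2C0_3_0 : rngB s2C0_3f (nat_lit 64) (nat_lit 0) (nat_lit 1) = 0 := by decide +kernel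
theorem s2E_0 : rng s2Ef (nat_lit 0) (nat_lit 4) = 0 := by decide +kernel
theorem s3W0_0 : rng s3W0f (nat_lit 0) (nat_lit 2) = 0 := by decide +kernel
theorem s3y1Y_0 : rngB s3y1Yf (nat_lit 9) (nat_lit 0) (nat_lit 1) = 0 := by decide +kernel
theorem s3O1_0 : rngB s3O1f (nat_lit 9) (nat_lit 0) (nat_lit 1) = 0 := by decide +kernel
theorem s3y0Y_0 : rngB s3y0Yf (nat_lit 81) (nat_lit 0) (nat_lit 2) = 0 := by decide +kernel
theorem s3O0_0 : rngB s3O0f (nat_lit 81) (nat_lit 0) (nat_lit 2) = 0 := by decide +kernel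
theorem s3F0_0 : rng s3F0f (nat_lit 0) (nat_lit 2) = 0 := by decide +kernel
theorem s3C1_0_0 : rngB s3C1_0f (nat_lit 9) (nat_lit 0) (nat_lit 1) = 0 := by decide +kernel
theorem s3C1_1_0 : rngB s3C1_1f (nat_lit 9) (nat_lit 0) (nat_lit 1) = 0 := by decide +kernel
theorem s3C0_0_0 : rngB s3C0_0f (nat_lit 81) (nat_lit 0) (nat_lit 2) = 0 := by decide +kernel
theorem s3C0_1_0 : rngB s3C0_1f (nat_lit 81) (nat_lit 0) (nat_lit 2) = 0 := by decide +kernel
theorem s3C0_2_0 : rngB s3C0_2f (nat_lit 81) (nat_lit 0) (nat_lit 2) = 0 := by decide +kernel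
theorem s3E_0 : rng s3Ef (nat_lit 0) (nat_lit 3) = 0 := by decide +kernel
theorem s5W0_0 : rng s5W0f (nat_lit 0) (nat_lit 4) = 0 := by decide +kernel
theorem s5W1_0 : rng s5W1f (nat_lit 0) (nat_lit 2) = 0 := by decide +kernel
theorem s5y2Y_0 : rngB s5y2Yf (nat_lit 5) (nat_lit 0) (nat_lit 1) = 0 := by decide +kernel
theorem s5O2_0 : rngB s5O2f (nat_lit 5) (nat_lit 0) (nat_lit 1) = 0 := by decide +kernel
theorem s5y1Y_0 : rngB s5y1Yf (nat_lit 125) (nat_lit 0) (nat_lit 2) = 0 := by decide +kernel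
theorem s5O1_0 : rngB s5O1f (nat_lit 125) (nat_lit 0) (nat_lit 2) = 0 := by decide +kernel
theorem s5F1_0 : rng s5F1f (nat_lit 0) (nat_lit 2) = 0 := by decide +kernel
theorem s5y0Y_0 : rngB s5y0Yf (nat_lit 25) (nat_lit 0) (nat_lit 1) = 0 := by decide +kernel
theorem s5O0_0 : rngB s5O0f (nat_lit 25) (nat_lit 0) (nat_lit 1) = 0 := by decide +kernel
theorem s5F0_0 : rng s5F0f (nat_lit 0) (nat_lit 4) = 0 := by decide +kernel
theorem s5C2_0_0 : rngB s5C2_0f (nat_lit 5) (nat_lit 0) (nat_lit 1) = 0 := by decide +kernel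
theorem s5C2_1_0 : rngB s5C2_1f (nat_lit 5) (nat_lit 0) (nat_lit 1) = 0 := by decide +kernel
theorem s5C1_0_0 : rngB s5C1_0f (nat_lit 125) (nat_lit 0) (nat_lit 2) = 0 := by decide +kernel
theorem s5C1_1_0 : rngB s5C1_1f (nat_lit 125) (nat_lit 0) (nat_lit 2) = 0 := by decide +kernel
theorem s5C1_2_0 : rngB s5C1_2f (nat_lit 125) (nat_lit 0) (nat_lit 2) = 0 := by decide +kernel
theorem s5C1_3_0 : rngB s5C1_3f (nat_lit 125) (nat_lit 0) (nat_lit 2) = 0 := by decide +kernel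
theorem s5C0_0_0 : rngB s5C0_0f (nat_lit 25) (nat_lit 0) (nat_lit 1) = 0 := by decide +kernel
theorem s5C0_1_0 : rngB s5C0_1f (nat_lit 25) (nat_lit 0) (nat_lit 1) = 0 := by decide +kernel
theorem s5E_0 : rng s5Ef (nat_lit 0) (nat_lit 2) = 0 := by decide +kernel
theorem e19y0Y_0 : rngB e19y0Yf (nat_lit 19) (nat_lit 0) (nat_lit 1) = 0 := by decide +kernel
theorem e19O0_0 : rngB e19O0f (nat_lit 19) (nat_lit 0) (nat_lit 1) = 0 := by decide +kernel
theorem e19C0_0_0 : rngB e19C0_0f (nat_lit 19) (nat_lit 0) (nat_lit 1) = 0 := by decide +kernel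
theorem e19E_0 : rng e19Ef (nat_lit 0) (nat_lit 1) = 0 := by decide +kernel

end Cfsg.Agent.H5.Hn
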