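import Cfsg.Agent.H5.HnxC0
import Cfsg.Agent.H5.HnxC1
import Cfsg.Agent.H5.HnxC2
import Cfsg.Agent.H5.HnxC3

set_option autoImplicit false
set_option maxRecDepth 100000

namespace Cfsg.Agent.H5.Hn

open Mdl

set_option linter.unusedSectionVars false
set_option linter.unusedVariables false
attribute [local irreducible] look Tr.get

variable {G : Type*} [Group G] [Finite G] {φ : G →* Matrix (Fin 133) (Fin 133) (ZMod 11)} {inj : Function.Injective φ}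

section
variable {H : Type*} [Group H] [Finite H] {ψ : H →* Matrix (Fin 12) (Fin 12) (ZMod 11)} {inj' : Function.Injective ψ}

theorem ptop0 (h0 : ∀ s < 2, (c12md ψ inj').In ⊤ (pg0 s)) : ∀ s < 2, (c12md ψ inj').In ⊤ (pg0 s) := h0
theorem peg0 (h0 : ∀ s < 2, (c12md ψ inj').In ⊤ (pg0 s)) : (c12md ψ inj').El ((c12md ψ inj').gn pg0 2) pg0 := el_gn (ptop0 h0)
theorem pW0 : ∀ i < 2, (chkW c12.mul c12.one pg0 [[nat_lit 1, nat_lit 0, nat_lit 0, nat_lit 0, nat_lit 1, nat_lit 0],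
  [nat_lit 0, nat_lit 0, nat_lit 1, nat_lit 1, nat_lit 1, nat_lit 0, nat_lit 0, nat_lit 0, nat_lit 1, nat_lit 0, nat_lit 0]] pg1) i = 0 :=
  (rng_step (all0 _) pW0_0)
theorem pin1 (h0 : ∀ s < 2, (c12md ψ inj').In ⊤ (pg0 s)) : ∀ s < 2, (c12md ψ inj').In ((c12md ψ inj').gn pg0 2) (pg1 s) := in_of_chkW (peg0 h0) pW0
theorem ptop1 (h0 : ∀ s < 2, (c12md ψ inj').In ⊤ (pg0 s)) : ∀ s < 2, (c12md ψ inj').In ⊤ (pg1 s) := fun s hs => (pin1 h0 s hs).top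
theorem ple0 (h0 : ∀ s < 2, (c12md ψ inj').In ⊤ (pg0 s)) : ((c12md ψ inj').gn pg1 2) ≤ ((c12md ψ inj').gn pg0 2) := gn_le (pin1 h0)
theorem peg1 (h0 : ∀ s < 2, (c12md ψ inj').In ⊤ (pg0 s)) : (c12md ψ inj').El ((c12md ψ inj').gn pg1 2) pg1 := el_gn (ptop1 h0)
theorem pW1 : ∀ i < 2, (chkW c12.mul c12.one pg1 [[nat_lit 0, nat_lit 0, nat_lit 0, nat_lit 0, nat_lit 1, nat_lit 1, nat_lit 0, nat_lit 1, nat_lit 0, nat_lit 0, nat_lit 1, nat_lit 0],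
  [nat_lit 0, nat_lit 0, nat_lit 0, nat_lit 0, nat_lit 1, nat_lit 1, nat_lit 1, nat_lit 0, nat_lit 0, nat_lit 0, nat_lit 0, nat_lit 0]] pg2) i = 0 :=
  (rng_step (all0 _) pW1_0)
theorem pin2 (h0 : ∀ s < 2, (c12md ψ inj').In ⊤ (pg0 s)) : ∀ s < 2, (c12md ψ inj').In ((c12md ψ inj').gn pg1 2) (pg2 s) := in_of_chkW (peg1 h0) pW1
theorem ptop2 (h0 : ∀ s < 2, (c12md ψ inj').In ⊤ (pg0 s)) : ∀ s < 2, (c12md ψ inj').In ⊤ (pg2 s) := fun s hs => (pin2 h0 s hs).top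
theorem ple1 (h0 : ∀ s < 2, (c12md ψ inj').In ⊤ (pg0 s)) : ((c12md ψ inj').gn pg2 2) ≤ ((c12md ψ inj').gn pg1 2) := gn_le (pin2 h0)
theorem peg2 (h0 : ∀ s < 2, (c12md ψ inj').In ⊤ (pg0 s)) : (c12md ψ inj').El ((c12md ψ inj').gn pg2 2) pg2 := el_gn (ptop2 h0)
theorem pW2 : ∀ i < 2, (chkW c12.mul c12.one pg2 [[nat_lit 0, nat_lit 1, nat_lit 1, nat_lit 1, nat_lit 0, nat_lit 0, nat_lit 1, nat_lit 1],
  [nat_lit 0, nat_lit 1, nat_lit 1, nat_lit 1, nat_lit 1, nat_lit 1, nat_lit 0, nat_lit 0, nat_lit 1, nat_lit 1, nat_lit 1, nat_lit 0]] pg3) i = 0 :=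
  (rng_step (all0 _) pW2_0)
theorem pin3 (h0 : ∀ s < 2, (c12md ψ inj').In ⊤ (pg0 s)) : ∀ s < 2, (c12md ψ inj').In ((c12md ψ inj').gn pg2 2) (pg3 s) := in_of_chkW (peg2 h0) pW2
theorem ptop3 (h0 : ∀ s < 2, (c12md ψ inj').In ⊤ (pg0 s)) : ∀ s < 2, (c12md ψ inj').In ⊤ (pg3 s) := fun s hs => (pin3 h0 s hs).top
theorem ple2 (h0 : ∀ s < 2, (c12md ψ inj').In ⊤ (pg0 s)) : ((c12md ψ inj').gn pg3 2) ≤ ((c12md ψ inj').gn pg2 2) := gn_le (pin3 h0)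
theorem peg3 (h0 : ∀ s < 2, (c12md ψ inj').In ⊤ (pg0 s)) : (c12md ψ inj').El ((c12md ψ inj').gn pg3 2) pg3 := el_gn (ptop3 h0)
theorem pW3 : ∀ i < 2, (chkW c12.mul c12.one pg3 [[nat_lit 0, nat_lit 1, nat_lit 1, nat_lit 0, nat_lit 1, nat_lit 0, nat_lit 1, nat_lit 1, nat_lit 0],
  [nat_lit 0, nat_lit 0, nat_lit 1, nat_lit 0, nat_lit 0, nat_lit 1, nat_lit 0, nat_lit 0, nat_lit 0, nat_lit 1, nat_lit 0, nat_lit 0]] pg4) i = 0 :=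
  (rng_step (all0 _) pW3_0)
theorem pin4 (h0 : ∀ s < 2, (c12md ψ inj').In ⊤ (pg0 s)) : ∀ s < 2, (c12md ψ inj').In ((c12md ψ inj').gn pg3 2) (pg4 s) := in_of_chkW (peg3 h0) pW3
theorem ptop4 (h0 : ∀ s < 2, (c12md ψ inj').In ⊤ (pg0 s)) : ∀ s < 2, (c12md ψ inj').In ⊤ (pg4 s) := fun s hs => (pin4 h0 s hs).top
theorem ple3 (h0 : ∀ s < 2, (c12md ψ inj').In ⊤ (pg0 s)) : ((c12md ψ inj').gn pg4 2) ≤ ((c12md ψ inj').gn pg3 2) := gn_le (pin4 h0)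
theorem peg4 (h0 : ∀ s < 2, (c12md ψ inj').In ⊤ (pg0 s)) : (c12md ψ inj').El ((c12md ψ inj').gn pg4 2) pg4 := el_gn (ptop4 h0)
theorem pW4 : ∀ i < 2, (chkW c12.mul c12.one pg4 [[nat_lit 0, nat_lit 1, nat_lit 1, nat_lit 1, nat_lit 0, nat_lit 1, nat_lit 0, nat_lit 0, nat_lit 0],
  [nat_lit 0, nat_lit 1, nat_lit 1, nat_lit 1, nat_lit 0, nat_lit 1, nat_lit 1, nat_lit 1, nat_lit 1, nat_lit 1, nat_lit 0, nat_lit 1, nat_lit 0, nat_lit 1]] pg5) i = 0 :=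
  (rng_step (all0 _) pW4_0)
theorem pin5 (h0 : ∀ s < 2, (c12md ψ inj').In ⊤ (pg0 s)) : ∀ s < 2, (c12md ψ inj').In ((c12md ψ inj').gn pg4 2) (pg5 s) := in_of_chkW (peg4 h0) pW4
theorem ptop5 (h0 : ∀ s < 2, (c12md ψ inj').In ⊤ (pg0 s)) : ∀ s < 2, (c12md ψ inj').In ⊤ (pg5 s) := fun s hs => (pin5 h0 s hs).top
theorem ple4 (h0 : ∀ s < 2, (c12md ψ inj').In ⊤ (pg0 s)) : ((c12md ψ inj').gn pg5 2) ≤ ((c12md ψ inj').gn pg4 2) := gn_le (pin5 h0)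
theorem peg5 (h0 : ∀ s < 2, (c12md ψ inj').In ⊤ (pg0 s)) : (c12md ψ inj').El ((c12md ψ inj').gn pg5 2) pg5 := el_gn (ptop5 h0)
theorem pW5 : ∀ i < 2, (chkW c12.mul c12.one pg5 [[nat_lit 1, nat_lit 1, nat_lit 0, nat_lit 0, nat_lit 0, nat_lit 1, nat_lit 0, nat_lit 1, nat_lit 0, nat_lit 0, nat_lit 1, nat_lit 0],
  [nat_lit 1, nat_lit 1, nat_lit 0, nat_lit 1, nat_lit 0, nat_lit 1, nat_lit 1, nat_lit 0, nat_lit 1, nat_lit 1]] pg6) i = 0 :=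
  (rng_step (all0 _) pW5_0)
theorem pin6 (h0 : ∀ s < 2, (c12md ψ inj').In ⊤ (pg0 s)) : ∀ s < 2, (c12md ψ inj').In ((c12md ψ inj').gn pg5 2) (pg6 s) := in_of_chkW (peg5 h0) pW5
theorem ptop6 (h0 : ∀ s < 2, (c12md ψ inj').In ⊤ (pg0 s)) : ∀ s < 2, (c12md ψ inj').In ⊤ (pg6 s) := fun s hs => (pin6 h0 s hs).top
theorem ple5 (h0 : ∀ s < 2, (c12md ψ inj').In ⊤ (pg0 s)) : ((c12md ψ inj').gn pg6 2) ≤ ((c12md ψ inj').gn pg5 2) := gn_le (pin6 h0)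
theorem peg6 (h0 : ∀ s < 2, (c12md ψ inj').In ⊤ (pg0 s)) : (c12md ψ inj').El ((c12md ψ inj').gn pg6 2) pg6 := el_gn (ptop6 h0)
theorem pW6 : ∀ i < 2, (chkW c12.mul c12.one pg6 [[nat_lit 1, nat_lit 0, nat_lit 1],
  [nat_lit 0, nat_lit 0, nat_lit 1, nat_lit 1]] pg7) i = 0 :=
  (rng_step (all0 _) pW6_0)
theorem pin7 (h0 : ∀ s < 2, (c12md ψ inj').In ⊤ (pg0 s)) : ∀ s < 2, (c12md ψ inj').In ((c12md ψ inj').gn pg6 2) (pg7 s) := in_of_chkW (peg6 h0) pW6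
theorem ptop7 (h0 : ∀ s < 2, (c12md ψ inj').In ⊤ (pg0 s)) : ∀ s < 2, (c12md ψ inj').In ⊤ (pg7 s) := fun s hs => (pin7 h0 s hs).top
theorem ple6 (h0 : ∀ s < 2, (c12md ψ inj').In ⊤ (pg0 s)) : ((c12md ψ inj').gn pg7 2) ≤ ((c12md ψ inj').gn pg6 2) := gn_le (pin7 h0)
theorem peg7 (h0 : ∀ s < 2, (c12md ψ inj').In ⊤ (pg0 s)) : (c12md ψ inj').El ((c12md ψ inj').gn pg7 2) pg7 := el_gn (ptop7 h0)
theorem pW7 : ∀ i < 2, (chkW c12.mul c12.one pg7 [[nat_lit 0, nat_lit 1, nat_lit 0, nat_lit 0, nat_lit 0, nat_lit 0, nat_lit 1, nat_lit 0, nat_lit 1, nat_lit 0, nat_lit 0, nat_lit 0],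
  [nat_lit 1, nat_lit 0, nat_lit 0, nat_lit 0, nat_lit 0, nat_lit 1]] pg8) i = 0 :=
  (rng_step (all0 _) pW7_0)
theorem pin8 (h0 : ∀ s < 2, (c12md ψ inj').In ⊤ (pg0 s)) : ∀ s < 2, (c12md ψ inj').In ((c12md ψ inj').gn pg7 2) (pg8 s) := in_of_chkW (peg7 h0) pW7
theorem ptop8 (h0 : ∀ s < 2, (c12md ψ inj').In ⊤ (pg0 s)) : ∀ s < 2, (c12md ψ inj').In ⊤ (pg8 s) := fun s hs => (pin8 h0 s hs).top
theorem ple7 (h0 : ∀ s < 2, (c12md ψ inj').In ⊤ (pg0 s)) : ((c12md ψ inj').gn pg8 2) ≤ ((c12md ψ inj').gn pg7 2) := gn_le (pin8 h0)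
theorem peg8 (h0 : ∀ s < 2, (c12md ψ inj').In ⊤ (pg0 s)) : (c12md ψ inj').El ((c12md ψ inj').gn pg8 2) pg8 := el_gn (ptop8 h0)
theorem pW8 : ∀ i < 2, (chkW c12.mul c12.one pg8 [[nat_lit 0, nat_lit 1, nat_lit 0, nat_lit 1, nat_lit 1, nat_lit 0, nat_lit 1, nat_lit 1, nat_lit 0, nat_lit 0, nat_lit 0, nat_lit 0],
  [nat_lit 1, nat_lit 0, nat_lit 1, nat_lit 0, nat_lit 1, nat_lit 0, nat_lit 0]] pg9) i = 0 :=
  (rng_step (all0 _) pW8_0)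
theorem pin9 (h0 : ∀ s < 2, (c12md ψ inj').In ⊤ (pg0 s)) : ∀ s < 2, (c12md ψ inj').In ((c12md ψ inj').gn pg8 2) (pg9 s) := in_of_chkW (peg8 h0) pW8
theorem ptop9 (h0 : ∀ s < 2, (c12md ψ inj').In ⊤ (pg0 s)) : ∀ s < 2, (c12md ψ inj').In ⊤ (pg9 s) := fun s hs => (pin9 h0 s hs).top
theorem ple8 (h0 : ∀ s < 2, (c12md ψ inj').In ⊤ (pg0 s)) : ((c12md ψ inj').gn pg9 2) ≤ ((c12md ψ inj').gn pg8 2) := gn_le (pin9 h0)
theorem peg9 (h0 : ∀ s < 2, (c12md ψ inj').In ⊤ (pg0 s)) : (c12md ψ inj').El ((c12md ψ inj').gn pg9 2) pg9 := el_gn (ptop9 h0)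
theorem ple9 (h0 : ∀ s < 2, (c12md ψ inj').In ⊤ (pg0 s)) : (⊥ : Subgroup H) ≤ ((c12md ψ inj').gn pg9 2) := bot_le
theorem plb10 (h0 : ∀ s < 2, (c12md ψ inj').In ⊤ (pg0 s)) : 1 ≤ Nat.card (⊥ : Subgroup H) := one_le_card _
theorem py9Y : ∀ i < 3, (chkY c12b.canV c12b.row py9 (nat_lit 3)) i = 0 :=
  allB (rngB_step (allB0 _ _) py9Y_0) (by decide)
theorem py9D : Dist (fun i => (fun x => (⟨c12b.vec (ZMod 11) 12 x⟩ : Vc ψ)) (pt c12b.row py9 i)) 3 :=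
  dist_of_chk (@Cfg.Ok.canT H _ _ _ _ c12b (ZMod.charP 11) c12b_ok rfl rfl ψ) py9Y
theorem pO9 : ∀ i < 3, (chkO (c12b.imgV pg9) c12b.row py9 pO9a (nat_lit 3) [nat_lit 0]) i = 0 :=
  allB (rngB_step (allB0 _ _) pO9_0) (by decide)
theorem pR9 (h0 : ∀ s < 2, (c12md ψ inj').In ⊤ (pg0 s)) : Reach ((c12md ψ inj').gn pg9 2) (fun i => (fun x => (⟨c12b.vec (ZMod 11) 12 x⟩ : Vc ψ)) (pt c12b.row py9 i)) 3 [nat_lit 0] :=
  reach_of_chk (pv := (fun x => (⟨c12b.vec (ZMod 11) 12 x⟩ : Vc ψ))) ((@Cfg.Ok.acts H _ _ _ _ c12b (ZMod.charP 11) c12b_ok rfl rfl (c12md ψ inj') rfl pg9).ex (peg9 h0)) pO9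
theorem pfx9 : (⊥ : Subgroup H) ≤ MulAction.stabilizer H ((fun i => (fun x => (⟨c12b.vec (ZMod 11) 12 x⟩ : Vc ψ)) (pt c12b.row py9 i)) (nat_lit 0)) := bot_le
theorem plb9 (h0 : ∀ s < 2, (c12md ψ inj').In ⊤ (pg0 s)) : 3 ≤ Nat.card ((c12md ψ inj').gn pg9 2) :=
  le_of_eq_of_le (by norm_num) (lower py9D (pR9 h0) (ple9 h0) pfx9 (plb10 h0))
theorem py8Y : ∀ i < 4, (chkY c12b.canV c12b.row py8 (nat_lit 4)) i = 0 :=
  allB (rngB_step (allB0 _ _) py8Y_0) (by decide)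
theorem py8D : Dist (fun i => (fun x => (⟨c12b.vec (ZMod 11) 12 x⟩ : Vc ψ)) (pt c12b.row py8 i)) 4 :=
  dist_of_chk (@Cfg.Ok.canT H _ _ _ _ c12b (ZMod.charP 11) c12b_ok rfl rfl ψ) py8Y
theorem pO8 : ∀ i < 4, (chkO (c12b.imgV pg8) c12b.row py8 pO8a (nat_lit 4) [nat_lit 0]) i = 0 :=
  allB (rngB_step (allB0 _ _) pO8_0) (by decide)
theorem pR8 (h0 : ∀ s < 2, (c12md ψ inj').In ⊤ (pg0 s)) : Reach ((c12md ψ inj').gn pg8 2) (fun i => (fun x => (⟨c12b.vec (ZMod 11) 12 x⟩ : Vc ψ)) (pt c12b.row py8 i)) 4 [nat_lit 0] :=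
  reach_of_chk (pv := (fun x => (⟨c12b.vec (ZMod 11) 12 x⟩ : Vc ψ))) ((@Cfg.Ok.acts H _ _ _ _ c12b (ZMod.charP 11) c12b_ok rfl rfl (c12md ψ inj') rfl pg8).ex (peg8 h0)) pO8
theorem pF8 : ∀ i < 2, (chkF (c12b.imgV pg9) c12b.row py8 (nat_lit 0) [nat_lit 0, nat_lit 0]) i = 0 :=
  (rng_step (all0 _) pF8_0)
theorem pfx8 : ((c12md ψ inj').gn pg9 2) ≤ MulAction.stabilizer H ((fun i => (fun x => (⟨c12b.vec (ZMod 11) 12 x⟩ : Vc ψ)) (pt c12b.row py8 i)) (nat_lit 0)) :=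
  gn_le_stab (@Cfg.Ok.acts H _ _ _ _ c12b (ZMod.charP 11) c12b_ok rfl rfl (c12md ψ inj') rfl pg9) pF8
theorem plb8 (h0 : ∀ s < 2, (c12md ψ inj').In ⊤ (pg0 s)) : 12 ≤ Nat.card ((c12md ψ inj').gn pg8 2) :=
  le_of_eq_of_le (by norm_num) (lower py8D (pR8 h0) (ple8 h0) pfx8 (plb9 h0))
theorem py7Y : ∀ i < 5, (chkY c12b.canV c12b.row py7 (nat_lit 5)) i = 0 :=
  allB (rngB_step (allB0 _ _) py7Y_0) (by decide)
theorem py7D : Dist (fun i => (fun x => (⟨c12b.vec (ZMod 11) 12 x⟩ : Vc ψ)) (pt c12b.row py7 i)) 5 :=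
  dist_of_chk (@Cfg.Ok.canT H _ _ _ _ c12b (ZMod.charP 11) c12b_ok rfl rfl ψ) py7Y
theorem pO7 : ∀ i < 5, (chkO (c12b.imgV pg7) c12b.row py7 pO7a (nat_lit 5) [nat_lit 0]) i = 0 :=
  allB (rngB_step (allB0 _ _) pO7_0) (by decide)
theorem pR7 (h0 : ∀ s < 2, (c12md ψ inj').In ⊤ (pg0 s)) : Reach ((c12md ψ inj').gn pg7 2) (fun i => (fun x => (⟨c12b.vec (ZMod 11) 12 x⟩ : Vc ψ)) (pt c12b.row py7 i)) 5 [nat_lit 0] :=
  reach_of_chk (pv := (fun x => (⟨c12b.vec (ZMod 11) 12 x⟩ : Vc ψ))) ((@Cfg.Ok.acts H _ _ _ _ c12b (ZMod.charP 11) c12b_ok rfl rfl (c12md ψ inj') rfl pg7).ex (peg7 h0)) pO7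
theorem pF7 : ∀ i < 2, (chkF (c12b.imgV pg8) c12b.row py7 (nat_lit 0) [nat_lit 0, nat_lit 0]) i = 0 :=
  (rng_step (all0 _) pF7_0)
theorem pfx7 : ((c12md ψ inj').gn pg8 2) ≤ MulAction.stabilizer H ((fun i => (fun x => (⟨c12b.vec (ZMod 11) 12 x⟩ : Vc ψ)) (pt c12b.row py7 i)) (nat_lit 0)) :=
  gn_le_stab (@Cfg.Ok.acts H _ _ _ _ c12b (ZMod.charP 11) c12b_ok rfl rfl (c12md ψ inj') rfl pg8) pF7
theorem plb7 (h0 : ∀ s < 2, (c12md ψ inj').In ⊤ (pg0 s)) : 60 ≤ Nat.card ((c12md ψ inj').gn pg7 2) :=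
  le_of_eq_of_le (by norm_num) (lower py7D (pR7 h0) (ple7 h0) pfx7 (plb8 h0))
theorem py6Y : ∀ i < 6, (chkY c12b.canV c12b.row py6 (nat_lit 6)) i = 0 :=
  allB (rngB_step (allB0 _ _) py6Y_0) (by decide)
theorem py6D : Dist (fun i => (fun x => (⟨c12b.vec (ZMod 11) 12 x⟩ : Vc ψ)) (pt c12b.row py6 i)) 6 :=
  dist_of_chk (@Cfg.Ok.canT H _ _ _ _ c12b (ZMod.charP 11) c12b_ok rfl rfl ψ) py6Y
theorem pO6 : ∀ i < 6, (chkO (c12b.imgV pg6) c12b.row py6 pO6a (nat_lit 6) [nat_lit 0]) i = 0 :=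
  allB (rngB_step (allB0 _ _) pO6_0) (by decide)
theorem pR6 (h0 : ∀ s < 2, (c12md ψ inj').In ⊤ (pg0 s)) : Reach ((c12md ψ inj').gn pg6 2) (fun i => (fun x => (⟨c12b.vec (ZMod 11) 12 x⟩ : Vc ψ)) (pt c12b.row py6 i)) 6 [nat_lit 0] :=
  reach_of_chk (pv := (fun x => (⟨c12b.vec (ZMod 11) 12 x⟩ : Vc ψ))) ((@Cfg.Ok.acts H _ _ _ _ c12b (ZMod.charP 11) c12b_ok rfl rfl (c12md ψ inj') rfl pg6).ex (peg6 h0)) pO6
theorem pF6 : ∀ i < 2, (chkF (c12b.imgV pg7) c12b.row py6 (nat_lit 0) [nat_lit 0, nat_lit 0]) i = 0 :=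
  (rng_step (all0 _) pF6_0)
theorem pfx6 : ((c12md ψ inj').gn pg7 2) ≤ MulAction.stabilizer H ((fun i => (fun x => (⟨c12b.vec (ZMod 11) 12 x⟩ : Vc ψ)) (pt c12b.row py6 i)) (nat_lit 0)) :=
  gn_le_stab (@Cfg.Ok.acts H _ _ _ _ c12b (ZMod.charP 11) c12b_ok rfl rfl (c12md ψ inj') rfl pg7) pF6
theorem plb6 (h0 : ∀ s < 2, (c12md ψ inj').In ⊤ (pg0 s)) : 360 ≤ Nat.card ((c12md ψ inj').gn pg6 2) :=
  le_of_eq_of_le (by norm_num) (lower py6D (pR6 h0) (ple6 h0) pfx6 (plb7 h0))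
theorem py5Y : ∀ i < 7, (chkY c12b.canV c12b.row py5 (nat_lit 7)) i = 0 :=
  allB (rngB_step (allB0 _ _) py5Y_0) (by decide)
theorem py5D : Dist (fun i => (fun x => (⟨c12b.vec (ZMod 11) 12 x⟩ : Vc ψ)) (pt c12b.row py5 i)) 7 :=
  dist_of_chk (@Cfg.Ok.canT H _ _ _ _ c12b (ZMod.charP 11) c12b_ok rfl rfl ψ) py5Y
theorem pO5 : ∀ i < 7, (chkO (c12b.imgV pg5) c12b.row py5 pO5a (nat_lit 7) [nat_lit 0]) i = 0 :=
  allB (rngB_step (allB0 _ _) pO5_0) (by decide)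
theorem pR5 (h0 : ∀ s < 2, (c12md ψ inj').In ⊤ (pg0 s)) : Reach ((c12md ψ inj').gn pg5 2) (fun i => (fun x => (⟨c12b.vec (ZMod 11) 12 x⟩ : Vc ψ)) (pt c12b.row py5 i)) 7 [nat_lit 0] :=
  reach_of_chk (pv := (fun x => (⟨c12b.vec (ZMod 11) 12 x⟩ : Vc ψ))) ((@Cfg.Ok.acts H _ _ _ _ c12b (ZMod.charP 11) c12b_ok rfl rfl (c12md ψ inj') rfl pg5).ex (peg5 h0)) pO5
theorem pF5 : ∀ i < 2, (chkF (c12b.imgV pg6) c12b.row py5 (nat_lit 0) [nat_lit 0, nat_lit 0]) i = 0 :=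
  (rng_step (all0 _) pF5_0)
theorem pfx5 : ((c12md ψ inj').gn pg6 2) ≤ MulAction.stabilizer H ((fun i => (fun x => (⟨c12b.vec (ZMod 11) 12 x⟩ : Vc ψ)) (pt c12b.row py5 i)) (nat_lit 0)) :=
  gn_le_stab (@Cfg.Ok.acts H _ _ _ _ c12b (ZMod.charP 11) c12b_ok rfl rfl (c12md ψ inj') rfl pg6) pF5
theorem plb5 (h0 : ∀ s < 2, (c12md ψ inj').In ⊤ (pg0 s)) : 2520 ≤ Nat.card ((c12md ψ inj').gn pg5 2) :=
  le_of_eq_of_le (by norm_num) (lower py5D (pR5 h0) (ple5 h0) pfx5 (plb6 h0))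
theorem py4Y : ∀ i < 8, (chkY c12b.canV c12b.row py4 (nat_lit 8)) i = 0 :=
  allB (rngB_step (allB0 _ _) py4Y_0) (by decide)
theorem py4D : Dist (fun i => (fun x => (⟨c12b.vec (ZMod 11) 12 x⟩ : Vc ψ)) (pt c12b.row py4 i)) 8 :=
  dist_of_chk (@Cfg.Ok.canT H _ _ _ _ c12b (ZMod.charP 11) c12b_ok rfl rfl ψ) py4Y
theorem pO4 : ∀ i < 8, (chkO (c12b.imgV pg4) c12b.row py4 pO4a (nat_lit 8) [nat_lit 0]) i = 0 :=
  allB (rngB_step (allB0 _ _) pO4_0) (by decide)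
theorem pR4 (h0 : ∀ s < 2, (c12md ψ inj').In ⊤ (pg0 s)) : Reach ((c12md ψ inj').gn pg4 2) (fun i => (fun x => (⟨c12b.vec (ZMod 11) 12 x⟩ : Vc ψ)) (pt c12b.row py4 i)) 8 [nat_lit 0] :=
  reach_of_chk (pv := (fun x => (⟨c12b.vec (ZMod 11) 12 x⟩ : Vc ψ))) ((@Cfg.Ok.acts H _ _ _ _ c12b (ZMod.charP 11) c12b_ok rfl rfl (c12md ψ inj') rfl pg4).ex (peg4 h0)) pO4
theorem pF4 : ∀ i < 2, (chkF (c12b.imgV pg5) c12b.row py4 (nat_lit 0) [nat_lit 0, nat_lit 0]) i = 0 :=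
  (rng_step (all0 _) pF4_0)
theorem pfx4 : ((c12md ψ inj').gn pg5 2) ≤ MulAction.stabilizer H ((fun i => (fun x => (⟨c12b.vec (ZMod 11) 12 x⟩ : Vc ψ)) (pt c12b.row py4 i)) (nat_lit 0)) :=
  gn_le_stab (@Cfg.Ok.acts H _ _ _ _ c12b (ZMod.charP 11) c12b_ok rfl rfl (c12md ψ inj') rfl pg5) pF4
theorem plb4 (h0 : ∀ s < 2, (c12md ψ inj').In ⊤ (pg0 s)) : 20160 ≤ Nat.card ((c12md ψ inj').gn pg4 2) :=
  le_of_eq_of_le (by norm_num) (lower py4D (pR4 h0) (ple4 h0) pfx4 (plb5 h0))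
theorem py3Y : ∀ i < 9, (chkY c12b.canV c12b.row py3 (nat_lit 9)) i = 0 :=
  allB (rngB_step (allB0 _ _) py3Y_0) (by decide)
theorem py3D : Dist (fun i => (fun x => (⟨c12b.vec (ZMod 11) 12 x⟩ : Vc ψ)) (pt c12b.row py3 i)) 9 :=
  dist_of_chk (@Cfg.Ok.canT H _ _ _ _ c12b (ZMod.charP 11) c12b_ok rfl rfl ψ) py3Y
theorem pO3 : ∀ i < 9, (chkO (c12b.imgV pg3) c12b.row py3 pO3a (nat_lit 9) [nat_lit 0]) i = 0 :=
  allB (rngB_step (allB0 _ _) pO3_0) (by decide)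
theorem pR3 (h0 : ∀ s < 2, (c12md ψ inj').In ⊤ (pg0 s)) : Reach ((c12md ψ inj').gn pg3 2) (fun i => (fun x => (⟨c12b.vec (ZMod 11) 12 x⟩ : Vc ψ)) (pt c12b.row py3 i)) 9 [nat_lit 0] :=
  reach_of_chk (pv := (fun x => (⟨c12b.vec (ZMod 11) 12 x⟩ : Vc ψ))) ((@Cfg.Ok.acts H _ _ _ _ c12b (ZMod.charP 11) c12b_ok rfl rfl (c12md ψ inj') rfl pg3).ex (peg3 h0)) pO3
theorem pF3 : ∀ i < 2, (chkF (c12b.imgV pg4) c12b.row py3 (nat_lit 0) [nat_lit 0, nat_lit 0]) i = 0 :=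
  (rng_step (all0 _) pF3_0)
theorem pfx3 : ((c12md ψ inj').gn pg4 2) ≤ MulAction.stabilizer H ((fun i => (fun x => (⟨c12b.vec (ZMod 11) 12 x⟩ : Vc ψ)) (pt c12b.row py3 i)) (nat_lit 0)) :=
  gn_le_stab (@Cfg.Ok.acts H _ _ _ _ c12b (ZMod.charP 11) c12b_ok rfl rfl (c12md ψ inj') rfl pg4) pF3
theorem plb3 (h0 : ∀ s < 2, (c12md ψ inj').In ⊤ (pg0 s)) : 181440 ≤ Nat.card ((c12md ψ inj').gn pg3 2) :=
  le_of_eq_of_le (by norm_num) (lower py3D (pR3 h0) (ple3 h0) pfx3 (plb4 h0))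
theorem py2Y : ∀ i < 10, (chkY c12b.canV c12b.row py2 (nat_lit 10)) i = 0 :=
  allB (rngB_step (allB0 _ _) py2Y_0) (by decide)
theorem py2D : Dist (fun i => (fun x => (⟨c12b.vec (ZMod 11) 12 x⟩ : Vc ψ)) (pt c12b.row py2 i)) 10 :=
  dist_of_chk (@Cfg.Ok.canT H _ _ _ _ c12b (ZMod.charP 11) c12b_ok rfl rfl ψ) py2Y
theorem pO2 : ∀ i < 10, (chkO (c12b.imgV pg2) c12b.row py2 pO2a (nat_lit 10) [nat_lit 0]) i = 0 :=
  allB (rngB_step (allB0 _ _) pO2_0) (by decide)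
theorem pR2 (h0 : ∀ s < 2, (c12md ψ inj').In ⊤ (pg0 s)) : Reach ((c12md ψ inj').gn pg2 2) (fun i => (fun x => (⟨c12b.vec (ZMod 11) 12 x⟩ : Vc ψ)) (pt c12b.row py2 i)) 10 [nat_lit 0] :=
  reach_of_chk (pv := (fun x => (⟨c12b.vec (ZMod 11) 12 x⟩ : Vc ψ))) ((@Cfg.Ok.acts H _ _ _ _ c12b (ZMod.charP 11) c12b_ok rfl rfl (c12md ψ inj') rfl pg2).ex (peg2 h0)) pO2
theorem pF2 : ∀ i < 2, (chkF (c12b.imgV pg3) c12b.row py2 (nat_lit 0) [nat_lit 0, nat_lit 0]) i = 0 :=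
  (rng_step (all0 _) pF2_0)
theorem pfx2 : ((c12md ψ inj').gn pg3 2) ≤ MulAction.stabilizer H ((fun i => (fun x => (⟨c12b.vec (ZMod 11) 12 x⟩ : Vc ψ)) (pt c12b.row py2 i)) (nat_lit 0)) :=
  gn_le_stab (@Cfg.Ok.acts H _ _ _ _ c12b (ZMod.charP 11) c12b_ok rfl rfl (c12md ψ inj') rfl pg3) pF2
theorem plb2 (h0 : ∀ s < 2, (c12md ψ inj').In ⊤ (pg0 s)) : 1814400 ≤ Nat.card ((c12md ψ inj').gn pg2 2) :=
  le_of_eq_of_le (by norm_num) (lower py2D (pR2 h0) (ple2 h0) pfx2 (plb3 h0))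
theorem py1Y : ∀ i < 11, (chkY c12b.canV c12b.row py1 (nat_lit 11)) i = 0 :=
  allB (rngB_step (allB0 _ _) py1Y_0) (by decide)
theorem py1D : Dist (fun i => (fun x => (⟨c12b.vec (ZMod 11) 12 x⟩ : Vc ψ)) (pt c12b.row py1 i)) 11 :=
  dist_of_chk (@Cfg.Ok.canT H _ _ _ _ c12b (ZMod.charP 11) c12b_ok rfl rfl ψ) py1Y
theorem pO1 : ∀ i < 11, (chkO (c12b.imgV pg1) c12b.row py1 pO1a (nat_lit 11) [nat_lit 0]) i = 0 :=
  allB (rngB_step (allB0 _ _) pO1_0) (by decide)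
theorem pR1 (h0 : ∀ s < 2, (c12md ψ inj').In ⊤ (pg0 s)) : Reach ((c12md ψ inj').gn pg1 2) (fun i => (fun x => (⟨c12b.vec (ZMod 11) 12 x⟩ : Vc ψ)) (pt c12b.row py1 i)) 11 [nat_lit 0] :=
  reach_of_chk (pv := (fun x => (⟨c12b.vec (ZMod 11) 12 x⟩ : Vc ψ))) ((@Cfg.Ok.acts H _ _ _ _ c12b (ZMod.charP 11) c12b_ok rfl rfl (c12md ψ inj') rfl pg1).ex (peg1 h0)) pO1
theorem pF1 : ∀ i < 2, (chkF (c12b.imgV pg2) c12b.row py1 (nat_lit 0) [nat_lit 0, nat_lit 0]) i = 0 :=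
  (rng_step (all0 _) pF1_0)
theorem pfx1 : ((c12md ψ inj').gn pg2 2) ≤ MulAction.stabilizer H ((fun i => (fun x => (⟨c12b.vec (ZMod 11) 12 x⟩ : Vc ψ)) (pt c12b.row py1 i)) (nat_lit 0)) :=
  gn_le_stab (@Cfg.Ok.acts H _ _ _ _ c12b (ZMod.charP 11) c12b_ok rfl rfl (c12md ψ inj') rfl pg2) pF1
theorem plb1 (h0 : ∀ s < 2, (c12md ψ inj').In ⊤ (pg0 s)) : 19958400 ≤ Nat.card ((c12md ψ inj').gn pg1 2) :=
  le_of_eq_of_le (by norm_num) (lower py1D (pR1 h0) (ple1 h0) pfx1 (plb2 h0))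
theorem py0Y : ∀ i < 12, (chkY c12b.canV c12b.row py0 (nat_lit 12)) i = 0 :=
  allB (rngB_step (allB0 _ _) py0Y_0) (by decide)
theorem py0D : Dist (fun i => (fun x => (⟨c12b.vec (ZMod 11) 12 x⟩ : Vc ψ)) (pt c12b.row py0 i)) 12 :=
  dist_of_chk (@Cfg.Ok.canT H _ _ _ _ c12b (ZMod.charP 11) c12b_ok rfl rfl ψ) py0Y
theorem pO0 : ∀ i < 12, (chkO (c12b.imgV pg0) c12b.row py0 pO0a (nat_lit 12) [nat_lit 0]) i = 0 :=
  allB (rngB_step (allB0 _ _) pO0_0) (by decide)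
theorem pR0 (h0 : ∀ s < 2, (c12md ψ inj').In ⊤ (pg0 s)) : Reach ((c12md ψ inj').gn pg0 2) (fun i => (fun x => (⟨c12b.vec (ZMod 11) 12 x⟩ : Vc ψ)) (pt c12b.row py0 i)) 12 [nat_lit 0] :=
  reach_of_chk (pv := (fun x => (⟨c12b.vec (ZMod 11) 12 x⟩ : Vc ψ))) ((@Cfg.Ok.acts H _ _ _ _ c12b (ZMod.charP 11) c12b_ok rfl rfl (c12md ψ inj') rfl pg0).ex (peg0 h0)) pO0
theorem pF0 : ∀ i < 2, (chkF (c12b.imgV pg1) c12b.row py0 (nat_lit 0) [nat_lit 0, nat_lit 0]) i = 0 :=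
  (rng_step (all0 _) pF0_0)
theorem pfx0 : ((c12md ψ inj').gn pg1 2) ≤ MulAction.stabilizer H ((fun i => (fun x => (⟨c12b.vec (ZMod 11) 12 x⟩ : Vc ψ)) (pt c12b.row py0 i)) (nat_lit 0)) :=
  gn_le_stab (@Cfg.Ok.acts H _ _ _ _ c12b (ZMod.charP 11) c12b_ok rfl rfl (c12md ψ inj') rfl pg1) pF0
theorem plb0 (h0 : ∀ s < 2, (c12md ψ inj').In ⊤ (pg0 s)) : 239500800 ≤ Nat.card ((c12md ψ inj').gn pg0 2) :=
  le_of_eq_of_le (by norm_num) (lower py0D (pR0 h0) (ple0 h0) pfx0 (plb1 h0))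
theorem btop0 (h0 : ∀ s < 2, (Mdl.prod (c12md ψ inj') (c133md φ inj) (nat_lit 1728) pp_lt pp_lt1).In ⊤ (bg0 s)) : ∀ s < 2, (Mdl.prod (c12md ψ inj') (c133md φ inj) (nat_lit 1728) pp_lt pp_lt1).In ⊤ (bg0 s) := h0
theorem beg0 (h0 : ∀ s < 2, (Mdl.prod (c12md ψ inj') (c133md φ inj) (nat_lit 1728) pp_lt pp_lt1).In ⊤ (bg0 s)) : (Mdl.prod (c12md ψ inj') (c133md φ inj) (nat_lit 1728) pp_lt pp_lt1).El ((Mdl.prod (c12md ψ inj') (c133md φ inj) (nat_lit 1728) pp_lt pp_lt1).gn bg0 2) bg0 := el_gn (btop0 h0)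
theorem bW0 : ∀ i < 2, (chkW ppmul ppone bg0 [[nat_lit 0, nat_lit 0, nat_lit 1, nat_lit 0, nat_lit 1, nat_lit 1, nat_lit 1, nat_lit 1, nat_lit 0, nat_lit 1],
  [nat_lit 1, nat_lit 0, nat_lit 0, nat_lit 0, nat_lit 1, nat_lit 0]] bg1) i = 0 :=
  (rng_step (all0 _) bW0_0)
theorem bin1 (h0 : ∀ s < 2, (Mdl.prod (c12md ψ inj') (c133md φ inj) (nat_lit 1728) pp_lt pp_lt1).In ⊤ (bg0 s)) : ∀ s < 2, (Mdl.prod (c12md ψ inj') (c133md φ inj) (nat_lit 1728) pp_lt pp_lt1).In ((Mdl.prod (c12md ψ inj') (c133md φ inj) (nat_lit 1728) pp_lt pp_lt1).gn bg0 2) (bg1 s) := in_of_chkW (beg0 h0) bW0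
theorem btop1 (h0 : ∀ s < 2, (Mdl.prod (c12md ψ inj') (c133md φ inj) (nat_lit 1728) pp_lt pp_lt1).In ⊤ (bg0 s)) : ∀ s < 2, (Mdl.prod (c12md ψ inj') (c133md φ inj) (nat_lit 1728) pp_lt pp_lt1).In ⊤ (bg1 s) := fun s hs => (bin1 h0 s hs).top
theorem ble0 (h0 : ∀ s < 2, (Mdl.prod (c12md ψ inj') (c133md φ inj) (nat_lit 1728) pp_lt pp_lt1).In ⊤ (bg0 s)) : ((Mdl.prod (c12md ψ inj') (c133md φ inj) (nat_lit 1728) pp_lt pp_lt1).gn bg1 2) ≤ ((Mdl.prod (c12md ψ inj') (c133md φ inj) (nat_lit 1728) pp_lt pp_lt1).gn bg0 2) := gn_le (bin1 h0)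
theorem beg1 (h0 : ∀ s < 2, (Mdl.prod (c12md ψ inj') (c133md φ inj) (nat_lit 1728) pp_lt pp_lt1).In ⊤ (bg0 s)) : (Mdl.prod (c12md ψ inj') (c133md φ inj) (nat_lit 1728) pp_lt pp_lt1).El ((Mdl.prod (c12md ψ inj') (c133md φ inj) (nat_lit 1728) pp_lt pp_lt1).gn bg1 2) bg1 := el_gn (btop1 h0)
theorem bW1 : ∀ i < 2, (chkW ppmul ppone bg1 [[nat_lit 0, nat_lit 1, nat_lit 0, nat_lit 0, nat_lit 1, nat_lit 0],
  [nat_lit 0, nat_lit 0, nat_lit 0, nat_lit 1]] bg2) i = 0 :=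
  (rng_step (all0 _) bW1_0)
theorem bin2 (h0 : ∀ s < 2, (Mdl.prod (c12md ψ inj') (c133md φ inj) (nat_lit 1728) pp_lt pp_lt1).In ⊤ (bg0 s)) : ∀ s < 2, (Mdl.prod (c12md ψ inj') (c133md φ inj) (nat_lit 1728) pp_lt pp_lt1).In ((Mdl.prod (c12md ψ inj') (c133md φ inj) (nat_lit 1728) pp_lt pp_lt1).gn bg1 2) (bg2 s) := in_of_chkW (beg1 h0) bW1
theorem btop2 (h0 : ∀ s < 2, (Mdl.prod (c12md ψ inj') (c133md φ inj) (nat_lit 1728) pp_lt pp_lt1).In ⊤ (bg0 s)) : ∀ s < 2, (Mdl.prod (c12md ψ inj') (c133md φ inj) (nat_lit 1728) pp_lt pp_lt1).In ⊤ (bg2 s) := fun s hs => (bin2 h0 s hs).top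
theorem ble1 (h0 : ∀ s < 2, (Mdl.prod (c12md ψ inj') (c133md φ inj) (nat_lit 1728) pp_lt pp_lt1).In ⊤ (bg0 s)) : ((Mdl.prod (c12md ψ inj') (c133md φ inj) (nat_lit 1728) pp_lt pp_lt1).gn bg2 2) ≤ ((Mdl.prod (c12md ψ inj') (c133md φ inj) (nat_lit 1728) pp_lt pp_lt1).gn bg1 2) := gn_le (bin2 h0)
theorem beg2 (h0 : ∀ s < 2, (Mdl.prod (c12md ψ inj') (c133md φ inj) (nat_lit 1728) pp_lt pp_lt1).In ⊤ (bg0 s)) : (Mdl.prod (c12md ψ inj') (c133md φ inj) (nat_lit 1728) pp_lt pp_lt1).El ((Mdl.prod (c12md ψ inj') (c133md φ inj) (nat_lit 1728) pp_lt pp_lt1).gn bg2 2) bg2 := el_gn (btop2 h0)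
theorem bW2 : ∀ i < 2, (chkW ppmul ppone bg2 [[nat_lit 1, nat_lit 0, nat_lit 0, nat_lit 0, nat_lit 1, nat_lit 0, nat_lit 1],
  [nat_lit 1, nat_lit 1, nat_lit 0, nat_lit 0, nat_lit 1, nat_lit 0, nat_lit 0, nat_lit 1]] bg3) i = 0 :=
  (rng_step (all0 _) bW2_0)
theorem bin3 (h0 : ∀ s < 2, (Mdl.prod (c12md ψ inj') (c133md φ inj) (nat_lit 1728) pp_lt pp_lt1).In ⊤ (bg0 s)) : ∀ s < 2, (Mdl.prod (c12md ψ inj') (c133md φ inj) (nat_lit 1728) pp_lt pp_lt1).In ((Mdl.prod (c12md ψ inj') (c133md φ inj) (nat_lit 1728) pp_lt pp_lt1).gn bg2 2) (bg3 s) := in_of_chkW (beg2 h0) bW2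
theorem btop3 (h0 : ∀ s < 2, (Mdl.prod (c12md ψ inj') (c133md φ inj) (nat_lit 1728) pp_lt pp_lt1).In ⊤ (bg0 s)) : ∀ s < 2, (Mdl.prod (c12md ψ inj') (c133md φ inj) (nat_lit 1728) pp_lt pp_lt1).In ⊤ (bg3 s) := fun s hs => (bin3 h0 s hs).top
theorem ble2 (h0 : ∀ s < 2, (Mdl.prod (c12md ψ inj') (c133md φ inj) (nat_lit 1728) pp_lt pp_lt1).In ⊤ (bg0 s)) : ((Mdl.prod (c12md ψ inj') (c133md φ inj) (nat_lit 1728) pp_lt pp_lt1).gn bg3 2) ≤ ((Mdl.prod (c12md ψ inj') (c133md φ inj) (nat_lit 1728) pp_lt pp_lt1).gn bg2 2) := gn_le (bin3 h0)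
theorem beg3 (h0 : ∀ s < 2, (Mdl.prod (c12md ψ inj') (c133md φ inj) (nat_lit 1728) pp_lt pp_lt1).In ⊤ (bg0 s)) : (Mdl.prod (c12md ψ inj') (c133md φ inj) (nat_lit 1728) pp_lt pp_lt1).El ((Mdl.prod (c12md ψ inj') (c133md φ inj) (nat_lit 1728) pp_lt pp_lt1).gn bg3 2) bg3 := el_gn (btop3 h0)
theorem bW3 : ∀ i < 2, (chkW ppmul ppone bg3 [[nat_lit 0, nat_lit 0, nat_lit 1, nat_lit 1, nat_lit 1, nat_lit 0, nat_lit 0, nat_lit 1, nat_lit 0],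
  [nat_lit 0, nat_lit 1, nat_lit 0, nat_lit 0, nat_lit 1, nat_lit 0]] bg4) i = 0 :=
  (rng_step (all0 _) bW3_0)
theorem bin4 (h0 : ∀ s < 2, (Mdl.prod (c12md ψ inj') (c133md φ inj) (nat_lit 1728) pp_lt pp_lt1).In ⊤ (bg0 s)) : ∀ s < 2, (Mdl.prod (c12md ψ inj') (c133md φ inj) (nat_lit 1728) pp_lt pp_lt1).In ((Mdl.prod (c12md ψ inj') (c133md φ inj) (nat_lit 1728) pp_lt pp_lt1).gn bg3 2) (bg4 s) := in_of_chkW (beg3 h0) bW3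
theorem btop4 (h0 : ∀ s < 2, (Mdl.prod (c12md ψ inj') (c133md φ inj) (nat_lit 1728) pp_lt pp_lt1).In ⊤ (bg0 s)) : ∀ s < 2, (Mdl.prod (c12md ψ inj') (c133md φ inj) (nat_lit 1728) pp_lt pp_lt1).In ⊤ (bg4 s) := fun s hs => (bin4 h0 s hs).top
theorem ble3 (h0 : ∀ s < 2, (Mdl.prod (c12md ψ inj') (c133md φ inj) (nat_lit 1728) pp_lt pp_lt1).In ⊤ (bg0 s)) : ((Mdl.prod (c12md ψ inj') (c133md φ inj) (nat_lit 1728) pp_lt pp_lt1).gn bg4 2) ≤ ((Mdl.prod (c12md ψ inj') (c133md φ inj) (nat_lit 1728) pp_lt pp_lt1).gn bg3 2) := gn_le (bin4 h0)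
theorem beg4 (h0 : ∀ s < 2, (Mdl.prod (c12md ψ inj') (c133md φ inj) (nat_lit 1728) pp_lt pp_lt1).In ⊤ (bg0 s)) : (Mdl.prod (c12md ψ inj') (c133md φ inj) (nat_lit 1728) pp_lt pp_lt1).El ((Mdl.prod (c12md ψ inj') (c133md φ inj) (nat_lit 1728) pp_lt pp_lt1).gn bg4 2) bg4 := el_gn (btop4 h0)
theorem bW4 : ∀ i < 2, (chkW ppmul ppone bg4 [[nat_lit 0, nat_lit 0, nat_lit 1, nat_lit 1],
  [nat_lit 0, nat_lit 1, nat_lit 0, nat_lit 1, nat_lit 0, nat_lit 1, nat_lit 1, nat_lit 0, nat_lit 1, nat_lit 0, nat_lit 0, nat_lit 1, nat_lit 0]] bg5) i = 0 :=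
  (rng_step (all0 _) bW4_0)
theorem bin5 (h0 : ∀ s < 2, (Mdl.prod (c12md ψ inj') (c133md φ inj) (nat_lit 1728) pp_lt pp_lt1).In ⊤ (bg0 s)) : ∀ s < 2, (Mdl.prod (c12md ψ inj') (c133md φ inj) (nat_lit 1728) pp_lt pp_lt1).In ((Mdl.prod (c12md ψ inj') (c133md φ inj) (nat_lit 1728) pp_lt pp_lt1).gn bg4 2) (bg5 s) := in_of_chkW (beg4 h0) bW4
theorem btop5 (h0 : ∀ s < 2, (Mdl.prod (c12md ψ inj') (c133md φ inj) (nat_lit 1728) pp_lt pp_lt1).In ⊤ (bg0 s)) : ∀ s < 2, (Mdl.prod (c12md ψ inj') (c133md φ inj) (nat_lit 1728) pp_lt pp_lt1).In ⊤ (bg5 s) := fun s hs => (bin5 h0 s hs).top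
theorem ble4 (h0 : ∀ s < 2, (Mdl.prod (c12md ψ inj') (c133md φ inj) (nat_lit 1728) pp_lt pp_lt1).In ⊤ (bg0 s)) : ((Mdl.prod (c12md ψ inj') (c133md φ inj) (nat_lit 1728) pp_lt pp_lt1).gn bg5 2) ≤ ((Mdl.prod (c12md ψ inj') (c133md φ inj) (nat_lit 1728) pp_lt pp_lt1).gn bg4 2) := gn_le (bin5 h0)
theorem beg5 (h0 : ∀ s < 2, (Mdl.prod (c12md ψ inj') (c133md φ inj) (nat_lit 1728) pp_lt pp_lt1).In ⊤ (bg0 s)) : (Mdl.prod (c12md ψ inj') (c133md φ inj) (nat_lit 1728) pp_lt pp_lt1).El ((Mdl.prod (c12md ψ inj') (c133md φ inj) (nat_lit 1728) pp_lt pp_lt1).gn bg5 2) bg5 := el_gn (btop5 h0)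
theorem bW5 : ∀ i < 2, (chkW ppmul ppone bg5 [[nat_lit 1, nat_lit 0, nat_lit 0, nat_lit 0, nat_lit 1, nat_lit 0, nat_lit 1, nat_lit 0, nat_lit 0, nat_lit 1, nat_lit 1, nat_lit 1, nat_lit 1],
  [nat_lit 0, nat_lit 0, nat_lit 1, nat_lit 1, nat_lit 1, nat_lit 1, nat_lit 0, nat_lit 1, nat_lit 1]] bg6) i = 0 :=
  (rng_step (all0 _) bW5_0)
theorem bin6 (h0 : ∀ s < 2, (Mdl.prod (c12md ψ inj') (c133md φ inj) (nat_lit 1728) pp_lt pp_lt1).In ⊤ (bg0 s)) : ∀ s < 2, (Mdl.prod (c12md ψ inj') (c133md φ inj) (nat_lit 1728) pp_lt pp_lt1).In ((Mdl.prod (c12md ψ inj') (c133md φ inj) (nat_lit 1728) pp_lt pp_lt1).gn bg5 2) (bg6 s) := in_of_chkW (beg5 h0) bW5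
theorem btop6 (h0 : ∀ s < 2, (Mdl.prod (c12md ψ inj') (c133md φ inj) (nat_lit 1728) pp_lt pp_lt1).In ⊤ (bg0 s)) : ∀ s < 2, (Mdl.prod (c12md ψ inj') (c133md φ inj) (nat_lit 1728) pp_lt pp_lt1).In ⊤ (bg6 s) := fun s hs => (bin6 h0 s hs).top
theorem ble5 (h0 : ∀ s < 2, (Mdl.prod (c12md ψ inj') (c133md φ inj) (nat_lit 1728) pp_lt pp_lt1).In ⊤ (bg0 s)) : ((Mdl.prod (c12md ψ inj') (c133md φ inj) (nat_lit 1728) pp_lt pp_lt1).gn bg6 2) ≤ ((Mdl.prod (c12md ψ inj') (c133md φ inj) (nat_lit 1728) pp_lt pp_lt1).gn bg5 2) := gn_le (bin6 h0)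
theorem beg6 (h0 : ∀ s < 2, (Mdl.prod (c12md ψ inj') (c133md φ inj) (nat_lit 1728) pp_lt pp_lt1).In ⊤ (bg0 s)) : (Mdl.prod (c12md ψ inj') (c133md φ inj) (nat_lit 1728) pp_lt pp_lt1).El ((Mdl.prod (c12md ψ inj') (c133md φ inj) (nat_lit 1728) pp_lt pp_lt1).gn bg6 2) bg6 := el_gn (btop6 h0)
theorem ble6 (h0 : ∀ s < 2, (Mdl.prod (c12md ψ inj') (c133md φ inj) (nat_lit 1728) pp_lt pp_lt1).In ⊤ (bg0 s)) : (⊥ : Subgroup (H × G)) ≤ ((Mdl.prod (c12md ψ inj') (c133md φ inj) (nat_lit 1728) pp_lt pp_lt1).gn bg6 2) := bot_le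
theorem bel7 (h0 : ∀ s < 2, (Mdl.prod (c12md ψ inj') (c133md φ inj) (nat_lit 1728) pp_lt pp_lt1).In ⊤ (bg0 s)) : (Mdl.prod (c12md ψ inj') (c133md φ inj) (nat_lit 1728) pp_lt pp_lt1).El ⊥ be7 := el_one _
theorem bub7 (h0 : ∀ s < 2, (Mdl.prod (c12md ψ inj') (c133md φ inj) (nat_lit 1728) pp_lt pp_lt1).In ⊤ (bg0 s)) : Nat.card (⊥ : Subgroup (H × G)) ≤ 1 := card_bot_le
theorem bS6 : ∀ i < 60, (chkS ppmul bg6 (nat_lit 2) bT6 be7 bc6 (nat_lit 6) (nat_lit 60)) i = 0 :=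
  (rng_step (rng_step (rng_step (rng_step (all0 _) bS6_0) bS6_1) bS6_2) bS6_3)
theorem bsch6 (h0 : ∀ s < 2, (Mdl.prod (c12md ψ inj') (c133md φ inj) (nat_lit 1728) pp_lt pp_lt1).In ⊤ (bg0 s)) : (∀ g ∈ ((Mdl.prod (c12md ψ inj') (c133md φ inj) (nat_lit 1728) pp_lt pp_lt1).gn bg6 2), ∃ i < 60, (Mdl.prod (c12md ψ inj') (c133md φ inj) (nat_lit 1728) pp_lt pp_lt1).Cos (⊥ : Subgroup (H × G)) bT6 g i) ∧ (∀ i < 60, (Mdl.prod (c12md ψ inj') (c133md φ inj) (nat_lit 1728) pp_lt pp_lt1).In ((Mdl.prod (c12md ψ inj') (c133md φ inj) (nat_lit 1728) pp_lt pp_lt1).gn bg6 2) (bT6 i)) ∧ Nat.card ((Mdl.prod (c12md ψ inj') (c133md φ inj) (nat_lit 1728) pp_lt pp_lt1).gn bg6 2) ≤ 60 * Nat.card (⊥ : Subgroup (H × G)) :=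
  schreier (bel7 h0) (by decide) bT0_6 (btop6 h0) (ble6 h0) bS6
theorem bel6 (h0 : ∀ s < 2, (Mdl.prod (c12md ψ inj') (c133md φ inj) (nat_lit 1728) pp_lt pp_lt1).In ⊤ (bg0 s)) : (Mdl.prod (c12md ψ inj') (c133md φ inj) (nat_lit 1728) pp_lt pp_lt1).El ((Mdl.prod (c12md ψ inj') (c133md φ inj) (nat_lit 1728) pp_lt pp_lt1).gn bg6 2) be6 := (el_of_pad (bsch6 h0).2.1).cel0 _
theorem bub6 (h0 : ∀ s < 2, (Mdl.prod (c12md ψ inj') (c133md φ inj) (nat_lit 1728) pp_lt pp_lt1).In ⊤ (bg0 s)) : Nat.card ((Mdl.prod (c12md ψ inj') (c133md φ inj) (nat_lit 1728) pp_lt pp_lt1).gn bg6 2) ≤ 60 := (upper (bsch6 h0).2.2 (bub7 h0)).trans (by norm_num)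
theorem bS5 : ∀ i < 42, (chkS ppmul bg5 (nat_lit 2) bT5 be6 bc5 (nat_lit 6) (nat_lit 42)) i = 0 :=
  (rng_step (rng_step (rng_step (rng_step (rng_step (all0 _) bS5_0) bS5_1) bS5_2) bS5_3) bS5_4)
theorem bsch5 (h0 : ∀ s < 2, (Mdl.prod (c12md ψ inj') (c133md φ inj) (nat_lit 1728) pp_lt pp_lt1).In ⊤ (bg0 s)) : (∀ g ∈ ((Mdl.prod (c12md ψ inj') (c133md φ inj) (nat_lit 1728) pp_lt pp_lt1).gn bg5 2), ∃ i < 42, (Mdl.prod (c12md ψ inj') (c133md φ inj) (nat_lit 1728) pp_lt pp_lt1).Cos ((Mdl.prod (c12md ψ inj') (c133md φ inj) (nat_lit 1728) pp_lt pp_lt1).gn bg6 2) bT5 g i) ∧ (∀ i < 42, (Mdl.prod (c12md ψ inj') (c133md φ inj) (nat_lit 1728) pp_lt pp_lt1).In ((Mdl.prod (c12md ψ inj') (c133md φ inj) (nat_lit 1728) pp_lt pp_lt1).gn bg5 2) (bT5 i)) ∧ Nat.card ((Mdl.prod (c12md ψ inj') (c133md φ inj) (nat_lit 1728) pp_lt pp_lt1).gn bg5 2)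 ≤ 42 * Nat.card ((Mdl.prod (c12md ψ inj') (c133md φ inj) (nat_lit 1728) pp_lt pp_lt1).gn bg6 2) :=
  schreier (bel6 h0) (by decide) bT0_5 (btop5 h0) (ble5 h0) bS5
theorem bel5 (h0 : ∀ s < 2, (Mdl.prod (c12md ψ inj') (c133md φ inj) (nat_lit 1728) pp_lt pp_lt1).In ⊤ (bg0 s)) : (Mdl.prod (c12md ψ inj') (c133md φ inj) (nat_lit 1728) pp_lt pp_lt1).El ((Mdl.prod (c12md ψ inj') (c133md φ inj) (nat_lit 1728) pp_lt pp_lt1).gn bg5 2) be5 := (el_of_pad (bsch5 h0).2.1).cel ((bel6 h0).mono (ble5 h0)) _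
theorem bub5 (h0 : ∀ s < 2, (Mdl.prod (c12md ψ inj') (c133md φ inj) (nat_lit 1728) pp_lt pp_lt1).In ⊤ (bg0 s)) : Nat.card ((Mdl.prod (c12md ψ inj') (c133md φ inj) (nat_lit 1728) pp_lt pp_lt1).gn bg5 2) ≤ 2520 := (upper (bsch5 h0).2.2 (bub6 h0)).trans (by norm_num)
theorem bS4 : ∀ i < 8, (chkS ppmul bg4 (nat_lit 2) bT4 be5 bc4 (nat_lit 3) (nat_lit 8)) i = 0 :=
  (rng_step (rng_step (all0 _) bS4_0) bS4_1)
theorem bsch4 (h0 : ∀ s < 2, (Mdl.prod (c12md ψ inj') (c133md φ inj) (nat_lit 1728) pp_lt pp_lt1).In ⊤ (bg0 s)) : (∀ g ∈ ((Mdl.prod (c12md ψ inj') (c133md φ inj) (nat_lit 1728) pp_lt pp_lt1).gn bg4 2), ∃ i < 8, (Mdl.prod (c12md ψ inj') (c133md φ inj) (nat_lit 1728) pp_lt pp_lt1).Cos ((Mdl.prod (c12md ψ inj') (c133md φ inj) (nat_lit 1728) pp_lt pp_lt1).gn bg5 2) bT4 g i) ∧ (∀ i < 8, (Mdl.prod (c12md ψ inj') (c133md φ inj)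 (nat_lit 1728) pp_lt pp_lt1).In ((Mdl.prod (c12md ψ inj') (c133md φ inj) (nat_lit 1728) pp_lt pp_lt1).gn bg4 2) (bT4 i)) ∧ Nat.card ((Mdl.prod (c12md ψ inj') (c133md φ inj) (nat_lit 1728) pp_lt pp_lt1).gn bg4 2) ≤ 8 * Nat.card ((Mdl.prod (c12md ψ inj') (c133md φ inj) (nat_lit 1728) pp_lt pp_lt1).gn bg5 2) :=
  schreier (bel5 h0) (by decide) bT0_4 (btop4 h0) (ble4 h0) bS4
theorem bel4 (h0 : ∀ s < 2, (Mdl.prod (c12md ψ inj') (c133md φ inj) (nat_lit 1728) pp_lt pp_lt1).In ⊤ (bg0 s)) : (Mdl.prod (c12md ψ inj') (c133md φ inj) (nat_lit 1728) pp_lt pp_lt1).El ((Mdl.prod (c12md ψ inj') (c133md φ inj) (nat_lit 1728) pp_lt pp_lt1).gn bg4 2) be4 := (el_of_pad (bsch4 h0).2.1).cel ((bel5 h0).mono (ble4 h0)) _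
theorem bub4 (h0 : ∀ s < 2, (Mdl.prod (c12md ψ inj') (c133md φ inj) (nat_lit 1728) pp_lt pp_lt1).In ⊤ (bg0 s)) : Nat.card ((Mdl.prod (c12md ψ inj') (c133md φ inj) (nat_lit 1728) pp_lt pp_lt1).gn bg4 2) ≤ 20160 := (upper (bsch4 h0).2.2 (bub5 h0)).trans (by norm_num)
theorem bS3 : ∀ i < 9, (chkS ppmul bg3 (nat_lit 2) bT3 be4 bc3 (nat_lit 4) (nat_lit 9)) i = 0 :=
  (rng_step (rng_step (all0 _) bS3_0) bS3_1)
theorem bsch3 (h0 : ∀ s < 2, (Mdl.prod (c12md ψ inj') (c133md φ inj) (nat_lit 1728) pp_lt pp_lt1).In ⊤ (bg0 s)) : (∀ g ∈ ((Mdl.prod (c12md ψ inj') (c133md φ inj) (nat_lit 1728) pp_lt pp_lt1).gn bg3 2), ∃ i < 9, (Mdl.prod (c12md ψ inj') (c133md φ inj) (nat_lit 1728) pp_lt pp_lt1).Cos ((Mdl.prod (c12md ψ inj') (c133md φ inj) (nat_lit 1728) pp_lt pp_lt1).gn bg4 2) bT3 g i) ∧ (∀ i < 9, (Mdl.prod (c12md ψ inj') (c133md φ inj)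 (nat_lit 1728) pp_lt pp_lt1).In ((Mdl.prod (c12md ψ inj') (c133md φ inj) (nat_lit 1728) pp_lt pp_lt1).gn bg3 2) (bT3 i)) ∧ Nat.card ((Mdl.prod (c12md ψ inj') (c133md φ inj) (nat_lit 1728) pp_lt pp_lt1).gn bg3 2) ≤ 9 * Nat.card ((Mdl.prod (c12md ψ inj') (c133md φ inj) (nat_lit 1728) pp_lt pp_lt1).gn bg4 2) :=
  schreier (bel4 h0) (by decide) bT0_3 (btop3 h0) (ble3 h0) bS3
theorem bel3 (h0 : ∀ s < 2, (Mdl.prod (c12md ψ inj') (c133md φ inj) (nat_lit 1728) pp_lt pp_lt1).In ⊤ (bg0 s)) : (Mdl.prod (c12md ψ inj') (c133md φ inj) (nat_lit 1728) pp_lt pp_lt1).El ((Mdl.prod (c12md ψ inj') (c133md φ inj) (nat_lit 1728) pp_lt pp_lt1).gn bg3 2) be3 := (el_of_pad (bsch3 h0).2.1).cel ((bel4 h0).mono (ble3 h0)) _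
theorem bub3 (h0 : ∀ s < 2, (Mdl.prod (c12md ψ inj') (c133md φ inj) (nat_lit 1728) pp_lt pp_lt1).In ⊤ (bg0 s)) : Nat.card ((Mdl.prod (c12md ψ inj') (c133md φ inj) (nat_lit 1728) pp_lt pp_lt1).gn bg3 2) ≤ 181440 := (upper (bsch3 h0).2.2 (bub4 h0)).trans (by norm_num)
theorem bS2 : ∀ i < 10, (chkS ppmul bg2 (nat_lit 2) bT2 be3 bc2 (nat_lit 4) (nat_lit 10)) i = 0 :=
  (rng_step (rng_step (all0 _) bS2_0) bS2_1)
theorem bsch2 (h0 : ∀ s < 2, (Mdl.prod (c12md ψ inj') (c133md φ inj) (nat_lit 1728) pp_lt pp_lt1).In ⊤ (bg0 s)) : (∀ g ∈ ((Mdl.prod (c12md ψ inj') (c133md φ inj) (nat_lit 1728) pp_lt pp_lt1).gn bg2 2), ∃ i < 10, (Mdl.prod (c12md ψ inj') (c133md φ inj) (nat_lit 1728) pp_lt pp_lt1).Cos ((Mdl.prod (c12md ψ inj') (c133md φ inj) (nat_lit 1728) pp_lt pp_lt1).gn bg3 2) bT2 g i) ∧ (∀ i < 10, (Mdl.prod (c12md ψ inj') (c133md φ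 inj) (nat_lit 1728) pp_lt pp_lt1).In ((Mdl.prod (c12md ψ inj') (c133md φ inj) (nat_lit 1728) pp_lt pp_lt1).gn bg2 2) (bT2 i)) ∧ Nat.card ((Mdl.prod (c12md ψ inj') (c133md φ inj) (nat_lit 1728) pp_lt pp_lt1).gn bg2 2) ≤ 10 * Nat.card ((Mdl.prod (c12md ψ inj') (c133md φ inj) (nat_lit 1728) pp_lt pp_lt1).gn bg3 2) :=
  schreier (bel3 h0) (by decide) bT0_2 (btop2 h0) (ble2 h0) bS2
theorem bel2 (h0 : ∀ s < 2, (Mdl.prod (c12md ψ inj') (c133md φ inj) (nat_lit 1728) pp_lt pp_lt1).In ⊤ (bg0 s)) : (Mdl.prod (c12md ψ inj') (c133md φ inj) (nat_lit 1728) pp_lt pp_lt1).El ((Mdl.prod (c12md ψ inj') (c133md φ inj) (nat_lit 1728) pp_lt pp_lt1).gn bg2 2) be2 := (el_of_pad (bsch2 h0).2.1).cel ((bel3 h0).mono (ble2 h0)) _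
theorem bub2 (h0 : ∀ s < 2, (Mdl.prod (c12md ψ inj') (c133md φ inj) (nat_lit 1728) pp_lt pp_lt1).In ⊤ (bg0 s)) : Nat.card ((Mdl.prod (c12md ψ inj') (c133md φ inj) (nat_lit 1728) pp_lt pp_lt1).gn bg2 2) ≤ 1814400 := (upper (bsch2 h0).2.2 (bub3 h0)).trans (by norm_num)
theorem bS1 : ∀ i < 11, (chkS ppmul bg1 (nat_lit 2) bT1 be2 bc1 (nat_lit 4) (nat_lit 11)) i = 0 :=
  (rng_step (rng_step (rng_step (all0 _) bS1_0) bS1_1) bS1_2)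
theorem bsch1 (h0 : ∀ s < 2, (Mdl.prod (c12md ψ inj') (c133md φ inj) (nat_lit 1728) pp_lt pp_lt1).In ⊤ (bg0 s)) : (∀ g ∈ ((Mdl.prod (c12md ψ inj') (c133md φ inj) (nat_lit 1728) pp_lt pp_lt1).gn bg1 2), ∃ i < 11, (Mdl.prod (c12md ψ inj') (c133md φ inj) (nat_lit 1728) pp_lt pp_lt1).Cos ((Mdl.prod (c12md ψ inj') (c133md φ inj) (nat_lit 1728) pp_lt pp_lt1).gn bg2 2) bT1 g i) ∧ (∀ i < 11, (Mdl.prod (c12md ψ inj') (c133md φ inj) (nat_lit 1728) pp_lt pp_lt1).In ((Mdl.prod (c12md ψ inj') (c133md φ inj) (nat_lit 1728) pp_lt pp_lt1).gn bg1 2) (bT1 i)) ∧ Nat.card ((Mdl.prod (c12md ψ inj') (c133md φ inj) (nat_lit 1728) pp_lt pp_lt1).gn bg1 2) ≤ 11 * Nat.card ((Mdl.prod (c12md ψ inj') (c133md φ inj) (nat_lit 1728) pp_lt pp_lt1).gn bg2 2) :=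
  schreier (bel2 h0) (by decide) bT0_1 (btop1 h0) (ble1 h0) bS1
theorem bel1 (h0 : ∀ s < 2, (Mdl.prod (c12md ψ inj') (c133md φ inj) (nat_lit 1728) pp_lt pp_lt1).In ⊤ (bg0 s)) : (Mdl.prod (c12md ψ inj') (c133md φ inj) (nat_lit 1728) pp_lt pp_lt1).El ((Mdl.prod (c12md ψ inj') (c133md φ inj) (nat_lit 1728) pp_lt pp_lt1).gn bg1 2) be1 := (el_of_pad (bsch1 h0).2.1).cel ((bel2 h0).mono (ble1 h0)) _
theorem bub1 (h0 : ∀ s < 2, (Mdl.prod (c12md ψ inj') (c133md φ inj) (nat_lit 1728) pp_lt pp_lt1).In ⊤ (bg0 s)) : Nat.card ((Mdl.prod (c12md ψ inj') (c133md φ inj) (nat_lit 1728) pp_lt pp_lt1).gn bg1 2) ≤ 19958400 := (upper (bsch1 h0).2.2 (bub2 h0)).trans (by norm_num)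
theorem bS0 : ∀ i < 12, (chkS ppmul bg0 (nat_lit 2) bT0 be1 bc0 (nat_lit 4) (nat_lit 12)) i = 0 :=
  (rng_step (rng_step (rng_step (rng_step (all0 _) bS0_0) bS0_1) bS0_2) bS0_3)
theorem bsch0 (h0 : ∀ s < 2, (Mdl.prod (c12md ψ inj') (c133md φ inj) (nat_lit 1728) pp_lt pp_lt1).In ⊤ (bg0 s)) : (∀ g ∈ ((Mdl.prod (c12md ψ inj') (c133md φ inj) (nat_lit 1728) pp_lt pp_lt1).gn bg0 2), ∃ i < 12, (Mdl.prod (c12md ψ inj') (c133md φ inj) (nat_lit 1728) pp_lt pp_lt1).Cos ((Mdl.prod (c12md ψ inj') (c133md φ inj) (nat_lit 1728) pp_lt pp_lt1).gn bg1 2) bT0 g i) ∧ (∀ i < 12, (Mdl.prod (c12md ψ inj') (c133md φ inj) (nat_lit 1728) pp_lt pp_lt1).In ((Mdl.prod (c12md ψ inj') (c133md φ inj) (nat_lit 1728) pp_lt pp_lt1).gn bg0 2) (bT0 i)) ∧ Nat.card ((Mdl.prod (c12md ψ inj') (c133md φ inj) (nat_lit 1728) pp_lt pp_lt1).gn bg0 2) ≤ 12 * Nat.card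 ((Mdl.prod (c12md ψ inj') (c133md φ inj) (nat_lit 1728) pp_lt pp_lt1).gn bg1 2) :=
  schreier (bel1 h0) (by decide) bT0_0 (btop0 h0) (ble0 h0) bS0
theorem bel0 (h0 : ∀ s < 2, (Mdl.prod (c12md ψ inj') (c133md φ inj) (nat_lit 1728) pp_lt pp_lt1).In ⊤ (bg0 s)) : (Mdl.prod (c12md ψ inj') (c133md φ inj) (nat_lit 1728) pp_lt pp_lt1).El ((Mdl.prod (c12md ψ inj') (c133md φ inj) (nat_lit 1728) pp_lt pp_lt1).gn bg0 2) be0 := (el_of_pad (bsch0 h0).2.1).cel ((bel1 h0).mono (ble0 h0)) _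
theorem bub0 (h0 : ∀ s < 2, (Mdl.prod (c12md ψ inj') (c133md φ inj) (nat_lit 1728) pp_lt pp_lt1).In ⊤ (bg0 s)) : Nat.card ((Mdl.prod (c12md ψ inj') (c133md φ inj) (nat_lit 1728) pp_lt pp_lt1).gn bg0 2) ≤ 239500800 := (upper (bsch0 h0).2.2 (bub1 h0)).trans (by norm_num)
theorem bP : ∀ i < 2, (chkPr (nat_lit 1728) bg0 pg0 hg) i = 0 :=
  (rng_step (all0 _) bP_0)
end
theorem atop0 (h0 : ∀ s < 2, (c133md φ inj).In ⊤ (ag0 s)) : ∀ s < 2, (c133md φ inj).In ⊤ (ag0 s) := h0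
theorem aeg0 (h0 : ∀ s < 2, (c133md φ inj).In ⊤ (ag0 s)) : (c133md φ inj).El ((c133md φ inj).gn ag0 2) ag0 := el_gn (atop0 h0)
theorem aW0 : ∀ i < 2, (chkW c133.mul c133.one ag0 [[nat_lit 0, nat_lit 1, nat_lit 0, nat_lit 1, nat_lit 1, nat_lit 0, nat_lit 0, nat_lit 0, nat_lit 0, nat_lit 0],
  [nat_lit 1, nat_lit 1, nat_lit 1, nat_lit 0, nat_lit 1, nat_lit 0, nat_lit 0, nat_lit 0, nat_lit 1, nat_lit 1, nat_lit 0, nat_lit 0]] ag1) i = 0 :=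
  (rng_step (all0 _) aW0_0)
theorem ain1 (h0 : ∀ s < 2, (c133md φ inj).In ⊤ (ag0 s)) : ∀ s < 2, (c133md φ inj).In ((c133md φ inj).gn ag0 2) (ag1 s) := in_of_chkW (aeg0 h0) aW0
theorem atop1 (h0 : ∀ s < 2, (c133md φ inj).In ⊤ (ag0 s)) : ∀ s < 2, (c133md φ inj).In ⊤ (ag1 s) := fun s hs => (ain1 h0 s hs).top
theorem ale0 (h0 : ∀ s < 2, (c133md φ inj).In ⊤ (ag0 s)) : ((c133md φ inj).gn ag1 2) ≤ ((c133md φ inj).gn ag0 2) := gn_le (ain1 h0)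
theorem aeg1 (h0 : ∀ s < 2, (c133md φ inj).In ⊤ (ag0 s)) : (c133md φ inj).El ((c133md φ inj).gn ag1 2) ag1 := el_gn (atop1 h0)
theorem aW1 : ∀ i < 4, (chkW c133.mul c133.one ag1 [[nat_lit 0, nat_lit 0, nat_lit 0, nat_lit 0, nat_lit 0, nat_lit 1, nat_lit 0, nat_lit 1, nat_lit 1, nat_lit 0, nat_lit 0, nat_lit 0],
  [nat_lit 0, nat_lit 1, nat_lit 1, nat_lit 0, nat_lit 0, nat_lit 0, nat_lit 0, nat_lit 1, nat_lit 0, nat_lit 0, nat_lit 1],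
  [nat_lit 1, nat_lit 0, nat_lit 0, nat_lit 1, nat_lit 1, nat_lit 0, nat_lit 1, nat_lit 0, nat_lit 0, nat_lit 0, nat_lit 1, nat_lit 1],
  [nat_lit 0, nat_lit 0, nat_lit 1, nat_lit 0, nat_lit 0, nat_lit 0, nat_lit 1, nat_lit 1, nat_lit 1, nat_lit 0]] ag2) i = 0 :=
  (rng_step (all0 _) aW1_0)
theorem ain2 (h0 : ∀ s < 2, (c133md φ inj).In ⊤ (ag0 s)) : ∀ s < 4, (c133md φ inj).In ((c133md φ inj).gn ag1 2) (ag2 s) := in_of_chkW (aeg1 h0) aW1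
theorem atop2 (h0 : ∀ s < 2, (c133md φ inj).In ⊤ (ag0 s)) : ∀ s < 4, (c133md φ inj).In ⊤ (ag2 s) := fun s hs => (ain2 h0 s hs).top
theorem ale1 (h0 : ∀ s < 2, (c133md φ inj).In ⊤ (ag0 s)) : ((c133md φ inj).gn ag2 4) ≤ ((c133md φ inj).gn ag1 2) := gn_le (ain2 h0)
theorem aeg2 (h0 : ∀ s < 2, (c133md φ inj).In ⊤ (ag0 s)) : (c133md φ inj).El ((c133md φ inj).gn ag2 4) ag2 := el_gn (atop2 h0)
theorem aW2 : ∀ i < 3, (chkW c133.mul c133.one ag2 [[nat_lit 0, nat_lit 1, nat_lit 0],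
  [nat_lit 1, nat_lit 3, nat_lit 0, nat_lit 1, nat_lit 0, nat_lit 1, nat_lit 2],
  [nat_lit 0, nat_lit 2, nat_lit 1, nat_lit 2, nat_lit 2, nat_lit 2, nat_lit 1, nat_lit 1, nat_lit 2, nat_lit 0]] ag3) i = 0 :=
  (rng_step (all0 _) aW2_0)
theorem ain3 (h0 : ∀ s < 2, (c133md φ inj).In ⊤ (ag0 s)) : ∀ s < 3, (c133md φ inj).In ((c133md φ inj).gn ag2 4) (ag3 s) := in_of_chkW (aeg2 h0) aW2
theorem atop3 (h0 : ∀ s < 2, (c133md φ inj).In ⊤ (ag0 s)) : ∀ s < 3, (c133md φ inj).In ⊤ (ag3 s) := fun s hs => (ain3 h0 s hs).top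
theorem ale2 (h0 : ∀ s < 2, (c133md φ inj).In ⊤ (ag0 s)) : ((c133md φ inj).gn ag3 3) ≤ ((c133md φ inj).gn ag2 4) := gn_le (ain3 h0)
theorem aeg3 (h0 : ∀ s < 2, (c133md φ inj).In ⊤ (ag0 s)) : (c133md φ inj).El ((c133md φ inj).gn ag3 3) ag3 := el_gn (atop3 h0)
theorem ale3 (h0 : ∀ s < 2, (c133md φ inj).In ⊤ (ag0 s)) : (⊥ : Subgroup G) ≤ ((c133md φ inj).gn ag3 3) := bot_le
theorem alb4 (h0 : ∀ s < 2, (c133md φ inj).In ⊤ (ag0 s)) : 1 ≤ Nat.card (⊥ : Subgroup G) := one_le_card _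
theorem ay3Y : ∀ i < 24, (chkY c133b.canV c133b.row ay3 (nat_lit 24)) i = 0 :=
  allB (rngB_step (allB0 _ _) ay3Y_0) (by decide)
theorem ay3D : Dist (fun i => (fun x => (⟨c133b.vec (ZMod 11) 133 x⟩ : Vc φ)) (pt c133b.row ay3 i)) 24 :=
  dist_of_chk (@Cfg.Ok.canT G _ _ _ _ c133b (ZMod.charP 11) c133b_ok rfl rfl φ) ay3Y
theorem aO3 : ∀ i < 24, (chkO (c133b.imgV ag3) c133b.row ay3 aO3a (nat_lit 24) [nat_lit 7]) i = 0 :=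
  allB (rngB_step (allB0 _ _) aO3_0) (by decide)
theorem aR3 (h0 : ∀ s < 2, (c133md φ inj).In ⊤ (ag0 s)) : Reach ((c133md φ inj).gn ag3 3) (fun i => (fun x => (⟨c133b.vec (ZMod 11) 133 x⟩ : Vc φ)) (pt c133b.row ay3 i)) 24 [nat_lit 7] :=
  reach_of_chk (pv := (fun x => (⟨c133b.vec (ZMod 11) 133 x⟩ : Vc φ))) ((@Cfg.Ok.acts G _ _ _ _ c133b (ZMod.charP 11) c133b_ok rfl rfl (c133md φ inj) rfl ag3).ex (aeg3 h0)) aO3
theorem afx3 : (⊥ : Subgroup G) ≤ MulAction.stabilizer G ((fun i => (fun x => (⟨c133b.vec (ZMod 11) 133 x⟩ : Vc φ)) (pt c133b.row ay3 i)) (nat_lit 7)) := bot_le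
theorem alb3 (h0 : ∀ s < 2, (c133md φ inj).In ⊤ (ag0 s)) : 24 ≤ Nat.card ((c133md φ inj).gn ag3 3) :=
  le_of_eq_of_le (by norm_num) (lower ay3D (aR3 h0) (ale3 h0) afx3 (alb4 h0))
theorem ay2Y : ∀ i < 96, (chkY c133b.canV c133b.row ay2 (nat_lit 96)) i = 0 :=
  allB (rngB_step (allB0 _ _) ay2Y_0) (by decide)
theorem ay2D : Dist (fun i => (fun x => (⟨c133b.vec (ZMod 11) 133 x⟩ : Vc φ)) (pt c133b.row ay2 i)) 96 :=
  dist_of_chk (@Cfg.Ok.canT G _ _ _ _ c133b (ZMod.charP 11) c133b_ok rfl rfl φ) ay2Y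
theorem aO2 : ∀ i < 96, (chkO (c133b.imgV ag2) c133b.row ay2 aO2a (nat_lit 96) [nat_lit 22]) i = 0 :=
  allB (rngB_step (allB0 _ _) aO2_0) (by decide)
theorem aR2 (h0 : ∀ s < 2, (c133md φ inj).In ⊤ (ag0 s)) : Reach ((c133md φ inj).gn ag2 4) (fun i => (fun x => (⟨c133b.vec (ZMod 11) 133 x⟩ : Vc φ)) (pt c133b.row ay2 i)) 96 [nat_lit 22] :=
  reach_of_chk (pv := (fun x => (⟨c133b.vec (ZMod 11) 133 x⟩ : Vc φ))) ((@Cfg.Ok.acts G _ _ _ _ c133b (ZMod.charP 11) c133b_ok rfl rfl (c133md φ inj) rfl ag2).ex (aeg2 h0)) aO2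
theorem aF2 : ∀ i < 3, (chkF (c133b.imgV ag3) c133b.row ay2 (nat_lit 22) [nat_lit 0, nat_lit 0, nat_lit 0]) i = 0 :=
  (rng_step (all0 _) aF2_0)
theorem afx2 : ((c133md φ inj).gn ag3 3) ≤ MulAction.stabilizer G ((fun i => (fun x => (⟨c133b.vec (ZMod 11) 133 x⟩ : Vc φ)) (pt c133b.row ay2 i)) (nat_lit 22)) :=
  gn_le_stab (@Cfg.Ok.acts G _ _ _ _ c133b (ZMod.charP 11) c133b_ok rfl rfl (c133md φ inj) rfl ag3) aF2
theorem alb2 (h0 : ∀ s < 2, (c133md φ inj).In ⊤ (ag0 s)) : 2304 ≤ Nat.card ((c133md φ inj).gn ag2 4) :=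
  le_of_eq_of_le (by norm_num) (lower ay2D (aR2 h0) (ale2 h0) afx2 (alb3 h0))
theorem ay1Y : ∀ i < 225, (chkY c133b.canV c133b.row ay1 (nat_lit 225)) i = 0 :=
  allB (rngB_step (allB0 _ _) ay1Y_0) (by decide)
theorem ay1D : Dist (fun i => (fun x => (⟨c133b.vec (ZMod 11) 133 x⟩ : Vc φ)) (pt c133b.row ay1 i)) 225 :=
  dist_of_chk (@Cfg.Ok.canT G _ _ _ _ c133b (ZMod.charP 11) c133b_ok rfl rfl φ) ay1Y
theorem aO1 : ∀ i < 225, (chkO (c133b.imgV ag1) c133b.row ay1 aO1a (nat_lit 225) [nat_lit 27]) i = 0 :=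
  allB (rngB_step (allB0 _ _) aO1_0) (by decide)
theorem aR1 (h0 : ∀ s < 2, (c133md φ inj).In ⊤ (ag0 s)) : Reach ((c133md φ inj).gn ag1 2) (fun i => (fun x => (⟨c133b.vec (ZMod 11) 133 x⟩ : Vc φ)) (pt c133b.row ay1 i)) 225 [nat_lit 27] :=
  reach_of_chk (pv := (fun x => (⟨c133b.vec (ZMod 11) 133 x⟩ : Vc φ))) ((@Cfg.Ok.acts G _ _ _ _ c133b (ZMod.charP 11) c133b_ok rfl rfl (c133md φ inj) rfl ag1).ex (aeg1 h0)) aO1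
theorem aF1 : ∀ i < 4, (chkF (c133b.imgV ag2) c133b.row ay1 (nat_lit 27) [nat_lit 0, nat_lit 0, nat_lit 0, nat_lit 0]) i = 0 :=
  (rng_step (all0 _) aF1_0)
theorem afx1 : ((c133md φ inj).gn ag2 4) ≤ MulAction.stabilizer G ((fun i => (fun x => (⟨c133b.vec (ZMod 11) 133 x⟩ : Vc φ)) (pt c133b.row ay1 i)) (nat_lit 27)) :=
  gn_le_stab (@Cfg.Ok.acts G _ _ _ _ c133b (ZMod.charP 11) c133b_ok rfl rfl (c133md φ inj) rfl ag2) aF1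
theorem alb1 (h0 : ∀ s < 2, (c133md φ inj).In ⊤ (ag0 s)) : 518400 ≤ Nat.card ((c133md φ inj).gn ag1 2) :=
  le_of_eq_of_le (by norm_num) (lower ay1D (aR1 h0) (ale1 h0) afx1 (alb2 h0))
theorem ay0Y : ∀ i < 462, (chkY c133b.canV c133b.row ay0 (nat_lit 462)) i = 0 :=
  allB (rngB_step (allB0 _ _) ay0Y_0) (by decide)
theorem ay0D : Dist (fun i => (fun x => (⟨c133b.vec (ZMod 11) 133 x⟩ : Vc φ)) (pt c133b.row ay0 i)) 462 :=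
  dist_of_chk (@Cfg.Ok.canT G _ _ _ _ c133b (ZMod.charP 11) c133b_ok rfl rfl φ) ay0Y
theorem aO0 : ∀ i < 462, (chkO (c133b.imgV ag0) c133b.row ay0 aO0a (nat_lit 462) [nat_lit 461]) i = 0 :=
  allB (rngB_step (allB0 _ _) aO0_0) (by decide)
theorem aR0 (h0 : ∀ s < 2, (c133md φ inj).In ⊤ (ag0 s)) : Reach ((c133md φ inj).gn ag0 2) (fun i => (fun x => (⟨c133b.vec (ZMod 11) 133 x⟩ : Vc φ)) (pt c133b.row ay0 i)) 462 [nat_lit 461] :=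
  reach_of_chk (pv := (fun x => (⟨c133b.vec (ZMod 11) 133 x⟩ : Vc φ))) ((@Cfg.Ok.acts G _ _ _ _ c133b (ZMod.charP 11) c133b_ok rfl rfl (c133md φ inj) rfl ag0).ex (aeg0 h0)) aO0
theorem aF0 : ∀ i < 2, (chkF (c133b.imgV ag1) c133b.row ay0 (nat_lit 461) [nat_lit 0, nat_lit 0]) i = 0 :=
  (rng_step (all0 _) aF0_0)
theorem afx0 : ((c133md φ inj).gn ag1 2) ≤ MulAction.stabilizer G ((fun i => (fun x => (⟨c133b.vec (ZMod 11) 133 x⟩ : Vc φ)) (pt c133b.row ay0 i)) (nat_lit 461)) :=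
  gn_le_stab (@Cfg.Ok.acts G _ _ _ _ c133b (ZMod.charP 11) c133b_ok rfl rfl (c133md φ inj) rfl ag1) aF0
theorem alb0 (h0 : ∀ s < 2, (c133md φ inj).In ⊤ (ag0 s)) : 239500800 ≤ Nat.card ((c133md φ inj).gn ag0 2) :=
  le_of_eq_of_le (by norm_num) (lower ay0D (aR0 h0) (ale0 h0) afx0 (alb1 h0))
theorem aex0 (h0 : ∀ s < 2, (c133md φ inj).In ⊤ (hg s)) (hub : Nat.card ((c133md φ inj).gn hg 2) ≤ 239500800) : MulAction.orbit ((c133md φ inj).gn ag0 2) ((fun i => (fun x => (⟨c133b.vec (ZMod 11) 133 x⟩ : Vc φ)) (pt c133b.row ay0 i)) (nat_lit 461)) = (fun i => (fun x => (⟨c133b.vec (ZMod 11) 133 x⟩ : Vc φ)) (pt c133b.row ay0 i)) '' {i | i < 462} ∧ ((c133md φ inj).gn ag0 2) ⊓ MulAction.stabilizer G ((fun i => (fun x => (⟨c133b.vec (ZMod 11) 133 x⟩ : Vc φ)) (pt c133b.row ay0 i)) (nat_lit 461)) = ((c133md φ inj).gn ag1 2) ∧ Nat.card ((c133md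 φ inj).gn ag0 2) = 462 * 518400 ∧ Nat.card ((c133md φ inj).gn ag1 2) = 518400 :=
  exact ay0D (aR0 h0) (ale0 h0) afx0 (alb1 h0) ((hub).trans (by norm_num))
theorem aex1 (h0 : ∀ s < 2, (c133md φ inj).In ⊤ (hg s)) (hub : Nat.card ((c133md φ inj).gn hg 2) ≤ 239500800) : MulAction.orbit ((c133md φ inj).gn ag1 2) ((fun i => (fun x => (⟨c133b.vec (ZMod 11) 133 x⟩ : Vc φ)) (pt c133b.row ay1 i)) (nat_lit 27)) = (fun i => (fun x => (⟨c133b.vec (ZMod 11) 133 x⟩ : Vc φ)) (pt c133b.row ay1 i)) '' {i | i < 225} ∧ ((c133md φ inj).gn ag1 2) ⊓ MulAction.stabilizer G ((fun i => (fun x => (⟨c133b.vec (ZMod 11) 133 x⟩ : Vc φ)) (pt c133b.row ay1 i)) (nat_lit 27)) = ((c133md φ inj).gn ag2 4) ∧ Nat.card ((c133md φ inj).gn ag1 2) = 225 * 2304 ∧ Nat.card ((c133md φ inj).gn ag2 4) = 2304 :=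
  exact ay1D (aR1 h0) (ale1 h0) afx1 (alb2 h0) (((aex0 h0 hub).2.2.2.le).trans (by norm_num))
theorem aex2 (h0 : ∀ s < 2, (c133md φ inj).In ⊤ (hg s)) (hub : Nat.card ((c133md φ inj).gn hg 2) ≤ 239500800) : MulAction.orbit ((c133md φ inj).gn ag2 4) ((fun i => (fun x => (⟨c133b.vec (ZMod 11) 133 x⟩ : Vc φ)) (pt c133b.row ay2 i)) (nat_lit 22)) = (fun i => (fun x => (⟨c133b.vec (ZMod 11) 133 x⟩ : Vc φ)) (pt c133b.row ay2 i)) '' {i | i < 96} ∧ ((c133md φ inj).gn ag2 4) ⊓ MulAction.stabilizer G ((fun i => (fun x => (⟨c133b.vec (ZMod 11) 133 x⟩ : Vc φ)) (pt c133b.row ay2 i)) (nat_lit 22)) = ((c133md φ inj).gn ag3 3) ∧ Nat.card ((c133md φ inj).gn ag2 4) = 96 * 24 ∧ Nat.card ((c133md φ inj).gn ag3 3) = 24 :=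
  exact ay2D (aR2 h0) (ale2 h0) afx2 (alb3 h0) (((aex1 h0 hub).2.2.2.le).trans (by norm_num))
theorem aex3 (h0 : ∀ s < 2, (c133md φ inj).In ⊤ (hg s)) (hub : Nat.card ((c133md φ inj).gn hg 2) ≤ 239500800) : MulAction.orbit ((c133md φ inj).gn ag3 3) ((fun i => (fun x => (⟨c133b.vec (ZMod 11) 133 x⟩ : Vc φ)) (pt c133b.row ay3 i)) (nat_lit 7)) = (fun i => (fun x => (⟨c133b.vec (ZMod 11) 133 x⟩ : Vc φ)) (pt c133b.row ay3 i)) '' {i | i < 24} ∧ ((c133md φ inj).gn ag3 3) ⊓ MulAction.stabilizer G ((fun i => (fun x => (⟨c133b.vec (ZMod 11) 133 x⟩ : Vc φ)) (pt c133b.row ay3 i)) (nat_lit 7)) = (⊥ : Subgroup G) ∧ Nat.card ((c133md φ inj).gn ag3 3) = 24 * 1 ∧ Nat.card (⊥ : Subgroup G) = 1 :=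
  exact ay3D (aR3 h0) (ale3 h0) afx3 (alb4 h0) (((aex2 h0 hub).2.2.2.le).trans (by norm_num))
theorem dT : ∀ i < 10, (chkT c133.mul dD hE [[nat_lit 1, nat_lit 1929266835], [nat_lit 1, nat_lit 1447577141], [nat_lit 1, nat_lit 241272376], [nat_lit 2, nat_lit 1731467139], [nat_lit 2, nat_lit 1597923910], [nat_lit 5, nat_lit 378738241], [nat_lit 3, nat_lit 1352426905], [nat_lit 8, nat_lit 772964745], [nat_lit 9, nat_lit 722747650], [nat_lit 10, nat_lit 340091424]]) i = 0 :=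
  (rng_step (rng_step (all0 _) dT_0) dT_1)
theorem dle : ((c133md φ inj).gn hg 2) ≤ ((c133md φ inj).gn dg 3) := le_gn_cons _ _ _
theorem delD (h0 : ∀ s < 2, (c133md φ inj).In ⊤ (hg s)) (h1 : (c133md φ inj).In ⊤ (dD 1)) (he : (c133md φ inj).El ((c133md φ inj).gn hg 2) hE) (hub : Nat.card ((c133md φ inj).gn hg 2) ≤ 239500800) : (c133md φ inj).El ((c133md φ inj).gn dg 3) dD :=
  el_D (n := 10) ((he).mono dle) dD0 (in_gn_cons h1 _ _) dT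
theorem dtop (h0 : ∀ s < 2, (c133md φ inj).In ⊤ (hg s)) (h1 : (c133md φ inj).In ⊤ (dD 1)) (he : (c133md φ inj).El ((c133md φ inj).gn hg 2) hE) (hub : Nat.card ((c133md φ inj).gn hg 2) ≤ 239500800) : (c133md φ inj).El ⊤ dD := (delD h0 h1 he hub).mono le_top
theorem del (h0 : ∀ s < 2, (c133md φ inj).In ⊤ (hg s)) (h1 : (c133md φ inj).In ⊤ (dD 1)) (he : (c133md φ inj).El ((c133md φ inj).gn hg 2) hE) (hub : Nat.card ((c133md φ inj).gn hg 2) ≤ 239500800) : (c133md φ inj).El ((c133md φ inj).gn dg 3) de := (delD h0 h1 he hub).del ((he).mono dle) _ _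
theorem l2top0 (h0 : ∀ s < 2, (c133md φ inj).In ⊤ (l2g0 s)) : ∀ s < 2, (c133md φ inj).In ⊤ (l2g0 s) := h0
theorem l2eg0 (h0 : ∀ s < 2, (c133md φ inj).In ⊤ (l2g0 s)) : (c133md φ inj).El ((c133md φ inj).gn l2g0 2) l2g0 := el_gn (l2top0 h0)
theorem l2W0 : ∀ i < 3, (chkW c133.mul c133.one l2g0 [[nat_lit 1, nat_lit 0, nat_lit 0, nat_lit 1, nat_lit 1, nat_lit 1, nat_lit 0, nat_lit 1, nat_lit 1, nat_lit 0, nat_lit 1, nat_lit 1, nat_lit 0, nat_lit 0],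
  [nat_lit 0, nat_lit 0, nat_lit 1, nat_lit 0, nat_lit 1, nat_lit 1, nat_lit 1, nat_lit 0],
  [nat_lit 1, nat_lit 1, nat_lit 1, nat_lit 0, nat_lit 1, nat_lit 1, nat_lit 1, nat_lit 0, nat_lit 1, nat_lit 0]] l2g1) i = 0 :=
  (rng_step (all0 _) l2W0_0)
theorem l2in1 (h0 : ∀ s < 2, (c133md φ inj).In ⊤ (l2g0 s)) : ∀ s < 3, (c133md φ inj).In ((c133md φ inj).gn l2g0 2) (l2g1 s) := in_of_chkW (l2eg0 h0) l2W0
theorem l2top1 (h0 : ∀ s < 2, (c133md φ inj).In ⊤ (l2g0 s)) : ∀ s < 3, (c133md φ inj).In ⊤ (l2g1 s) := fun s hs => (l2in1 h0 s hs).top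
theorem l2le0 (h0 : ∀ s < 2, (c133md φ inj).In ⊤ (l2g0 s)) : ((c133md φ inj).gn l2g1 3) ≤ ((c133md φ inj).gn l2g0 2) := gn_le (l2in1 h0)
theorem l2eg1 (h0 : ∀ s < 2, (c133md φ inj).In ⊤ (l2g0 s)) : (c133md φ inj).El ((c133md φ inj).gn l2g1 3) l2g1 := el_gn (l2top1 h0)
theorem l2W1 : ∀ i < 2, (chkW c133.mul c133.one l2g1 [[nat_lit 0, nat_lit 2, nat_lit 2, nat_lit 0, nat_lit 1, nat_lit 2],
  [nat_lit 2, nat_lit 2, nat_lit 2, nat_lit 0, nat_lit 2, nat_lit 2]] l2g2) i = 0 :=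
  (rng_step (all0 _) l2W1_0)
theorem l2in2 (h0 : ∀ s < 2, (c133md φ inj).In ⊤ (l2g0 s)) : ∀ s < 2, (c133md φ inj).In ((c133md φ inj).gn l2g1 3) (l2g2 s) := in_of_chkW (l2eg1 h0) l2W1
theorem l2top2 (h0 : ∀ s < 2, (c133md φ inj).In ⊤ (l2g0 s)) : ∀ s < 2, (c133md φ inj).In ⊤ (l2g2 s) := fun s hs => (l2in2 h0 s hs).top
theorem l2le1 (h0 : ∀ s < 2, (c133md φ inj).In ⊤ (l2g0 s)) : ((c133md φ inj).gn l2g2 2) ≤ ((c133md φ inj).gn l2g1 3) := gn_le (l2in2 h0)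
theorem l2eg2 (h0 : ∀ s < 2, (c133md φ inj).In ⊤ (l2g0 s)) : (c133md φ inj).El ((c133md φ inj).gn l2g2 2) l2g2 := el_gn (l2top2 h0)
theorem l2le2 (h0 : ∀ s < 2, (c133md φ inj).In ⊤ (l2g0 s)) : (⊥ : Subgroup G) ≤ ((c133md φ inj).gn l2g2 2) := bot_le
theorem l2lb3 (h0 : ∀ s < 2, (c133md φ inj).In ⊤ (l2g0 s)) : 1 ≤ Nat.card (⊥ : Subgroup G) := one_le_card _
theorem l2y2Y : ∀ i < 4, (chkY c133b.canV c133b.row l2y2 (nat_lit 4)) i = 0 :=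
  allB (rngB_step (allB0 _ _) l2y2Y_0) (by decide)
theorem l2y2D : Dist (fun i => (fun x => (⟨c133b.vec (ZMod 11) 133 x⟩ : Vc φ)) (pt c133b.row l2y2 i)) 4 :=
  dist_of_chk (@Cfg.Ok.canT G _ _ _ _ c133b (ZMod.charP 11) c133b_ok rfl rfl φ) l2y2Y
theorem l2O2 : ∀ i < 4, (chkO (c133b.imgV l2g2) c133b.row l2y2 l2O2a (nat_lit 4) [nat_lit 2]) i = 0 :=
  allB (rngB_step (allB0 _ _) l2O2_0) (by decide)
theorem l2R2 (h0 : ∀ s < 2, (c133md φ inj).In ⊤ (l2g0 s)) : Reach ((c133md φ inj).gn l2g2 2) (fun i => (fun x => (⟨c133b.vec (ZMod 11) 133 x⟩ : Vc φ)) (pt c133b.row l2y2 i)) 4 [nat_lit 2] :=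
  reach_of_chk (pv := (fun x => (⟨c133b.vec (ZMod 11) 133 x⟩ : Vc φ))) ((@Cfg.Ok.acts G _ _ _ _ c133b (ZMod.charP 11) c133b_ok rfl rfl (c133md φ inj) rfl l2g2).ex (l2eg2 h0)) l2O2
theorem l2fx2 : (⊥ : Subgroup G) ≤ MulAction.stabilizer G ((fun i => (fun x => (⟨c133b.vec (ZMod 11) 133 x⟩ : Vc φ)) (pt c133b.row l2y2 i)) (nat_lit 2)) := bot_le
theorem l2lb2 (h0 : ∀ s < 2, (c133md φ inj).In ⊤ (l2g0 s)) : 4 ≤ Nat.card ((c133md φ inj).gn l2g2 2) :=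
  le_of_eq_of_le (by norm_num) (lower l2y2D (l2R2 h0) (l2le2 h0) l2fx2 (l2lb3 h0))
theorem l2y1Y : ∀ i < 24, (chkY c133b.canV c133b.row l2y1 (nat_lit 24)) i = 0 :=
  allB (rngB_step (allB0 _ _) l2y1Y_0) (by decide)
theorem l2y1D : Dist (fun i => (fun x => (⟨c133b.vec (ZMod 11) 133 x⟩ : Vc φ)) (pt c133b.row l2y1 i)) 24 :=
  dist_of_chk (@Cfg.Ok.canT G _ _ _ _ c133b (ZMod.charP 11) c133b_ok rfl rfl φ) l2y1Y
theorem l2O1 : ∀ i < 24, (chkO (c133b.imgV l2g1) c133b.row l2y1 l2O1a (nat_lit 24) [nat_lit 7]) i = 0 :=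
  allB (rngB_step (allB0 _ _) l2O1_0) (by decide)
theorem l2R1 (h0 : ∀ s < 2, (c133md φ inj).In ⊤ (l2g0 s)) : Reach ((c133md φ inj).gn l2g1 3) (fun i => (fun x => (⟨c133b.vec (ZMod 11) 133 x⟩ : Vc φ)) (pt c133b.row l2y1 i)) 24 [nat_lit 7] :=
  reach_of_chk (pv := (fun x => (⟨c133b.vec (ZMod 11) 133 x⟩ : Vc φ))) ((@Cfg.Ok.acts G _ _ _ _ c133b (ZMod.charP 11) c133b_ok rfl rfl (c133md φ inj) rfl l2g1).ex (l2eg1 h0)) l2O1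
theorem l2F1 : ∀ i < 2, (chkF (c133b.imgV l2g2) c133b.row l2y1 (nat_lit 7) [nat_lit 0, nat_lit 0]) i = 0 :=
  (rng_step (all0 _) l2F1_0)
theorem l2fx1 : ((c133md φ inj).gn l2g2 2) ≤ MulAction.stabilizer G ((fun i => (fun x => (⟨c133b.vec (ZMod 11) 133 x⟩ : Vc φ)) (pt c133b.row l2y1 i)) (nat_lit 7)) :=
  gn_le_stab (@Cfg.Ok.acts G _ _ _ _ c133b (ZMod.charP 11) c133b_ok rfl rfl (c133md φ inj) rfl l2g2) l2F1
theorem l2lb1 (h0 : ∀ s < 2, (c133md φ inj).In ⊤ (l2g0 s)) : 96 ≤ Nat.card ((c133md φ inj).gn l2g1 3) :=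
  le_of_eq_of_le (by norm_num) (lower l2y1D (l2R1 h0) (l2le1 h0) l2fx1 (l2lb2 h0))
theorem l2y0Y : ∀ i < 240, (chkY c133b.canV c133b.row l2y0 (nat_lit 240)) i = 0 :=
  allB (rngB_step (allB0 _ _) l2y0Y_0) (by decide)
theorem l2y0D : Dist (fun i => (fun x => (⟨c133b.vec (ZMod 11) 133 x⟩ : Vc φ)) (pt c133b.row l2y0 i)) 240 :=
  dist_of_chk (@Cfg.Ok.canT G _ _ _ _ c133b (ZMod.charP 11) c133b_ok rfl rfl φ) l2y0Y
theorem l2O0 : ∀ i < 240, (chkO (c133b.imgV l2g0) c133b.row l2y0 l2O0a (nat_lit 240) [nat_lit 150]) i = 0 :=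
  allB (rngB_step (allB0 _ _) l2O0_0) (by decide)
theorem l2R0 (h0 : ∀ s < 2, (c133md φ inj).In ⊤ (l2g0 s)) : Reach ((c133md φ inj).gn l2g0 2) (fun i => (fun x => (⟨c133b.vec (ZMod 11) 133 x⟩ : Vc φ)) (pt c133b.row l2y0 i)) 240 [nat_lit 150] :=
  reach_of_chk (pv := (fun x => (⟨c133b.vec (ZMod 11) 133 x⟩ : Vc φ))) ((@Cfg.Ok.acts G _ _ _ _ c133b (ZMod.charP 11) c133b_ok rfl rfl (c133md φ inj) rfl l2g0).ex (l2eg0 h0)) l2O0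
theorem l2F0 : ∀ i < 3, (chkF (c133b.imgV l2g1) c133b.row l2y0 (nat_lit 150) [nat_lit 0, nat_lit 0, nat_lit 0]) i = 0 :=
  (rng_step (all0 _) l2F0_0)
theorem l2fx0 : ((c133md φ inj).gn l2g1 3) ≤ MulAction.stabilizer G ((fun i => (fun x => (⟨c133b.vec (ZMod 11) 133 x⟩ : Vc φ)) (pt c133b.row l2y0 i)) (nat_lit 150)) :=
  gn_le_stab (@Cfg.Ok.acts G _ _ _ _ c133b (ZMod.charP 11) c133b_ok rfl rfl (c133md φ inj) rfl l2g1) l2F0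
theorem l2lb0 (h0 : ∀ s < 2, (c133md φ inj).In ⊤ (l2g0 s)) : 23040 ≤ Nat.card ((c133md φ inj).gn l2g0 2) :=
  le_of_eq_of_le (by norm_num) (lower l2y0D (l2R0 h0) (l2le0 h0) l2fx0 (l2lb1 h0))
theorem l2E : ∀ i < 2, (chkE l2g0 hE [nat_lit 1520263190, nat_lit 849305765]) i = 0 :=
  (rng_step (all0 _) l2E_0)
theorem l2in (he : (c133md φ inj).El ((c133md φ inj).gn hg 2) hE) : ∀ s < 2, (c133md φ inj).In ((c133md φ inj).gn hg 2) (l2g0 s) := in_of_chkE he l2E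
theorem l3top0 (h0 : ∀ s < 3, (c133md φ inj).In ⊤ (l3g0 s)) : ∀ s < 3, (c133md φ inj).In ⊤ (l3g0 s) := h0
theorem l3eg0 (h0 : ∀ s < 3, (c133md φ inj).In ⊤ (l3g0 s)) : (c133md φ inj).El ((c133md φ inj).gn l3g0 3) l3g0 := el_gn (l3top0 h0)
theorem l3W0 : ∀ i < 3, (chkW c133.mul c133.one l3g0 [[nat_lit 0, nat_lit 0, nat_lit 2, nat_lit 0, nat_lit 0, nat_lit 1],
  [nat_lit 2, nat_lit 0, nat_lit 1, nat_lit 2, nat_lit 1, nat_lit 0, nat_lit 1, nat_lit 0, nat_lit 2],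
  [nat_lit 2, nat_lit 1, nat_lit 2, nat_lit 2, nat_lit 1, nat_lit 0, nat_lit 2]] l3g1) i = 0 :=
  (rng_step (all0 _) l3W0_0)
theorem l3in1 (h0 : ∀ s < 3, (c133md φ inj).In ⊤ (l3g0 s)) : ∀ s < 3, (c133md φ inj).In ((c133md φ inj).gn l3g0 3) (l3g1 s) := in_of_chkW (l3eg0 h0) l3W0
theorem l3top1 (h0 : ∀ s < 3, (c133md φ inj).In ⊤ (l3g0 s)) : ∀ s < 3, (c133md φ inj).In ⊤ (l3g1 s) := fun s hs => (l3in1 h0 s hs).top
theorem l3le0 (h0 : ∀ s < 3, (c133md φ inj).In ⊤ (l3g0 s)) : ((c133md φ inj).gn l3g1 3) ≤ ((c133md φ inj).gn l3g0 3) := gn_le (l3in1 h0)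
theorem l3eg1 (h0 : ∀ s < 3, (c133md φ inj).In ⊤ (l3g0 s)) : (c133md φ inj).El ((c133md φ inj).gn l3g1 3) l3g1 := el_gn (l3top1 h0)
theorem l3W1 : ∀ i < 2, (chkW c133.mul c133.one l3g1 [[nat_lit 0, nat_lit 1, nat_lit 1, nat_lit 1, nat_lit 0, nat_lit 1, nat_lit 1, nat_lit 2, nat_lit 0, nat_lit 0],
  [nat_lit 1, nat_lit 1, nat_lit 0, nat_lit 2, nat_lit 0]] l3g2) i = 0 :=
  (rng_step (all0 _) l3W1_0)
theorem l3in2 (h0 : ∀ s < 3, (c133md φ inj).In ⊤ (l3g0 s)) : ∀ s < 2, (c133md φ inj).In ((c133md φ inj).gn l3g1 3) (l3g2 s) := in_of_chkW (l3eg1 h0) l3W1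
theorem l3top2 (h0 : ∀ s < 3, (c133md φ inj).In ⊤ (l3g0 s)) : ∀ s < 2, (c133md φ inj).In ⊤ (l3g2 s) := fun s hs => (l3in2 h0 s hs).top
theorem l3le1 (h0 : ∀ s < 3, (c133md φ inj).In ⊤ (l3g0 s)) : ((c133md φ inj).gn l3g2 2) ≤ ((c133md φ inj).gn l3g1 3) := gn_le (l3in2 h0)
theorem l3eg2 (h0 : ∀ s < 3, (c133md φ inj).In ⊤ (l3g0 s)) : (c133md φ inj).El ((c133md φ inj).gn l3g2 2) l3g2 := el_gn (l3top2 h0)
theorem l3le2 (h0 : ∀ s < 3, (c133md φ inj).In ⊤ (l3g0 s)) : (⊥ : Subgroup G) ≤ ((c133md φ inj).gn l3g2 2) := bot_le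
theorem l3lb3 (h0 : ∀ s < 3, (c133md φ inj).In ⊤ (l3g0 s)) : 1 ≤ Nat.card (⊥ : Subgroup G) := one_le_card _
theorem l3y2Y : ∀ i < 4, (chkY c133b.canV c133b.row l3y2 (nat_lit 4)) i = 0 :=
  allB (rngB_step (allB0 _ _) l3y2Y_0) (by decide)
theorem l3y2D : Dist (fun i => (fun x => (⟨c133b.vec (ZMod 11) 133 x⟩ : Vc φ)) (pt c133b.row l3y2 i)) 4 :=
  dist_of_chk (@Cfg.Ok.canT G _ _ _ _ c133b (ZMod.charP 11) c133b_ok rfl rfl φ) l3y2Y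
theorem l3O2 : ∀ i < 4, (chkO (c133b.imgV l3g2) c133b.row l3y2 l3O2a (nat_lit 4) [nat_lit 0]) i = 0 :=
  allB (rngB_step (allB0 _ _) l3O2_0) (by decide)
theorem l3R2 (h0 : ∀ s < 3, (c133md φ inj).In ⊤ (l3g0 s)) : Reach ((c133md φ inj).gn l3g2 2) (fun i => (fun x => (⟨c133b.vec (ZMod 11) 133 x⟩ : Vc φ)) (pt c133b.row l3y2 i)) 4 [nat_lit 0] :=
  reach_of_chk (pv := (fun x => (⟨c133b.vec (ZMod 11) 133 x⟩ : Vc φ))) ((@Cfg.Ok.acts G _ _ _ _ c133b (ZMod.charP 11) c133b_ok rfl rfl (c133md φ inj) rfl l3g2).ex (l3eg2 h0)) l3O2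
theorem l3fx2 : (⊥ : Subgroup G) ≤ MulAction.stabilizer G ((fun i => (fun x => (⟨c133b.vec (ZMod 11) 133 x⟩ : Vc φ)) (pt c133b.row l3y2 i)) (nat_lit 0)) := bot_le
theorem l3lb2 (h0 : ∀ s < 3, (c133md φ inj).In ⊤ (l3g0 s)) : 4 ≤ Nat.card ((c133md φ inj).gn l3g2 2) :=
  le_of_eq_of_le (by norm_num) (lower l3y2D (l3R2 h0) (l3le2 h0) l3fx2 (l3lb3 h0))
theorem l3y1Y : ∀ i < 36, (chkY c133b.canV c133b.row l3y1 (nat_lit 36)) i = 0 :=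
  allB (rngB_step (allB0 _ _) l3y1Y_0) (by decide)
theorem l3y1D : Dist (fun i => (fun x => (⟨c133b.vec (ZMod 11) 133 x⟩ : Vc φ)) (pt c133b.row l3y1 i)) 36 :=
  dist_of_chk (@Cfg.Ok.canT G _ _ _ _ c133b (ZMod.charP 11) c133b_ok rfl rfl φ) l3y1Y
theorem l3O1 : ∀ i < 36, (chkO (c133b.imgV l3g1) c133b.row l3y1 l3O1a (nat_lit 36) [nat_lit 27]) i = 0 :=
  allB (rngB_step (allB0 _ _) l3O1_0) (by decide)
theorem l3R1 (h0 : ∀ s < 3, (c133md φ inj).In ⊤ (l3g0 s)) : Reach ((c133md φ inj).gn l3g1 3) (fun i => (fun x => (⟨c133b.vec (ZMod 11) 133 x⟩ : Vc φ)) (pt c133b.row l3y1 i)) 36 [nat_lit 27] :=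
  reach_of_chk (pv := (fun x => (⟨c133b.vec (ZMod 11) 133 x⟩ : Vc φ))) ((@Cfg.Ok.acts G _ _ _ _ c133b (ZMod.charP 11) c133b_ok rfl rfl (c133md φ inj) rfl l3g1).ex (l3eg1 h0)) l3O1
theorem l3F1 : ∀ i < 2, (chkF (c133b.imgV l3g2) c133b.row l3y1 (nat_lit 27) [nat_lit 0, nat_lit 0]) i = 0 :=
  (rng_step (all0 _) l3F1_0)
theorem l3fx1 : ((c133md φ inj).gn l3g2 2) ≤ MulAction.stabilizer G ((fun i => (fun x => (⟨c133b.vec (ZMod 11) 133 x⟩ : Vc φ)) (pt c133b.row l3y1 i)) (nat_lit 27)) :=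
  gn_le_stab (@Cfg.Ok.acts G _ _ _ _ c133b (ZMod.charP 11) c133b_ok rfl rfl (c133md φ inj) rfl l3g2) l3F1
theorem l3lb1 (h0 : ∀ s < 3, (c133md φ inj).In ⊤ (l3g0 s)) : 144 ≤ Nat.card ((c133md φ inj).gn l3g1 3) :=
  le_of_eq_of_le (by norm_num) (lower l3y1D (l3R1 h0) (l3le1 h0) l3fx1 (l3lb2 h0))
theorem l3y0Y : ∀ i < 54, (chkY c133b.canV c133b.row l3y0 (nat_lit 54)) i = 0 :=
  allB (rngB_step (allB0 _ _) l3y0Y_0) (by decide)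
theorem l3y0D : Dist (fun i => (fun x => (⟨c133b.vec (ZMod 11) 133 x⟩ : Vc φ)) (pt c133b.row l3y0 i)) 54 :=
  dist_of_chk (@Cfg.Ok.canT G _ _ _ _ c133b (ZMod.charP 11) c133b_ok rfl rfl φ) l3y0Y
theorem l3O0 : ∀ i < 54, (chkO (c133b.imgV l3g0) c133b.row l3y0 l3O0a (nat_lit 54) [nat_lit 53]) i = 0 :=
  allB (rngB_step (allB0 _ _) l3O0_0) (by decide)
theorem l3R0 (h0 : ∀ s < 3, (c133md φ inj).In ⊤ (l3g0 s)) : Reach ((c133md φ inj).gn l3g0 3) (fun i => (fun x => (⟨c133b.vec (ZMod 11) 133 x⟩ : Vc φ)) (pt c133b.row l3y0 i)) 54 [nat_lit 53] :=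
  reach_of_chk (pv := (fun x => (⟨c133b.vec (ZMod 11) 133 x⟩ : Vc φ))) ((@Cfg.Ok.acts G _ _ _ _ c133b (ZMod.charP 11) c133b_ok rfl rfl (c133md φ inj) rfl l3g0).ex (l3eg0 h0)) l3O0
theorem l3F0 : ∀ i < 3, (chkF (c133b.imgV l3g1) c133b.row l3y0 (nat_lit 53) [nat_lit 0, nat_lit 0, nat_lit 0]) i = 0 :=
  (rng_step (all0 _) l3F0_0)
theorem l3fx0 : ((c133md φ inj).gn l3g1 3) ≤ MulAction.stabilizer G ((fun i => (fun x => (⟨c133b.vec (ZMod 11) 133 x⟩ : Vc φ)) (pt c133b.row l3y0 i)) (nat_lit 53)) :=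
  gn_le_stab (@Cfg.Ok.acts G _ _ _ _ c133b (ZMod.charP 11) c133b_ok rfl rfl (c133md φ inj) rfl l3g1) l3F0
theorem l3lb0 (h0 : ∀ s < 3, (c133md φ inj).In ⊤ (l3g0 s)) : 7776 ≤ Nat.card ((c133md φ inj).gn l3g0 3) :=
  le_of_eq_of_le (by norm_num) (lower l3y0D (l3R0 h0) (l3le0 h0) l3fx0 (l3lb1 h0))
theorem l3E : ∀ i < 3, (chkE l3g0 hE [nat_lit 521630582, nat_lit 1310146933, nat_lit 982389595]) i = 0 :=
  (rng_step (all0 _) l3E_0)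
theorem l3in (he : (c133md φ inj).El ((c133md φ inj).gn hg 2) hE) : ∀ s < 3, (c133md φ inj).In ((c133md φ inj).gn hg 2) (l3g0 s) := in_of_chkE he l3E
theorem l4top0 (h0 : ∀ s < 2, (c133md φ inj).In ⊤ (l4g0 s)) : ∀ s < 2, (c133md φ inj).In ⊤ (l4g0 s) := h0
theorem l4eg0 (h0 : ∀ s < 2, (c133md φ inj).In ⊤ (l4g0 s)) : (c133md φ inj).El ((c133md φ inj).gn l4g0 2) l4g0 := el_gn (l4top0 h0)
theorem l4W0 : ∀ i < 4, (chkW c133.mul c133.one l4g0 [[nat_lit 0, nat_lit 0, nat_lit 1, nat_lit 1, nat_lit 0, nat_lit 0, nat_lit 1, nat_lit 1, nat_lit 1, nat_lit 0],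
  [nat_lit 0, nat_lit 1, nat_lit 1, nat_lit 0, nat_lit 0, nat_lit 1, nat_lit 1, nat_lit 0, nat_lit 0, nat_lit 1, nat_lit 1, nat_lit 0],
  [nat_lit 1, nat_lit 1, nat_lit 1, nat_lit 1, nat_lit 1, nat_lit 0, nat_lit 0, nat_lit 0, nat_lit 1, nat_lit 1, nat_lit 1],
  [nat_lit 1, nat_lit 1, nat_lit 1, nat_lit 1, nat_lit 1, nat_lit 0, nat_lit 0, nat_lit 0, nat_lit 1, nat_lit 1, nat_lit 1]] l4g1) i = 0 :=
  (rng_step (all0 _) l4W0_0)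
theorem l4in1 (h0 : ∀ s < 2, (c133md φ inj).In ⊤ (l4g0 s)) : ∀ s < 4, (c133md φ inj).In ((c133md φ inj).gn l4g0 2) (l4g1 s) := in_of_chkW (l4eg0 h0) l4W0
theorem l4top1 (h0 : ∀ s < 2, (c133md φ inj).In ⊤ (l4g0 s)) : ∀ s < 4, (c133md φ inj).In ⊤ (l4g1 s) := fun s hs => (l4in1 h0 s hs).top
theorem l4le0 (h0 : ∀ s < 2, (c133md φ inj).In ⊤ (l4g0 s)) : ((c133md φ inj).gn l4g1 4) ≤ ((c133md φ inj).gn l4g0 2) := gn_le (l4in1 h0)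
theorem l4eg1 (h0 : ∀ s < 2, (c133md φ inj).In ⊤ (l4g0 s)) : (c133md φ inj).El ((c133md φ inj).gn l4g1 4) l4g1 := el_gn (l4top1 h0)
theorem l4W1 : ∀ i < 2, (chkW c133.mul c133.one l4g1 [[nat_lit 2, nat_lit 0, nat_lit 0, nat_lit 1, nat_lit 3, nat_lit 0, nat_lit 0],
  [nat_lit 2, nat_lit 0, nat_lit 2, nat_lit 1, nat_lit 0]] l4g2) i = 0 :=
  (rng_step (all0 _) l4W1_0)
theorem l4in2 (h0 : ∀ s < 2, (c133md φ inj).In ⊤ (l4g0 s)) : ∀ s < 2, (c133md φ inj).In ((c133md φ inj).gn l4g1 4) (l4g2 s) := in_of_chkW (l4eg1 h0) l4W1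
theorem l4top2 (h0 : ∀ s < 2, (c133md φ inj).In ⊤ (l4g0 s)) : ∀ s < 2, (c133md φ inj).In ⊤ (l4g2 s) := fun s hs => (l4in2 h0 s hs).top
theorem l4le1 (h0 : ∀ s < 2, (c133md φ inj).In ⊤ (l4g0 s)) : ((c133md φ inj).gn l4g2 2) ≤ ((c133md φ inj).gn l4g1 4) := gn_le (l4in2 h0)
theorem l4eg2 (h0 : ∀ s < 2, (c133md φ inj).In ⊤ (l4g0 s)) : (c133md φ inj).El ((c133md φ inj).gn l4g2 2) l4g2 := el_gn (l4top2 h0)
theorem l4le2 (h0 : ∀ s < 2, (c133md φ inj).In ⊤ (l4g0 s)) : (⊥ : Subgroup G) ≤ ((c133md φ inj).gn l4g2 2) := bot_le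
theorem l4lb3 (h0 : ∀ s < 2, (c133md φ inj).In ⊤ (l4g0 s)) : 1 ≤ Nat.card (⊥ : Subgroup G) := one_le_card _
theorem l4y2Y : ∀ i < 2, (chkY c133b.canV c133b.row l4y2 (nat_lit 2)) i = 0 :=
  allB (rngB_step (allB0 _ _) l4y2Y_0) (by decide)
theorem l4y2D : Dist (fun i => (fun x => (⟨c133b.vec (ZMod 11) 133 x⟩ : Vc φ)) (pt c133b.row l4y2 i)) 2 :=
  dist_of_chk (@Cfg.Ok.canT G _ _ _ _ c133b (ZMod.charP 11) c133b_ok rfl rfl φ) l4y2Y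
theorem l4O2 : ∀ i < 2, (chkO (c133b.imgV l4g2) c133b.row l4y2 l4O2a (nat_lit 2) [nat_lit 1]) i = 0 :=
  allB (rngB_step (allB0 _ _) l4O2_0) (by decide)
theorem l4R2 (h0 : ∀ s < 2, (c133md φ inj).In ⊤ (l4g0 s)) : Reach ((c133md φ inj).gn l4g2 2) (fun i => (fun x => (⟨c133b.vec (ZMod 11) 133 x⟩ : Vc φ)) (pt c133b.row l4y2 i)) 2 [nat_lit 1] :=
  reach_of_chk (pv := (fun x => (⟨c133b.vec (ZMod 11) 133 x⟩ : Vc φ))) ((@Cfg.Ok.acts G _ _ _ _ c133b (ZMod.charP 11) c133b_ok rfl rfl (c133md φ inj) rfl l4g2).ex (l4eg2 h0)) l4O2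
theorem l4fx2 : (⊥ : Subgroup G) ≤ MulAction.stabilizer G ((fun i => (fun x => (⟨c133b.vec (ZMod 11) 133 x⟩ : Vc φ)) (pt c133b.row l4y2 i)) (nat_lit 1)) := bot_le
theorem l4lb2 (h0 : ∀ s < 2, (c133md φ inj).In ⊤ (l4g0 s)) : 2 ≤ Nat.card ((c133md φ inj).gn l4g2 2) :=
  le_of_eq_of_le (by norm_num) (lower l4y2D (l4R2 h0) (l4le2 h0) l4fx2 (l4lb3 h0))
theorem l4y1Y : ∀ i < 32, (chkY c133b.canV c133b.row l4y1 (nat_lit 32)) i = 0 :=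
  allB (rngB_step (allB0 _ _) l4y1Y_0) (by decide)
theorem l4y1D : Dist (fun i => (fun x => (⟨c133b.vec (ZMod 11) 133 x⟩ : Vc φ)) (pt c133b.row l4y1 i)) 32 :=
  dist_of_chk (@Cfg.Ok.canT G _ _ _ _ c133b (ZMod.charP 11) c133b_ok rfl rfl φ) l4y1Y
theorem l4O1 : ∀ i < 32, (chkO (c133b.imgV l4g1) c133b.row l4y1 l4O1a (nat_lit 32) [nat_lit 0]) i = 0 :=
  allB (rngB_step (allB0 _ _) l4O1_0) (by decide)
theorem l4R1 (h0 : ∀ s < 2, (c133md φ inj).In ⊤ (l4g0 s)) : Reach ((c133md φ inj).gn l4g1 4) (fun i => (fun x => (⟨c133b.vec (ZMod 11) 133 x⟩ : Vc φ)) (pt c133b.row l4y1 i)) 32 [nat_lit 0] :=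
  reach_of_chk (pv := (fun x => (⟨c133b.vec (ZMod 11) 133 x⟩ : Vc φ))) ((@Cfg.Ok.acts G _ _ _ _ c133b (ZMod.charP 11) c133b_ok rfl rfl (c133md φ inj) rfl l4g1).ex (l4eg1 h0)) l4O1
theorem l4F1 : ∀ i < 2, (chkF (c133b.imgV l4g2) c133b.row l4y1 (nat_lit 0) [nat_lit 0, nat_lit 0]) i = 0 :=
  (rng_step (all0 _) l4F1_0)
theorem l4fx1 : ((c133md φ inj).gn l4g2 2) ≤ MulAction.stabilizer G ((fun i => (fun x => (⟨c133b.vec (ZMod 11) 133 x⟩ : Vc φ)) (pt c133b.row l4y1 i)) (nat_lit 0)) :=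
  gn_le_stab (@Cfg.Ok.acts G _ _ _ _ c133b (ZMod.charP 11) c133b_ok rfl rfl (c133md φ inj) rfl l4g2) l4F1
theorem l4lb1 (h0 : ∀ s < 2, (c133md φ inj).In ⊤ (l4g0 s)) : 64 ≤ Nat.card ((c133md φ inj).gn l4g1 4) :=
  le_of_eq_of_le (by norm_num) (lower l4y1D (l4R1 h0) (l4le1 h0) l4fx1 (l4lb2 h0))
theorem l4y0Y : ∀ i < 225, (chkY c133b.canV c133b.row l4y0 (nat_lit 225)) i = 0 :=
  allB (rngB_step (allB0 _ _) l4y0Y_0) (by decide)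
theorem l4y0D : Dist (fun i => (fun x => (⟨c133b.vec (ZMod 11) 133 x⟩ : Vc φ)) (pt c133b.row l4y0 i)) 225 :=
  dist_of_chk (@Cfg.Ok.canT G _ _ _ _ c133b (ZMod.charP 11) c133b_ok rfl rfl φ) l4y0Y
theorem l4O0 : ∀ i < 225, (chkO (c133b.imgV l4g0) c133b.row l4y0 l4O0a (nat_lit 225) [nat_lit 212]) i = 0 :=
  allB (rngB_step (allB0 _ _) l4O0_0) (by decide)
theorem l4R0 (h0 : ∀ s < 2, (c133md φ inj).In ⊤ (l4g0 s)) : Reach ((c133md φ inj).gn l4g0 2) (fun i => (fun x => (⟨c133b.vec (ZMod 11) 133 x⟩ : Vc φ)) (pt c133b.row l4y0 i)) 225 [nat_lit 212] :=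
  reach_of_chk (pv := (fun x => (⟨c133b.vec (ZMod 11) 133 x⟩ : Vc φ))) ((@Cfg.Ok.acts G _ _ _ _ c133b (ZMod.charP 11) c133b_ok rfl rfl (c133md φ inj) rfl l4g0).ex (l4eg0 h0)) l4O0
theorem l4F0 : ∀ i < 4, (chkF (c133b.imgV l4g1) c133b.row l4y0 (nat_lit 212) [nat_lit 0, nat_lit 0, nat_lit 0, nat_lit 0]) i = 0 :=
  (rng_step (all0 _) l4F0_0)
theorem l4fx0 : ((c133md φ inj).gn l4g1 4) ≤ MulAction.stabilizer G ((fun i => (fun x => (⟨c133b.vec (ZMod 11) 133 x⟩ : Vc φ)) (pt c133b.row l4y0 i)) (nat_lit 212)) :=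
  gn_le_stab (@Cfg.Ok.acts G _ _ _ _ c133b (ZMod.charP 11) c133b_ok rfl rfl (c133md φ inj) rfl l4g1) l4F0
theorem l4lb0 (h0 : ∀ s < 2, (c133md φ inj).In ⊤ (l4g0 s)) : 14400 ≤ Nat.card ((c133md φ inj).gn l4g0 2) :=
  le_of_eq_of_le (by norm_num) (lower l4y0D (l4R0 h0) (l4le0 h0) l4fx0 (l4lb1 h0))
theorem l4E : ∀ i < 2, (chkE l4g0 hE [nat_lit 1360921506, nat_lit 313428027]) i = 0 :=
  (rng_step (all0 _) l4E_0)
theorem l4in (he : (c133md φ inj).El ((c133md φ inj).gn hg 2) hE) : ∀ s < 2, (c133md φ inj).In ((c133md φ inj).gn hg 2) (l4g0 s) := in_of_chkE he l4E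
theorem l5top0 (h0 : ∀ s < 2, (c133md φ inj).In ⊤ (l5g0 s)) : ∀ s < 2, (c133md φ inj).In ⊤ (l5g0 s) := h0
theorem l5eg0 (h0 : ∀ s < 2, (c133md φ inj).In ⊤ (l5g0 s)) : (c133md φ inj).El ((c133md φ inj).gn l5g0 2) l5g0 := el_gn (l5top0 h0)
theorem l5W0 : ∀ i < 2, (chkW c133.mul c133.one l5g0 [[nat_lit 1, nat_lit 0, nat_lit 1, nat_lit 0, nat_lit 1, nat_lit 1, nat_lit 0, nat_lit 1, nat_lit 0, nat_lit 1, nat_lit 0, nat_lit 0, nat_lit 1],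
  [nat_lit 0, nat_lit 1, nat_lit 1, nat_lit 0, nat_lit 0]] l5g1) i = 0 :=
  (rng_step (all0 _) l5W0_0)
theorem l5in1 (h0 : ∀ s < 2, (c133md φ inj).In ⊤ (l5g0 s)) : ∀ s < 2, (c133md φ inj).In ((c133md φ inj).gn l5g0 2) (l5g1 s) := in_of_chkW (l5eg0 h0) l5W0
theorem l5top1 (h0 : ∀ s < 2, (c133md φ inj).In ⊤ (l5g0 s)) : ∀ s < 2, (c133md φ inj).In ⊤ (l5g1 s) := fun s hs => (l5in1 h0 s hs).top
theorem l5le0 (h0 : ∀ s < 2, (c133md φ inj).In ⊤ (l5g0 s)) : ((c133md φ inj).gn l5g1 2) ≤ ((c133md φ inj).gn l5g0 2) := gn_le (l5in1 h0)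
theorem l5eg1 (h0 : ∀ s < 2, (c133md φ inj).In ⊤ (l5g0 s)) : (c133md φ inj).El ((c133md φ inj).gn l5g1 2) l5g1 := el_gn (l5top1 h0)
theorem l5le1 (h0 : ∀ s < 2, (c133md φ inj).In ⊤ (l5g0 s)) : (⊥ : Subgroup G) ≤ ((c133md φ inj).gn l5g1 2) := bot_le
theorem l5lb2 (h0 : ∀ s < 2, (c133md φ inj).In ⊤ (l5g0 s)) : 1 ≤ Nat.card (⊥ : Subgroup G) := one_le_card _
theorem l5y1Y : ∀ i < 4, (chkY c133b.canV c133b.row l5y1 (nat_lit 4)) i = 0 :=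
  allB (rngB_step (allB0 _ _) l5y1Y_0) (by decide)
theorem l5y1D : Dist (fun i => (fun x => (⟨c133b.vec (ZMod 11) 133 x⟩ : Vc φ)) (pt c133b.row l5y1 i)) 4 :=
  dist_of_chk (@Cfg.Ok.canT G _ _ _ _ c133b (ZMod.charP 11) c133b_ok rfl rfl φ) l5y1Y
theorem l5O1 : ∀ i < 4, (chkO (c133b.imgV l5g1) c133b.row l5y1 l5O1a (nat_lit 4) [nat_lit 1]) i = 0 :=
  allB (rngB_step (allB0 _ _) l5O1_0) (by decide)
theorem l5R1 (h0 : ∀ s < 2, (c133md φ inj).In ⊤ (l5g0 s)) : Reach ((c133md φ inj).gn l5g1 2) (fun i => (fun x => (⟨c133b.vec (ZMod 11) 133 x⟩ : Vc φ)) (pt c133b.row l5y1 i)) 4 [nat_lit 1] :=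
  reach_of_chk (pv := (fun x => (⟨c133b.vec (ZMod 11) 133 x⟩ : Vc φ))) ((@Cfg.Ok.acts G _ _ _ _ c133b (ZMod.charP 11) c133b_ok rfl rfl (c133md φ inj) rfl l5g1).ex (l5eg1 h0)) l5O1
theorem l5fx1 : (⊥ : Subgroup G) ≤ MulAction.stabilizer G ((fun i => (fun x => (⟨c133b.vec (ZMod 11) 133 x⟩ : Vc φ)) (pt c133b.row l5y1 i)) (nat_lit 1)) := bot_le
theorem l5lb1 (h0 : ∀ s < 2, (c133md φ inj).In ⊤ (l5g0 s)) : 4 ≤ Nat.card ((c133md φ inj).gn l5g1 2) :=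
  le_of_eq_of_le (by norm_num) (lower l5y1D (l5R1 h0) (l5le1 h0) l5fx1 (l5lb2 h0))
theorem l5y0Y : ∀ i < 192, (chkY c133b.canV c133b.row l5y0 (nat_lit 192)) i = 0 :=
  allB (rngB_step (allB0 _ _) l5y0Y_0) (by decide)
theorem l5y0D : Dist (fun i => (fun x => (⟨c133b.vec (ZMod 11) 133 x⟩ : Vc φ)) (pt c133b.row l5y0 i)) 192 :=
  dist_of_chk (@Cfg.Ok.canT G _ _ _ _ c133b (ZMod.charP 11) c133b_ok rfl rfl φ) l5y0Y
theorem l5O0 : ∀ i < 192, (chkO (c133b.imgV l5g0) c133b.row l5y0 l5O0a (nat_lit 192) [nat_lit 96]) i = 0 :=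
  allB (rngB_step (allB0 _ _) l5O0_0) (by decide)
theorem l5R0 (h0 : ∀ s < 2, (c133md φ inj).In ⊤ (l5g0 s)) : Reach ((c133md φ inj).gn l5g0 2) (fun i => (fun x => (⟨c133b.vec (ZMod 11) 133 x⟩ : Vc φ)) (pt c133b.row l5y0 i)) 192 [nat_lit 96] :=
  reach_of_chk (pv := (fun x => (⟨c133b.vec (ZMod 11) 133 x⟩ : Vc φ))) ((@Cfg.Ok.acts G _ _ _ _ c133b (ZMod.charP 11) c133b_ok rfl rfl (c133md φ inj) rfl l5g0).ex (l5eg0 h0)) l5O0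
theorem l5F0 : ∀ i < 2, (chkF (c133b.imgV l5g1) c133b.row l5y0 (nat_lit 96) [nat_lit 0, nat_lit 0]) i = 0 :=
  (rng_step (all0 _) l5F0_0)
theorem l5fx0 : ((c133md φ inj).gn l5g1 2) ≤ MulAction.stabilizer G ((fun i => (fun x => (⟨c133b.vec (ZMod 11) 133 x⟩ : Vc φ)) (pt c133b.row l5y0 i)) (nat_lit 96)) :=
  gn_le_stab (@Cfg.Ok.acts G _ _ _ _ c133b (ZMod.charP 11) c133b_ok rfl rfl (c133md φ inj) rfl l5g1) l5F0
theorem l5lb0 (h0 : ∀ s < 2, (c133md φ inj).In ⊤ (l5g0 s)) : 768 ≤ Nat.card ((c133md φ inj).gn l5g0 2) :=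
  le_of_eq_of_le (by norm_num) (lower l5y0D (l5R0 h0) (l5le0 h0) l5fx0 (l5lb1 h0))
theorem l5E : ∀ i < 2, (chkE l5g0 hE [nat_lit 243413921, nat_lit 1530532977]) i = 0 :=
  (rng_step (all0 _) l5E_0)
theorem l5in (he : (c133md φ inj).El ((c133md φ inj).gn hg 2) hE) : ∀ s < 2, (c133md φ inj).In ((c133md φ inj).gn hg 2) (l5g0 s) := in_of_chkE he l5E
theorem l6top0 (h0 : ∀ s < 3, (c133md φ inj).In ⊤ (l6g0 s)) : ∀ s < 3, (c133md φ inj).In ⊤ (l6g0 s) := h0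
theorem l6eg0 (h0 : ∀ s < 3, (c133md φ inj).In ⊤ (l6g0 s)) : (c133md φ inj).El ((c133md φ inj).gn l6g0 3) l6g0 := el_gn (l6top0 h0)
theorem l6W0 : ∀ i < 2, (chkW c133.mul c133.one l6g0 [[nat_lit 1, nat_lit 1, nat_lit 0, nat_lit 2, nat_lit 1, nat_lit 2, nat_lit 2, nat_lit 1],
  [nat_lit 2, nat_lit 1, nat_lit 2, nat_lit 0]] l6g1) i = 0 :=
  (rng_step (all0 _) l6W0_0)
theorem l6in1 (h0 : ∀ s < 3, (c133md φ inj).In ⊤ (l6g0 s)) : ∀ s < 2, (c133md φ inj).In ((c133md φ inj).gn l6g0 3) (l6g1 s) := in_of_chkW (l6eg0 h0) l6W0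
theorem l6top1 (h0 : ∀ s < 3, (c133md φ inj).In ⊤ (l6g0 s)) : ∀ s < 2, (c133md φ inj).In ⊤ (l6g1 s) := fun s hs => (l6in1 h0 s hs).top
theorem l6le0 (h0 : ∀ s < 3, (c133md φ inj).In ⊤ (l6g0 s)) : ((c133md φ inj).gn l6g1 2) ≤ ((c133md φ inj).gn l6g0 3) := gn_le (l6in1 h0)
theorem l6eg1 (h0 : ∀ s < 3, (c133md φ inj).In ⊤ (l6g0 s)) : (c133md φ inj).El ((c133md φ inj).gn l6g1 2) l6g1 := el_gn (l6top1 h0)
theorem l6W1 : ∀ i < 2, (chkW c133.mul c133.one l6g1 [[nat_lit 1, nat_lit 0, nat_lit 0, nat_lit 0, nat_lit 0, nat_lit 1],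
  [nat_lit 1, nat_lit 1, nat_lit 0, nat_lit 0]] l6g2) i = 0 :=
  (rng_step (all0 _) l6W1_0)
theorem l6in2 (h0 : ∀ s < 3, (c133md φ inj).In ⊤ (l6g0 s)) : ∀ s < 2, (c133md φ inj).In ((c133md φ inj).gn l6g1 2) (l6g2 s) := in_of_chkW (l6eg1 h0) l6W1
theorem l6top2 (h0 : ∀ s < 3, (c133md φ inj).In ⊤ (l6g0 s)) : ∀ s < 2, (c133md φ inj).In ⊤ (l6g2 s) := fun s hs => (l6in2 h0 s hs).top
theorem l6le1 (h0 : ∀ s < 3, (c133md φ inj).In ⊤ (l6g0 s)) : ((c133md φ inj).gn l6g2 2) ≤ ((c133md φ inj).gn l6g1 2) := gn_le (l6in2 h0)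
theorem l6eg2 (h0 : ∀ s < 3, (c133md φ inj).In ⊤ (l6g0 s)) : (c133md φ inj).El ((c133md φ inj).gn l6g2 2) l6g2 := el_gn (l6top2 h0)
theorem l6le2 (h0 : ∀ s < 3, (c133md φ inj).In ⊤ (l6g0 s)) : (⊥ : Subgroup G) ≤ ((c133md φ inj).gn l6g2 2) := bot_le
theorem l6lb3 (h0 : ∀ s < 3, (c133md φ inj).In ⊤ (l6g0 s)) : 1 ≤ Nat.card (⊥ : Subgroup G) := one_le_card _
theorem l6y2Y : ∀ i < 3, (chkY c133b.canV c133b.row l6y2 (nat_lit 3)) i = 0 :=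
  allB (rngB_step (allB0 _ _) l6y2Y_0) (by decide)
theorem l6y2D : Dist (fun i => (fun x => (⟨c133b.vec (ZMod 11) 133 x⟩ : Vc φ)) (pt c133b.row l6y2 i)) 3 :=
  dist_of_chk (@Cfg.Ok.canT G _ _ _ _ c133b (ZMod.charP 11) c133b_ok rfl rfl φ) l6y2Y
theorem l6O2 : ∀ i < 3, (chkO (c133b.imgV l6g2) c133b.row l6y2 l6O2a (nat_lit 3) [nat_lit 1]) i = 0 :=
  allB (rngB_step (allB0 _ _) l6O2_0) (by decide)
theorem l6R2 (h0 : ∀ s < 3, (c133md φ inj).In ⊤ (l6g0 s)) : Reach ((c133md φ inj).gn l6g2 2) (fun i => (fun x => (⟨c133b.vec (ZMod 11) 133 x⟩ : Vc φ)) (pt c133b.row l6y2 i)) 3 [nat_lit 1] :=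
  reach_of_chk (pv := (fun x => (⟨c133b.vec (ZMod 11) 133 x⟩ : Vc φ))) ((@Cfg.Ok.acts G _ _ _ _ c133b (ZMod.charP 11) c133b_ok rfl rfl (c133md φ inj) rfl l6g2).ex (l6eg2 h0)) l6O2
theorem l6fx2 : (⊥ : Subgroup G) ≤ MulAction.stabilizer G ((fun i => (fun x => (⟨c133b.vec (ZMod 11) 133 x⟩ : Vc φ)) (pt c133b.row l6y2 i)) (nat_lit 1)) := bot_le
theorem l6lb2 (h0 : ∀ s < 3, (c133md φ inj).In ⊤ (l6g0 s)) : 3 ≤ Nat.card ((c133md φ inj).gn l6g2 2) :=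
  le_of_eq_of_le (by norm_num) (lower l6y2D (l6R2 h0) (l6le2 h0) l6fx2 (l6lb3 h0))
theorem l6y1Y : ∀ i < 24, (chkY c133b.canV c133b.row l6y1 (nat_lit 24)) i = 0 :=
  allB (rngB_step (allB0 _ _) l6y1Y_0) (by decide)
theorem l6y1D : Dist (fun i => (fun x => (⟨c133b.vec (ZMod 11) 133 x⟩ : Vc φ)) (pt c133b.row l6y1 i)) 24 :=
  dist_of_chk (@Cfg.Ok.canT G _ _ _ _ c133b (ZMod.charP 11) c133b_ok rfl rfl φ) l6y1Y
theorem l6O1 : ∀ i < 24, (chkO (c133b.imgV l6g1) c133b.row l6y1 l6O1a (nat_lit 24) [nat_lit 13]) i = 0 :=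
  allB (rngB_step (allB0 _ _) l6O1_0) (by decide)
theorem l6R1 (h0 : ∀ s < 3, (c133md φ inj).In ⊤ (l6g0 s)) : Reach ((c133md φ inj).gn l6g1 2) (fun i => (fun x => (⟨c133b.vec (ZMod 11) 133 x⟩ : Vc φ)) (pt c133b.row l6y1 i)) 24 [nat_lit 13] :=
  reach_of_chk (pv := (fun x => (⟨c133b.vec (ZMod 11) 133 x⟩ : Vc φ))) ((@Cfg.Ok.acts G _ _ _ _ c133b (ZMod.charP 11) c133b_ok rfl rfl (c133md φ inj) rfl l6g1).ex (l6eg1 h0)) l6O1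
theorem l6F1 : ∀ i < 2, (chkF (c133b.imgV l6g2) c133b.row l6y1 (nat_lit 13) [nat_lit 0, nat_lit 0]) i = 0 :=
  (rng_step (all0 _) l6F1_0)
theorem l6fx1 : ((c133md φ inj).gn l6g2 2) ≤ MulAction.stabilizer G ((fun i => (fun x => (⟨c133b.vec (ZMod 11) 133 x⟩ : Vc φ)) (pt c133b.row l6y1 i)) (nat_lit 13)) :=
  gn_le_stab (@Cfg.Ok.acts G _ _ _ _ c133b (ZMod.charP 11) c133b_ok rfl rfl (c133md φ inj) rfl l6g2) l6F1
theorem l6lb1 (h0 : ∀ s < 3, (c133md φ inj).In ⊤ (l6g0 s)) : 72 ≤ Nat.card ((c133md φ inj).gn l6g1 2) :=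
  le_of_eq_of_le (by norm_num) (lower l6y1D (l6R1 h0) (l6le1 h0) l6fx1 (l6lb2 h0))
theorem l6y0Y : ∀ i < 48, (chkY c133b.canV c133b.row l6y0 (nat_lit 48)) i = 0 :=
  allB (rngB_step (allB0 _ _) l6y0Y_0) (by decide)
theorem l6y0D : Dist (fun i => (fun x => (⟨c133b.vec (ZMod 11) 133 x⟩ : Vc φ)) (pt c133b.row l6y0 i)) 48 :=
  dist_of_chk (@Cfg.Ok.canT G _ _ _ _ c133b (ZMod.charP 11) c133b_ok rfl rfl φ) l6y0Y
theorem l6O0 : ∀ i < 48, (chkO (c133b.imgV l6g0) c133b.row l6y0 l6O0a (nat_lit 48) [nat_lit 39]) i = 0 :=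
  allB (rngB_step (allB0 _ _) l6O0_0) (by decide)
theorem l6R0 (h0 : ∀ s < 3, (c133md φ inj).In ⊤ (l6g0 s)) : Reach ((c133md φ inj).gn l6g0 3) (fun i => (fun x => (⟨c133b.vec (ZMod 11) 133 x⟩ : Vc φ)) (pt c133b.row l6y0 i)) 48 [nat_lit 39] :=
  reach_of_chk (pv := (fun x => (⟨c133b.vec (ZMod 11) 133 x⟩ : Vc φ))) ((@Cfg.Ok.acts G _ _ _ _ c133b (ZMod.charP 11) c133b_ok rfl rfl (c133md φ inj) rfl l6g0).ex (l6eg0 h0)) l6O0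
theorem l6F0 : ∀ i < 2, (chkF (c133b.imgV l6g1) c133b.row l6y0 (nat_lit 39) [nat_lit 0, nat_lit 0]) i = 0 :=
  (rng_step (all0 _) l6F0_0)
theorem l6fx0 : ((c133md φ inj).gn l6g1 2) ≤ MulAction.stabilizer G ((fun i => (fun x => (⟨c133b.vec (ZMod 11) 133 x⟩ : Vc φ)) (pt c133b.row l6y0 i)) (nat_lit 39)) :=
  gn_le_stab (@Cfg.Ok.acts G _ _ _ _ c133b (ZMod.charP 11) c133b_ok rfl rfl (c133md φ inj) rfl l6g1) l6F0
theorem l6lb0 (h0 : ∀ s < 3, (c133md φ inj).In ⊤ (l6g0 s)) : 3456 ≤ Nat.card ((c133md φ inj).gn l6g0 3) :=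
  le_of_eq_of_le (by norm_num) (lower l6y0D (l6R0 h0) (l6le0 h0) l6fx0 (l6lb1 h0))
theorem l6E : ∀ i < 3, (chkE l6g0 hE [nat_lit 1422684978, nat_lit 1860991090, nat_lit 108990535]) i = 0 :=
  (rng_step (all0 _) l6E_0)
theorem l6in (he : (c133md φ inj).El ((c133md φ inj).gn hg 2) hE) : ∀ s < 3, (c133md φ inj).In ((c133md φ inj).gn hg 2) (l6g0 s) := in_of_chkE he l6E
theorem l7top0 (h0 : ∀ s < 2, (c133md φ inj).In ⊤ (l7g0 s)) : ∀ s < 2, (c133md φ inj).In ⊤ (l7g0 s) := h0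
theorem l7eg0 (h0 : ∀ s < 2, (c133md φ inj).In ⊤ (l7g0 s)) : (c133md φ inj).El ((c133md φ inj).gn l7g0 2) l7g0 := el_gn (l7top0 h0)
theorem l7W0 : ∀ i < 2, (chkW c133.mul c133.one l7g0 [[nat_lit 1, nat_lit 0, nat_lit 0, nat_lit 0, nat_lit 1, nat_lit 0, nat_lit 1],
  [nat_lit 0, nat_lit 1, nat_lit 0, nat_lit 0, nat_lit 1, nat_lit 1, nat_lit 0, nat_lit 1, nat_lit 1, nat_lit 0]] l7g1) i = 0 :=
  (rng_step (all0 _) l7W0_0)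
theorem l7in1 (h0 : ∀ s < 2, (c133md φ inj).In ⊤ (l7g0 s)) : ∀ s < 2, (c133md φ inj).In ((c133md φ inj).gn l7g0 2) (l7g1 s) := in_of_chkW (l7eg0 h0) l7W0
theorem l7top1 (h0 : ∀ s < 2, (c133md φ inj).In ⊤ (l7g0 s)) : ∀ s < 2, (c133md φ inj).In ⊤ (l7g1 s) := fun s hs => (l7in1 h0 s hs).top
theorem l7le0 (h0 : ∀ s < 2, (c133md φ inj).In ⊤ (l7g0 s)) : ((c133md φ inj).gn l7g1 2) ≤ ((c133md φ inj).gn l7g0 2) := gn_le (l7in1 h0)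
theorem l7eg1 (h0 : ∀ s < 2, (c133md φ inj).In ⊤ (l7g0 s)) : (c133md φ inj).El ((c133md φ inj).gn l7g1 2) l7g1 := el_gn (l7top1 h0)
theorem l7le1 (h0 : ∀ s < 2, (c133md φ inj).In ⊤ (l7g0 s)) : (⊥ : Subgroup G) ≤ ((c133md φ inj).gn l7g1 2) := bot_le
theorem l7lb2 (h0 : ∀ s < 2, (c133md φ inj).In ⊤ (l7g0 s)) : 1 ≤ Nat.card (⊥ : Subgroup G) := one_le_card _
theorem l7y1Y : ∀ i < 10, (chkY c133b.canV c133b.row l7y1 (nat_lit 10)) i = 0 :=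
  allB (rngB_step (allB0 _ _) l7y1Y_0) (by decide)
theorem l7y1D : Dist (fun i => (fun x => (⟨c133b.vec (ZMod 11) 133 x⟩ : Vc φ)) (pt c133b.row l7y1 i)) 10 :=
  dist_of_chk (@Cfg.Ok.canT G _ _ _ _ c133b (ZMod.charP 11) c133b_ok rfl rfl φ) l7y1Y
theorem l7O1 : ∀ i < 10, (chkO (c133b.imgV l7g1) c133b.row l7y1 l7O1a (nat_lit 10) [nat_lit 1]) i = 0 :=
  allB (rngB_step (allB0 _ _) l7O1_0) (by decide)
theorem l7R1 (h0 : ∀ s < 2, (c133md φ inj).In ⊤ (l7g0 s)) : Reach ((c133md φ inj).gn l7g1 2) (fun i => (fun x => (⟨c133b.vec (ZMod 11) 133 x⟩ : Vc φ)) (pt c133b.row l7y1 i)) 10 [nat_lit 1] :=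
  reach_of_chk (pv := (fun x => (⟨c133b.vec (ZMod 11) 133 x⟩ : Vc φ))) ((@Cfg.Ok.acts G _ _ _ _ c133b (ZMod.charP 11) c133b_ok rfl rfl (c133md φ inj) rfl l7g1).ex (l7eg1 h0)) l7O1
theorem l7fx1 : (⊥ : Subgroup G) ≤ MulAction.stabilizer G ((fun i => (fun x => (⟨c133b.vec (ZMod 11) 133 x⟩ : Vc φ)) (pt c133b.row l7y1 i)) (nat_lit 1)) := bot_le
theorem l7lb1 (h0 : ∀ s < 2, (c133md φ inj).In ⊤ (l7g0 s)) : 10 ≤ Nat.card ((c133md φ inj).gn l7g1 2) :=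
  le_of_eq_of_le (by norm_num) (lower l7y1D (l7R1 h0) (l7le1 h0) l7fx1 (l7lb2 h0))
theorem l7y0Y : ∀ i < 66, (chkY c133b.canV c133b.row l7y0 (nat_lit 66)) i = 0 :=
  allB (rngB_step (allB0 _ _) l7y0Y_0) (by decide)
theorem l7y0D : Dist (fun i => (fun x => (⟨c133b.vec (ZMod 11) 133 x⟩ : Vc φ)) (pt c133b.row l7y0 i)) 66 :=
  dist_of_chk (@Cfg.Ok.canT G _ _ _ _ c133b (ZMod.charP 11) c133b_ok rfl rfl φ) l7y0Y
theorem l7O0 : ∀ i < 66, (chkO (c133b.imgV l7g0) c133b.row l7y0 l7O0a (nat_lit 66) [nat_lit 23]) i = 0 :=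
  allB (rngB_step (allB0 _ _) l7O0_0) (by decide)
theorem l7R0 (h0 : ∀ s < 2, (c133md φ inj).In ⊤ (l7g0 s)) : Reach ((c133md φ inj).gn l7g0 2) (fun i => (fun x => (⟨c133b.vec (ZMod 11) 133 x⟩ : Vc φ)) (pt c133b.row l7y0 i)) 66 [nat_lit 23] :=
  reach_of_chk (pv := (fun x => (⟨c133b.vec (ZMod 11) 133 x⟩ : Vc φ))) ((@Cfg.Ok.acts G _ _ _ _ c133b (ZMod.charP 11) c133b_ok rfl rfl (c133md φ inj) rfl l7g0).ex (l7eg0 h0)) l7O0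
theorem l7F0 : ∀ i < 2, (chkF (c133b.imgV l7g1) c133b.row l7y0 (nat_lit 23) [nat_lit 0, nat_lit 0]) i = 0 :=
  (rng_step (all0 _) l7F0_0)
theorem l7fx0 : ((c133md φ inj).gn l7g1 2) ≤ MulAction.stabilizer G ((fun i => (fun x => (⟨c133b.vec (ZMod 11) 133 x⟩ : Vc φ)) (pt c133b.row l7y0 i)) (nat_lit 23)) :=
  gn_le_stab (@Cfg.Ok.acts G _ _ _ _ c133b (ZMod.charP 11) c133b_ok rfl rfl (c133md φ inj) rfl l7g1) l7F0
theorem l7lb0 (h0 : ∀ s < 2, (c133md φ inj).In ⊤ (l7g0 s)) : 660 ≤ Nat.card ((c133md φ inj).gn l7g0 2) :=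
  le_of_eq_of_le (by norm_num) (lower l7y0D (l7R0 h0) (l7le0 h0) l7fx0 (l7lb1 h0))
theorem l7E : ∀ i < 2, (chkE l7g0 hE [nat_lit 150610039, nat_lit 1209409892]) i = 0 :=
  (rng_step (all0 _) l7E_0)
theorem l7in (he : (c133md φ inj).El ((c133md φ inj).gn hg 2) hE) : ∀ s < 2, (c133md φ inj).In ((c133md φ inj).gn hg 2) (l7g0 s) := in_of_chkE he l7E
theorem l8top0 (h0 : ∀ s < 2, (c133md φ inj).In ⊤ (l8g0 s)) : ∀ s < 2, (c133md φ inj).In ⊤ (l8g0 s) := h0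
theorem l8eg0 (h0 : ∀ s < 2, (c133md φ inj).In ⊤ (l8g0 s)) : (c133md φ inj).El ((c133md φ inj).gn l8g0 2) l8g0 := el_gn (l8top0 h0)
theorem l8W0 : ∀ i < 3, (chkW c133.mul c133.one l8g0 [[nat_lit 0, nat_lit 1, nat_lit 1, nat_lit 1, nat_lit 0, nat_lit 1, nat_lit 0],
  [nat_lit 0, nat_lit 0, nat_lit 1, nat_lit 0, nat_lit 1, nat_lit 1],
  [nat_lit 0, nat_lit 0, nat_lit 0, nat_lit 0, nat_lit 1, nat_lit 1]] l8g1) i = 0 :=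
  (rng_step (all0 _) l8W0_0)
theorem l8in1 (h0 : ∀ s < 2, (c133md φ inj).In ⊤ (l8g0 s)) : ∀ s < 3, (c133md φ inj).In ((c133md φ inj).gn l8g0 2) (l8g1 s) := in_of_chkW (l8eg0 h0) l8W0
theorem l8top1 (h0 : ∀ s < 2, (c133md φ inj).In ⊤ (l8g0 s)) : ∀ s < 3, (c133md φ inj).In ⊤ (l8g1 s) := fun s hs => (l8in1 h0 s hs).top
theorem l8le0 (h0 : ∀ s < 2, (c133md φ inj).In ⊤ (l8g0 s)) : ((c133md φ inj).gn l8g1 3) ≤ ((c133md φ inj).gn l8g0 2) := gn_le (l8in1 h0)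
theorem l8eg1 (h0 : ∀ s < 2, (c133md φ inj).In ⊤ (l8g0 s)) : (c133md φ inj).El ((c133md φ inj).gn l8g1 3) l8g1 := el_gn (l8top1 h0)
theorem l8W1 : ∀ i < 2, (chkW c133.mul c133.one l8g1 [[nat_lit 0, nat_lit 0, nat_lit 0, nat_lit 1],
  [nat_lit 1, nat_lit 0, nat_lit 2]] l8g2) i = 0 :=
  (rng_step (all0 _) l8W1_0)
theorem l8in2 (h0 : ∀ s < 2, (c133md φ inj).In ⊤ (l8g0 s)) : ∀ s < 2, (c133md φ inj).In ((c133md φ inj).gn l8g1 3) (l8g2 s) := in_of_chkW (l8eg1 h0) l8W1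
theorem l8top2 (h0 : ∀ s < 2, (c133md φ inj).In ⊤ (l8g0 s)) : ∀ s < 2, (c133md φ inj).In ⊤ (l8g2 s) := fun s hs => (l8in2 h0 s hs).top
theorem l8le1 (h0 : ∀ s < 2, (c133md φ inj).In ⊤ (l8g0 s)) : ((c133md φ inj).gn l8g2 2) ≤ ((c133md φ inj).gn l8g1 3) := gn_le (l8in2 h0)
theorem l8eg2 (h0 : ∀ s < 2, (c133md φ inj).In ⊤ (l8g0 s)) : (c133md φ inj).El ((c133md φ inj).gn l8g2 2) l8g2 := el_gn (l8top2 h0)
theorem l8le2 (h0 : ∀ s < 2, (c133md φ inj).In ⊤ (l8g0 s)) : (⊥ : Subgroup G) ≤ ((c133md φ inj).gn l8g2 2) := bot_le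
theorem l8lb3 (h0 : ∀ s < 2, (c133md φ inj).In ⊤ (l8g0 s)) : 1 ≤ Nat.card (⊥ : Subgroup G) := one_le_card _
theorem l8y2Y : ∀ i < 2, (chkY c133b.canV c133b.row l8y2 (nat_lit 2)) i = 0 :=
  allB (rngB_step (allB0 _ _) l8y2Y_0) (by decide)
theorem l8y2D : Dist (fun i => (fun x => (⟨c133b.vec (ZMod 11) 133 x⟩ : Vc φ)) (pt c133b.row l8y2 i)) 2 :=
  dist_of_chk (@Cfg.Ok.canT G _ _ _ _ c133b (ZMod.charP 11) c133b_ok rfl rfl φ) l8y2Y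
theorem l8O2 : ∀ i < 2, (chkO (c133b.imgV l8g2) c133b.row l8y2 l8O2a (nat_lit 2) [nat_lit 0]) i = 0 :=
  allB (rngB_step (allB0 _ _) l8O2_0) (by decide)
theorem l8R2 (h0 : ∀ s < 2, (c133md φ inj).In ⊤ (l8g0 s)) : Reach ((c133md φ inj).gn l8g2 2) (fun i => (fun x => (⟨c133b.vec (ZMod 11) 133 x⟩ : Vc φ)) (pt c133b.row l8y2 i)) 2 [nat_lit 0] :=
  reach_of_chk (pv := (fun x => (⟨c133b.vec (ZMod 11) 133 x⟩ : Vc φ))) ((@Cfg.Ok.acts G _ _ _ _ c133b (ZMod.charP 11) c133b_ok rfl rfl (c133md φ inj) rfl l8g2).ex (l8eg2 h0)) l8O2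
theorem l8fx2 : (⊥ : Subgroup G) ≤ MulAction.stabilizer G ((fun i => (fun x => (⟨c133b.vec (ZMod 11) 133 x⟩ : Vc φ)) (pt c133b.row l8y2 i)) (nat_lit 0)) := bot_le
theorem l8lb2 (h0 : ∀ s < 2, (c133md φ inj).In ⊤ (l8g0 s)) : 2 ≤ Nat.card ((c133md φ inj).gn l8g2 2) :=
  le_of_eq_of_le (by norm_num) (lower l8y2D (l8R2 h0) (l8le2 h0) l8fx2 (l8lb3 h0))
theorem l8y1Y : ∀ i < 6, (chkY c133b.canV c133b.row l8y1 (nat_lit 6)) i = 0 :=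
  allB (rngB_step (allB0 _ _) l8y1Y_0) (by decide)
theorem l8y1D : Dist (fun i => (fun x => (⟨c133b.vec (ZMod 11) 133 x⟩ : Vc φ)) (pt c133b.row l8y1 i)) 6 :=
  dist_of_chk (@Cfg.Ok.canT G _ _ _ _ c133b (ZMod.charP 11) c133b_ok rfl rfl φ) l8y1Y
theorem l8O1 : ∀ i < 6, (chkO (c133b.imgV l8g1) c133b.row l8y1 l8O1a (nat_lit 6) [nat_lit 2]) i = 0 :=
  allB (rngB_step (allB0 _ _) l8O1_0) (by decide)
theorem l8R1 (h0 : ∀ s < 2, (c133md φ inj).In ⊤ (l8g0 s)) : Reach ((c133md φ inj).gn l8g1 3) (fun i => (fun x => (⟨c133b.vec (ZMod 11) 133 x⟩ : Vc φ)) (pt c133b.row l8y1 i)) 6 [nat_lit 2] :=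
  reach_of_chk (pv := (fun x => (⟨c133b.vec (ZMod 11) 133 x⟩ : Vc φ))) ((@Cfg.Ok.acts G _ _ _ _ c133b (ZMod.charP 11) c133b_ok rfl rfl (c133md φ inj) rfl l8g1).ex (l8eg1 h0)) l8O1
theorem l8F1 : ∀ i < 2, (chkF (c133b.imgV l8g2) c133b.row l8y1 (nat_lit 2) [nat_lit 0, nat_lit 0]) i = 0 :=
  (rng_step (all0 _) l8F1_0)
theorem l8fx1 : ((c133md φ inj).gn l8g2 2) ≤ MulAction.stabilizer G ((fun i => (fun x => (⟨c133b.vec (ZMod 11) 133 x⟩ : Vc φ)) (pt c133b.row l8y1 i)) (nat_lit 2)) :=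
  gn_le_stab (@Cfg.Ok.acts G _ _ _ _ c133b (ZMod.charP 11) c133b_ok rfl rfl (c133md φ inj) rfl l8g2) l8F1
theorem l8lb1 (h0 : ∀ s < 2, (c133md φ inj).In ⊤ (l8g0 s)) : 12 ≤ Nat.card ((c133md φ inj).gn l8g1 3) :=
  le_of_eq_of_le (by norm_num) (lower l8y1D (l8R1 h0) (l8le1 h0) l8fx1 (l8lb2 h0))
theorem l8y0Y : ∀ i < 120, (chkY c133b.canV c133b.row l8y0 (nat_lit 120)) i = 0 :=
  allB (rngB_step (allB0 _ _) l8y0Y_0) (by decide)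
theorem l8y0D : Dist (fun i => (fun x => (⟨c133b.vec (ZMod 11) 133 x⟩ : Vc φ)) (pt c133b.row l8y0 i)) 120 :=
  dist_of_chk (@Cfg.Ok.canT G _ _ _ _ c133b (ZMod.charP 11) c133b_ok rfl rfl φ) l8y0Y
theorem l8O0 : ∀ i < 120, (chkO (c133b.imgV l8g0) c133b.row l8y0 l8O0a (nat_lit 120) [nat_lit 49]) i = 0 :=
  allB (rngB_step (allB0 _ _) l8O0_0) (by decide)
theorem l8R0 (h0 : ∀ s < 2, (c133md φ inj).In ⊤ (l8g0 s)) : Reach ((c133md φ inj).gn l8g0 2) (fun i => (fun x => (⟨c133b.vec (ZMod 11) 133 x⟩ : Vc φ)) (pt c133b.row l8y0 i)) 120 [nat_lit 49] :=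
  reach_of_chk (pv := (fun x => (⟨c133b.vec (ZMod 11) 133 x⟩ : Vc φ))) ((@Cfg.Ok.acts G _ _ _ _ c133b (ZMod.charP 11) c133b_ok rfl rfl (c133md φ inj) rfl l8g0).ex (l8eg0 h0)) l8O0
theorem l8F0 : ∀ i < 3, (chkF (c133b.imgV l8g1) c133b.row l8y0 (nat_lit 49) [nat_lit 0, nat_lit 0, nat_lit 0]) i = 0 :=
  (rng_step (all0 _) l8F0_0)
theorem l8fx0 : ((c133md φ inj).gn l8g1 3) ≤ MulAction.stabilizer G ((fun i => (fun x => (⟨c133b.vec (ZMod 11) 133 x⟩ : Vc φ)) (pt c133b.row l8y0 i)) (nat_lit 49)) :=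
  gn_le_stab (@Cfg.Ok.acts G _ _ _ _ c133b (ZMod.charP 11) c133b_ok rfl rfl (c133md φ inj) rfl l8g1) l8F0
theorem l8lb0 (h0 : ∀ s < 2, (c133md φ inj).In ⊤ (l8g0 s)) : 1440 ≤ Nat.card ((c133md φ inj).gn l8g0 2) :=
  le_of_eq_of_le (by norm_num) (lower l8y0D (l8R0 h0) (l8le0 h0) l8fx0 (l8lb1 h0))
theorem l8E : ∀ i < 2, (chkE l8g0 hE [nat_lit 268842362, nat_lit 1123775250]) i = 0 :=
  (rng_step (all0 _) l8E_0)
theorem l8in (he : (c133md φ inj).El ((c133md φ inj).gn hg 2) hE) : ∀ s < 2, (c133md φ inj).In ((c133md φ inj).gn hg 2) (l8g0 s) := in_of_chkE he l8E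
theorem l9top0 (h0 : ∀ s < 2, (c133md φ inj).In ⊤ (l9g0 s)) : ∀ s < 2, (c133md φ inj).In ⊤ (l9g0 s) := h0
theorem l9eg0 (h0 : ∀ s < 2, (c133md φ inj).In ⊤ (l9g0 s)) : (c133md φ inj).El ((c133md φ inj).gn l9g0 2) l9g0 := el_gn (l9top0 h0)
theorem l9W0 : ∀ i < 5, (chkW c133.mul c133.one l9g0 [[nat_lit 0, nat_lit 1, nat_lit 0, nat_lit 1, nat_lit 1, nat_lit 0, nat_lit 1, nat_lit 1, nat_lit 0, nat_lit 1, nat_lit 1],
  [nat_lit 1, nat_lit 1, nat_lit 0, nat_lit 0, nat_lit 0, nat_lit 0, nat_lit 1],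
  [nat_lit 1, nat_lit 1, nat_lit 1],
  [nat_lit 0, nat_lit 1, nat_lit 1, nat_lit 1, nat_lit 0, nat_lit 0, nat_lit 0, nat_lit 1, nat_lit 1, nat_lit 1, nat_lit 0, nat_lit 1],
  [nat_lit 1, nat_lit 1, nat_lit 1]] l9g1) i = 0 :=
  (rng_step (rng_step (all0 _) l9W0_0) l9W0_1)
theorem l9in1 (h0 : ∀ s < 2, (c133md φ inj).In ⊤ (l9g0 s)) : ∀ s < 5, (c133md φ inj).In ((c133md φ inj).gn l9g0 2) (l9g1 s) := in_of_chkW (l9eg0 h0) l9W0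
theorem l9top1 (h0 : ∀ s < 2, (c133md φ inj).In ⊤ (l9g0 s)) : ∀ s < 5, (c133md φ inj).In ⊤ (l9g1 s) := fun s hs => (l9in1 h0 s hs).top
theorem l9le0 (h0 : ∀ s < 2, (c133md φ inj).In ⊤ (l9g0 s)) : ((c133md φ inj).gn l9g1 5) ≤ ((c133md φ inj).gn l9g0 2) := gn_le (l9in1 h0)
theorem l9eg1 (h0 : ∀ s < 2, (c133md φ inj).In ⊤ (l9g0 s)) : (c133md φ inj).El ((c133md φ inj).gn l9g1 5) l9g1 := el_gn (l9top1 h0)
theorem l9W1 : ∀ i < 2, (chkW c133.mul c133.one l9g1 [[nat_lit 0],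
  [nat_lit 4, nat_lit 4, nat_lit 4, nat_lit 3]] l9g2) i = 0 :=
  (rng_step (all0 _) l9W1_0)
theorem l9in2 (h0 : ∀ s < 2, (c133md φ inj).In ⊤ (l9g0 s)) : ∀ s < 2, (c133md φ inj).In ((c133md φ inj).gn l9g1 5) (l9g2 s) := in_of_chkW (l9eg1 h0) l9W1
theorem l9top2 (h0 : ∀ s < 2, (c133md φ inj).In ⊤ (l9g0 s)) : ∀ s < 2, (c133md φ inj).In ⊤ (l9g2 s) := fun s hs => (l9in2 h0 s hs).top
theorem l9le1 (h0 : ∀ s < 2, (c133md φ inj).In ⊤ (l9g0 s)) : ((c133md φ inj).gn l9g2 2) ≤ ((c133md φ inj).gn l9g1 5) := gn_le (l9in2 h0)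
theorem l9eg2 (h0 : ∀ s < 2, (c133md φ inj).In ⊤ (l9g0 s)) : (c133md φ inj).El ((c133md φ inj).gn l9g2 2) l9g2 := el_gn (l9top2 h0)
theorem l9le2 (h0 : ∀ s < 2, (c133md φ inj).In ⊤ (l9g0 s)) : (⊥ : Subgroup G) ≤ ((c133md φ inj).gn l9g2 2) := bot_le
theorem l9lb3 (h0 : ∀ s < 2, (c133md φ inj).In ⊤ (l9g0 s)) : 1 ≤ Nat.card (⊥ : Subgroup G) := one_le_card _
theorem l9y2Y : ∀ i < 4, (chkY c133b.canV c133b.row l9y2 (nat_lit 4)) i = 0 :=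
  allB (rngB_step (allB0 _ _) l9y2Y_0) (by decide)
theorem l9y2D : Dist (fun i => (fun x => (⟨c133b.vec (ZMod 11) 133 x⟩ : Vc φ)) (pt c133b.row l9y2 i)) 4 :=
  dist_of_chk (@Cfg.Ok.canT G _ _ _ _ c133b (ZMod.charP 11) c133b_ok rfl rfl φ) l9y2Y
theorem l9O2 : ∀ i < 4, (chkO (c133b.imgV l9g2) c133b.row l9y2 l9O2a (nat_lit 4) [nat_lit 0]) i = 0 :=
  allB (rngB_step (allB0 _ _) l9O2_0) (by decide)
theorem l9R2 (h0 : ∀ s < 2, (c133md φ inj).In ⊤ (l9g0 s)) : Reach ((c133md φ inj).gn l9g2 2) (fun i => (fun x => (⟨c133b.vec (ZMod 11) 133 x⟩ : Vc φ)) (pt c133b.row l9y2 i)) 4 [nat_lit 0] :=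
  reach_of_chk (pv := (fun x => (⟨c133b.vec (ZMod 11) 133 x⟩ : Vc φ))) ((@Cfg.Ok.acts G _ _ _ _ c133b (ZMod.charP 11) c133b_ok rfl rfl (c133md φ inj) rfl l9g2).ex (l9eg2 h0)) l9O2
theorem l9fx2 : (⊥ : Subgroup G) ≤ MulAction.stabilizer G ((fun i => (fun x => (⟨c133b.vec (ZMod 11) 133 x⟩ : Vc φ)) (pt c133b.row l9y2 i)) (nat_lit 0)) := bot_le
theorem l9lb2 (h0 : ∀ s < 2, (c133md φ inj).In ⊤ (l9g0 s)) : 4 ≤ Nat.card ((c133md φ inj).gn l9g2 2) :=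
  le_of_eq_of_le (by norm_num) (lower l9y2D (l9R2 h0) (l9le2 h0) l9fx2 (l9lb3 h0))
theorem l9y1Y : ∀ i < 4, (chkY c133b.canV c133b.row l9y1 (nat_lit 4)) i = 0 :=
  allB (rngB_step (allB0 _ _) l9y1Y_0) (by decide)
theorem l9y1D : Dist (fun i => (fun x => (⟨c133b.vec (ZMod 11) 133 x⟩ : Vc φ)) (pt c133b.row l9y1 i)) 4 :=
  dist_of_chk (@Cfg.Ok.canT G _ _ _ _ c133b (ZMod.charP 11) c133b_ok rfl rfl φ) l9y1Y
theorem l9O1 : ∀ i < 4, (chkO (c133b.imgV l9g1) c133b.row l9y1 l9O1a (nat_lit 4) [nat_lit 2]) i = 0 :=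
  allB (rngB_step (allB0 _ _) l9O1_0) (by decide)
theorem l9R1 (h0 : ∀ s < 2, (c133md φ inj).In ⊤ (l9g0 s)) : Reach ((c133md φ inj).gn l9g1 5) (fun i => (fun x => (⟨c133b.vec (ZMod 11) 133 x⟩ : Vc φ)) (pt c133b.row l9y1 i)) 4 [nat_lit 2] :=
  reach_of_chk (pv := (fun x => (⟨c133b.vec (ZMod 11) 133 x⟩ : Vc φ))) ((@Cfg.Ok.acts G _ _ _ _ c133b (ZMod.charP 11) c133b_ok rfl rfl (c133md φ inj) rfl l9g1).ex (l9eg1 h0)) l9O1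
theorem l9F1 : ∀ i < 2, (chkF (c133b.imgV l9g2) c133b.row l9y1 (nat_lit 2) [nat_lit 0, nat_lit 0]) i = 0 :=
  (rng_step (all0 _) l9F1_0)
theorem l9fx1 : ((c133md φ inj).gn l9g2 2) ≤ MulAction.stabilizer G ((fun i => (fun x => (⟨c133b.vec (ZMod 11) 133 x⟩ : Vc φ)) (pt c133b.row l9y1 i)) (nat_lit 2)) :=
  gn_le_stab (@Cfg.Ok.acts G _ _ _ _ c133b (ZMod.charP 11) c133b_ok rfl rfl (c133md φ inj) rfl l9g2) l9F1
theorem l9lb1 (h0 : ∀ s < 2, (c133md φ inj).In ⊤ (l9g0 s)) : 16 ≤ Nat.card ((c133md φ inj).gn l9g1 5) :=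
  le_of_eq_of_le (by norm_num) (lower l9y1D (l9R1 h0) (l9le1 h0) l9fx1 (l9lb2 h0))
theorem l9y0Y : ∀ i < 90, (chkY c133b.canV c133b.row l9y0 (nat_lit 90)) i = 0 :=
  allB (rngB_step (allB0 _ _) l9y0Y_0) (by decide)
theorem l9y0D : Dist (fun i => (fun x => (⟨c133b.vec (ZMod 11) 133 x⟩ : Vc φ)) (pt c133b.row l9y0 i)) 90 :=
  dist_of_chk (@Cfg.Ok.canT G _ _ _ _ c133b (ZMod.charP 11) c133b_ok rfl rfl φ) l9y0Y
theorem l9O0 : ∀ i < 90, (chkO (c133b.imgV l9g0) c133b.row l9y0 l9O0a (nat_lit 90) [nat_lit 25]) i = 0 :=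
  allB (rngB_step (allB0 _ _) l9O0_0) (by decide)
theorem l9R0 (h0 : ∀ s < 2, (c133md φ inj).In ⊤ (l9g0 s)) : Reach ((c133md φ inj).gn l9g0 2) (fun i => (fun x => (⟨c133b.vec (ZMod 11) 133 x⟩ : Vc φ)) (pt c133b.row l9y0 i)) 90 [nat_lit 25] :=
  reach_of_chk (pv := (fun x => (⟨c133b.vec (ZMod 11) 133 x⟩ : Vc φ))) ((@Cfg.Ok.acts G _ _ _ _ c133b (ZMod.charP 11) c133b_ok rfl rfl (c133md φ inj) rfl l9g0).ex (l9eg0 h0)) l9O0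
theorem l9F0 : ∀ i < 5, (chkF (c133b.imgV l9g1) c133b.row l9y0 (nat_lit 25) [nat_lit 0, nat_lit 0, nat_lit 0, nat_lit 0, nat_lit 0]) i = 0 :=
  (rng_step (all0 _) l9F0_0)
theorem l9fx0 : ((c133md φ inj).gn l9g1 5) ≤ MulAction.stabilizer G ((fun i => (fun x => (⟨c133b.vec (ZMod 11) 133 x⟩ : Vc φ)) (pt c133b.row l9y0 i)) (nat_lit 25)) :=
  gn_le_stab (@Cfg.Ok.acts G _ _ _ _ c133b (ZMod.charP 11) c133b_ok rfl rfl (c133md φ inj) rfl l9g1) l9F0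
theorem l9lb0 (h0 : ∀ s < 2, (c133md φ inj).In ⊤ (l9g0 s)) : 1440 ≤ Nat.card ((c133md φ inj).gn l9g0 2) :=
  le_of_eq_of_le (by norm_num) (lower l9y0D (l9R0 h0) (l9le0 h0) l9fx0 (l9lb1 h0))
theorem l9E : ∀ i < 2, (chkE l9g0 hE [nat_lit 111286407, nat_lit 1107693835]) i = 0 :=
  (rng_step (all0 _) l9E_0)
theorem l9in (he : (c133md φ inj).El ((c133md φ inj).gn hg 2) hE) : ∀ s < 2, (c133md φ inj).In ((c133md φ inj).gn hg 2) (l9g0 s) := in_of_chkE he l9E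
theorem l10top0 (h0 : ∀ s < 2, (c133md φ inj).In ⊤ (l10g0 s)) : ∀ s < 2, (c133md φ inj).In ⊤ (l10g0 s) := h0
theorem l10eg0 (h0 : ∀ s < 2, (c133md φ inj).In ⊤ (l10g0 s)) : (c133md φ inj).El ((c133md φ inj).gn l10g0 2) l10g0 := el_gn (l10top0 h0)
theorem l10W0 : ∀ i < 2, (chkW c133.mul c133.one l10g0 [[nat_lit 0, nat_lit 1, nat_lit 1, nat_lit 1, nat_lit 1, nat_lit 0, nat_lit 1, nat_lit 1],
  [nat_lit 0, nat_lit 0, nat_lit 0, nat_lit 1, nat_lit 1, nat_lit 1, nat_lit 1, nat_lit 1, nat_lit 0]] l10g1) i = 0 :=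
  (rng_step (all0 _) l10W0_0)
theorem l10in1 (h0 : ∀ s < 2, (c133md φ inj).In ⊤ (l10g0 s)) : ∀ s < 2, (c133md φ inj).In ((c133md φ inj).gn l10g0 2) (l10g1 s) := in_of_chkW (l10eg0 h0) l10W0
theorem l10top1 (h0 : ∀ s < 2, (c133md φ inj).In ⊤ (l10g0 s)) : ∀ s < 2, (c133md φ inj).In ⊤ (l10g1 s) := fun s hs => (l10in1 h0 s hs).top
theorem l10le0 (h0 : ∀ s < 2, (c133md φ inj).In ⊤ (l10g0 s)) : ((c133md φ inj).gn l10g1 2) ≤ ((c133md φ inj).gn l10g0 2) := gn_le (l10in1 h0)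
theorem l10eg1 (h0 : ∀ s < 2, (c133md φ inj).In ⊤ (l10g0 s)) : (c133md φ inj).El ((c133md φ inj).gn l10g1 2) l10g1 := el_gn (l10top1 h0)
theorem l10W1 : ∀ i < 3, (chkW c133.mul c133.one l10g1 [[nat_lit 0, nat_lit 1, nat_lit 1, nat_lit 0, nat_lit 1, nat_lit 0, nat_lit 1, nat_lit 1, nat_lit 0, nat_lit 0, nat_lit 1, nat_lit 1],
  [nat_lit 1, nat_lit 1, nat_lit 0, nat_lit 1, nat_lit 0, nat_lit 1, nat_lit 1, nat_lit 0],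
  [nat_lit 1, nat_lit 0, nat_lit 0, nat_lit 1, nat_lit 1, nat_lit 0, nat_lit 1, nat_lit 0, nat_lit 1, nat_lit 0]] l10g2) i = 0 :=
  (rng_step (all0 _) l10W1_0)
theorem l10in2 (h0 : ∀ s < 2, (c133md φ inj).In ⊤ (l10g0 s)) : ∀ s < 3, (c133md φ inj).In ((c133md φ inj).gn l10g1 2) (l10g2 s) := in_of_chkW (l10eg1 h0) l10W1
theorem l10top2 (h0 : ∀ s < 2, (c133md φ inj).In ⊤ (l10g0 s)) : ∀ s < 3, (c133md φ inj).In ⊤ (l10g2 s) := fun s hs => (l10in2 h0 s hs).top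
theorem l10le1 (h0 : ∀ s < 2, (c133md φ inj).In ⊤ (l10g0 s)) : ((c133md φ inj).gn l10g2 3) ≤ ((c133md φ inj).gn l10g1 2) := gn_le (l10in2 h0)
theorem l10eg2 (h0 : ∀ s < 2, (c133md φ inj).In ⊤ (l10g0 s)) : (c133md φ inj).El ((c133md φ inj).gn l10g2 3) l10g2 := el_gn (l10top2 h0)
theorem l10le2 (h0 : ∀ s < 2, (c133md φ inj).In ⊤ (l10g0 s)) : (⊥ : Subgroup G) ≤ ((c133md φ inj).gn l10g2 3) := bot_le
theorem l10lb3 (h0 : ∀ s < 2, (c133md φ inj).In ⊤ (l10g0 s)) : 1 ≤ Nat.card (⊥ : Subgroup G) := one_le_card _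
theorem l10y2Y : ∀ i < 8, (chkY c133b.canV c133b.row l10y2 (nat_lit 8)) i = 0 :=
  allB (rngB_step (allB0 _ _) l10y2Y_0) (by decide)
theorem l10y2D : Dist (fun i => (fun x => (⟨c133b.vec (ZMod 11) 133 x⟩ : Vc φ)) (pt c133b.row l10y2 i)) 8 :=
  dist_of_chk (@Cfg.Ok.canT G _ _ _ _ c133b (ZMod.charP 11) c133b_ok rfl rfl φ) l10y2Y
theorem l10O2 : ∀ i < 8, (chkO (c133b.imgV l10g2) c133b.row l10y2 l10O2a (nat_lit 8) [nat_lit 7]) i = 0 :=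
  allB (rngB_step (allB0 _ _) l10O2_0) (by decide)
theorem l10R2 (h0 : ∀ s < 2, (c133md φ inj).In ⊤ (l10g0 s)) : Reach ((c133md φ inj).gn l10g2 3) (fun i => (fun x => (⟨c133b.vec (ZMod 11) 133 x⟩ : Vc φ)) (pt c133b.row l10y2 i)) 8 [nat_lit 7] :=
  reach_of_chk (pv := (fun x => (⟨c133b.vec (ZMod 11) 133 x⟩ : Vc φ))) ((@Cfg.Ok.acts G _ _ _ _ c133b (ZMod.charP 11) c133b_ok rfl rfl (c133md φ inj) rfl l10g2).ex (l10eg2 h0)) l10O2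
theorem l10fx2 : (⊥ : Subgroup G) ≤ MulAction.stabilizer G ((fun i => (fun x => (⟨c133b.vec (ZMod 11) 133 x⟩ : Vc φ)) (pt c133b.row l10y2 i)) (nat_lit 7)) := bot_le
theorem l10lb2 (h0 : ∀ s < 2, (c133md φ inj).In ⊤ (l10g0 s)) : 8 ≤ Nat.card ((c133md φ inj).gn l10g2 3) :=
  le_of_eq_of_le (by norm_num) (lower l10y2D (l10R2 h0) (l10le2 h0) l10fx2 (l10lb3 h0))
theorem l10y1Y : ∀ i < 180, (chkY c133b.canV c133b.row l10y1 (nat_lit 180)) i = 0 :=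
  allB (rngB_step (allB0 _ _) l10y1Y_0) (by decide)
theorem l10y1D : Dist (fun i => (fun x => (⟨c133b.vec (ZMod 11) 133 x⟩ : Vc φ)) (pt c133b.row l10y1 i)) 180 :=
  dist_of_chk (@Cfg.Ok.canT G _ _ _ _ c133b (ZMod.charP 11) c133b_ok rfl rfl φ) l10y1Y
theorem l10O1 : ∀ i < 180, (chkO (c133b.imgV l10g1) c133b.row l10y1 l10O1a (nat_lit 180) [nat_lit 168]) i = 0 :=
  allB (rngB_step (allB0 _ _) l10O1_0) (by decide)
theorem l10R1 (h0 : ∀ s < 2, (c133md φ inj).In ⊤ (l10g0 s)) : Reach ((c133md φ inj).gn l10g1 2) (fun i => (fun x => (⟨c133b.vec (ZMod 11) 133 x⟩ : Vc φ)) (pt c133b.row l10y1 i)) 180 [nat_lit 168] :=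
  reach_of_chk (pv := (fun x => (⟨c133b.vec (ZMod 11) 133 x⟩ : Vc φ))) ((@Cfg.Ok.acts G _ _ _ _ c133b (ZMod.charP 11) c133b_ok rfl rfl (c133md φ inj) rfl l10g1).ex (l10eg1 h0)) l10O1
theorem l10F1 : ∀ i < 3, (chkF (c133b.imgV l10g2) c133b.row l10y1 (nat_lit 168) [nat_lit 0, nat_lit 0, nat_lit 0]) i = 0 :=
  (rng_step (all0 _) l10F1_0)
theorem l10fx1 : ((c133md φ inj).gn l10g2 3) ≤ MulAction.stabilizer G ((fun i => (fun x => (⟨c133b.vec (ZMod 11) 133 x⟩ : Vc φ)) (pt c133b.row l10y1 i)) (nat_lit 168)) :=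
  gn_le_stab (@Cfg.Ok.acts G _ _ _ _ c133b (ZMod.charP 11) c133b_ok rfl rfl (c133md φ inj) rfl l10g2) l10F1
theorem l10lb1 (h0 : ∀ s < 2, (c133md φ inj).In ⊤ (l10g0 s)) : 1440 ≤ Nat.card ((c133md φ inj).gn l10g1 2) :=
  le_of_eq_of_le (by norm_num) (lower l10y1D (l10R1 h0) (l10le1 h0) l10fx1 (l10lb2 h0))
theorem l10y0Y : ∀ i < 66, (chkY c133b.canV c133b.row l10y0 (nat_lit 66)) i = 0 :=
  allB (rngB_step (allB0 _ _) l10y0Y_0) (by decide)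
theorem l10y0D : Dist (fun i => (fun x => (⟨c133b.vec (ZMod 11) 133 x⟩ : Vc φ)) (pt c133b.row l10y0 i)) 66 :=
  dist_of_chk (@Cfg.Ok.canT G _ _ _ _ c133b (ZMod.charP 11) c133b_ok rfl rfl φ) l10y0Y
theorem l10O0 : ∀ i < 66, (chkO (c133b.imgV l10g0) c133b.row l10y0 l10O0a (nat_lit 66) [nat_lit 31]) i = 0 :=
  allB (rngB_step (allB0 _ _) l10O0_0) (by decide)
theorem l10R0 (h0 : ∀ s < 2, (c133md φ inj).In ⊤ (l10g0 s)) : Reach ((c133md φ inj).gn l10g0 2) (fun i => (fun x => (⟨c133b.vec (ZMod 11) 133 x⟩ : Vc φ)) (pt c133b.row l10y0 i)) 66 [nat_lit 31] :=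
  reach_of_chk (pv := (fun x => (⟨c133b.vec (ZMod 11) 133 x⟩ : Vc φ))) ((@Cfg.Ok.acts G _ _ _ _ c133b (ZMod.charP 11) c133b_ok rfl rfl (c133md φ inj) rfl l10g0).ex (l10eg0 h0)) l10O0
theorem l10F0 : ∀ i < 2, (chkF (c133b.imgV l10g1) c133b.row l10y0 (nat_lit 31) [nat_lit 0, nat_lit 0]) i = 0 :=
  (rng_step (all0 _) l10F0_0)
theorem l10fx0 : ((c133md φ inj).gn l10g1 2) ≤ MulAction.stabilizer G ((fun i => (fun x => (⟨c133b.vec (ZMod 11) 133 x⟩ : Vc φ)) (pt c133b.row l10y0 i)) (nat_lit 31)) :=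
  gn_le_stab (@Cfg.Ok.acts G _ _ _ _ c133b (ZMod.charP 11) c133b_ok rfl rfl (c133md φ inj) rfl l10g1) l10F0
theorem l10lb0 (h0 : ∀ s < 2, (c133md φ inj).In ⊤ (l10g0 s)) : 95040 ≤ Nat.card ((c133md φ inj).gn l10g0 2) :=
  le_of_eq_of_le (by norm_num) (lower l10y0D (l10R0 h0) (l10le0 h0) l10fx0 (l10lb1 h0))
theorem l10E : ∀ i < 2, (chkE l10g0 hE [nat_lit 1958883364, nat_lit 424505515]) i = 0 :=
  (rng_step (all0 _) l10E_0)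
theorem l10in (he : (c133md φ inj).El ((c133md φ inj).gn hg 2) hE) : ∀ s < 2, (c133md φ inj).In ((c133md φ inj).gn hg 2) (l10g0 s) := in_of_chkE he l10E
theorem l11top0 (h0 : ∀ s < 2, (c133md φ inj).In ⊤ (l11g0 s)) : ∀ s < 2, (c133md φ inj).In ⊤ (l11g0 s) := h0
theorem l11eg0 (h0 : ∀ s < 2, (c133md φ inj).In ⊤ (l11g0 s)) : (c133md φ inj).El ((c133md φ inj).gn l11g0 2) l11g0 := el_gn (l11top0 h0)
theorem l11W0 : ∀ i < 2, (chkW c133.mul c133.one l11g0 [[nat_lit 1, nat_lit 0, nat_lit 0, nat_lit 1, nat_lit 1, nat_lit 1, nat_lit 1],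
  [nat_lit 1, nat_lit 0, nat_lit 1, nat_lit 0, nat_lit 1, nat_lit 1, nat_lit 1, nat_lit 0, nat_lit 0, nat_lit 1, nat_lit 0, nat_lit 1, nat_lit 0, nat_lit 1, nat_lit 1]] l11g1) i = 0 :=
  (rng_step (all0 _) l11W0_0)
theorem l11in1 (h0 : ∀ s < 2, (c133md φ inj).In ⊤ (l11g0 s)) : ∀ s < 2, (c133md φ inj).In ((c133md φ inj).gn l11g0 2) (l11g1 s) := in_of_chkW (l11eg0 h0) l11W0
theorem l11top1 (h0 : ∀ s < 2, (c133md φ inj).In ⊤ (l11g0 s)) : ∀ s < 2, (c133md φ inj).In ⊤ (l11g1 s) := fun s hs => (l11in1 h0 s hs).top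
theorem l11le0 (h0 : ∀ s < 2, (c133md φ inj).In ⊤ (l11g0 s)) : ((c133md φ inj).gn l11g1 2) ≤ ((c133md φ inj).gn l11g0 2) := gn_le (l11in1 h0)
theorem l11eg1 (h0 : ∀ s < 2, (c133md φ inj).In ⊤ (l11g0 s)) : (c133md φ inj).El ((c133md φ inj).gn l11g1 2) l11g1 := el_gn (l11top1 h0)
theorem l11W1 : ∀ i < 2, (chkW c133.mul c133.one l11g1 [[nat_lit 0, nat_lit 1, nat_lit 1, nat_lit 0, nat_lit 1, nat_lit 1, nat_lit 0, nat_lit 1, nat_lit 0],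
  [nat_lit 1, nat_lit 1, nat_lit 1, nat_lit 0, nat_lit 1, nat_lit 1, nat_lit 0, nat_lit 0, nat_lit 1]] l11g2) i = 0 :=
  (rng_step (all0 _) l11W1_0)
theorem l11in2 (h0 : ∀ s < 2, (c133md φ inj).In ⊤ (l11g0 s)) : ∀ s < 2, (c133md φ inj).In ((c133md φ inj).gn l11g1 2) (l11g2 s) := in_of_chkW (l11eg1 h0) l11W1
theorem l11top2 (h0 : ∀ s < 2, (c133md φ inj).In ⊤ (l11g0 s)) : ∀ s < 2, (c133md φ inj).In ⊤ (l11g2 s) := fun s hs => (l11in2 h0 s hs).top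
theorem l11le1 (h0 : ∀ s < 2, (c133md φ inj).In ⊤ (l11g0 s)) : ((c133md φ inj).gn l11g2 2) ≤ ((c133md φ inj).gn l11g1 2) := gn_le (l11in2 h0)
theorem l11eg2 (h0 : ∀ s < 2, (c133md φ inj).In ⊤ (l11g0 s)) : (c133md φ inj).El ((c133md φ inj).gn l11g2 2) l11g2 := el_gn (l11top2 h0)
theorem l11le2 (h0 : ∀ s < 2, (c133md φ inj).In ⊤ (l11g0 s)) : (⊥ : Subgroup G) ≤ ((c133md φ inj).gn l11g2 2) := bot_le
theorem l11lb3 (h0 : ∀ s < 2, (c133md φ inj).In ⊤ (l11g0 s)) : 1 ≤ Nat.card (⊥ : Subgroup G) := one_le_card _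
theorem l11y2Y : ∀ i < 4, (chkY c133b.canV c133b.row l11y2 (nat_lit 4)) i = 0 :=
  allB (rngB_step (allB0 _ _) l11y2Y_0) (by decide)
theorem l11y2D : Dist (fun i => (fun x => (⟨c133b.vec (ZMod 11) 133 x⟩ : Vc φ)) (pt c133b.row l11y2 i)) 4 :=
  dist_of_chk (@Cfg.Ok.canT G _ _ _ _ c133b (ZMod.charP 11) c133b_ok rfl rfl φ) l11y2Y
theorem l11O2 : ∀ i < 4, (chkO (c133b.imgV l11g2) c133b.row l11y2 l11O2a (nat_lit 4) [nat_lit 0]) i = 0 :=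
  allB (rngB_step (allB0 _ _) l11O2_0) (by decide)
theorem l11R2 (h0 : ∀ s < 2, (c133md φ inj).In ⊤ (l11g0 s)) : Reach ((c133md φ inj).gn l11g2 2) (fun i => (fun x => (⟨c133b.vec (ZMod 11) 133 x⟩ : Vc φ)) (pt c133b.row l11y2 i)) 4 [nat_lit 0] :=
  reach_of_chk (pv := (fun x => (⟨c133b.vec (ZMod 11) 133 x⟩ : Vc φ))) ((@Cfg.Ok.acts G _ _ _ _ c133b (ZMod.charP 11) c133b_ok rfl rfl (c133md φ inj) rfl l11g2).ex (l11eg2 h0)) l11O2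
theorem l11fx2 : (⊥ : Subgroup G) ≤ MulAction.stabilizer G ((fun i => (fun x => (⟨c133b.vec (ZMod 11) 133 x⟩ : Vc φ)) (pt c133b.row l11y2 i)) (nat_lit 0)) := bot_le
theorem l11lb2 (h0 : ∀ s < 2, (c133md φ inj).In ⊤ (l11g0 s)) : 4 ≤ Nat.card ((c133md φ inj).gn l11g2 2) :=
  le_of_eq_of_le (by norm_num) (lower l11y2D (l11R2 h0) (l11le2 h0) l11fx2 (l11lb3 h0))
theorem l11y1Y : ∀ i < 60, (chkY c133b.canV c133b.row l11y1 (nat_lit 60)) i = 0 :=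
  allB (rngB_step (allB0 _ _) l11y1Y_0) (by decide)
theorem l11y1D : Dist (fun i => (fun x => (⟨c133b.vec (ZMod 11) 133 x⟩ : Vc φ)) (pt c133b.row l11y1 i)) 60 :=
  dist_of_chk (@Cfg.Ok.canT G _ _ _ _ c133b (ZMod.charP 11) c133b_ok rfl rfl φ) l11y1Y
theorem l11O1 : ∀ i < 60, (chkO (c133b.imgV l11g1) c133b.row l11y1 l11O1a (nat_lit 60) [nat_lit 5]) i = 0 :=
  allB (rngB_step (allB0 _ _) l11O1_0) (by decide)
theorem l11R1 (h0 : ∀ s < 2, (c133md φ inj).In ⊤ (l11g0 s)) : Reach ((c133md φ inj).gn l11g1 2) (fun i => (fun x => (⟨c133b.vec (ZMod 11) 133 x⟩ : Vc φ)) (pt c133b.row l11y1 i)) 60 [nat_lit 5] :=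
  reach_of_chk (pv := (fun x => (⟨c133b.vec (ZMod 11) 133 x⟩ : Vc φ))) ((@Cfg.Ok.acts G _ _ _ _ c133b (ZMod.charP 11) c133b_ok rfl rfl (c133md φ inj) rfl l11g1).ex (l11eg1 h0)) l11O1
theorem l11F1 : ∀ i < 2, (chkF (c133b.imgV l11g2) c133b.row l11y1 (nat_lit 5) [nat_lit 0, nat_lit 0]) i = 0 :=
  (rng_step (all0 _) l11F1_0)
theorem l11fx1 : ((c133md φ inj).gn l11g2 2) ≤ MulAction.stabilizer G ((fun i => (fun x => (⟨c133b.vec (ZMod 11) 133 x⟩ : Vc φ)) (pt c133b.row l11y1 i)) (nat_lit 5)) :=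
  gn_le_stab (@Cfg.Ok.acts G _ _ _ _ c133b (ZMod.charP 11) c133b_ok rfl rfl (c133md φ inj) rfl l11g2) l11F1
theorem l11lb1 (h0 : ∀ s < 2, (c133md φ inj).In ⊤ (l11g0 s)) : 240 ≤ Nat.card ((c133md φ inj).gn l11g1 2) :=
  le_of_eq_of_le (by norm_num) (lower l11y1D (l11R1 h0) (l11le1 h0) l11fx1 (l11lb2 h0))
theorem l11y0Y : ∀ i < 396, (chkY c133b.canV c133b.row l11y0 (nat_lit 396)) i = 0 :=
  allB (rngB_step (allB0 _ _) l11y0Y_0) (by decide)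
theorem l11y0D : Dist (fun i => (fun x => (⟨c133b.vec (ZMod 11) 133 x⟩ : Vc φ)) (pt c133b.row l11y0 i)) 396 :=
  dist_of_chk (@Cfg.Ok.canT G _ _ _ _ c133b (ZMod.charP 11) c133b_ok rfl rfl φ) l11y0Y
theorem l11O0 : ∀ i < 396, (chkO (c133b.imgV l11g0) c133b.row l11y0 l11O0a (nat_lit 396) [nat_lit 38]) i = 0 :=
  allB (rngB_step (allB0 _ _) l11O0_0) (by decide)
theorem l11R0 (h0 : ∀ s < 2, (c133md φ inj).In ⊤ (l11g0 s)) : Reach ((c133md φ inj).gn l11g0 2) (fun i => (fun x => (⟨c133b.vec (ZMod 11) 133 x⟩ : Vc φ)) (pt c133b.row l11y0 i)) 396 [nat_lit 38] :=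
  reach_of_chk (pv := (fun x => (⟨c133b.vec (ZMod 11) 133 x⟩ : Vc φ))) ((@Cfg.Ok.acts G _ _ _ _ c133b (ZMod.charP 11) c133b_ok rfl rfl (c133md φ inj) rfl l11g0).ex (l11eg0 h0)) l11O0
theorem l11F0 : ∀ i < 2, (chkF (c133b.imgV l11g1) c133b.row l11y0 (nat_lit 38) [nat_lit 0, nat_lit 0]) i = 0 :=
  (rng_step (all0 _) l11F0_0)
theorem l11fx0 : ((c133md φ inj).gn l11g1 2) ≤ MulAction.stabilizer G ((fun i => (fun x => (⟨c133b.vec (ZMod 11) 133 x⟩ : Vc φ)) (pt c133b.row l11y0 i)) (nat_lit 38)) :=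
  gn_le_stab (@Cfg.Ok.acts G _ _ _ _ c133b (ZMod.charP 11) c133b_ok rfl rfl (c133md φ inj) rfl l11g1) l11F0
theorem l11lb0 (h0 : ∀ s < 2, (c133md φ inj).In ⊤ (l11g0 s)) : 95040 ≤ Nat.card ((c133md φ inj).gn l11g0 2) :=
  le_of_eq_of_le (by norm_num) (lower l11y0D (l11R0 h0) (l11le0 h0) l11fx0 (l11lb1 h0))
theorem l11E : ∀ i < 2, (chkE l11g0 hE [nat_lit 70612139, nat_lit 1594832197]) i = 0 :=
  (rng_step (all0 _) l11E_0)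
theorem l11in (he : (c133md φ inj).El ((c133md φ inj).gn hg 2) hE) : ∀ s < 2, (c133md φ inj).In ((c133md φ inj).gn hg 2) (l11g0 s) := in_of_chkE he l11E
theorem dK : ∀ i < 2, (chkK c133.mul (dD 1) ag1 hE [nat_lit 40714496, nat_lit 1028395850]) i = 0 :=
  (rng_step (all0 _) dK_0)
theorem dKL (h0 : ∀ s < 2, (c133md φ inj).In ⊤ (hg s)) (h1 : (c133md φ inj).In ⊤ (dD 1)) (he : (c133md φ inj).El ((c133md φ inj).gn hg 2) hE) (hub : Nat.card ((c133md φ inj).gn hg 2) ≤ 239500800) : ((c133md φ inj).gn ag1 2) ≤ Lc ((c133md φ inj).gn hg 2) ((c133md φ inj).elt (dD 1))⁻¹ :=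
  gn_le (in_of_chkK (he) h1 (ain1 h0) dK)
theorem dL0 : ∀ i < 2, (chkL c133.mul (dD (nat_lit 0)) hg hE [nat_lit 751991187, nat_lit 71598129]) i = 0 :=
  (rng_step (all0 _) dL0_0)
theorem dLL0 (h0 : ∀ s < 2, (c133md φ inj).In ⊤ (hg s)) (h1 : (c133md φ inj).In ⊤ (dD 1)) (he : (c133md φ inj).El ((c133md φ inj).gn hg 2) hE) (hub : Nat.card ((c133md φ inj).gn hg 2) ≤ 239500800) : ((c133md φ inj).gn hg 2) ≤ Lc ((c133md φ inj).gn hg 2) ((c133md φ inj).elt (dD (nat_lit 0))) :=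
  gn_le (in_of_chkL (he) (dtop h0 h1 he hub _) (fun s _ => aeg0 h0 s) dL0)
theorem dM0 : ∀ i < 1, (chkM (c133b.imgV dm0) c133b.row ay0 (nat_lit 461) ay0 [nat_lit 461] [nat_lit 0]) i = 0 :=
  (rng_step (all0 _) dM0_0)
theorem dR0 : ∀ i < 1, (chkR c133.mul dD hE dw0 (nat_lit 0) (nat_lit 12)) i = 0 :=
  (rng_step (all0 _) dR0_0)
theorem dst0 (h0 : ∀ s < 2, (c133md φ inj).In ⊤ (hg s)) (h1 : (c133md φ inj).In ⊤ (dD 1)) (he : (c133md φ inj).El ((c133md φ inj).gn hg 2) hE) (hub : Nat.card ((c133md φ inj).gn hg 2) ≤ 239500800) : ∀ h ∈ ((c133md φ inj).gn hg 2), ∃ j < 12, DCos ((c133md φ inj).gn hg 2) ((c133md φ inj).elt (dD j)) ((c133md φ inj).elt (dD (nat_lit 0)) * h * (c133md φ inj).elt (dD 1)) :=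
  dc_roots (pv := (fun x => (⟨c133b.vec (ZMod 11) 133 x⟩ : Vc φ))) (dtop h0 h1 he hub) (he) ((aex0 h0 hub).1) (((aex0 h0 hub).2.1).le.trans (dKL h0 h1 he hub)) (dLL0 h0 h1 he hub)
    (aR0 h0) (@Cfg.Ok.acts G _ _ _ _ c133b (ZMod.charP 11) c133b_ok rfl rfl (c133md φ inj) rfl dm0) rfl dM0 dR0
theorem dL1 : ∀ i < 2, (chkL c133.mul (dD (nat_lit 1)) ag1 hE [nat_lit 40714496, nat_lit 648511835]) i = 0 :=
  (rng_step (all0 _) dL1_0)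
theorem dLL1 (h0 : ∀ s < 2, (c133md φ inj).In ⊤ (hg s)) (h1 : (c133md φ inj).In ⊤ (dD 1)) (he : (c133md φ inj).El ((c133md φ inj).gn hg 2) hE) (hub : Nat.card ((c133md φ inj).gn hg 2) ≤ 239500800) : ((c133md φ inj).gn ag1 2) ≤ Lc ((c133md φ inj).gn hg 2) ((c133md φ inj).elt (dD (nat_lit 1))) :=
  gn_le (in_of_chkL (he) (dtop h0 h1 he hub _) (ain1 h0) dL1)
theorem dO1 : ∀ i < 462, (chkO (c133b.imgV ag1) c133b.row ay0 dO1a (nat_lit 462) [nat_lit 0, nat_lit 225, nat_lit 425, nat_lit 461]) i = 0 :=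
  allB (rngB_step (allB0 _ _) dO1_0) (by decide)
theorem dM1 : ∀ i < 4, (chkM (c133b.imgV dm1) c133b.row ay0 (nat_lit 461) ay0 [nat_lit 0, nat_lit 225, nat_lit 425, nat_lit 461] [nat_lit 0, nat_lit 0, nat_lit 0, nat_lit 0]) i = 0 :=
  (rng_step (all0 _) dM1_0)
theorem dR1 : ∀ i < 4, (chkR c133.mul dD hE dw1 (nat_lit 1) (nat_lit 12)) i = 0 :=
  (rng_step (rng_step (all0 _) dR1_0) dR1_1)
theorem dst1 (h0 : ∀ s < 2, (c133md φ inj).In ⊤ (hg s)) (h1 : (c133md φ inj).In ⊤ (dD 1)) (he : (c133md φ inj).El ((c133md φ inj).gn hg 2) hE) (hub : Nat.card ((c133md φ inj).gn hg 2) ≤ 239500800) : ∀ h ∈ ((c133md φ inj).gn hg 2), ∃ j < 12, DCos ((c133md φ inj).gn hg 2) ((c133md φ inj).elt (dD j)) ((c133md φ inj).elt (dD (nat_lit 1)) * h * (c133md φ inj).elt (dD 1)) :=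
  dc_roots (pv := (fun x => (⟨c133b.vec (ZMod 11) 133 x⟩ : Vc φ))) (dtop h0 h1 he hub) (he) ((aex0 h0 hub).1) (((aex0 h0 hub).2.1).le.trans (dKL h0 h1 he hub)) (dLL1 h0 h1 he hub)
    (reach_of_chk (pv := (fun x => (⟨c133b.vec (ZMod 11) 133 x⟩ : Vc φ))) ((@Cfg.Ok.acts G _ _ _ _ c133b (ZMod.charP 11) c133b_ok rfl rfl (c133md φ inj) rfl ag1).ex (el_gn fun s hs => (ain1 h0 s hs).top)) dO1) (@Cfg.Ok.acts G _ _ _ _ c133b (ZMod.charP 11) c133b_ok rfl rfl (c133md φ inj) rfl dm1) rfl dM1 dR1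
theorem dL2 : ∀ i < 2, (chkL c133.mul (dD (nat_lit 2)) l2g0 hE [nat_lit 1181959717, nat_lit 11362980]) i = 0 :=
  (rng_step (all0 _) dL2_0)
theorem dLL2 (h0 : ∀ s < 2, (c133md φ inj).In ⊤ (hg s)) (h1 : (c133md φ inj).In ⊤ (dD 1)) (he : (c133md φ inj).El ((c133md φ inj).gn hg 2) hE) (hub : Nat.card ((c133md φ inj).gn hg 2) ≤ 239500800) : ((c133md φ inj).gn l2g0 2) ≤ Lc ((c133md φ inj).gn hg 2) ((c133md φ inj).elt (dD (nat_lit 2))) :=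
  gn_le (in_of_chkL (he) (dtop h0 h1 he hub _) (l2in he) dL2)
theorem dO2 : ∀ i < 462, (chkO (c133b.imgV l2g0) c133b.row ay0 dO2a (nat_lit 462) [nat_lit 0, nat_lit 2, nat_lit 12, nat_lit 237, nat_lit 238]) i = 0 :=
  allB (rngB_step (allB0 _ _) dO2_0) (by decide)
theorem dM2 : ∀ i < 5, (chkM (c133b.imgV dm2) c133b.row ay0 (nat_lit 461) ay0 [nat_lit 0, nat_lit 2, nat_lit 12, nat_lit 237, nat_lit 238] [nat_lit 0, nat_lit 0, nat_lit 0, nat_lit 0, nat_lit 0]) i = 0 :=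
  (rng_step (all0 _) dM2_0)
theorem dR2 : ∀ i < 5, (chkR c133.mul dD hE dw2 (nat_lit 2) (nat_lit 12)) i = 0 :=
  (rng_step (rng_step (rng_step (all0 _) dR2_0) dR2_1) dR2_2)
theorem dst2 (h0 : ∀ s < 2, (c133md φ inj).In ⊤ (hg s)) (h1 : (c133md φ inj).In ⊤ (dD 1)) (he : (c133md φ inj).El ((c133md φ inj).gn hg 2) hE) (hub : Nat.card ((c133md φ inj).gn hg 2) ≤ 239500800) : ∀ h ∈ ((c133md φ inj).gn hg 2), ∃ j < 12, DCos ((c133md φ inj).gn hg 2) ((c133md φ inj).elt (dD j)) ((c133md φ inj).elt (dD (nat_lit 2)) * h * (c133md φ inj).elt (dD 1)) :=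
  dc_roots (pv := (fun x => (⟨c133b.vec (ZMod 11) 133 x⟩ : Vc φ))) (dtop h0 h1 he hub) (he) ((aex0 h0 hub).1) (((aex0 h0 hub).2.1).le.trans (dKL h0 h1 he hub)) (dLL2 h0 h1 he hub)
    (reach_of_chk (pv := (fun x => (⟨c133b.vec (ZMod 11) 133 x⟩ : Vc φ))) ((@Cfg.Ok.acts G _ _ _ _ c133b (ZMod.charP 11) c133b_ok rfl rfl (c133md φ inj) rfl l2g0).ex (el_gn fun s hs => (l2in he s hs).top)) dO2) (@Cfg.Ok.acts G _ _ _ _ c133b (ZMod.charP 11) c133b_ok rfl rfl (c133md φ inj) rfl dm2) rfl dM2 dR2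
theorem dL3 : ∀ i < 3, (chkL c133.mul (dD (nat_lit 3)) l3g0 hE [nat_lit 282727573, nat_lit 3220086, nat_lit 110430035]) i = 0 :=
  (rng_step (all0 _) dL3_0)
theorem dLL3 (h0 : ∀ s < 2, (c133md φ inj).In ⊤ (hg s)) (h1 : (c133md φ inj).In ⊤ (dD 1)) (he : (c133md φ inj).El ((c133md φ inj).gn hg 2) hE) (hub : Nat.card ((c133md φ inj).gn hg 2) ≤ 239500800) : ((c133md φ inj).gn l3g0 3) ≤ Lc ((c133md φ inj).gn hg 2) ((c133md φ inj).elt (dD (nat_lit 3))) :=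
  gn_le (in_of_chkL (he) (dtop h0 h1 he hub _) (l3in he) dL3)
theorem dO3 : ∀ i < 462, (chkO (c133b.imgV l3g0) c133b.row ay0 dO3a (nat_lit 462) [nat_lit 0, nat_lit 1, nat_lit 6, nat_lit 35, nat_lit 317]) i = 0 :=
  allB (rngB_step (allB0 _ _) dO3_0) (by decide)
theorem dM3 : ∀ i < 5, (chkM (c133b.imgV dm3) c133b.row ay0 (nat_lit 461) ay0 [nat_lit 0, nat_lit 1, nat_lit 6, nat_lit 35, nat_lit 317] [nat_lit 0, nat_lit 0, nat_lit 0, nat_lit 0, nat_lit 0]) i = 0 :=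
  (rng_step (all0 _) dM3_0)
theorem dR3 : ∀ i < 5, (chkR c133.mul dD hE dw3 (nat_lit 3) (nat_lit 12)) i = 0 :=
  (rng_step (rng_step (rng_step (all0 _) dR3_0) dR3_1) dR3_2)
theorem dst3 (h0 : ∀ s < 2, (c133md φ inj).In ⊤ (hg s)) (h1 : (c133md φ inj).In ⊤ (dD 1)) (he : (c133md φ inj).El ((c133md φ inj).gn hg 2) hE) (hub : Nat.card ((c133md φ inj).gn hg 2) ≤ 239500800) : ∀ h ∈ ((c133md φ inj).gn hg 2), ∃ j < 12, DCos ((c133md φ inj).gn hg 2) ((c133md φ inj).elt (dD j)) ((c133md φ inj).elt (dD (nat_lit 3)) * h * (c133md φ inj).elt (dD 1)) :=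
  dc_roots (pv := (fun x => (⟨c133b.vec (ZMod 11) 133 x⟩ : Vc φ))) (dtop h0 h1 he hub) (he) ((aex0 h0 hub).1) (((aex0 h0 hub).2.1).le.trans (dKL h0 h1 he hub)) (dLL3 h0 h1 he hub)
    (reach_of_chk (pv := (fun x => (⟨c133b.vec (ZMod 11) 133 x⟩ : Vc φ))) ((@Cfg.Ok.acts G _ _ _ _ c133b (ZMod.charP 11) c133b_ok rfl rfl (c133md φ inj) rfl l3g0).ex (el_gn fun s hs => (l3in he s hs).top)) dO3) (@Cfg.Ok.acts G _ _ _ _ c133b (ZMod.charP 11) c133b_ok rfl rfl (c133md φ inj) rfl dm3) rfl dM3 dR3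
theorem dL4 : ∀ i < 2, (chkL c133.mul (dD (nat_lit 4)) l4g0 hE [nat_lit 1527583602, nat_lit 1545635713]) i = 0 :=
  (rng_step (all0 _) dL4_0)
theorem dLL4 (h0 : ∀ s < 2, (c133md φ inj).In ⊤ (hg s)) (h1 : (c133md φ inj).In ⊤ (dD 1)) (he : (c133md φ inj).El ((c133md φ inj).gn hg 2) hE) (hub : Nat.card ((c133md φ inj).gn hg 2) ≤ 239500800) : ((c133md φ inj).gn l4g0 2) ≤ Lc ((c133md φ inj).gn hg 2) ((c133md φ inj).elt (dD (nat_lit 4))) :=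
  gn_le (in_of_chkL (he) (dtop h0 h1 he hub _) (l4in he) dL4)
theorem dO4 : ∀ i < 462, (chkO (c133b.imgV l4g0) c133b.row ay0 dO4a (nat_lit 462) [nat_lit 0, nat_lit 225, nat_lit 226, nat_lit 425, nat_lit 461]) i = 0 :=
  allB (rngB_step (allB0 _ _) dO4_0) (by decide)
theorem dM4 : ∀ i < 5, (chkM (c133b.imgV dm4) c133b.row ay0 (nat_lit 461) ay0 [nat_lit 0, nat_lit 225, nat_lit 226, nat_lit 425, nat_lit 461] [nat_lit 0, nat_lit 0, nat_lit 0, nat_lit 0, nat_lit 0]) i = 0 :=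
  (rng_step (all0 _) dM4_0)
theorem dR4 : ∀ i < 5, (chkR c133.mul dD hE dw4 (nat_lit 4) (nat_lit 12)) i = 0 :=
  (rng_step (rng_step (rng_step (all0 _) dR4_0) dR4_1) dR4_2)
theorem dst4 (h0 : ∀ s < 2, (c133md φ inj).In ⊤ (hg s)) (h1 : (c133md φ inj).In ⊤ (dD 1)) (he : (c133md φ inj).El ((c133md φ inj).gn hg 2) hE) (hub : Nat.card ((c133md φ inj).gn hg 2) ≤ 239500800) : ∀ h ∈ ((c133md φ inj).gn hg 2), ∃ j < 12, DCos ((c133md φ inj).gn hg 2) ((c133md φ inj).elt (dD j)) ((c133md φ inj).elt (dD (nat_lit 4)) * h * (c133md φ inj).elt (dD 1)) :=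
  dc_roots (pv := (fun x => (⟨c133b.vec (ZMod 11) 133 x⟩ : Vc φ))) (dtop h0 h1 he hub) (he) ((aex0 h0 hub).1) (((aex0 h0 hub).2.1).le.trans (dKL h0 h1 he hub)) (dLL4 h0 h1 he hub)
    (reach_of_chk (pv := (fun x => (⟨c133b.vec (ZMod 11) 133 x⟩ : Vc φ))) ((@Cfg.Ok.acts G _ _ _ _ c133b (ZMod.charP 11) c133b_ok rfl rfl (c133md φ inj) rfl l4g0).ex (el_gn fun s hs => (l4in he s hs).top)) dO4) (@Cfg.Ok.acts G _ _ _ _ c133b (ZMod.charP 11) c133b_ok rfl rfl (c133md φ inj) rfl dm4) rfl dM4 dR4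
theorem dL5 : ∀ i < 2, (chkL c133.mul (dD (nat_lit 5)) l5g0 hE [nat_lit 1114452229, nat_lit 820873557]) i = 0 :=
  (rng_step (all0 _) dL5_0)
theorem dLL5 (h0 : ∀ s < 2, (c133md φ inj).In ⊤ (hg s)) (h1 : (c133md φ inj).In ⊤ (dD 1)) (he : (c133md φ inj).El ((c133md φ inj).gn hg 2) hE) (hub : Nat.card ((c133md φ inj).gn hg 2) ≤ 239500800) : ((c133md φ inj).gn l5g0 2) ≤ Lc ((c133md φ inj).gn hg 2) ((c133md φ inj).elt (dD (nat_lit 5))) :=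
  gn_le (in_of_chkL (he) (dtop h0 h1 he hub _) (l5in he) dL5)
theorem dO5 : ∀ i < 462, (chkO (c133b.imgV l5g0) c133b.row ay0 dO5a (nat_lit 462) [nat_lit 0, nat_lit 3, nat_lit 5, nat_lit 6, nat_lit 8, nat_lit 15, nat_lit 17, nat_lit 23, nat_lit 42, nat_lit 265, nat_lit 268]) i = 0 :=
  allB (rngB_step (allB0 _ _) dO5_0) (by decide)
theorem dM5 : ∀ i < 11, (chkM (c133b.imgV dm5) c133b.row ay0 (nat_lit 461) ay0 [nat_lit 0, nat_lit 3, nat_lit 5, nat_lit 6, nat_lit 8, nat_lit 15, nat_lit 17, nat_lit 23, nat_lit 42, nat_lit 265, nat_lit 268] [nat_lit 0, nat_lit 0, nat_lit 0, nat_lit 0, nat_lit 0, nat_lit 0, nat_lit 0, nat_lit 0, nat_lit 0, nat_lit 0, nat_lit 0]) i = 0 :=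
  (rng_step (rng_step (all0 _) dM5_0) dM5_1)
theorem dR5 : ∀ i < 11, (chkR c133.mul dD hE dw5 (nat_lit 5) (nat_lit 12)) i = 0 :=
  (rng_step (rng_step (rng_step (rng_step (rng_step (rng_step (all0 _) dR5_0) dR5_1) dR5_2) dR5_3) dR5_4) dR5_5)
theorem dst5 (h0 : ∀ s < 2, (c133md φ inj).In ⊤ (hg s)) (h1 : (c133md φ inj).In ⊤ (dD 1)) (he : (c133md φ inj).El ((c133md φ inj).gn hg 2) hE) (hub : Nat.card ((c133md φ inj).gn hg 2) ≤ 239500800) : ∀ h ∈ ((c133md φ inj).gn hg 2), ∃ j < 12, DCos ((c133md φ inj).gn hg 2) ((c133md φ inj).elt (dD j)) ((c133md φ inj).elt (dD (nat_lit 5)) * h * (c133md φ inj).elt (dD 1)) :=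
  dc_roots (pv := (fun x => (⟨c133b.vec (ZMod 11) 133 x⟩ : Vc φ))) (dtop h0 h1 he hub) (he) ((aex0 h0 hub).1) (((aex0 h0 hub).2.1).le.trans (dKL h0 h1 he hub)) (dLL5 h0 h1 he hub)
    (reach_of_chk (pv := (fun x => (⟨c133b.vec (ZMod 11) 133 x⟩ : Vc φ))) ((@Cfg.Ok.acts G _ _ _ _ c133b (ZMod.charP 11) c133b_ok rfl rfl (c133md φ inj) rfl l5g0).ex (el_gn fun s hs => (l5in he s hs).top)) dO5) (@Cfg.Ok.acts G _ _ _ _ c133b (ZMod.charP 11) c133b_ok rfl rfl (c133md φ inj) rfl dm5) rfl dM5 dR5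
theorem dL6 : ∀ i < 3, (chkL c133.mul (dD (nat_lit 6)) l6g0 hE [nat_lit 1527717897, nat_lit 323572242, nat_lit 390231906]) i = 0 :=
  (rng_step (all0 _) dL6_0)
theorem dLL6 (h0 : ∀ s < 2, (c133md φ inj).In ⊤ (hg s)) (h1 : (c133md φ inj).In ⊤ (dD 1)) (he : (c133md φ inj).El ((c133md φ inj).gn hg 2) hE) (hub : Nat.card ((c133md φ inj).gn hg 2) ≤ 239500800) : ((c133md φ inj).gn l6g0 3) ≤ Lc ((c133md φ inj).gn hg 2) ((c133md φ inj).elt (dD (nat_lit 6))) :=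
  gn_le (in_of_chkL (he) (dtop h0 h1 he hub _) (l6in he) dL6)
theorem dO6 : ∀ i < 462, (chkO (c133b.imgV l6g0) c133b.row ay0 dO6a (nat_lit 462) [nat_lit 0, nat_lit 1, nat_lit 4, nat_lit 13, nat_lit 33, nat_lit 101]) i = 0 :=
  allB (rngB_step (allB0 _ _) dO6_0) (by decide)
theorem dM6 : ∀ i < 6, (chkM (c133b.imgV dm6) c133b.row ay0 (nat_lit 461) ay0 [nat_lit 0, nat_lit 1, nat_lit 4, nat_lit 13, nat_lit 33, nat_lit 101] [nat_lit 0, nat_lit 0, nat_lit 0, nat_lit 0, nat_lit 0, nat_lit 0]) i = 0 :=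
  (rng_step (all0 _) dM6_0)
theorem dR6 : ∀ i < 6, (chkR c133.mul dD hE dw6 (nat_lit 6) (nat_lit 12)) i = 0 :=
  (rng_step (rng_step (rng_step (all0 _) dR6_0) dR6_1) dR6_2)
theorem dst6 (h0 : ∀ s < 2, (c133md φ inj).In ⊤ (hg s)) (h1 : (c133md φ inj).In ⊤ (dD 1)) (he : (c133md φ inj).El ((c133md φ inj).gn hg 2) hE) (hub : Nat.card ((c133md φ inj).gn hg 2) ≤ 239500800) : ∀ h ∈ ((c133md φ inj).gn hg 2), ∃ j < 12, DCos ((c133md φ inj).gn hg 2) ((c133md φ inj).elt (dD j)) ((c133md φ inj).elt (dD (nat_lit 6)) * h * (c133md φ inj).elt (dD 1)) :=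
  dc_roots (pv := (fun x => (⟨c133b.vec (ZMod 11) 133 x⟩ : Vc φ))) (dtop h0 h1 he hub) (he) ((aex0 h0 hub).1) (((aex0 h0 hub).2.1).le.trans (dKL h0 h1 he hub)) (dLL6 h0 h1 he hub)
    (reach_of_chk (pv := (fun x => (⟨c133b.vec (ZMod 11) 133 x⟩ : Vc φ))) ((@Cfg.Ok.acts G _ _ _ _ c133b (ZMod.charP 11) c133b_ok rfl rfl (c133md φ inj) rfl l6g0).ex (el_gn fun s hs => (l6in he s hs).top)) dO6) (@Cfg.Ok.acts G _ _ _ _ c133b (ZMod.charP 11) c133b_ok rfl rfl (c133md φ inj) rfl dm6) rfl dM6 dR6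
theorem dL7 : ∀ i < 2, (chkL c133.mul (dD (nat_lit 7)) l7g0 hE [nat_lit 691873387, nat_lit 1661673523]) i = 0 :=
  (rng_step (all0 _) dL7_0)
theorem dLL7 (h0 : ∀ s < 2, (c133md φ inj).In ⊤ (hg s)) (h1 : (c133md φ inj).In ⊤ (dD 1)) (he : (c133md φ inj).El ((c133md φ inj).gn hg 2) hE) (hub : Nat.card ((c133md φ inj).gn hg 2) ≤ 239500800) : ((c133md φ inj).gn l7g0 2) ≤ Lc ((c133md φ inj).gn hg 2) ((c133md φ inj).elt (dD (nat_lit 7))) :=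
  gn_le (in_of_chkL (he) (dtop h0 h1 he hub _) (l7in he) dL7)
theorem dO7 : ∀ i < 462, (chkO (c133b.imgV l7g0) c133b.row ay0 dO7a (nat_lit 462) [nat_lit 0, nat_lit 1, nat_lit 2, nat_lit 3, nat_lit 4, nat_lit 8]) i = 0 :=
  allB (rngB_step (allB0 _ _) dO7_0) (by decide)
theorem dM7 : ∀ i < 6, (chkM (c133b.imgV dm7) c133b.row ay0 (nat_lit 461) ay0 [nat_lit 0, nat_lit 1, nat_lit 2, nat_lit 3, nat_lit 4, nat_lit 8] [nat_lit 0, nat_lit 0, nat_lit 0, nat_lit 0, nat_lit 0, nat_lit 0]) i = 0 :=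
  (rng_step (all0 _) dM7_0)
theorem dR7 : ∀ i < 6, (chkR c133.mul dD hE dw7 (nat_lit 7) (nat_lit 12)) i = 0 :=
  (rng_step (rng_step (rng_step (all0 _) dR7_0) dR7_1) dR7_2)
theorem dst7 (h0 : ∀ s < 2, (c133md φ inj).In ⊤ (hg s)) (h1 : (c133md φ inj).In ⊤ (dD 1)) (he : (c133md φ inj).El ((c133md φ inj).gn hg 2) hE) (hub : Nat.card ((c133md φ inj).gn hg 2) ≤ 239500800) : ∀ h ∈ ((c133md φ inj).gn hg 2), ∃ j < 12, DCos ((c133md φ inj).gn hg 2) ((c133md φ inj).elt (dD j)) ((c133md φ inj).elt (dD (nat_lit 7)) * h * (c133md φ inj).elt (dD 1)) :=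
  dc_roots (pv := (fun x => (⟨c133b.vec (ZMod 11) 133 x⟩ : Vc φ))) (dtop h0 h1 he hub) (he) ((aex0 h0 hub).1) (((aex0 h0 hub).2.1).le.trans (dKL h0 h1 he hub)) (dLL7 h0 h1 he hub)
    (reach_of_chk (pv := (fun x => (⟨c133b.vec (ZMod 11) 133 x⟩ : Vc φ))) ((@Cfg.Ok.acts G _ _ _ _ c133b (ZMod.charP 11) c133b_ok rfl rfl (c133md φ inj) rfl l7g0).ex (el_gn fun s hs => (l7in he s hs).top)) dO7) (@Cfg.Ok.acts G _ _ _ _ c133b (ZMod.charP 11) c133b_ok rfl rfl (c133md φ inj) rfl dm7) rfl dM7 dR7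
theorem dL8 : ∀ i < 2, (chkL c133.mul (dD (nat_lit 8)) l8g0 hE [nat_lit 946038118, nat_lit 1901016475]) i = 0 :=
  (rng_step (all0 _) dL8_0)
theorem dLL8 (h0 : ∀ s < 2, (c133md φ inj).In ⊤ (hg s)) (h1 : (c133md φ inj).In ⊤ (dD 1)) (he : (c133md φ inj).El ((c133md φ inj).gn hg 2) hE) (hub : Nat.card ((c133md φ inj).gn hg 2) ≤ 239500800) : ((c133md φ inj).gn l8g0 2) ≤ Lc ((c133md φ inj).gn hg 2) ((c133md φ inj).elt (dD (nat_lit 8))) :=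
  gn_le (in_of_chkL (he) (dtop h0 h1 he hub _) (l8in he) dL8)
theorem dO8 : ∀ i < 462, (chkO (c133b.imgV l8g0) c133b.row ay0 dO8a (nat_lit 462) [nat_lit 0, nat_lit 1, nat_lit 2, nat_lit 6, nat_lit 30, nat_lit 36, nat_lit 227, nat_lit 228, nat_lit 232, nat_lit 278]) i = 0 :=
  allB (rngB_step (allB0 _ _) dO8_0) (by decide)
theorem dM8 : ∀ i < 10, (chkM (c133b.imgV dm8) c133b.row ay0 (nat_lit 461) ay0 [nat_lit 0, nat_lit 1, nat_lit 2, nat_lit 6, nat_lit 30, nat_lit 36, nat_lit 227, nat_lit 228, nat_lit 232, nat_lit 278] [nat_lit 0, nat_lit 0, nat_lit 0, nat_lit 0, nat_lit 0, nat_lit 0, nat_lit 0, nat_lit 0, nat_lit 0, nat_lit 0]) i = 0 :=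
  (rng_step (rng_step (all0 _) dM8_0) dM8_1)
theorem dR8 : ∀ i < 10, (chkR c133.mul dD hE dw8 (nat_lit 8) (nat_lit 12)) i = 0 :=
  (rng_step (rng_step (rng_step (rng_step (rng_step (all0 _) dR8_0) dR8_1) dR8_2) dR8_3) dR8_4)
theorem dst8 (h0 : ∀ s < 2, (c133md φ inj).In ⊤ (hg s)) (h1 : (c133md φ inj).In ⊤ (dD 1)) (he : (c133md φ inj).El ((c133md φ inj).gn hg 2) hE) (hub : Nat.card ((c133md φ inj).gn hg 2) ≤ 239500800) : ∀ h ∈ ((c133md φ inj).gn hg 2), ∃ j < 12, DCos ((c133md φ inj).gn hg 2) ((c133md φ inj).elt (dD j)) ((c133md φ inj).elt (dD (nat_lit 8)) * h * (c133md φ inj).elt (dD 1)) :=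
  dc_roots (pv := (fun x => (⟨c133b.vec (ZMod 11) 133 x⟩ : Vc φ))) (dtop h0 h1 he hub) (he) ((aex0 h0 hub).1) (((aex0 h0 hub).2.1).le.trans (dKL h0 h1 he hub)) (dLL8 h0 h1 he hub)
    (reach_of_chk (pv := (fun x => (⟨c133b.vec (ZMod 11) 133 x⟩ : Vc φ))) ((@Cfg.Ok.acts G _ _ _ _ c133b (ZMod.charP 11) c133b_ok rfl rfl (c133md φ inj) rfl l8g0).ex (el_gn fun s hs => (l8in he s hs).top)) dO8) (@Cfg.Ok.acts G _ _ _ _ c133b (ZMod.charP 11) c133b_ok rfl rfl (c133md φ inj) rfl dm8) rfl dM8 dR8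
theorem dL9 : ∀ i < 2, (chkL c133.mul (dD (nat_lit 9)) l9g0 hE [nat_lit 639439702, nat_lit 378611530]) i = 0 :=
  (rng_step (all0 _) dL9_0)
theorem dLL9 (h0 : ∀ s < 2, (c133md φ inj).In ⊤ (hg s)) (h1 : (c133md φ inj).In ⊤ (dD 1)) (he : (c133md φ inj).El ((c133md φ inj).gn hg 2) hE) (hub : Nat.card ((c133md φ inj).gn hg 2) ≤ 239500800) : ((c133md φ inj).gn l9g0 2) ≤ Lc ((c133md φ inj).gn hg 2) ((c133md φ inj).elt (dD (nat_lit 9))) :=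
  gn_le (in_of_chkL (he) (dtop h0 h1 he hub _) (l9in he) dL9)
theorem dO9 : ∀ i < 462, (chkO (c133b.imgV l9g0) c133b.row ay0 dO9a (nat_lit 462) [nat_lit 0, nat_lit 1, nat_lit 3, nat_lit 6, nat_lit 8, nat_lit 15, nat_lit 22, nat_lit 24, nat_lit 30, nat_lit 31]) i = 0 :=
  allB (rngB_step (allB0 _ _) dO9_0) (by decide)
theorem dM9 : ∀ i < 10, (chkM (c133b.imgV dm9) c133b.row ay0 (nat_lit 461) ay0 [nat_lit 0, nat_lit 1, nat_lit 3, nat_lit 6, nat_lit 8, nat_lit 15, nat_lit 22, nat_lit 24, nat_lit 30, nat_lit 31] [nat_lit 0, nat_lit 0, nat_lit 0, nat_lit 0, nat_lit 0, nat_lit 0, nat_lit 0, nat_lit 0, nat_lit 0, nat_lit 0]) i = 0 :=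
  (rng_step (rng_step (all0 _) dM9_0) dM9_1)
theorem dR9 : ∀ i < 10, (chkR c133.mul dD hE dw9 (nat_lit 9) (nat_lit 12)) i = 0 :=
  (rng_step (rng_step (rng_step (rng_step (rng_step (all0 _) dR9_0) dR9_1) dR9_2) dR9_3) dR9_4)
theorem dst9 (h0 : ∀ s < 2, (c133md φ inj).In ⊤ (hg s)) (h1 : (c133md φ inj).In ⊤ (dD 1)) (he : (c133md φ inj).El ((c133md φ inj).gn hg 2) hE) (hub : Nat.card ((c133md φ inj).gn hg 2) ≤ 239500800) : ∀ h ∈ ((c133md φ inj).gn hg 2), ∃ j < 12, DCos ((c133md φ inj).gn hg 2) ((c133md φ inj).elt (dD j)) ((c133md φ inj).elt (dD (nat_lit 9)) * h * (c133md φ inj).elt (dD 1)) :=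
  dc_roots (pv := (fun x => (⟨c133b.vec (ZMod 11) 133 x⟩ : Vc φ))) (dtop h0 h1 he hub) (he) ((aex0 h0 hub).1) (((aex0 h0 hub).2.1).le.trans (dKL h0 h1 he hub)) (dLL9 h0 h1 he hub)
    (reach_of_chk (pv := (fun x => (⟨c133b.vec (ZMod 11) 133 x⟩ : Vc φ))) ((@Cfg.Ok.acts G _ _ _ _ c133b (ZMod.charP 11) c133b_ok rfl rfl (c133md φ inj) rfl l9g0).ex (el_gn fun s hs => (l9in he s hs).top)) dO9) (@Cfg.Ok.acts G _ _ _ _ c133b (ZMod.charP 11) c133b_ok rfl rfl (c133md φ inj) rfl dm9) rfl dM9 dR9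
theorem dL10 : ∀ i < 2, (chkL c133.mul (dD (nat_lit 10)) l10g0 hE [nat_lit 370222456, nat_lit 1652904449]) i = 0 :=
  (rng_step (all0 _) dL10_0)
theorem dLL10 (h0 : ∀ s < 2, (c133md φ inj).In ⊤ (hg s)) (h1 : (c133md φ inj).In ⊤ (dD 1)) (he : (c133md φ inj).El ((c133md φ inj).gn hg 2) hE) (hub : Nat.card ((c133md φ inj).gn hg 2) ≤ 239500800) : ((c133md φ inj).gn l10g0 2) ≤ Lc ((c133md φ inj).gn hg 2) ((c133md φ inj).elt (dD (nat_lit 10))) :=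
  gn_le (in_of_chkL (he) (dtop h0 h1 he hub _) (l10in he) dL10)
theorem dO10 : ∀ i < 462, (chkO (c133b.imgV l10g0) c133b.row ay0 dO10a (nat_lit 462) [nat_lit 0, nat_lit 4]) i = 0 :=
  allB (rngB_step (allB0 _ _) dO10_0) (by decide)
theorem dM10 : ∀ i < 2, (chkM (c133b.imgV dm10) c133b.row ay0 (nat_lit 461) ay0 [nat_lit 0, nat_lit 4] [nat_lit 0, nat_lit 0]) i = 0 :=
  (rng_step (all0 _) dM10_0)
theorem dR10 : ∀ i < 2, (chkR c133.mul dD hE dw10 (nat_lit 10) (nat_lit 12)) i = 0 :=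
  (rng_step (all0 _) dR10_0)
theorem dst10 (h0 : ∀ s < 2, (c133md φ inj).In ⊤ (hg s)) (h1 : (c133md φ inj).In ⊤ (dD 1)) (he : (c133md φ inj).El ((c133md φ inj).gn hg 2) hE) (hub : Nat.card ((c133md φ inj).gn hg 2) ≤ 239500800) : ∀ h ∈ ((c133md φ inj).gn hg 2), ∃ j < 12, DCos ((c133md φ inj).gn hg 2) ((c133md φ inj).elt (dD j)) ((c133md φ inj).elt (dD (nat_lit 10)) * h * (c133md φ inj).elt (dD 1)) :=
  dc_roots (pv := (fun x => (⟨c133b.vec (ZMod 11) 133 x⟩ : Vc φ))) (dtop h0 h1 he hub) (he) ((aex0 h0 hub).1) (((aex0 h0 hub).2.1).le.trans (dKL h0 h1 he hub)) (dLL10 h0 h1 he hub)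
    (reach_of_chk (pv := (fun x => (⟨c133b.vec (ZMod 11) 133 x⟩ : Vc φ))) ((@Cfg.Ok.acts G _ _ _ _ c133b (ZMod.charP 11) c133b_ok rfl rfl (c133md φ inj) rfl l10g0).ex (el_gn fun s hs => (l10in he s hs).top)) dO10) (@Cfg.Ok.acts G _ _ _ _ c133b (ZMod.charP 11) c133b_ok rfl rfl (c133md φ inj) rfl dm10) rfl dM10 dR10
theorem dL11 : ∀ i < 2, (chkL c133.mul (dD (nat_lit 11)) l11g0 hE [nat_lit 77861464, nat_lit 514797857]) i = 0 :=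
  (rng_step (all0 _) dL11_0)
theorem dLL11 (h0 : ∀ s < 2, (c133md φ inj).In ⊤ (hg s)) (h1 : (c133md φ inj).In ⊤ (dD 1)) (he : (c133md φ inj).El ((c133md φ inj).gn hg 2) hE) (hub : Nat.card ((c133md φ inj).gn hg 2) ≤ 239500800) : ((c133md φ inj).gn l11g0 2) ≤ Lc ((c133md φ inj).gn hg 2) ((c133md φ inj).elt (dD (nat_lit 11))) :=
  gn_le (in_of_chkL (he) (dtop h0 h1 he hub _) (l11in he) dL11)
theorem dO11 : ∀ i < 462, (chkO (c133b.imgV l11g0) c133b.row ay0 dO11a (nat_lit 462) [nat_lit 0, nat_lit 4]) i = 0 :=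
  allB (rngB_step (allB0 _ _) dO11_0) (by decide)
theorem dM11 : ∀ i < 2, (chkM (c133b.imgV dm11) c133b.row ay0 (nat_lit 461) ay0 [nat_lit 0, nat_lit 4] [nat_lit 0, nat_lit 0]) i = 0 :=
  (rng_step (all0 _) dM11_0)
theorem dR11 : ∀ i < 2, (chkR c133.mul dD hE dw11 (nat_lit 11) (nat_lit 12)) i = 0 :=
  (rng_step (all0 _) dR11_0)
theorem dst11 (h0 : ∀ s < 2, (c133md φ inj).In ⊤ (hg s)) (h1 : (c133md φ inj).In ⊤ (dD 1)) (he : (c133md φ inj).El ((c133md φ inj).gn hg 2) hE) (hub : Nat.card ((c133md φ inj).gn hg 2) ≤ 239500800) : ∀ h ∈ ((c133md φ inj).gn hg 2), ∃ j < 12, DCos ((c133md φ inj).gn hg 2) ((c133md φ inj).elt (dD j)) ((c133md φ inj).elt (dD (nat_lit 11)) * h * (c133md φ inj).elt (dD 1)) :=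
  dc_roots (pv := (fun x => (⟨c133b.vec (ZMod 11) 133 x⟩ : Vc φ))) (dtop h0 h1 he hub) (he) ((aex0 h0 hub).1) (((aex0 h0 hub).2.1).le.trans (dKL h0 h1 he hub)) (dLL11 h0 h1 he hub)
    (reach_of_chk (pv := (fun x => (⟨c133b.vec (ZMod 11) 133 x⟩ : Vc φ))) ((@Cfg.Ok.acts G _ _ _ _ c133b (ZMod.charP 11) c133b_ok rfl rfl (c133md φ inj) rfl l11g0).ex (el_gn fun s hs => (l11in he s hs).top)) dO11) (@Cfg.Ok.acts G _ _ _ _ c133b (ZMod.charP 11) c133b_ok rfl rfl (c133md φ inj) rfl dm11) rfl dM11 dR11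
theorem dcov (h0 : ∀ s < 2, (c133md φ inj).In ⊤ (hg s)) (h1 : (c133md φ inj).In ⊤ (dD 1)) (he : (c133md φ inj).El ((c133md φ inj).gn hg 2) hE) (hub : Nat.card ((c133md φ inj).gn hg 2) ≤ 239500800) : ∀ x ∈ ((c133md φ inj).gn dg 3), ∃ i < 12, DCos ((c133md φ inj).gn hg 2) ((c133md φ inj).elt (dD i)) x :=
  dc_all (by decide) dD0 h1 fun i hi => by
    interval_cases i; exacts [dst0 h0 h1 he hub, dst1 h0 h1 he hub, dst2 h0 h1 he hub, dst3 h0 h1 he hub, dst4 h0 h1 he hub, dst5 h0 h1 he hub, dst6 h0 h1 he hub, dst7 h0 h1 he hub, dst8 h0 h1 he hub, dst9 h0 h1 he hub, dst10 h0 h1 he hub, dst11 h0 h1 he hub]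
theorem dB (h0 : ∀ s < 2, (c133md φ inj).In ⊤ (hg s)) (h1 : (c133md φ inj).In ⊤ (dD 1)) (he : (c133md φ inj).El ((c133md φ inj).gn hg 2) hE) (hub : Nat.card ((c133md φ inj).gn hg 2) ≤ 239500800) : ∀ i < 12, getN [nat_lit 239500800, nat_lit 518400, nat_lit 23040, nat_lit 7776, nat_lit 14400, nat_lit 768, nat_lit 3456, nat_lit 660, nat_lit 1440, nat_lit 1440, nat_lit 95040, nat_lit 95040] i ≤ Nat.card (Lc ((c133md φ inj).gn hg 2) ((c133md φ inj).elt (dD i))) := fun i hi => by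
  interval_cases i
  exacts [(alb0 h0).trans (Subgroup.card_le_of_le (dLL0 h0 h1 he hub)),
    (alb1 h0).trans (Subgroup.card_le_of_le (dLL1 h0 h1 he hub)),
    (l2lb0 fun s hs => (l2in he s hs).top).trans (Subgroup.card_le_of_le (dLL2 h0 h1 he hub)),
    (l3lb0 fun s hs => (l3in he s hs).top).trans (Subgroup.card_le_of_le (dLL3 h0 h1 he hub)),
    (l4lb0 fun s hs => (l4in he s hs).top).trans (Subgroup.card_le_of_le (dLL4 h0 h1 he hub)),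
    (l5lb0 fun s hs => (l5in he s hs).top).trans (Subgroup.card_le_of_le (dLL5 h0 h1 he hub)),
    (l6lb0 fun s hs => (l6in he s hs).top).trans (Subgroup.card_le_of_le (dLL6 h0 h1 he hub)),
    (l7lb0 fun s hs => (l7in he s hs).top).trans (Subgroup.card_le_of_le (dLL7 h0 h1 he hub)),
    (l8lb0 fun s hs => (l8in he s hs).top).trans (Subgroup.card_le_of_le (dLL8 h0 h1 he hub)),
    (l9lb0 fun s hs => (l9in he s hs).top).trans (Subgroup.card_le_of_le (dLL9 h0 h1 he hub)),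
    (l10lb0 fun s hs => (l10in he s hs).top).trans (Subgroup.card_le_of_le (dLL10 h0 h1 he hub)),
    (l11lb0 fun s hs => (l11in he s hs).top).trans (Subgroup.card_le_of_le (dLL11 h0 h1 he hub))]
theorem dBC : (∀ i < 12, 239500800 = getN [nat_lit 239500800, nat_lit 518400, nat_lit 23040, nat_lit 7776, nat_lit 14400, nat_lit 768, nat_lit 3456, nat_lit 660, nat_lit 1440, nat_lit 1440, nat_lit 95040, nat_lit 95040] i * getN [nat_lit 1, nat_lit 462, nat_lit 10395, nat_lit 30800, nat_lit 16632, nat_lit 311850, nat_lit 69300, nat_lit 362880, nat_lit 166320, nat_lit 166320, nat_lit 2520, nat_lit 2520] i) ∧ 239500800 * ∑ i ∈ Finset.range 12, getN [nat_lit 1, nat_lit 462, nat_lit 10395, nat_lit 30800, nat_lit 16632, nat_lit 311850, nat_lit 69300, nat_lit 362880, nat_lit 166320, nat_lit 166320, nat_lit 2520, nat_lit 2520] i = 273030912000000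 := by decide +kernel
theorem dub (h0 : ∀ s < 2, (c133md φ inj).In ⊤ (hg s)) (h1 : (c133md φ inj).In ⊤ (dD 1)) (he : (c133md φ inj).El ((c133md φ inj).gn hg 2) hE) (hub : Nat.card ((c133md φ inj).gn hg 2) ≤ 239500800) : Nat.card ((c133md φ inj).gn dg 3) ≤ 273030912000000 :=
  (dc_card_le (dcov h0 h1 he hub) (hub) _ _ (dB h0 h1 he hub) dBC.1).trans dBC.2.le
theorem dex (h0 : ∀ s < 2, (c133md φ inj).In ⊤ (hg s)) (h1 : (c133md φ inj).In ⊤ (dD 1)) (he : (c133md φ inj).El ((c133md φ inj).gn hg 2) hE) (hub : Nat.card ((c133md φ inj).gn hg 2) ≤ 239500800) (hA : Nat.card ((c133md φ inj).gn hg 2) = 239500800) (hG : 273030912000000 ≤ Nat.card ((c133md φ inj).gn dg 3)) : ∀ i < 12, Nat.card (Lc ((c133md φ inj).gn hg 2) ((c133md φ inj).elt (dD i))) = getN [nat_lit 239500800, nat_lit 518400, nat_lit 23040, nat_lit 7776, nat_lit 14400,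 nat_lit 768, nat_lit 3456, nat_lit 660, nat_lit 1440, nat_lit 1440, nat_lit 95040, nat_lit 95040] i :=
  dc_exact (dcov h0 h1 he hub) hA _ _ (dB h0 h1 he hub) dBC.1 (dBC.2.le.trans hG)
theorem dx7 (h0 : ∀ s < 2, (c133md φ inj).In ⊤ (hg s)) (h1 : (c133md φ inj).In ⊤ (dD 1)) (he : (c133md φ inj).El ((c133md φ inj).gn hg 2) hE) (hub : Nat.card ((c133md φ inj).gn hg 2) ≤ 239500800) (M : Subgroup G) (h : ((c133md φ inj).gn hg 2) ≤ M) (hi : (c133md φ inj).elt (dD (nat_lit 7)) ∈ M) : (c133md φ inj).elt (dD 1) ∈ M :=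
  (mem_of_chkD (dtop h0 h1 he hub) (he) dX7 h hi hi)
theorem dx8 (h0 : ∀ s < 2, (c133md φ inj).In ⊤ (hg s)) (h1 : (c133md φ inj).In ⊤ (dD 1)) (he : (c133md φ inj).El ((c133md φ inj).gn hg 2) hE) (hub : Nat.card ((c133md φ inj).gn hg 2) ≤ 239500800) (M : Subgroup G) (h : ((c133md φ inj).gn hg 2) ≤ M) (hi : (c133md φ inj).elt (dD (nat_lit 8)) ∈ M) : (c133md φ inj).elt (dD 1) ∈ M :=
  dx7 h0 h1 he hub M h (mem_of_chkD (dtop h0 h1 he hub) (he) dX8 h hi hi)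
theorem dx9 (h0 : ∀ s < 2, (c133md φ inj).In ⊤ (hg s)) (h1 : (c133md φ inj).In ⊤ (dD 1)) (he : (c133md φ inj).El ((c133md φ inj).gn hg 2) hE) (hub : Nat.card ((c133md φ inj).gn hg 2) ≤ 239500800) (M : Subgroup G) (h : ((c133md φ inj).gn hg 2) ≤ M) (hi : (c133md φ inj).elt (dD (nat_lit 9)) ∈ M) : (c133md φ inj).elt (dD 1) ∈ M :=
  dx7 h0 h1 he hub M h (mem_of_chkD (dtop h0 h1 he hub) (he) dX9 h hi hi)
theorem dx10 (h0 : ∀ s < 2, (c133md φ inj).In ⊤ (hg s)) (h1 : (c133md φ inj).In ⊤ (dD 1)) (he : (c133md φ inj).El ((c133md φ inj).gn hg 2) hE) (hub : Nat.card ((c133md φ inj).gn hg 2) ≤ 239500800) (M : Subgroup G) (h : ((c133md φ inj).gn hg 2) ≤ M) (hi : (c133md φ inj).elt (dD (nat_lit 10)) ∈ M) : (c133md φ inj).elt (dD 1) ∈ M :=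
  dx7 h0 h1 he hub M h (mem_of_chkD (dtop h0 h1 he hub) (he) dX10 h hi hi)
theorem dx11 (h0 : ∀ s < 2, (c133md φ inj).In ⊤ (hg s)) (h1 : (c133md φ inj).In ⊤ (dD 1)) (he : (c133md φ inj).El ((c133md φ inj).gn hg 2) hE) (hub : Nat.card ((c133md φ inj).gn hg 2) ≤ 239500800) (M : Subgroup G) (h : ((c133md φ inj).gn hg 2) ≤ M) (hi : (c133md φ inj).elt (dD (nat_lit 11)) ∈ M) : (c133md φ inj).elt (dD 1) ∈ M :=
  dx7 h0 h1 he hub M h (mem_of_chkD (dtop h0 h1 he hub) (he) dX11 h hi hi)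
theorem dx2 (h0 : ∀ s < 2, (c133md φ inj).In ⊤ (hg s)) (h1 : (c133md φ inj).In ⊤ (dD 1)) (he : (c133md φ inj).El ((c133md φ inj).gn hg 2) hE) (hub : Nat.card ((c133md φ inj).gn hg 2) ≤ 239500800) (M : Subgroup G) (h : ((c133md φ inj).gn hg 2) ≤ M) (hi : (c133md φ inj).elt (dD (nat_lit 2)) ∈ M) : (c133md φ inj).elt (dD 1) ∈ M :=
  dx7 h0 h1 he hub M h (mem_of_chkD (dtop h0 h1 he hub) (he) dX2 h hi hi)
theorem dx3 (h0 : ∀ s < 2, (c133md φ inj).In ⊤ (hg s)) (h1 : (c133md φ inj).In ⊤ (dD 1)) (he : (c133md φ inj).El ((c133md φ inj).gn hg 2) hE) (hub : Nat.card ((c133md φ inj).gn hg 2) ≤ 239500800) (M : Subgroup G) (h : ((c133md φ inj).gn hg 2) ≤ M) (hi : (c133md φ inj).elt (dD (nat_lit 3)) ∈ M) : (c133md φ inj).elt (dD 1) ∈ M :=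
  dx7 h0 h1 he hub M h (mem_of_chkD (dtop h0 h1 he hub) (he) dX3 h hi hi)
theorem dx4 (h0 : ∀ s < 2, (c133md φ inj).In ⊤ (hg s)) (h1 : (c133md φ inj).In ⊤ (dD 1)) (he : (c133md φ inj).El ((c133md φ inj).gn hg 2) hE) (hub : Nat.card ((c133md φ inj).gn hg 2) ≤ 239500800) (M : Subgroup G) (h : ((c133md φ inj).gn hg 2) ≤ M) (hi : (c133md φ inj).elt (dD (nat_lit 4)) ∈ M) : (c133md φ inj).elt (dD 1) ∈ M :=
  dx7 h0 h1 he hub M h (mem_of_chkD (dtop h0 h1 he hub) (he) dX4 h hi hi)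
theorem dx5 (h0 : ∀ s < 2, (c133md φ inj).In ⊤ (hg s)) (h1 : (c133md φ inj).In ⊤ (dD 1)) (he : (c133md φ inj).El ((c133md φ inj).gn hg 2) hE) (hub : Nat.card ((c133md φ inj).gn hg 2) ≤ 239500800) (M : Subgroup G) (h : ((c133md φ inj).gn hg 2) ≤ M) (hi : (c133md φ inj).elt (dD (nat_lit 5)) ∈ M) : (c133md φ inj).elt (dD 1) ∈ M :=
  dx7 h0 h1 he hub M h (mem_of_chkD (dtop h0 h1 he hub) (he) dX5 h hi hi)
theorem dx6 (h0 : ∀ s < 2, (c133md φ inj).In ⊤ (hg s)) (h1 : (c133md φ inj).In ⊤ (dD 1)) (he : (c133md φ inj).El ((c133md φ inj).gn hg 2) hE) (hub : Nat.card ((c133md φ inj).gn hg 2) ≤ 239500800) (M : Subgroup G) (h : ((c133md φ inj).gn hg 2) ≤ M) (hi : (c133md φ inj).elt (dD (nat_lit 6)) ∈ M) : (c133md φ inj).elt (dD 1) ∈ M :=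
  dx2 h0 h1 he hub M h (mem_of_chkD (dtop h0 h1 he hub) (he) dX6 h hi hi)
theorem dmax (h0 : ∀ s < 2, (c133md φ inj).In ⊤ (hg s)) (h1 : (c133md φ inj).In ⊤ (dD 1)) (he : (c133md φ inj).El ((c133md φ inj).gn hg 2) hE) (hub : Nat.card ((c133md φ inj).gn hg 2) ≤ 239500800) : ∀ M : Subgroup G, ((c133md φ inj).gn hg 2) ≤ M → M ≤ ((c133md φ inj).gn dg 3) → M = ((c133md φ inj).gn hg 2) ∨ M = ((c133md φ inj).gn dg 3) :=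
  dc_max (d := fun i => (c133md φ inj).elt (dD i)) ((congrArg _ dD0).trans elt_one) (gn_cons_le h1) (dcov h0 h1 he hub) fun i hi h0' => by
    interval_cases i; exacts [fun _ _ h => h, dx2 h0 h1 he hub, dx3 h0 h1 he hub, dx4 h0 h1 he hub, dx5 h0 h1 he hub, dx6 h0 h1 he hub, dx7 h0 h1 he hub, dx8 h0 h1 he hub, dx9 h0 h1 he hub, dx10 h0 h1 he hub, dx11 h0 h1 he hub]
theorem dI : ∀ i < 3, (chkI c133.mul c133.one dg dgi) i = 0 :=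
  (rng_step (all0 _) dI_0)
theorem dP : ∀ i < 3, (chkP c133.mul c133.one dg de [[nat_lit 43273051135862151031, nat_lit 68207478186000726293],
  [nat_lit 59961928331466925081, nat_lit 29562390139241788969],
  [nat_lit 32906330078774269973, nat_lit 5261058473464324357]] (nat_lit 19)) i = 0 :=
  (rng_step (rng_step (rng_step (all0 _) dP_0) dP_1) dP_2)
theorem s2top0 (h0 : ∀ s < 4, (c133md φ inj).In ⊤ (s2g0 s)) : ∀ s < 4, (c133md φ inj).In ⊤ (s2g0 s) := h0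
theorem s2eg0 (h0 : ∀ s < 4, (c133md φ inj).In ⊤ (s2g0 s)) : (c133md φ inj).El ((c133md φ inj).gn s2g0 4) s2g0 := el_gn (s2top0 h0)
theorem s2W0 : ∀ i < 4, (chkW c133.mul c133.one s2g0 [[nat_lit 0, nat_lit 0, nat_lit 3, nat_lit 0, nat_lit 3, nat_lit 1],
  [nat_lit 1, nat_lit 2, nat_lit 2, nat_lit 1, nat_lit 1, nat_lit 2, nat_lit 1, nat_lit 2],
  [nat_lit 0, nat_lit 2, nat_lit 2, nat_lit 1, nat_lit 0, nat_lit 0],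
  [nat_lit 1, nat_lit 2, nat_lit 0, nat_lit 2]] s2g1) i = 0 :=
  (rng_step (all0 _) s2W0_0)
theorem s2in1 (h0 : ∀ s < 4, (c133md φ inj).In ⊤ (s2g0 s)) : ∀ s < 4, (c133md φ inj).In ((c133md φ inj).gn s2g0 4) (s2g1 s) := in_of_chkW (s2eg0 h0) s2W0
theorem s2top1 (h0 : ∀ s < 4, (c133md φ inj).In ⊤ (s2g0 s)) : ∀ s < 4, (c133md φ inj).In ⊤ (s2g1 s) := fun s hs => (s2in1 h0 s hs).top
theorem s2le0 (h0 : ∀ s < 4, (c133md φ inj).In ⊤ (s2g0 s)) : ((c133md φ inj).gn s2g1 4) ≤ ((c133md φ inj).gn s2g0 4) := gn_le (s2in1 h0)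
theorem s2eg1 (h0 : ∀ s < 4, (c133md φ inj).In ⊤ (s2g0 s)) : (c133md φ inj).El ((c133md φ inj).gn s2g1 4) s2g1 := el_gn (s2top1 h0)
theorem s2le1 (h0 : ∀ s < 4, (c133md φ inj).In ⊤ (s2g0 s)) : (⊥ : Subgroup G) ≤ ((c133md φ inj).gn s2g1 4) := bot_le
theorem s2lb2 (h0 : ∀ s < 4, (c133md φ inj).In ⊤ (s2g0 s)) : 1 ≤ Nat.card (⊥ : Subgroup G) := one_le_card _
theorem s2y1Y : ∀ i < 256, (chkY c133b.canV c133b.row s2y1 (nat_lit 256)) i = 0 :=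
  allB (rngB_step (allB0 _ _) s2y1Y_0) (by decide)
theorem s2y1D : Dist (fun i => (fun x => (⟨c133b.vec (ZMod 11) 133 x⟩ : Vc φ)) (pt c133b.row s2y1 i)) 256 :=
  dist_of_chk (@Cfg.Ok.canT G _ _ _ _ c133b (ZMod.charP 11) c133b_ok rfl rfl φ) s2y1Y
theorem s2O1 : ∀ i < 256, (chkO (c133b.imgV s2g1) c133b.row s2y1 s2O1a (nat_lit 256) [nat_lit 48]) i = 0 :=
  allB (rngB_step (allB0 _ _) s2O1_0) (by decide)
theorem s2R1 (h0 : ∀ s < 4, (c133md φ inj).In ⊤ (s2g0 s)) : Reach ((c133md φ inj).gn s2g1 4) (fun i => (fun x => (⟨c133b.vec (ZMod 11) 133 x⟩ : Vc φ)) (pt c133b.row s2y1 i)) 256 [nat_lit 48] :=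
  reach_of_chk (pv := (fun x => (⟨c133b.vec (ZMod 11) 133 x⟩ : Vc φ))) ((@Cfg.Ok.acts G _ _ _ _ c133b (ZMod.charP 11) c133b_ok rfl rfl (c133md φ inj) rfl s2g1).ex (s2eg1 h0)) s2O1
theorem s2fx1 : (⊥ : Subgroup G) ≤ MulAction.stabilizer G ((fun i => (fun x => (⟨c133b.vec (ZMod 11) 133 x⟩ : Vc φ)) (pt c133b.row s2y1 i)) (nat_lit 48)) := bot_le
theorem s2lb1 (h0 : ∀ s < 4, (c133md φ inj).In ⊤ (s2g0 s)) : 256 ≤ Nat.card ((c133md φ inj).gn s2g1 4) :=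
  le_of_eq_of_le (by norm_num) (lower s2y1D (s2R1 h0) (s2le1 h0) s2fx1 (s2lb2 h0))
theorem s2y0Y : ∀ i < 64, (chkY c133b.canV c133b.row s2y0 (nat_lit 64)) i = 0 :=
  allB (rngB_step (allB0 _ _) s2y0Y_0) (by decide)
theorem s2y0D : Dist (fun i => (fun x => (⟨c133b.vec (ZMod 11) 133 x⟩ : Vc φ)) (pt c133b.row s2y0 i)) 64 :=
  dist_of_chk (@Cfg.Ok.canT G _ _ _ _ c133b (ZMod.charP 11) c133b_ok rfl rfl φ) s2y0Y
theorem s2O0 : ∀ i < 64, (chkO (c133b.imgV s2g0) c133b.row s2y0 s2O0a (nat_lit 64) [nat_lit 58]) i = 0 :=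
  allB (rngB_step (allB0 _ _) s2O0_0) (by decide)
theorem s2R0 (h0 : ∀ s < 4, (c133md φ inj).In ⊤ (s2g0 s)) : Reach ((c133md φ inj).gn s2g0 4) (fun i => (fun x => (⟨c133b.vec (ZMod 11) 133 x⟩ : Vc φ)) (pt c133b.row s2y0 i)) 64 [nat_lit 58] :=
  reach_of_chk (pv := (fun x => (⟨c133b.vec (ZMod 11) 133 x⟩ : Vc φ))) ((@Cfg.Ok.acts G _ _ _ _ c133b (ZMod.charP 11) c133b_ok rfl rfl (c133md φ inj) rfl s2g0).ex (s2eg0 h0)) s2O0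
theorem s2F0 : ∀ i < 4, (chkF (c133b.imgV s2g1) c133b.row s2y0 (nat_lit 58) [nat_lit 0, nat_lit 0, nat_lit 0, nat_lit 0]) i = 0 :=
  (rng_step (all0 _) s2F0_0)
theorem s2fx0 : ((c133md φ inj).gn s2g1 4) ≤ MulAction.stabilizer G ((fun i => (fun x => (⟨c133b.vec (ZMod 11) 133 x⟩ : Vc φ)) (pt c133b.row s2y0 i)) (nat_lit 58)) :=
  gn_le_stab (@Cfg.Ok.acts G _ _ _ _ c133b (ZMod.charP 11) c133b_ok rfl rfl (c133md φ inj) rfl s2g1) s2F0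
theorem s2lb0 (h0 : ∀ s < 4, (c133md φ inj).In ⊤ (s2g0 s)) : 16384 ≤ Nat.card ((c133md φ inj).gn s2g0 4) :=
  le_of_eq_of_le (by norm_num) (lower s2y0D (s2R0 h0) (s2le0 h0) s2fx0 (s2lb1 h0))
theorem s2C1_0 : ∀ i < 256, (chkC (c133b.imgV s2g1) c133b.row s2y1 s2C1_0a (nat_lit 256) (nat_lit 0)) i = 0 :=
  allB (rngB_step (allB0 _ _) s2C1_0_0) (by decide)
theorem s2C1_1 : ∀ i < 256, (chkC (c133b.imgV s2g1) c133b.row s2y1 s2C1_1a (nat_lit 256) (nat_lit 1)) i = 0 :=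
  allB (rngB_step (allB0 _ _) s2C1_1_0) (by decide)
theorem s2C1_2 : ∀ i < 256, (chkC (c133b.imgV s2g1) c133b.row s2y1 s2C1_2a (nat_lit 256) (nat_lit 2)) i = 0 :=
  allB (rngB_step (allB0 _ _) s2C1_2_0) (by decide)
theorem s2C1_3 : ∀ i < 256, (chkC (c133b.imgV s2g1) c133b.row s2y1 s2C1_3a (nat_lit 256) (nat_lit 3)) i = 0 :=
  allB (rngB_step (allB0 _ _) s2C1_3_0) (by decide)
theorem s2dv1 (h0 : ∀ s < 4, (c133md φ inj).In ⊤ (s2g0 s)) : 256 ∣ Nat.card ((c133md φ inj).gn s2g1 4) :=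
  dvd_step (n := 256) (B := 1) (dvd_gn (@Cfg.Ok.acts G _ _ _ _ c133b (ZMod.charP 11) c133b_ok rfl rfl (c133md φ inj) rfl s2g1) s2y1D (by decide) (s2R1 h0) fun s hs => by
    interval_cases s; exacts [⟨_, s2C1_0⟩, ⟨_, s2C1_1⟩, ⟨_, s2C1_2⟩, ⟨_, s2C1_3⟩]) (s2le1 h0) s2fx1 (one_dvd _)
theorem s2C0_0 : ∀ i < 64, (chkC (c133b.imgV s2g0) c133b.row s2y0 s2C0_0a (nat_lit 64) (nat_lit 0)) i = 0 :=
  allB (rngB_step (allB0 _ _) s2C0_0_0) (by decide)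
theorem s2C0_1 : ∀ i < 64, (chkC (c133b.imgV s2g0) c133b.row s2y0 s2C0_1a (nat_lit 64) (nat_lit 1)) i = 0 :=
  allB (rngB_step (allB0 _ _) s2C0_1_0) (by decide)
theorem s2C0_2 : ∀ i < 64, (chkC (c133b.imgV s2g0) c133b.row s2y0 s2C0_2a (nat_lit 64) (nat_lit 2)) i = 0 :=
  allB (rngB_step (allB0 _ _) s2C0_2_0) (by decide)
theorem s2C0_3 : ∀ i < 64, (chkC (c133b.imgV s2g0) c133b.row s2y0 s2C0_3a (nat_lit 64) (nat_lit 3)) i = 0 :=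
  allB (rngB_step (allB0 _ _) s2C0_3_0) (by decide)
theorem s2dv0 (h0 : ∀ s < 4, (c133md φ inj).In ⊤ (s2g0 s)) : 16384 ∣ Nat.card ((c133md φ inj).gn s2g0 4) :=
  dvd_step (n := 64) (B := 256) (dvd_gn (@Cfg.Ok.acts G _ _ _ _ c133b (ZMod.charP 11) c133b_ok rfl rfl (c133md φ inj) rfl s2g0) s2y0D (by decide) (s2R0 h0) fun s hs => by
    interval_cases s; exacts [⟨_, s2C0_0⟩, ⟨_, s2C0_1⟩, ⟨_, s2C0_2⟩, ⟨_, s2C0_3⟩]) (s2le0 h0) s2fx0 (s2dv1 h0)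
theorem s2E : ∀ i < 4, (chkE s2g0 de [nat_lit 55536917526844897446, nat_lit 51106930542226387845, nat_lit 9300921233819670567, nat_lit 40501475402539598949]) i = 0 :=
  (rng_step (all0 _) s2E_0)
theorem s3top0 (h0 : ∀ s < 3, (c133md φ inj).In ⊤ (s3g0 s)) : ∀ s < 3, (c133md φ inj).In ⊤ (s3g0 s) := h0
theorem s3eg0 (h0 : ∀ s < 3, (c133md φ inj).In ⊤ (s3g0 s)) : (c133md φ inj).El ((c133md φ inj).gn s3g0 3) s3g0 := el_gn (s3top0 h0)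
theorem s3W0 : ∀ i < 2, (chkW c133.mul c133.one s3g0 [[nat_lit 1, nat_lit 2, nat_lit 0, nat_lit 2, nat_lit 1, nat_lit 1, nat_lit 2],
  [nat_lit 0, nat_lit 1, nat_lit 1, nat_lit 2, nat_lit 2, nat_lit 0, nat_lit 1, nat_lit 2]] s3g1) i = 0 :=
  (rng_step (all0 _) s3W0_0)
theorem s3in1 (h0 : ∀ s < 3, (c133md φ inj).In ⊤ (s3g0 s)) : ∀ s < 2, (c133md φ inj).In ((c133md φ inj).gn s3g0 3) (s3g1 s) := in_of_chkW (s3eg0 h0) s3W0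
theorem s3top1 (h0 : ∀ s < 3, (c133md φ inj).In ⊤ (s3g0 s)) : ∀ s < 2, (c133md φ inj).In ⊤ (s3g1 s) := fun s hs => (s3in1 h0 s hs).top
theorem s3le0 (h0 : ∀ s < 3, (c133md φ inj).In ⊤ (s3g0 s)) : ((c133md φ inj).gn s3g1 2) ≤ ((c133md φ inj).gn s3g0 3) := gn_le (s3in1 h0)
theorem s3eg1 (h0 : ∀ s < 3, (c133md φ inj).In ⊤ (s3g0 s)) : (c133md φ inj).El ((c133md φ inj).gn s3g1 2) s3g1 := el_gn (s3top1 h0)
theorem s3le1 (h0 : ∀ s < 3, (c133md φ inj).In ⊤ (s3g0 s)) : (⊥ : Subgroup G) ≤ ((c133md φ inj).gn s3g1 2) := bot_le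
theorem s3lb2 (h0 : ∀ s < 3, (c133md φ inj).In ⊤ (s3g0 s)) : 1 ≤ Nat.card (⊥ : Subgroup G) := one_le_card _
theorem s3y1Y : ∀ i < 9, (chkY c133b.canV c133b.row s3y1 (nat_lit 9)) i = 0 :=
  allB (rngB_step (allB0 _ _) s3y1Y_0) (by decide)
theorem s3y1D : Dist (fun i => (fun x => (⟨c133b.vec (ZMod 11) 133 x⟩ : Vc φ)) (pt c133b.row s3y1 i)) 9 :=
  dist_of_chk (@Cfg.Ok.canT G _ _ _ _ c133b (ZMod.charP 11) c133b_ok rfl rfl φ) s3y1Y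
theorem s3O1 : ∀ i < 9, (chkO (c133b.imgV s3g1) c133b.row s3y1 s3O1a (nat_lit 9) [nat_lit 4]) i = 0 :=
  allB (rngB_step (allB0 _ _) s3O1_0) (by decide)
theorem s3R1 (h0 : ∀ s < 3, (c133md φ inj).In ⊤ (s3g0 s)) : Reach ((c133md φ inj).gn s3g1 2) (fun i => (fun x => (⟨c133b.vec (ZMod 11) 133 x⟩ : Vc φ)) (pt c133b.row s3y1 i)) 9 [nat_lit 4] :=
  reach_of_chk (pv := (fun x => (⟨c133b.vec (ZMod 11) 133 x⟩ : Vc φ))) ((@Cfg.Ok.acts G _ _ _ _ c133b (ZMod.charP 11) c133b_ok rfl rfl (c133md φ inj) rfl s3g1).ex (s3eg1 h0)) s3O1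
theorem s3fx1 : (⊥ : Subgroup G) ≤ MulAction.stabilizer G ((fun i => (fun x => (⟨c133b.vec (ZMod 11) 133 x⟩ : Vc φ)) (pt c133b.row s3y1 i)) (nat_lit 4)) := bot_le
theorem s3lb1 (h0 : ∀ s < 3, (c133md φ inj).In ⊤ (s3g0 s)) : 9 ≤ Nat.card ((c133md φ inj).gn s3g1 2) :=
  le_of_eq_of_le (by norm_num) (lower s3y1D (s3R1 h0) (s3le1 h0) s3fx1 (s3lb2 h0))
theorem s3y0Y : ∀ i < 81, (chkY c133b.canV c133b.row s3y0 (nat_lit 81)) i = 0 :=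
  allB (rngB_step (allB0 _ _) s3y0Y_0) (by decide)
theorem s3y0D : Dist (fun i => (fun x => (⟨c133b.vec (ZMod 11) 133 x⟩ : Vc φ)) (pt c133b.row s3y0 i)) 81 :=
  dist_of_chk (@Cfg.Ok.canT G _ _ _ _ c133b (ZMod.charP 11) c133b_ok rfl rfl φ) s3y0Y
theorem s3O0 : ∀ i < 81, (chkO (c133b.imgV s3g0) c133b.row s3y0 s3O0a (nat_lit 81) [nat_lit 31]) i = 0 :=
  allB (rngB_step (allB0 _ _) s3O0_0) (by decide)
theorem s3R0 (h0 : ∀ s < 3, (c133md φ inj).In ⊤ (s3g0 s)) : Reach ((c133md φ inj).gn s3g0 3) (fun i => (fun x => (⟨c133b.vec (ZMod 11) 133 x⟩ : Vc φ)) (pt c133b.row s3y0 i)) 81 [nat_lit 31] :=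
  reach_of_chk (pv := (fun x => (⟨c133b.vec (ZMod 11) 133 x⟩ : Vc φ))) ((@Cfg.Ok.acts G _ _ _ _ c133b (ZMod.charP 11) c133b_ok rfl rfl (c133md φ inj) rfl s3g0).ex (s3eg0 h0)) s3O0
theorem s3F0 : ∀ i < 2, (chkF (c133b.imgV s3g1) c133b.row s3y0 (nat_lit 31) [nat_lit 0, nat_lit 0]) i = 0 :=
  (rng_step (all0 _) s3F0_0)
theorem s3fx0 : ((c133md φ inj).gn s3g1 2) ≤ MulAction.stabilizer G ((fun i => (fun x => (⟨c133b.vec (ZMod 11) 133 x⟩ : Vc φ)) (pt c133b.row s3y0 i)) (nat_lit 31)) :=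
  gn_le_stab (@Cfg.Ok.acts G _ _ _ _ c133b (ZMod.charP 11) c133b_ok rfl rfl (c133md φ inj) rfl s3g1) s3F0
theorem s3lb0 (h0 : ∀ s < 3, (c133md φ inj).In ⊤ (s3g0 s)) : 729 ≤ Nat.card ((c133md φ inj).gn s3g0 3) :=
  le_of_eq_of_le (by norm_num) (lower s3y0D (s3R0 h0) (s3le0 h0) s3fx0 (s3lb1 h0))
theorem s3C1_0 : ∀ i < 9, (chkC (c133b.imgV s3g1) c133b.row s3y1 s3C1_0a (nat_lit 9) (nat_lit 0)) i = 0 :=
  allB (rngB_step (allB0 _ _) s3C1_0_0) (by decide)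
theorem s3C1_1 : ∀ i < 9, (chkC (c133b.imgV s3g1) c133b.row s3y1 s3C1_1a (nat_lit 9) (nat_lit 1)) i = 0 :=
  allB (rngB_step (allB0 _ _) s3C1_1_0) (by decide)
theorem s3dv1 (h0 : ∀ s < 3, (c133md φ inj).In ⊤ (s3g0 s)) : 9 ∣ Nat.card ((c133md φ inj).gn s3g1 2) :=
  dvd_step (n := 9) (B := 1) (dvd_gn (@Cfg.Ok.acts G _ _ _ _ c133b (ZMod.charP 11) c133b_ok rfl rfl (c133md φ inj) rfl s3g1) s3y1D (by decide) (s3R1 h0) fun s hs => by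
    interval_cases s; exacts [⟨_, s3C1_0⟩, ⟨_, s3C1_1⟩]) (s3le1 h0) s3fx1 (one_dvd _)
theorem s3C0_0 : ∀ i < 81, (chkC (c133b.imgV s3g0) c133b.row s3y0 s3C0_0a (nat_lit 81) (nat_lit 0)) i = 0 :=
  allB (rngB_step (allB0 _ _) s3C0_0_0) (by decide)
theorem s3C0_1 : ∀ i < 81, (chkC (c133b.imgV s3g0) c133b.row s3y0 s3C0_1a (nat_lit 81) (nat_lit 1)) i = 0 :=
  allB (rngB_step (allB0 _ _) s3C0_1_0) (by decide)
theorem s3C0_2 : ∀ i < 81, (chkC (c133b.imgV s3g0) c133b.row s3y0 s3C0_2a (nat_lit 81) (nat_lit 2)) i = 0 :=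
  allB (rngB_step (allB0 _ _) s3C0_2_0) (by decide)
theorem s3dv0 (h0 : ∀ s < 3, (c133md φ inj).In ⊤ (s3g0 s)) : 729 ∣ Nat.card ((c133md φ inj).gn s3g0 3) :=
  dvd_step (n := 81) (B := 9) (dvd_gn (@Cfg.Ok.acts G _ _ _ _ c133b (ZMod.charP 11) c133b_ok rfl rfl (c133md φ inj) rfl s3g0) s3y0D (by decide) (s3R0 h0) fun s hs => by
    interval_cases s; exacts [⟨_, s3C0_0⟩, ⟨_, s3C0_1⟩, ⟨_, s3C0_2⟩]) (s3le0 h0) s3fx0 (s3dv1 h0)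
theorem s3E : ∀ i < 3, (chkE s3g0 de [nat_lit 32392189316849205248, nat_lit 54447006757202064547, nat_lit 10728317119714456739]) i = 0 :=
  (rng_step (all0 _) s3E_0)
theorem s5top0 (h0 : ∀ s < 2, (c133md φ inj).In ⊤ (s5g0 s)) : ∀ s < 2, (c133md φ inj).In ⊤ (s5g0 s) := h0
theorem s5eg0 (h0 : ∀ s < 2, (c133md φ inj).In ⊤ (s5g0 s)) : (c133md φ inj).El ((c133md φ inj).gn s5g0 2) s5g0 := el_gn (s5top0 h0)
theorem s5W0 : ∀ i < 4, (chkW c133.mul c133.one s5g0 [[nat_lit 0, nat_lit 0, nat_lit 0, nat_lit 0, nat_lit 0],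
  [nat_lit 1, nat_lit 0, nat_lit 0, nat_lit 1, nat_lit 1, nat_lit 0, nat_lit 0, nat_lit 1, nat_lit 1, nat_lit 1],
  [nat_lit 0, nat_lit 0, nat_lit 0, nat_lit 0, nat_lit 1, nat_lit 0, nat_lit 0, nat_lit 1, nat_lit 0, nat_lit 1],
  [nat_lit 0, nat_lit 1, nat_lit 0, nat_lit 0, nat_lit 0]] s5g1) i = 0 :=
  (rng_step (all0 _) s5W0_0)
theorem s5in1 (h0 : ∀ s < 2, (c133md φ inj).In ⊤ (s5g0 s)) : ∀ s < 4, (c133md φ inj).In ((c133md φ inj).gn s5g0 2) (s5g1 s) := in_of_chkW (s5eg0 h0) s5W0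
theorem s5top1 (h0 : ∀ s < 2, (c133md φ inj).In ⊤ (s5g0 s)) : ∀ s < 4, (c133md φ inj).In ⊤ (s5g1 s) := fun s hs => (s5in1 h0 s hs).top
theorem s5le0 (h0 : ∀ s < 2, (c133md φ inj).In ⊤ (s5g0 s)) : ((c133md φ inj).gn s5g1 4) ≤ ((c133md φ inj).gn s5g0 2) := gn_le (s5in1 h0)
theorem s5eg1 (h0 : ∀ s < 2, (c133md φ inj).In ⊤ (s5g0 s)) : (c133md φ inj).El ((c133md φ inj).gn s5g1 4) s5g1 := el_gn (s5top1 h0)
theorem s5W1 : ∀ i < 2, (chkW c133.mul c133.one s5g1 [[nat_lit 2, nat_lit 1, nat_lit 2, nat_lit 2, nat_lit 2, nat_lit 0, nat_lit 3, nat_lit 3],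
  [nat_lit 1, nat_lit 2, nat_lit 1, nat_lit 3, nat_lit 1, nat_lit 2]] s5g2) i = 0 :=
  (rng_step (all0 _) s5W1_0)
theorem s5in2 (h0 : ∀ s < 2, (c133md φ inj).In ⊤ (s5g0 s)) : ∀ s < 2, (c133md φ inj).In ((c133md φ inj).gn s5g1 4) (s5g2 s) := in_of_chkW (s5eg1 h0) s5W1
theorem s5top2 (h0 : ∀ s < 2, (c133md φ inj).In ⊤ (s5g0 s)) : ∀ s < 2, (c133md φ inj).In ⊤ (s5g2 s) := fun s hs => (s5in2 h0 s hs).top
theorem s5le1 (h0 : ∀ s < 2, (c133md φ inj).In ⊤ (s5g0 s)) : ((c133md φ inj).gn s5g2 2) ≤ ((c133md φ inj).gn s5g1 4) := gn_le (s5in2 h0)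
theorem s5eg2 (h0 : ∀ s < 2, (c133md φ inj).In ⊤ (s5g0 s)) : (c133md φ inj).El ((c133md φ inj).gn s5g2 2) s5g2 := el_gn (s5top2 h0)
theorem s5le2 (h0 : ∀ s < 2, (c133md φ inj).In ⊤ (s5g0 s)) : (⊥ : Subgroup G) ≤ ((c133md φ inj).gn s5g2 2) := bot_le
theorem s5lb3 (h0 : ∀ s < 2, (c133md φ inj).In ⊤ (s5g0 s)) : 1 ≤ Nat.card (⊥ : Subgroup G) := one_le_card _
theorem s5y2Y : ∀ i < 5, (chkY c133b.canV c133b.row s5y2 (nat_lit 5)) i = 0 :=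
  allB (rngB_step (allB0 _ _) s5y2Y_0) (by decide)
theorem s5y2D : Dist (fun i => (fun x => (⟨c133b.vec (ZMod 11) 133 x⟩ : Vc φ)) (pt c133b.row s5y2 i)) 5 :=
  dist_of_chk (@Cfg.Ok.canT G _ _ _ _ c133b (ZMod.charP 11) c133b_ok rfl rfl φ) s5y2Y
theorem s5O2 : ∀ i < 5, (chkO (c133b.imgV s5g2) c133b.row s5y2 s5O2a (nat_lit 5) [nat_lit 0]) i = 0 :=
  allB (rngB_step (allB0 _ _) s5O2_0) (by decide)
theorem s5R2 (h0 : ∀ s < 2, (c133md φ inj).In ⊤ (s5g0 s)) : Reach ((c133md φ inj).gn s5g2 2) (fun i => (fun x => (⟨c133b.vec (ZMod 11) 133 x⟩ : Vc φ)) (pt c133b.row s5y2 i)) 5 [nat_lit 0] :=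
  reach_of_chk (pv := (fun x => (⟨c133b.vec (ZMod 11) 133 x⟩ : Vc φ))) ((@Cfg.Ok.acts G _ _ _ _ c133b (ZMod.charP 11) c133b_ok rfl rfl (c133md φ inj) rfl s5g2).ex (s5eg2 h0)) s5O2
theorem s5fx2 : (⊥ : Subgroup G) ≤ MulAction.stabilizer G ((fun i => (fun x => (⟨c133b.vec (ZMod 11) 133 x⟩ : Vc φ)) (pt c133b.row s5y2 i)) (nat_lit 0)) := bot_le
theorem s5lb2 (h0 : ∀ s < 2, (c133md φ inj).In ⊤ (s5g0 s)) : 5 ≤ Nat.card ((c133md φ inj).gn s5g2 2) :=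
  le_of_eq_of_le (by norm_num) (lower s5y2D (s5R2 h0) (s5le2 h0) s5fx2 (s5lb3 h0))
theorem s5y1Y : ∀ i < 125, (chkY c133b.canV c133b.row s5y1 (nat_lit 125)) i = 0 :=
  allB (rngB_step (allB0 _ _) s5y1Y_0) (by decide)
theorem s5y1D : Dist (fun i => (fun x => (⟨c133b.vec (ZMod 11) 133 x⟩ : Vc φ)) (pt c133b.row s5y1 i)) 125 :=
  dist_of_chk (@Cfg.Ok.canT G _ _ _ _ c133b (ZMod.charP 11) c133b_ok rfl rfl φ) s5y1Y
theorem s5O1 : ∀ i < 125, (chkO (c133b.imgV s5g1) c133b.row s5y1 s5O1a (nat_lit 125) [nat_lit 89]) i = 0 :=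
  allB (rngB_step (allB0 _ _) s5O1_0) (by decide)
theorem s5R1 (h0 : ∀ s < 2, (c133md φ inj).In ⊤ (s5g0 s)) : Reach ((c133md φ inj).gn s5g1 4) (fun i => (fun x => (⟨c133b.vec (ZMod 11) 133 x⟩ : Vc φ)) (pt c133b.row s5y1 i)) 125 [nat_lit 89] :=
  reach_of_chk (pv := (fun x => (⟨c133b.vec (ZMod 11) 133 x⟩ : Vc φ))) ((@Cfg.Ok.acts G _ _ _ _ c133b (ZMod.charP 11) c133b_ok rfl rfl (c133md φ inj) rfl s5g1).ex (s5eg1 h0)) s5O1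
theorem s5F1 : ∀ i < 2, (chkF (c133b.imgV s5g2) c133b.row s5y1 (nat_lit 89) [nat_lit 0, nat_lit 0]) i = 0 :=
  (rng_step (all0 _) s5F1_0)
theorem s5fx1 : ((c133md φ inj).gn s5g2 2) ≤ MulAction.stabilizer G ((fun i => (fun x => (⟨c133b.vec (ZMod 11) 133 x⟩ : Vc φ)) (pt c133b.row s5y1 i)) (nat_lit 89)) :=
  gn_le_stab (@Cfg.Ok.acts G _ _ _ _ c133b (ZMod.charP 11) c133b_ok rfl rfl (c133md φ inj) rfl s5g2) s5F1
theorem s5lb1 (h0 : ∀ s < 2, (c133md φ inj).In ⊤ (s5g0 s)) : 625 ≤ Nat.card ((c133md φ inj).gn s5g1 4) :=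
  le_of_eq_of_le (by norm_num) (lower s5y1D (s5R1 h0) (s5le1 h0) s5fx1 (s5lb2 h0))
theorem s5y0Y : ∀ i < 25, (chkY c133b.canV c133b.row s5y0 (nat_lit 25)) i = 0 :=
  allB (rngB_step (allB0 _ _) s5y0Y_0) (by decide)
theorem s5y0D : Dist (fun i => (fun x => (⟨c133b.vec (ZMod 11) 133 x⟩ : Vc φ)) (pt c133b.row s5y0 i)) 25 :=
  dist_of_chk (@Cfg.Ok.canT G _ _ _ _ c133b (ZMod.charP 11) c133b_ok rfl rfl φ) s5y0Y
theorem s5O0 : ∀ i < 25, (chkO (c133b.imgV s5g0) c133b.row s5y0 s5O0a (nat_lit 25) [nat_lit 23]) i = 0 :=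
  allB (rngB_step (allB0 _ _) s5O0_0) (by decide)
theorem s5R0 (h0 : ∀ s < 2, (c133md φ inj).In ⊤ (s5g0 s)) : Reach ((c133md φ inj).gn s5g0 2) (fun i => (fun x => (⟨c133b.vec (ZMod 11) 133 x⟩ : Vc φ)) (pt c133b.row s5y0 i)) 25 [nat_lit 23] :=
  reach_of_chk (pv := (fun x => (⟨c133b.vec (ZMod 11) 133 x⟩ : Vc φ))) ((@Cfg.Ok.acts G _ _ _ _ c133b (ZMod.charP 11) c133b_ok rfl rfl (c133md φ inj) rfl s5g0).ex (s5eg0 h0)) s5O0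
theorem s5F0 : ∀ i < 4, (chkF (c133b.imgV s5g1) c133b.row s5y0 (nat_lit 23) [nat_lit 0, nat_lit 0, nat_lit 0, nat_lit 0]) i = 0 :=
  (rng_step (all0 _) s5F0_0)
theorem s5fx0 : ((c133md φ inj).gn s5g1 4) ≤ MulAction.stabilizer G ((fun i => (fun x => (⟨c133b.vec (ZMod 11) 133 x⟩ : Vc φ)) (pt c133b.row s5y0 i)) (nat_lit 23)) :=
  gn_le_stab (@Cfg.Ok.acts G _ _ _ _ c133b (ZMod.charP 11) c133b_ok rfl rfl (c133md φ inj) rfl s5g1) s5F0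
theorem s5lb0 (h0 : ∀ s < 2, (c133md φ inj).In ⊤ (s5g0 s)) : 15625 ≤ Nat.card ((c133md φ inj).gn s5g0 2) :=
  le_of_eq_of_le (by norm_num) (lower s5y0D (s5R0 h0) (s5le0 h0) s5fx0 (s5lb1 h0))
theorem s5C2_0 : ∀ i < 5, (chkC (c133b.imgV s5g2) c133b.row s5y2 s5C2_0a (nat_lit 5) (nat_lit 0)) i = 0 :=
  allB (rngB_step (allB0 _ _) s5C2_0_0) (by decide)
theorem s5C2_1 : ∀ i < 5, (chkC (c133b.imgV s5g2) c133b.row s5y2 s5C2_1a (nat_lit 5) (nat_lit 1)) i = 0 :=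
  allB (rngB_step (allB0 _ _) s5C2_1_0) (by decide)
theorem s5dv2 (h0 : ∀ s < 2, (c133md φ inj).In ⊤ (s5g0 s)) : 5 ∣ Nat.card ((c133md φ inj).gn s5g2 2) :=
  dvd_step (n := 5) (B := 1) (dvd_gn (@Cfg.Ok.acts G _ _ _ _ c133b (ZMod.charP 11) c133b_ok rfl rfl (c133md φ inj) rfl s5g2) s5y2D (by decide) (s5R2 h0) fun s hs => by
    interval_cases s; exacts [⟨_, s5C2_0⟩, ⟨_, s5C2_1⟩]) (s5le2 h0) s5fx2 (one_dvd _)
theorem s5C1_0 : ∀ i < 125, (chkC (c133b.imgV s5g1) c133b.row s5y1 s5C1_0a (nat_lit 125) (nat_lit 0)) i = 0 :=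
  allB (rngB_step (allB0 _ _) s5C1_0_0) (by decide)
theorem s5C1_1 : ∀ i < 125, (chkC (c133b.imgV s5g1) c133b.row s5y1 s5C1_1a (nat_lit 125) (nat_lit 1)) i = 0 :=
  allB (rngB_step (allB0 _ _) s5C1_1_0) (by decide)
theorem s5C1_2 : ∀ i < 125, (chkC (c133b.imgV s5g1) c133b.row s5y1 s5C1_2a (nat_lit 125) (nat_lit 2)) i = 0 :=
  allB (rngB_step (allB0 _ _) s5C1_2_0) (by decide)
theorem s5C1_3 : ∀ i < 125, (chkC (c133b.imgV s5g1) c133b.row s5y1 s5C1_3a (nat_lit 125) (nat_lit 3)) i = 0 :=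
  allB (rngB_step (allB0 _ _) s5C1_3_0) (by decide)
theorem s5dv1 (h0 : ∀ s < 2, (c133md φ inj).In ⊤ (s5g0 s)) : 625 ∣ Nat.card ((c133md φ inj).gn s5g1 4) :=
  dvd_step (n := 125) (B := 5) (dvd_gn (@Cfg.Ok.acts G _ _ _ _ c133b (ZMod.charP 11) c133b_ok rfl rfl (c133md φ inj) rfl s5g1) s5y1D (by decide) (s5R1 h0) fun s hs => by
    interval_cases s; exacts [⟨_, s5C1_0⟩, ⟨_, s5C1_1⟩, ⟨_, s5C1_2⟩, ⟨_, s5C1_3⟩]) (s5le1 h0) s5fx1 (s5dv2 h0)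
theorem s5C0_0 : ∀ i < 25, (chkC (c133b.imgV s5g0) c133b.row s5y0 s5C0_0a (nat_lit 25) (nat_lit 0)) i = 0 :=
  allB (rngB_step (allB0 _ _) s5C0_0_0) (by decide)
theorem s5C0_1 : ∀ i < 25, (chkC (c133b.imgV s5g0) c133b.row s5y0 s5C0_1a (nat_lit 25) (nat_lit 1)) i = 0 :=
  allB (rngB_step (allB0 _ _) s5C0_1_0) (by decide)
theorem s5dv0 (h0 : ∀ s < 2, (c133md φ inj).In ⊤ (s5g0 s)) : 15625 ∣ Nat.card ((c133md φ inj).gn s5g0 2) :=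
  dvd_step (n := 25) (B := 625) (dvd_gn (@Cfg.Ok.acts G _ _ _ _ c133b (ZMod.charP 11) c133b_ok rfl rfl (c133md φ inj) rfl s5g0) s5y0D (by decide) (s5R0 h0) fun s hs => by
    interval_cases s; exacts [⟨_, s5C0_0⟩, ⟨_, s5C0_1⟩]) (s5le0 h0) s5fx0 (s5dv1 h0)
theorem s5E : ∀ i < 2, (chkE s5g0 de [nat_lit 25792583279176005432, nat_lit 50949254576637243737]) i = 0 :=
  (rng_step (all0 _) s5E_0)
theorem e19top0 (h0 : ∀ s < 1, (c133md φ inj).In ⊤ (e19g0 s)) : ∀ s < 1, (c133md φ inj).In ⊤ (e19g0 s) := h0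
theorem e19eg0 (h0 : ∀ s < 1, (c133md φ inj).In ⊤ (e19g0 s)) : (c133md φ inj).El ((c133md φ inj).gn e19g0 1) e19g0 := el_gn (e19top0 h0)
theorem e19le0 (h0 : ∀ s < 1, (c133md φ inj).In ⊤ (e19g0 s)) : (⊥ : Subgroup G) ≤ ((c133md φ inj).gn e19g0 1) := bot_le
theorem e19lb1 (h0 : ∀ s < 1, (c133md φ inj).In ⊤ (e19g0 s)) : 1 ≤ Nat.card (⊥ : Subgroup G) := one_le_card _
theorem e19y0Y : ∀ i < 19, (chkY c133b.canV c133b.row e19y0 (nat_lit 19)) i = 0 :=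
  allB (rngB_step (allB0 _ _) e19y0Y_0) (by decide)
theorem e19y0D : Dist (fun i => (fun x => (⟨c133b.vec (ZMod 11) 133 x⟩ : Vc φ)) (pt c133b.row e19y0 i)) 19 :=
  dist_of_chk (@Cfg.Ok.canT G _ _ _ _ c133b (ZMod.charP 11) c133b_ok rfl rfl φ) e19y0Y
theorem e19O0 : ∀ i < 19, (chkO (c133b.imgV e19g0) c133b.row e19y0 e19O0a (nat_lit 19) [nat_lit 13]) i = 0 :=
  allB (rngB_step (allB0 _ _) e19O0_0) (by decide)
theorem e19R0 (h0 : ∀ s < 1, (c133md φ inj).In ⊤ (e19g0 s)) : Reach ((c133md φ inj).gn e19g0 1) (fun i => (fun x => (⟨c133b.vec (ZMod 11) 133 x⟩ : Vc φ)) (pt c133b.row e19y0 i)) 19 [nat_lit 13] :=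
  reach_of_chk (pv := (fun x => (⟨c133b.vec (ZMod 11) 133 x⟩ : Vc φ))) ((@Cfg.Ok.acts G _ _ _ _ c133b (ZMod.charP 11) c133b_ok rfl rfl (c133md φ inj) rfl e19g0).ex (e19eg0 h0)) e19O0
theorem e19fx0 : (⊥ : Subgroup G) ≤ MulAction.stabilizer G ((fun i => (fun x => (⟨c133b.vec (ZMod 11) 133 x⟩ : Vc φ)) (pt c133b.row e19y0 i)) (nat_lit 13)) := bot_le
theorem e19lb0 (h0 : ∀ s < 1, (c133md φ inj).In ⊤ (e19g0 s)) : 19 ≤ Nat.card ((c133md φ inj).gn e19g0 1) :=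
  le_of_eq_of_le (by norm_num) (lower e19y0D (e19R0 h0) (e19le0 h0) e19fx0 (e19lb1 h0))
theorem e19C0_0 : ∀ i < 19, (chkC (c133b.imgV e19g0) c133b.row e19y0 e19C0_0a (nat_lit 19) (nat_lit 0)) i = 0 :=
  allB (rngB_step (allB0 _ _) e19C0_0_0) (by decide)
theorem e19dv0 (h0 : ∀ s < 1, (c133md φ inj).In ⊤ (e19g0 s)) : 19 ∣ Nat.card ((c133md φ inj).gn e19g0 1) :=
  dvd_step (n := 19) (B := 1) (dvd_gn (@Cfg.Ok.acts G _ _ _ _ c133b (ZMod.charP 11) c133b_ok rfl rfl (c133md φ inj) rfl e19g0) e19y0D (by decide) (e19R0 h0) fun s hs => by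
    interval_cases s; exacts [⟨_, e19C0_0⟩]) (e19le0 h0) e19fx0 (one_dvd _)
theorem e19E : ∀ i < 1, (chkE e19g0 de [nat_lit 583658207777873943]) i = 0 :=
  (rng_step (all0 _) e19E_0)

end Cfsg.Agent.H5.Hn
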