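import Cfsg.Agent.H5.J1D0

set_option autoImplicit false
set_option maxRecDepth 100000

namespace Cfsg.Agent.H5.J1

theorem aW0_0 : rng aW0f (nat_lit 0) (nat_lit 2) = 0 := by decide +kernel
theorem aS1_0 : rng aS1f (nat_lit 0) (nat_lit 114) = 0 := by decide +kernel
theorem aT0_1 : aT1 0 = c7.one := by decide +kernel
theorem aS0_0 : rng aS0f (nat_lit 0) (nat_lit 200) = 0 := by decide +kernel
theorem aS0_1 : rng aS0f (nat_lit 200) (nat_lit 200) = 0 := by decide +kernel
theorem aS0_2 : rng aS0f (nat_lit 400) (nat_lit 200) = 0 := by decide +kernel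
theorem aS0_3 : rng aS0f (nat_lit 600) (nat_lit 200) = 0 := by decide +kernel
theorem aS0_4 : rng aS0f (nat_lit 800) (nat_lit 200) = 0 := by decide +kernel
theorem aS0_5 : rng aS0f (nat_lit 1000) (nat_lit 200) = 0 := by decide +kernel
theorem aS0_6 : rng aS0f (nat_lit 1200) (nat_lit 200) = 0 := by decide +kernel
theorem aS0_7 : rng aS0f (nat_lit 1400) (nat_lit 140) = 0 := by decide +kernel
theorem aT0_0 : aT0 0 = c7.one := by decide +kernel
theorem ay1Y_0 : rngB ay1Yf (nat_lit 114) (nat_lit 0) (nat_lit 2) = 0 := by decide +kernel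
theorem aO1_0 : rngB aO1f (nat_lit 114) (nat_lit 0) (nat_lit 2) = 0 := by decide +kernel
theorem ay0Y_0 : rngB ay0Yf (nat_lit 1540) (nat_lit 0) (nat_lit 16) = 0 := by decide +kernel
theorem ay0Y_1 : rngB ay0Yf (nat_lit 1540) (nat_lit 16) (nat_lit 9) = 0 := by decide +kernel
theorem aO0_0 : rngB aO0f (nat_lit 1540) (nat_lit 0) (nat_lit 16) = 0 := by decide +kernel
theorem aO0_1 : rngB aO0f (nat_lit 1540) (nat_lit 16) (nat_lit 9) = 0 := by decide +kernel
theorem aF0_0 : rng aF0f (nat_lit 0) (nat_lit 2) = 0 := by decide +kernel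
theorem aK_0 : rngB aKf (nat_lit 1540) (nat_lit 0) (nat_lit 16) = 0 := by decide +kernel
theorem aK_1 : rngB aKf (nat_lit 1540) (nat_lit 16) (nat_lit 9) = 0 := by decide +kernel
theorem am84M : chkM (c7b.imgL am84) c7b.row ay0 (nat_lit 1298) ay0 [nat_lit 84] [nat_lit 0] 0 = 0 := by decide +kernel
theorem am84O_0 : rngB am84Of (nat_lit 1540) (nat_lit 0) (nat_lit 16) = 0 := by decide +kernel
theorem am84O_1 : rngB am84Of (nat_lit 1540) (nat_lit 16) (nat_lit 9) = 0 := by decide +kernel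
theorem am73M : chkM (c7b.imgL am73) c7b.row ay0 (nat_lit 1298) ay0 [nat_lit 73] [nat_lit 9] 0 = 0 := by decide +kernel
theorem am73O_0 : rngB am73Of (nat_lit 1540) (nat_lit 0) (nat_lit 16) = 0 := by decide +kernel
theorem am73O_1 : rngB am73Of (nat_lit 1540) (nat_lit 16) (nat_lit 9) = 0 := by decide +kernel
theorem am56M : chkM (c7b.imgL am56) c7b.row ay0 (nat_lit 1298) ay0 [nat_lit 56] [nat_lit 2] 0 = 0 := by decide +kernel
theorem am56O_0 : rngB am56Of (nat_lit 1540) (nat_lit 0) (nat_lit 16) = 0 := by decide +kernel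
theorem am56O_1 : rngB am56Of (nat_lit 1540) (nat_lit 16) (nat_lit 9) = 0 := by decide +kernel
theorem am53M : chkM (c7b.imgL am53) c7b.row ay0 (nat_lit 1298) ay0 [nat_lit 53] [nat_lit 1] 0 = 0 := by decide +kernel
theorem am53O_0 : rngB am53Of (nat_lit 1540) (nat_lit 0) (nat_lit 16) = 0 := by decide +kernel
theorem am53O_1 : rngB am53Of (nat_lit 1540) (nat_lit 16) (nat_lit 9) = 0 := by decide +kernel
theorem am42M : chkM (c7b.imgL am42) c7b.row ay0 (nat_lit 1298) ay0 [nat_lit 42] [nat_lit 1] 0 = 0 := by decide +kernel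
theorem am42O_0 : rngB am42Of (nat_lit 1540) (nat_lit 0) (nat_lit 16) = 0 := by decide +kernel
theorem am42O_1 : rngB am42Of (nat_lit 1540) (nat_lit 16) (nat_lit 9) = 0 := by decide +kernel
theorem am39M : chkM (c7b.imgL am39) c7b.row ay0 (nat_lit 1298) ay0 [nat_lit 39] [nat_lit 1] 0 = 0 := by decide +kernel
theorem am39O_0 : rngB am39Of (nat_lit 1540) (nat_lit 0) (nat_lit 16) = 0 := by decide +kernel
theorem am39O_1 : rngB am39Of (nat_lit 1540) (nat_lit 16) (nat_lit 9) = 0 := by decide +kernel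
theorem am38M : chkM (c7b.imgL am38) c7b.row ay0 (nat_lit 1298) ay0 [nat_lit 38] [nat_lit 1] 0 = 0 := by decide +kernel
theorem am38O_0 : rngB am38Of (nat_lit 1540) (nat_lit 0) (nat_lit 16) = 0 := by decide +kernel
theorem am38O_1 : rngB am38Of (nat_lit 1540) (nat_lit 16) (nat_lit 9) = 0 := by decide +kernel
theorem am31M : chkM (c7b.imgL am31) c7b.row ay0 (nat_lit 1298) ay0 [nat_lit 31] [nat_lit 3] 0 = 0 := by decide +kernel
theorem am31O_0 : rngB am31Of (nat_lit 1540) (nat_lit 0) (nat_lit 16) = 0 := by decide +kernel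
theorem am31O_1 : rngB am31Of (nat_lit 1540) (nat_lit 16) (nat_lit 9) = 0 := by decide +kernel
theorem am28M : chkM (c7b.imgL am28) c7b.row ay0 (nat_lit 1298) ay0 [nat_lit 28] [nat_lit 3] 0 = 0 := by decide +kernel
theorem am28O_0 : rngB am28Of (nat_lit 1540) (nat_lit 0) (nat_lit 16) = 0 := by decide +kernel
theorem am28O_1 : rngB am28Of (nat_lit 1540) (nat_lit 16) (nat_lit 9) = 0 := by decide +kernel
theorem am27M : chkM (c7b.imgL am27) c7b.row ay0 (nat_lit 1298) ay0 [nat_lit 27] [nat_lit 4] 0 = 0 := by decide +kernel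
theorem am27O_0 : rngB am27Of (nat_lit 1540) (nat_lit 0) (nat_lit 16) = 0 := by decide +kernel
theorem am27O_1 : rngB am27Of (nat_lit 1540) (nat_lit 16) (nat_lit 9) = 0 := by decide +kernel
theorem am23M : chkM (c7b.imgL am23) c7b.row ay0 (nat_lit 1298) ay0 [nat_lit 23] [nat_lit 0] 0 = 0 := by decide +kernel
theorem am23O_0 : rngB am23Of (nat_lit 1540) (nat_lit 0) (nat_lit 16) = 0 := by decide +kernel
theorem am23O_1 : rngB am23Of (nat_lit 1540) (nat_lit 16) (nat_lit 9) = 0 := by decide +kernel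
theorem am22M : chkM (c7b.imgL am22) c7b.row ay0 (nat_lit 1298) ay0 [nat_lit 22] [nat_lit 5] 0 = 0 := by decide +kernel
theorem am22O_0 : rngB am22Of (nat_lit 1540) (nat_lit 0) (nat_lit 16) = 0 := by decide +kernel
theorem am22O_1 : rngB am22Of (nat_lit 1540) (nat_lit 16) (nat_lit 9) = 0 := by decide +kernel
theorem am14M : chkM (c7b.imgL am14) c7b.row ay0 (nat_lit 1298) ay0 [nat_lit 14] [nat_lit 2] 0 = 0 := by decide +kernel
theorem am14O_0 : rngB am14Of (nat_lit 1540) (nat_lit 0) (nat_lit 16) = 0 := by decide +kernel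
theorem am14O_1 : rngB am14Of (nat_lit 1540) (nat_lit 16) (nat_lit 9) = 0 := by decide +kernel
theorem am10M : chkM (c7b.imgL am10) c7b.row ay0 (nat_lit 1298) ay0 [nat_lit 10] [nat_lit 7] 0 = 0 := by decide +kernel
theorem am10O_0 : rngB am10Of (nat_lit 1540) (nat_lit 0) (nat_lit 16) = 0 := by decide +kernel
theorem am10O_1 : rngB am10Of (nat_lit 1540) (nat_lit 16) (nat_lit 9) = 0 := by decide +kernel
theorem am9M : chkM (c7b.imgL am9) c7b.row ay0 (nat_lit 1298) ay0 [nat_lit 9] [nat_lit 2] 0 = 0 := by decide +kernel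
theorem am9O_0 : rngB am9Of (nat_lit 1540) (nat_lit 0) (nat_lit 16) = 0 := by decide +kernel
theorem am9O_1 : rngB am9Of (nat_lit 1540) (nat_lit 16) (nat_lit 9) = 0 := by decide +kernel
theorem am6M : chkM (c7b.imgL am6) c7b.row ay0 (nat_lit 1298) ay0 [nat_lit 6] [nat_lit 2] 0 = 0 := by decide +kernel
theorem am6O_0 : rngB am6Of (nat_lit 1540) (nat_lit 0) (nat_lit 16) = 0 := by decide +kernel
theorem am6O_1 : rngB am6Of (nat_lit 1540) (nat_lit 16) (nat_lit 9) = 0 := by decide +kernel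
theorem am5M : chkM (c7b.imgL am5) c7b.row ay0 (nat_lit 1298) ay0 [nat_lit 5] [nat_lit 2] 0 = 0 := by decide +kernel
theorem am5O_0 : rngB am5Of (nat_lit 1540) (nat_lit 0) (nat_lit 16) = 0 := by decide +kernel
theorem am5O_1 : rngB am5Of (nat_lit 1540) (nat_lit 16) (nat_lit 9) = 0 := by decide +kernel
theorem am4M : chkM (c7b.imgL am4) c7b.row ay0 (nat_lit 1298) ay0 [nat_lit 4] [nat_lit 2] 0 = 0 := by decide +kernel
theorem am4O_0 : rngB am4Of (nat_lit 1540) (nat_lit 0) (nat_lit 16) = 0 := by decide +kernel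
theorem am4O_1 : rngB am4Of (nat_lit 1540) (nat_lit 16) (nat_lit 9) = 0 := by decide +kernel
theorem am1M : chkM (c7b.imgL am1) c7b.row ay0 (nat_lit 1298) ay0 [nat_lit 1] [nat_lit 2] 0 = 0 := by decide +kernel
theorem am1O_0 : rngB am1Of (nat_lit 1540) (nat_lit 0) (nat_lit 16) = 0 := by decide +kernel
theorem am1O_1 : rngB am1Of (nat_lit 1540) (nat_lit 16) (nat_lit 9) = 0 := by decide +kernel
theorem am0M : chkM (c7b.imgL am0) c7b.row ay0 (nat_lit 1298) ay0 [nat_lit 0] [nat_lit 2] 0 = 0 := by decide +kernel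
theorem am0O_0 : rngB am0Of (nat_lit 1540) (nat_lit 0) (nat_lit 16) = 0 := by decide +kernel
theorem am0O_1 : rngB am0Of (nat_lit 1540) (nat_lit 16) (nat_lit 9) = 0 := by decide +kernel
theorem acp1 : pt c7b.row ay1 (nat_lit 97) = pt c7b.row ay0 (nat_lit 1349) := by decide +kernel
theorem aP_0 : rng aPf (nat_lit 0) (nat_lit 2) = 0 := by decide +kernel
theorem aI_0 : rng aIf (nat_lit 0) (nat_lit 2) = 0 := by decide +kernel

end Cfsg.Agent.H5.J1
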