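import Cfsg.Agent.H5.J1C0

set_option autoImplicit false
set_option maxRecDepth 100000

namespace Cfsg.Agent.H5.J1

open Mdl

set_option linter.unusedSectionVars false
set_option linter.unusedVariables false
attribute [local irreducible] look Tr.get

variable {G : Type*} [Group G] [Finite G] {φ : G →* Matrix (Fin 7) (Fin 7) (ZMod 11)} {inj : Function.Injective φ}

theorem atop0 (h0 : ∀ s < 2, (c7md φ inj).In ⊤ (ag0 s)) : ∀ s < 2, (c7md φ inj).In ⊤ (ag0 s) := h0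
theorem aeg0 (h0 : ∀ s < 2, (c7md φ inj).In ⊤ (ag0 s)) : (c7md φ inj).El ((c7md φ inj).gn ag0 2) ag0 := el_gn (atop0 h0)
theorem aW0 : ∀ i < 2, (chkW c7.mul c7.one ag0 [[nat_lit 0, nat_lit 0, nat_lit 0, nat_lit 0, nat_lit 0, nat_lit 0, nat_lit 1, nat_lit 0, nat_lit 1, nat_lit 1, nat_lit 0, nat_lit 1, nat_lit 0, nat_lit 1, nat_lit 0, nat_lit 1, nat_lit 1, nat_lit 0, nat_lit 0, nat_lit 1, nat_lit 1, nat_lit 0],
  [nat_lit 1, nat_lit 1, nat_lit 0, nat_lit 1, nat_lit 1, nat_lit 0, nat_lit 0, nat_lit 1, nat_lit 1, nat_lit 0, nat_lit 1, nat_lit 1, nat_lit 0, nat_lit 1, nat_lit 1, nat_lit 0, nat_lit 0, nat_lit 1, nat_lit 0, nat_lit 0]] ag1) i = 0 :=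
  (rng_step (all0 _) aW0_0)
theorem ain1 (h0 : ∀ s < 2, (c7md φ inj).In ⊤ (ag0 s)) : ∀ s < 2, (c7md φ inj).In ((c7md φ inj).gn ag0 2) (ag1 s) := in_of_chkW (aeg0 h0) aW0
theorem atop1 (h0 : ∀ s < 2, (c7md φ inj).In ⊤ (ag0 s)) : ∀ s < 2, (c7md φ inj).In ⊤ (ag1 s) := fun s hs => (ain1 h0 s hs).top
theorem ale0 (h0 : ∀ s < 2, (c7md φ inj).In ⊤ (ag0 s)) : ((c7md φ inj).gn ag1 2) ≤ ((c7md φ inj).gn ag0 2) := gn_le (ain1 h0)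
theorem aeg1 (h0 : ∀ s < 2, (c7md φ inj).In ⊤ (ag0 s)) : (c7md φ inj).El ((c7md φ inj).gn ag1 2) ag1 := el_gn (atop1 h0)
theorem ale1 (h0 : ∀ s < 2, (c7md φ inj).In ⊤ (ag0 s)) : (⊥ : Subgroup G) ≤ ((c7md φ inj).gn ag1 2) := bot_le
theorem ael2 (h0 : ∀ s < 2, (c7md φ inj).In ⊤ (ag0 s)) : (c7md φ inj).El ⊥ ae2 := el_one _
theorem aub2 (h0 : ∀ s < 2, (c7md φ inj).In ⊤ (ag0 s)) : Nat.card (⊥ : Subgroup G) ≤ 1 := card_bot_le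
theorem aS1 : ∀ i < 114, (chkS c7.mul ag1 (nat_lit 2) aT1 ae2 ac1 (nat_lit 7) (nat_lit 114)) i = 0 :=
  (rng_step (all0 _) aS1_0)
theorem asch1 (h0 : ∀ s < 2, (c7md φ inj).In ⊤ (ag0 s)) : (∀ g ∈ ((c7md φ inj).gn ag1 2), ∃ i < 114, (c7md φ inj).Cos (⊥ : Subgroup G) aT1 g i) ∧ (∀ i < 114, (c7md φ inj).In ((c7md φ inj).gn ag1 2) (aT1 i)) ∧ Nat.card ((c7md φ inj).gn ag1 2) ≤ 114 * Nat.card (⊥ : Subgroup G) :=
  schreier (ael2 h0) (by decide) aT0_1 (atop1 h0) (ale1 h0) aS1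
theorem ael1 (h0 : ∀ s < 2, (c7md φ inj).In ⊤ (ag0 s)) : (c7md φ inj).El ((c7md φ inj).gn ag1 2) ae1 := (el_of_pad (asch1 h0).2.1).cel0 _
theorem aub1 (h0 : ∀ s < 2, (c7md φ inj).In ⊤ (ag0 s)) : Nat.card ((c7md φ inj).gn ag1 2) ≤ 114 := (upper (asch1 h0).2.2 (aub2 h0)).trans (by norm_num)
theorem aS0 : ∀ i < 1540, (chkS c7.mul ag0 (nat_lit 2) aT0 ae1 ac0 (nat_lit 11) (nat_lit 1540)) i = 0 :=
  (rng_step (rng_step (rng_step (rng_step (rng_step (rng_step (rng_step (rng_step (all0 _) aS0_0) aS0_1) aS0_2) aS0_3) aS0_4) aS0_5) aS0_6) aS0_7)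
theorem asch0 (h0 : ∀ s < 2, (c7md φ inj).In ⊤ (ag0 s)) : (∀ g ∈ ((c7md φ inj).gn ag0 2), ∃ i < 1540, (c7md φ inj).Cos ((c7md φ inj).gn ag1 2) aT0 g i) ∧ (∀ i < 1540, (c7md φ inj).In ((c7md φ inj).gn ag0 2) (aT0 i)) ∧ Nat.card ((c7md φ inj).gn ag0 2) ≤ 1540 * Nat.card ((c7md φ inj).gn ag1 2) :=
  schreier (ael1 h0) (by decide) aT0_0 (atop0 h0) (ale0 h0) aS0
theorem ael0 (h0 : ∀ s < 2, (c7md φ inj).In ⊤ (ag0 s)) : (c7md φ inj).El ((c7md φ inj).gn ag0 2) ae0 := (el_of_pad (asch0 h0).2.1).cel ((ael1 h0).mono (ale0 h0)) _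
theorem aub0 (h0 : ∀ s < 2, (c7md φ inj).In ⊤ (ag0 s)) : Nat.card ((c7md φ inj).gn ag0 2) ≤ 175560 := (upper (asch0 h0).2.2 (aub1 h0)).trans (by norm_num)
theorem alb2 (h0 : ∀ s < 2, (c7md φ inj).In ⊤ (ag0 s)) : 1 ≤ Nat.card (⊥ : Subgroup G) := one_le_card _
theorem ay1Y : ∀ i < 114, (chkY c7b.canL c7b.row ay1 (nat_lit 114)) i = 0 :=
  allB (rngB_step (allB0 _ _) ay1Y_0) (by decide)
theorem ay1D : Dist (fun i => (fun x => ln φ (c7b.vec (ZMod 11) 7 x)) (pt c7b.row ay1 i)) 114 :=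
  dist_of_chk (Cfg.Ok.canTL c7b_ok rfl rfl φ) ay1Y
theorem aO1 : ∀ i < 114, (chkO (c7b.imgL ag1) c7b.row ay1 aO1a (nat_lit 114) [nat_lit 97]) i = 0 :=
  allB (rngB_step (allB0 _ _) aO1_0) (by decide)
theorem aR1 (h0 : ∀ s < 2, (c7md φ inj).In ⊤ (ag0 s)) : Reach ((c7md φ inj).gn ag1 2) (fun i => (fun x => ln φ (c7b.vec (ZMod 11) 7 x)) (pt c7b.row ay1 i)) 114 [nat_lit 97] :=
  reach_of_chk ((Cfg.Ok.actsL c7b_ok (m := (c7md φ inj)) rfl rfl rfl ag1).ex (aeg1 h0)) aO1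
theorem afx1 : (⊥ : Subgroup G) ≤ MulAction.stabilizer G ((fun i => (fun x => ln φ (c7b.vec (ZMod 11) 7 x)) (pt c7b.row ay1 i)) (nat_lit 97)) := bot_le
theorem alb1 (h0 : ∀ s < 2, (c7md φ inj).In ⊤ (ag0 s)) : 114 ≤ Nat.card ((c7md φ inj).gn ag1 2) :=
  le_of_eq_of_le (by norm_num) (lower ay1D (aR1 h0) (ale1 h0) afx1 (alb2 h0))
theorem aex1 (h0 : ∀ s < 2, (c7md φ inj).In ⊤ (ag0 s)) : MulAction.orbit ((c7md φ inj).gn ag1 2) ((fun i => (fun x => ln φ (c7b.vec (ZMod 11) 7 x)) (pt c7b.row ay1 i)) (nat_lit 97)) = (fun i => (fun x => ln φ (c7b.vec (ZMod 11) 7 x)) (pt c7b.row ay1 i)) '' {i | i < 114} ∧ ((c7md φ inj).gn ag1 2) ⊓ MulAction.stabilizer G ((fun i => (fun x => ln φ (c7b.vec (ZMod 11) 7 x)) (pt c7b.row ay1 i)) (nat_lit 97)) = (⊥ : Subgroup G) ∧ Nat.card ((c7md φ inj).gn ag1 2) = 114 * 1 ∧ Nat.card (⊥ : Subgroup G) = 1 :=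
  exact ay1D (aR1 h0) (ale1 h0) afx1 (alb2 h0) ((aub1 h0).trans (by norm_num))
theorem ay0Y : ∀ i < 1540, (chkY c7b.canL c7b.row ay0 (nat_lit 1540)) i = 0 :=
  allB (rngB_step (rngB_step (allB0 _ _) ay0Y_0) ay0Y_1) (by decide)
theorem ay0D : Dist (fun i => (fun x => ln φ (c7b.vec (ZMod 11) 7 x)) (pt c7b.row ay0 i)) 1540 :=
  dist_of_chk (Cfg.Ok.canTL c7b_ok rfl rfl φ) ay0Y
theorem aO0 : ∀ i < 1540, (chkO (c7b.imgL ag0) c7b.row ay0 aO0a (nat_lit 1540) [nat_lit 1298]) i = 0 :=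
  allB (rngB_step (rngB_step (allB0 _ _) aO0_0) aO0_1) (by decide)
theorem aR0 (h0 : ∀ s < 2, (c7md φ inj).In ⊤ (ag0 s)) : Reach ((c7md φ inj).gn ag0 2) (fun i => (fun x => ln φ (c7b.vec (ZMod 11) 7 x)) (pt c7b.row ay0 i)) 1540 [nat_lit 1298] :=
  reach_of_chk ((Cfg.Ok.actsL c7b_ok (m := (c7md φ inj)) rfl rfl rfl ag0).ex (aeg0 h0)) aO0
theorem aF0 : ∀ i < 2, (chkF (c7b.imgL ag1) c7b.row ay0 (nat_lit 1298) [nat_lit 9, nat_lit 9]) i = 0 :=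
  (rng_step (all0 _) aF0_0)
theorem afx0 : ((c7md φ inj).gn ag1 2) ≤ MulAction.stabilizer G ((fun i => (fun x => ln φ (c7b.vec (ZMod 11) 7 x)) (pt c7b.row ay0 i)) (nat_lit 1298)) :=
  gn_le_stab (Cfg.Ok.actsL c7b_ok (m := (c7md φ inj)) rfl rfl rfl ag1) aF0
theorem alb0 (h0 : ∀ s < 2, (c7md φ inj).In ⊤ (ag0 s)) : 175560 ≤ Nat.card ((c7md φ inj).gn ag0 2) :=
  le_of_eq_of_le (by norm_num) (lower ay0D (aR0 h0) (ale0 h0) afx0 (alb1 h0))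
theorem aex0 (h0 : ∀ s < 2, (c7md φ inj).In ⊤ (ag0 s)) : MulAction.orbit ((c7md φ inj).gn ag0 2) ((fun i => (fun x => ln φ (c7b.vec (ZMod 11) 7 x)) (pt c7b.row ay0 i)) (nat_lit 1298)) = (fun i => (fun x => ln φ (c7b.vec (ZMod 11) 7 x)) (pt c7b.row ay0 i)) '' {i | i < 1540} ∧ ((c7md φ inj).gn ag0 2) ⊓ MulAction.stabilizer G ((fun i => (fun x => ln φ (c7b.vec (ZMod 11) 7 x)) (pt c7b.row ay0 i)) (nat_lit 1298)) = ((c7md φ inj).gn ag1 2) ∧ Nat.card ((c7md φ inj).gn ag0 2) = 1540 * 114 ∧ Nat.card ((c7md φ inj).gn ag1 2) = 114 :=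
  exact ay0D (aR0 h0) (ale0 h0) afx0 (alb1 h0) ((aub0 h0).trans (by norm_num))
theorem aK : ∀ i < 1540, (chkO (c7b.imgL ag1) c7b.row ay0 aKa (nat_lit 1540) [nat_lit 1298, nat_lit 0, nat_lit 1, nat_lit 4, nat_lit 5, nat_lit 6, nat_lit 9, nat_lit 10, nat_lit 14, nat_lit 22, nat_lit 23, nat_lit 27, nat_lit 28, nat_lit 31, nat_lit 38, nat_lit 39, nat_lit 42, nat_lit 53, nat_lit 56, nat_lit 73, nat_lit 84]) i = 0 :=
  allB (rngB_step (rngB_step (allB0 _ _) aK_0) aK_1) (by decide)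
theorem am84O : ∀ i < 1540, (chkO (c7b.imgL am84) c7b.row ay0 am84Oa (nat_lit 1540) [nat_lit 1298]) i = 0 :=
  allB (rngB_step (rngB_step (allB0 _ _) am84O_0) am84O_1) (by decide)
theorem am73O : ∀ i < 1540, (chkO (c7b.imgL am73) c7b.row ay0 am73Oa (nat_lit 1540) [nat_lit 1298]) i = 0 :=
  allB (rngB_step (rngB_step (allB0 _ _) am73O_0) am73O_1) (by decide)
theorem am56O : ∀ i < 1540, (chkO (c7b.imgL am56) c7b.row ay0 am56Oa (nat_lit 1540) [nat_lit 1298]) i = 0 :=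
  allB (rngB_step (rngB_step (allB0 _ _) am56O_0) am56O_1) (by decide)
theorem am53O : ∀ i < 1540, (chkO (c7b.imgL am53) c7b.row ay0 am53Oa (nat_lit 1540) [nat_lit 1298]) i = 0 :=
  allB (rngB_step (rngB_step (allB0 _ _) am53O_0) am53O_1) (by decide)
theorem am42O : ∀ i < 1540, (chkO (c7b.imgL am42) c7b.row ay0 am42Oa (nat_lit 1540) [nat_lit 1298]) i = 0 :=
  allB (rngB_step (rngB_step (allB0 _ _) am42O_0) am42O_1) (by decide)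
theorem am39O : ∀ i < 1540, (chkO (c7b.imgL am39) c7b.row ay0 am39Oa (nat_lit 1540) [nat_lit 1298]) i = 0 :=
  allB (rngB_step (rngB_step (allB0 _ _) am39O_0) am39O_1) (by decide)
theorem am38O : ∀ i < 1540, (chkO (c7b.imgL am38) c7b.row ay0 am38Oa (nat_lit 1540) [nat_lit 1298]) i = 0 :=
  allB (rngB_step (rngB_step (allB0 _ _) am38O_0) am38O_1) (by decide)
theorem am31O : ∀ i < 1540, (chkO (c7b.imgL am31) c7b.row ay0 am31Oa (nat_lit 1540) [nat_lit 1298]) i = 0 :=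
  allB (rngB_step (rngB_step (allB0 _ _) am31O_0) am31O_1) (by decide)
theorem am28O : ∀ i < 1540, (chkO (c7b.imgL am28) c7b.row ay0 am28Oa (nat_lit 1540) [nat_lit 1298]) i = 0 :=
  allB (rngB_step (rngB_step (allB0 _ _) am28O_0) am28O_1) (by decide)
theorem am27O : ∀ i < 1540, (chkO (c7b.imgL am27) c7b.row ay0 am27Oa (nat_lit 1540) [nat_lit 1298]) i = 0 :=
  allB (rngB_step (rngB_step (allB0 _ _) am27O_0) am27O_1) (by decide)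
theorem am23O : ∀ i < 1540, (chkO (c7b.imgL am23) c7b.row ay0 am23Oa (nat_lit 1540) [nat_lit 1298]) i = 0 :=
  allB (rngB_step (rngB_step (allB0 _ _) am23O_0) am23O_1) (by decide)
theorem am22O : ∀ i < 1540, (chkO (c7b.imgL am22) c7b.row ay0 am22Oa (nat_lit 1540) [nat_lit 1298]) i = 0 :=
  allB (rngB_step (rngB_step (allB0 _ _) am22O_0) am22O_1) (by decide)
theorem am14O : ∀ i < 1540, (chkO (c7b.imgL am14) c7b.row ay0 am14Oa (nat_lit 1540) [nat_lit 1298]) i = 0 :=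
  allB (rngB_step (rngB_step (allB0 _ _) am14O_0) am14O_1) (by decide)
theorem am10O : ∀ i < 1540, (chkO (c7b.imgL am10) c7b.row ay0 am10Oa (nat_lit 1540) [nat_lit 1298]) i = 0 :=
  allB (rngB_step (rngB_step (allB0 _ _) am10O_0) am10O_1) (by decide)
theorem am9O : ∀ i < 1540, (chkO (c7b.imgL am9) c7b.row ay0 am9Oa (nat_lit 1540) [nat_lit 1298]) i = 0 :=
  allB (rngB_step (rngB_step (allB0 _ _) am9O_0) am9O_1) (by decide)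
theorem am6O : ∀ i < 1540, (chkO (c7b.imgL am6) c7b.row ay0 am6Oa (nat_lit 1540) [nat_lit 1298]) i = 0 :=
  allB (rngB_step (rngB_step (allB0 _ _) am6O_0) am6O_1) (by decide)
theorem am5O : ∀ i < 1540, (chkO (c7b.imgL am5) c7b.row ay0 am5Oa (nat_lit 1540) [nat_lit 1298]) i = 0 :=
  allB (rngB_step (rngB_step (allB0 _ _) am5O_0) am5O_1) (by decide)
theorem am4O : ∀ i < 1540, (chkO (c7b.imgL am4) c7b.row ay0 am4Oa (nat_lit 1540) [nat_lit 1298]) i = 0 :=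
  allB (rngB_step (rngB_step (allB0 _ _) am4O_0) am4O_1) (by decide)
theorem am1O : ∀ i < 1540, (chkO (c7b.imgL am1) c7b.row ay0 am1Oa (nat_lit 1540) [nat_lit 1298]) i = 0 :=
  allB (rngB_step (rngB_step (allB0 _ _) am1O_0) am1O_1) (by decide)
theorem am0O : ∀ i < 1540, (chkO (c7b.imgL am0) c7b.row ay0 am0Oa (nat_lit 1540) [nat_lit 1298]) i = 0 :=
  allB (rngB_step (rngB_step (allB0 _ _) am0O_0) am0O_1) (by decide)
theorem amax (h0 : ∀ s < 2, (c7md φ inj).In ⊤ (ag0 s)) (ht : (c7md φ inj).gn ag0 2 = ⊤) : ∀ M : Subgroup G, ((c7md φ inj).gn ag1 2) ≤ M → M = ((c7md φ inj).gn ag1 2) ∨ M = ⊤ :=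
  max_of_roots (Y := (fun i => (fun x => ln φ (c7b.vec (ZMod 11) 7 x)) (pt c7b.row ay0 i))) (ht ▸ (aex0 h0).1) (ht ▸ (aex0 h0).2.1)
  (reach_of_chk ((Cfg.Ok.actsL c7b_ok (m := (c7md φ inj)) rfl rfl rfl ag1).ex (aeg1 h0)) aK)
  (List.forall_mem_cons.2 ⟨Or.inl rfl, (List.forall_mem_cons.2 ⟨Or.inr (root_ok (Cfg.Ok.actsL c7b_ok (m := (c7md φ inj)) rfl rfl rfl am0) ((asch0 h0).2.1 (nat_lit 1295) (by decide)).top (aeg1 h0)
    (ht ▸ (aex0 h0).1) (ht ▸ (aex0 h0).2.1) am0M am0O),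
  (List.forall_mem_cons.2 ⟨Or.inr (root_ok (Cfg.Ok.actsL c7b_ok (m := (c7md φ inj)) rfl rfl rfl am1) ((asch0 h0).2.1 (nat_lit 538) (by decide)).top (aeg1 h0)
    (ht ▸ (aex0 h0).1) (ht ▸ (aex0 h0).2.1) am1M am1O),
  (List.forall_mem_cons.2 ⟨Or.inr (root_ok (Cfg.Ok.actsL c7b_ok (m := (c7md φ inj)) rfl rfl rfl am4) ((asch0 h0).2.1 (nat_lit 206) (by decide)).top (aeg1 h0)
    (ht ▸ (aex0 h0).1) (ht ▸ (aex0 h0).2.1) am4M am4O),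
  (List.forall_mem_cons.2 ⟨Or.inr (root_ok (Cfg.Ok.actsL c7b_ok (m := (c7md φ inj)) rfl rfl rfl am5) ((asch0 h0).2.1 (nat_lit 403) (by decide)).top (aeg1 h0)
    (ht ▸ (aex0 h0).1) (ht ▸ (aex0 h0).2.1) am5M am5O),
  (List.forall_mem_cons.2 ⟨Or.inr (root_ok (Cfg.Ok.actsL c7b_ok (m := (c7md φ inj)) rfl rfl rfl am6) ((asch0 h0).2.1 (nat_lit 186) (by decide)).top (aeg1 h0)
    (ht ▸ (aex0 h0).1) (ht ▸ (aex0 h0).2.1) am6M am6O),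
  (List.forall_mem_cons.2 ⟨Or.inr (root_ok (Cfg.Ok.actsL c7b_ok (m := (c7md φ inj)) rfl rfl rfl am9) ((asch0 h0).2.1 (nat_lit 769) (by decide)).top (aeg1 h0)
    (ht ▸ (aex0 h0).1) (ht ▸ (aex0 h0).2.1) am9M am9O),
  (List.forall_mem_cons.2 ⟨Or.inr (root_ok (Cfg.Ok.actsL c7b_ok (m := (c7md φ inj)) rfl rfl rfl am10) ((asch0 h0).2.1 (nat_lit 1399) (by decide)).top (aeg1 h0)
    (ht ▸ (aex0 h0).1) (ht ▸ (aex0 h0).2.1) am10M am10O),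
  (List.forall_mem_cons.2 ⟨Or.inr (root_ok (Cfg.Ok.actsL c7b_ok (m := (c7md φ inj)) rfl rfl rfl am14) ((asch0 h0).2.1 (nat_lit 811) (by decide)).top (aeg1 h0)
    (ht ▸ (aex0 h0).1) (ht ▸ (aex0 h0).2.1) am14M am14O),
  (List.forall_mem_cons.2 ⟨Or.inr (root_ok (Cfg.Ok.actsL c7b_ok (m := (c7md φ inj)) rfl rfl rfl am22) ((asch0 h0).2.1 (nat_lit 391) (by decide)).top (aeg1 h0)
    (ht ▸ (aex0 h0).1) (ht ▸ (aex0 h0).2.1) am22M am22O),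
  (List.forall_mem_cons.2 ⟨Or.inr (root_ok (Cfg.Ok.actsL c7b_ok (m := (c7md φ inj)) rfl rfl rfl am23) ((asch0 h0).2.1 (nat_lit 975) (by decide)).top (aeg1 h0)
    (ht ▸ (aex0 h0).1) (ht ▸ (aex0 h0).2.1) am23M am23O),
  (List.forall_mem_cons.2 ⟨Or.inr (root_ok (Cfg.Ok.actsL c7b_ok (m := (c7md φ inj)) rfl rfl rfl am27) ((asch0 h0).2.1 (nat_lit 1503) (by decide)).top (aeg1 h0)
    (ht ▸ (aex0 h0).1) (ht ▸ (aex0 h0).2.1) am27M am27O),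
  (List.forall_mem_cons.2 ⟨Or.inr (root_ok (Cfg.Ok.actsL c7b_ok (m := (c7md φ inj)) rfl rfl rfl am28) ((asch0 h0).2.1 (nat_lit 259) (by decide)).top (aeg1 h0)
    (ht ▸ (aex0 h0).1) (ht ▸ (aex0 h0).2.1) am28M am28O),
  (List.forall_mem_cons.2 ⟨Or.inr (root_ok (Cfg.Ok.actsL c7b_ok (m := (c7md φ inj)) rfl rfl rfl am31) ((asch0 h0).2.1 (nat_lit 1302) (by decide)).top (aeg1 h0)
    (ht ▸ (aex0 h0).1) (ht ▸ (aex0 h0).2.1) am31M am31O),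
  (List.forall_mem_cons.2 ⟨Or.inr (root_ok (Cfg.Ok.actsL c7b_ok (m := (c7md φ inj)) rfl rfl rfl am38) ((asch0 h0).2.1 (nat_lit 187) (by decide)).top (aeg1 h0)
    (ht ▸ (aex0 h0).1) (ht ▸ (aex0 h0).2.1) am38M am38O),
  (List.forall_mem_cons.2 ⟨Or.inr (root_ok (Cfg.Ok.actsL c7b_ok (m := (c7md φ inj)) rfl rfl rfl am39) ((asch0 h0).2.1 (nat_lit 246) (by decide)).top (aeg1 h0)
    (ht ▸ (aex0 h0).1) (ht ▸ (aex0 h0).2.1) am39M am39O),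
  (List.forall_mem_cons.2 ⟨Or.inr (root_ok (Cfg.Ok.actsL c7b_ok (m := (c7md φ inj)) rfl rfl rfl am42) ((asch0 h0).2.1 (nat_lit 1408) (by decide)).top (aeg1 h0)
    (ht ▸ (aex0 h0).1) (ht ▸ (aex0 h0).2.1) am42M am42O),
  (List.forall_mem_cons.2 ⟨Or.inr (root_ok (Cfg.Ok.actsL c7b_ok (m := (c7md φ inj)) rfl rfl rfl am53) ((asch0 h0).2.1 (nat_lit 856) (by decide)).top (aeg1 h0)
    (ht ▸ (aex0 h0).1) (ht ▸ (aex0 h0).2.1) am53M am53O),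
  (List.forall_mem_cons.2 ⟨Or.inr (root_ok (Cfg.Ok.actsL c7b_ok (m := (c7md φ inj)) rfl rfl rfl am56) ((asch0 h0).2.1 (nat_lit 971) (by decide)).top (aeg1 h0)
    (ht ▸ (aex0 h0).1) (ht ▸ (aex0 h0).2.1) am56M am56O),
  (List.forall_mem_cons.2 ⟨Or.inr (root_ok (Cfg.Ok.actsL c7b_ok (m := (c7md φ inj)) rfl rfl rfl am73) ((asch0 h0).2.1 (nat_lit 1171) (by decide)).top (aeg1 h0)
    (ht ▸ (aex0 h0).1) (ht ▸ (aex0 h0).2.1) am73M am73O),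
  (List.forall_mem_cons.2 ⟨Or.inr (root_ok (Cfg.Ok.actsL c7b_ok (m := (c7md φ inj)) rfl rfl rfl am84) ((asch0 h0).2.1 (nat_lit 1023) (by decide)).top (aeg1 h0)
    (ht ▸ (aex0 h0).1) (ht ▸ (aex0 h0).2.1) am84M am84O),
  (fun _ h => absurd h List.not_mem_nil)⟩)⟩)⟩)⟩)⟩)⟩)⟩)⟩)⟩)⟩)⟩)⟩)⟩)⟩)⟩)⟩)⟩)⟩)⟩)⟩)⟩)
theorem acore1 (h0 : ∀ s < 2, (c7md φ inj).In ⊤ (ag0 s)) (N : Subgroup G) (hN : N.Normal) (h : N ≤ ((c7md φ inj).gn ag1 2)) : N ≤ ((c7md φ inj).gn ag1 2) := h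
theorem acore2 (h0 : ∀ s < 2, (c7md φ inj).In ⊤ (ag0 s)) (N : Subgroup G) (hN : N.Normal) (h : N ≤ ((c7md φ inj).gn ag1 2)) : N ≤ (⊥ : Subgroup G) :=
  (le_inf (acore1 h0 N hN h) (normal_le_stab hN (h.trans afx0) (mem_orbit_of_eq (aex0 h0).1 (j := (nat_lit 1349)) (by decide) (congrArg (fun x => ln φ (c7b.vec (ZMod 11) 7 x)) acp1)))).trans (aex1 h0).2.1.le
theorem aP : ∀ i < 2, (chkP c7.mul c7.one ag0 ae0 [[nat_lit 61],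
  [nat_lit 35204, nat_lit 187530]] (nat_lit 7)) i = 0 :=
  (rng_step (all0 _) aP_0)
theorem aI : ∀ i < 2, (chkI c7.mul c7.one ag0 ai) i = 0 :=
  (rng_step (all0 _) aI_0)

end Cfsg.Agent.H5.J1
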