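import Cfsg.Agent.H5.J2xD0

set_option autoImplicit false
set_option maxRecDepth 100000

namespace Cfsg.Agent.H5.J2

theorem ag0I0_0 : rng ag0I0f (nat_lit 0) (nat_lit 4) = 0 := by decide +kernel
theorem ag1I0_0 : rng ag1I0f (nat_lit 0) (nat_lit 2) = 0 := by decide +kernel
theorem ag2I0_0 : rng ag2I0f (nat_lit 0) (nat_lit 2) = 0 := by decide +kernel
theorem ag3I0_0 : rng ag3I0f (nat_lit 0) (nat_lit 3) = 0 := by decide +kernel
theorem ag4I0_0 : rng ag4I0f (nat_lit 0) (nat_lit 2) = 0 := by decide +kernel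
theorem aW0_0 : rng aW0f (nat_lit 0) (nat_lit 2) = 0 := by decide +kernel
theorem aW1_0 : rng aW1f (nat_lit 0) (nat_lit 2) = 0 := by decide +kernel
theorem aW2_0 : rng aW2f (nat_lit 0) (nat_lit 3) = 0 := by decide +kernel
theorem aW3_0 : rng aW3f (nat_lit 0) (nat_lit 2) = 0 := by decide +kernel
theorem aS4_0 : rng aS4f (nat_lit 0) (nat_lit 2) = 0 := by decide +kernel
theorem aT0_4 : aT4 0 = c24.one := by decide +kernel
theorem aS3_0 : rng aS3f (nat_lit 0) (nat_lit 8) = 0 := by decide +kernel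
theorem aT0_3 : aT3 0 = c24.one := by decide +kernel
theorem aS2_0 : rng aS2f (nat_lit 0) (nat_lit 21) = 0 := by decide +kernel
theorem aT0_2 : aT2 0 = c24.one := by decide +kernel
theorem aS1_0 : rng aS1f (nat_lit 0) (nat_lit 36) = 0 := by decide +kernel
theorem aT0_1 : aT1 0 = c24.one := by decide +kernel
theorem aS0_0 : rng aS0f (nat_lit 0) (nat_lit 62) = 0 := by decide +kernel
theorem aS0_1 : rng aS0f (nat_lit 62) (nat_lit 38) = 0 := by decide +kernel
theorem aT0_0 : aT0 0 = c24.one := by decide +kernel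
theorem ay4Y_0 : rngB ay4Yf (nat_lit 2) (nat_lit 0) (nat_lit 1) = 0 := by decide +kernel
theorem aO4_0 : rngB aO4f (nat_lit 2) (nat_lit 0) (nat_lit 1) = 0 := by decide +kernel
theorem ay3Y_0 : rngB ay3Yf (nat_lit 8) (nat_lit 0) (nat_lit 1) = 0 := by decide +kernel
theorem aO3_0 : rngB aO3f (nat_lit 8) (nat_lit 0) (nat_lit 1) = 0 := by decide +kernel
theorem aF3_0 : rng aF3f (nat_lit 0) (nat_lit 2) = 0 := by decide +kernel
theorem ay2Y_0 : rngB ay2Yf (nat_lit 21) (nat_lit 0) (nat_lit 1) = 0 := by decide +kernel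
theorem aO2_0 : rngB aO2f (nat_lit 21) (nat_lit 0) (nat_lit 1) = 0 := by decide +kernel
theorem aF2_0 : rng aF2f (nat_lit 0) (nat_lit 3) = 0 := by decide +kernel
theorem ay1Y_0 : rngB ay1Yf (nat_lit 36) (nat_lit 0) (nat_lit 1) = 0 := by decide +kernel
theorem aO1_0 : rngB aO1f (nat_lit 36) (nat_lit 0) (nat_lit 1) = 0 := by decide +kernel
theorem aF1_0 : rng aF1f (nat_lit 0) (nat_lit 2) = 0 := by decide +kernel
theorem ay0Y_0 : rngB ay0Yf (nat_lit 100) (nat_lit 0) (nat_lit 2) = 0 := by decide +kernel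
theorem aO0_0 : rngB aO0f (nat_lit 100) (nat_lit 0) (nat_lit 2) = 0 := by decide +kernel
theorem aF0_0 : rng aF0f (nat_lit 0) (nat_lit 2) = 0 := by decide +kernel
theorem aK_0 : rngB aKf (nat_lit 100) (nat_lit 0) (nat_lit 2) = 0 := by decide +kernel
theorem am2J : c24.mul (aT0 (nat_lit 83)) (am2t 0) = c24.one := by decide +kernel
theorem am2M : chkM (imgC c24.mul am2 am2i ay0) (rowC ay0) id (nat_lit 1) id [nat_lit 2] [nat_lit 0] 0 = 0 := by decide +kernel
theorem am2O_0 : rngB am2Of (nat_lit 100) (nat_lit 0) (nat_lit 2) = 0 := by decide +kernel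
theorem am0J : c24.mul (aT0 (nat_lit 1)) (am0t 0) = c24.one := by decide +kernel
theorem am0M : chkM (imgC c24.mul am0 am0i ay0) (rowC ay0) id (nat_lit 1) id [nat_lit 0] [nat_lit 0] 0 = 0 := by decide +kernel
theorem am0O_0 : rngB am0Of (nat_lit 100) (nat_lit 0) (nat_lit 2) = 0 := by decide +kernel
theorem acp1 : pt (rowC ay1) id (nat_lit 30) = pt (rowC ay0) id (nat_lit 89) := by decide +kernel
theorem acp2 : pt (rowC ay2) id (nat_lit 0) = pt (rowC ay0) id (nat_lit 5) := by decide +kernel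
theorem acp3 : pt (rowC ay3) id (nat_lit 3) = pt (rowC ay0) id (nat_lit 30) := by decide +kernel
theorem aP_0 : rng aPf (nat_lit 0) (nat_lit 4) = 0 := by decide +kernel
theorem wY_0 : rngB wYf (nat_lit 63) (nat_lit 0) (nat_lit 1) = 0 := by decide +kernel
theorem wO_0 : rngB wOf (nat_lit 63) (nat_lit 0) (nat_lit 1) = 0 := by decide +kernel
theorem wC0_0 : rngB wC0f (nat_lit 63) (nat_lit 0) (nat_lit 1) = 0 := by decide +kernel
theorem wC1_0 : rngB wC1f (nat_lit 63) (nat_lit 0) (nat_lit 1) = 0 := by decide +kernel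
theorem wcp : pt (rowC w) id (nat_lit 0) = pt (rowC ay0) id (nat_lit 0) := by decide +kernel
theorem cW0_0 : rng cW0f (nat_lit 0) (nat_lit 4) = 0 := by decide +kernel
theorem cy1Y_0 : rngB cy1Yf (nat_lit 32) (nat_lit 0) (nat_lit 1) = 0 := by decide +kernel
theorem cO1_0 : rngB cO1f (nat_lit 32) (nat_lit 0) (nat_lit 1) = 0 := by decide +kernel
theorem cy0Y_0 : rngB cy0Yf (nat_lit 120) (nat_lit 0) (nat_lit 2) = 0 := by decide +kernel
theorem cO0_0 : rngB cO0f (nat_lit 120) (nat_lit 0) (nat_lit 2) = 0 := by decide +kernel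
theorem cF0_0 : rng cF0f (nat_lit 0) (nat_lit 4) = 0 := by decide +kernel
theorem cE_0 : rng cEf (nat_lit 0) (nat_lit 2) = 0 := by decide +kernel
theorem cZ_0 : rng cZf (nat_lit 0) (nat_lit 2) = 0 := by decide +kernel
theorem qS0_0 : rng qS0f (nat_lit 0) (nat_lit 64) = 0 := by decide +kernel
theorem qT0_0 : qT0 0 = c24.one := by decide +kernel
theorem qy0Y_0 : rngB qy0Yf (nat_lit 64) (nat_lit 0) (nat_lit 1) = 0 := by decide +kernel
theorem qO0_0 : rngB qO0f (nat_lit 64) (nat_lit 0) (nat_lit 1) = 0 := by decide +kernel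
theorem pW0_0 : rng pW0f (nat_lit 0) (nat_lit 2) = 0 := by decide +kernel
theorem pW1_0 : rng pW1f (nat_lit 0) (nat_lit 2) = 0 := by decide +kernel
theorem py2Y_0 : rngB py2Yf (nat_lit 3) (nat_lit 0) (nat_lit 1) = 0 := by decide +kernel
theorem pO2_0 : rngB pO2f (nat_lit 3) (nat_lit 0) (nat_lit 1) = 0 := by decide +kernel
theorem py1Y_0 : rngB py1Yf (nat_lit 4) (nat_lit 0) (nat_lit 1) = 0 := by decide +kernel
theorem pO1_0 : rngB pO1f (nat_lit 4) (nat_lit 0) (nat_lit 1) = 0 := by decide +kernel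
theorem pF1_0 : rng pF1f (nat_lit 0) (nat_lit 2) = 0 := by decide +kernel
theorem py0Y_0 : rngB py0Yf (nat_lit 5) (nat_lit 0) (nat_lit 1) = 0 := by decide +kernel
theorem pO0_0 : rngB pO0f (nat_lit 5) (nat_lit 0) (nat_lit 1) = 0 := by decide +kernel
theorem pF0_0 : rng pF0f (nat_lit 0) (nat_lit 2) = 0 := by decide +kernel
theorem eW0_0 : rng eW0f (nat_lit 0) (nat_lit 4) = 0 := by decide +kernel
theorem eS1_0 : rng eS1f (nat_lit 0) (nat_lit 32) = 0 := by decide +kernel
theorem eT0_1 : eT1 0 = p5one := by decide +kernel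
theorem eS0_0 : rng eS0f (nat_lit 0) (nat_lit 120) = 0 := by decide +kernel
theorem eT0_0 : eT0 0 = p5one := by decide +kernel
theorem qE_0 : rng qEf (nat_lit 0) (nat_lit 4) = 0 := by decide +kernel
theorem qE_1 : rng qEf (nat_lit 4) (nat_lit 1) = 0 := by decide +kernel
theorem eP_0 : rng ePf (nat_lit 0) (nat_lit 2) = 0 := by decide +kernel
theorem qP_0 : rng qPf (nat_lit 0) (nat_lit 4) = 0 := by decide +kernel
theorem qP_1 : rng qPf (nat_lit 4) (nat_lit 1) = 0 := by decide +kernel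
theorem sW0_0 : rng sW0f (nat_lit 0) (nat_lit 3) = 0 := by decide +kernel
theorem sW1_0 : rng sW1f (nat_lit 0) (nat_lit 2) = 0 := by decide +kernel
theorem sy2Y_0 : rngB sy2Yf (nat_lit 2) (nat_lit 0) (nat_lit 1) = 0 := by decide +kernel
theorem sO2_0 : rngB sO2f (nat_lit 2) (nat_lit 0) (nat_lit 1) = 0 := by decide +kernel
theorem sy1Y_0 : rngB sy1Yf (nat_lit 27) (nat_lit 0) (nat_lit 1) = 0 := by decide +kernel
theorem sO1_0 : rngB sO1f (nat_lit 27) (nat_lit 0) (nat_lit 1) = 0 := by decide +kernel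
theorem sF1_0 : rng sF1f (nat_lit 0) (nat_lit 2) = 0 := by decide +kernel
theorem sy0Y_0 : rngB sy0Yf (nat_lit 112) (nat_lit 0) (nat_lit 2) = 0 := by decide +kernel
theorem sO0_0 : rngB sO0f (nat_lit 112) (nat_lit 0) (nat_lit 2) = 0 := by decide +kernel
theorem sF0_0 : rng sF0f (nat_lit 0) (nat_lit 3) = 0 := by decide +kernel
theorem dW0_0 : rng dW0f (nat_lit 0) (nat_lit 2) = 0 := by decide +kernel
theorem dW1_0 : rng dW1f (nat_lit 0) (nat_lit 2) = 0 := by decide +kernel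
theorem dS2_0 : rng dS2f (nat_lit 0) (nat_lit 2) = 0 := by decide +kernel
theorem dT0_2 : dT2 0 = p6one := by decide +kernel
theorem dS1_0 : rng dS1f (nat_lit 0) (nat_lit 27) = 0 := by decide +kernel
theorem dT0_1 : dT1 0 = p6one := by decide +kernel
theorem dS0_0 : rng dS0f (nat_lit 0) (nat_lit 187) = 0 := by decide +kernel
theorem dS0_1 : rng dS0f (nat_lit 187) (nat_lit 37) = 0 := by decide +kernel
theorem dT0_0 : dT0 0 = p6one := by decide +kernel
theorem dP_0 : rng dPf (nat_lit 0) (nat_lit 2) = 0 := by decide +kernel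
theorem zE_0 : rng zEf (nat_lit 0) (nat_lit 1) = 0 := by decide +kernel
theorem zP_0 : rng zPf (nat_lit 0) (nat_lit 1) = 0 := by decide +kernel

end Cfsg.Agent.H5.J2
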