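import Cfsg.Agent.H5.J2xC0

set_option autoImplicit false
set_option maxRecDepth 100000

namespace Cfsg.Agent.H5.J2

open Mdl

set_option linter.unusedSectionVars false
set_option linter.unusedVariables false
attribute [local irreducible] look Tr.get

variable {G : Type*} [Group G] [Finite G] {φ : G →* Matrix (Fin 24) (Fin 24) (ZMod 11)} {inj : Function.Injective φ}

theorem ag0I0 : ∀ i < 4, (chkI c24.mul c24.one ag0 ag0i) i = 0 :=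
  (rng_step (all0 _) ag0I0_0)
theorem ag0I : (c24md φ inj).Inv ag0 ag0i := inv_of_chkI ag0I0
theorem ag1I0 : ∀ i < 2, (chkI c24.mul c24.one ag1 ag1i) i = 0 :=
  (rng_step (all0 _) ag1I0_0)
theorem ag1I : (c24md φ inj).Inv ag1 ag1i := inv_of_chkI ag1I0
theorem ag2I0 : ∀ i < 2, (chkI c24.mul c24.one ag2 ag2i) i = 0 :=
  (rng_step (all0 _) ag2I0_0)
theorem ag2I : (c24md φ inj).Inv ag2 ag2i := inv_of_chkI ag2I0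
theorem ag3I0 : ∀ i < 3, (chkI c24.mul c24.one ag3 ag3i) i = 0 :=
  (rng_step (all0 _) ag3I0_0)
theorem ag3I : (c24md φ inj).Inv ag3 ag3i := inv_of_chkI ag3I0
theorem ag4I0 : ∀ i < 2, (chkI c24.mul c24.one ag4 ag4i) i = 0 :=
  (rng_step (all0 _) ag4I0_0)
theorem ag4I : (c24md φ inj).Inv ag4 ag4i := inv_of_chkI ag4I0
theorem atop0 (h0 : ∀ s < 4, (c24md φ inj).In ⊤ (ag0 s)) : ∀ s < 4, (c24md φ inj).In ⊤ (ag0 s) := h0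
theorem aeg0 (h0 : ∀ s < 4, (c24md φ inj).In ⊤ (ag0 s)) : (c24md φ inj).El ((c24md φ inj).gn ag0 4) ag0 := el_gn (atop0 h0)
theorem aW0 : ∀ i < 2, (chkW c24.mul c24.one ag0 [[nat_lit 0, nat_lit 1, nat_lit 3, nat_lit 0, nat_lit 2, nat_lit 1, nat_lit 0, nat_lit 1, nat_lit 2, nat_lit 3],
  [nat_lit 2, nat_lit 0, nat_lit 3, nat_lit 2, nat_lit 0, nat_lit 2, nat_lit 3, nat_lit 0, nat_lit 2, nat_lit 1]] ag1) i = 0 :=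
  (rng_step (all0 _) aW0_0)
theorem ain1 (h0 : ∀ s < 4, (c24md φ inj).In ⊤ (ag0 s)) : ∀ s < 2, (c24md φ inj).In ((c24md φ inj).gn ag0 4) (ag1 s) := in_of_chkW (aeg0 h0) aW0
theorem atop1 (h0 : ∀ s < 4, (c24md φ inj).In ⊤ (ag0 s)) : ∀ s < 2, (c24md φ inj).In ⊤ (ag1 s) := fun s hs => (ain1 h0 s hs).top
theorem ale0 (h0 : ∀ s < 4, (c24md φ inj).In ⊤ (ag0 s)) : ((c24md φ inj).gn ag1 2) ≤ ((c24md φ inj).gn ag0 4) := gn_le (ain1 h0)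
theorem aeg1 (h0 : ∀ s < 4, (c24md φ inj).In ⊤ (ag0 s)) : (c24md φ inj).El ((c24md φ inj).gn ag1 2) ag1 := el_gn (atop1 h0)
theorem aW1 : ∀ i < 2, (chkW c24.mul c24.one ag1 [[nat_lit 0, nat_lit 0, nat_lit 1, nat_lit 1, nat_lit 0, nat_lit 1, nat_lit 1, nat_lit 0, nat_lit 1, nat_lit 1, nat_lit 0],
  [nat_lit 1, nat_lit 1, nat_lit 0, nat_lit 1, nat_lit 0, nat_lit 1, nat_lit 0, nat_lit 0, nat_lit 0, nat_lit 0, nat_lit 1]] ag2) i = 0 :=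
  (rng_step (all0 _) aW1_0)
theorem ain2 (h0 : ∀ s < 4, (c24md φ inj).In ⊤ (ag0 s)) : ∀ s < 2, (c24md φ inj).In ((c24md φ inj).gn ag1 2) (ag2 s) := in_of_chkW (aeg1 h0) aW1
theorem atop2 (h0 : ∀ s < 4, (c24md φ inj).In ⊤ (ag0 s)) : ∀ s < 2, (c24md φ inj).In ⊤ (ag2 s) := fun s hs => (ain2 h0 s hs).top
theorem ale1 (h0 : ∀ s < 4, (c24md φ inj).In ⊤ (ag0 s)) : ((c24md φ inj).gn ag2 2) ≤ ((c24md φ inj).gn ag1 2) := gn_le (ain2 h0)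
theorem aeg2 (h0 : ∀ s < 4, (c24md φ inj).In ⊤ (ag0 s)) : (c24md φ inj).El ((c24md φ inj).gn ag2 2) ag2 := el_gn (atop2 h0)
theorem aW2 : ∀ i < 3, (chkW c24.mul c24.one ag2 [[nat_lit 0, nat_lit 0, nat_lit 0, nat_lit 0, nat_lit 0, nat_lit 0, nat_lit 1, nat_lit 0, nat_lit 1, nat_lit 0],
  [nat_lit 0, nat_lit 1, nat_lit 1, nat_lit 0, nat_lit 1, nat_lit 1, nat_lit 0, nat_lit 0, nat_lit 1, nat_lit 0, nat_lit 1],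
  [nat_lit 0, nat_lit 0, nat_lit 0, nat_lit 1, nat_lit 1, nat_lit 0, nat_lit 0, nat_lit 1, nat_lit 1]] ag3) i = 0 :=
  (rng_step (all0 _) aW2_0)
theorem ain3 (h0 : ∀ s < 4, (c24md φ inj).In ⊤ (ag0 s)) : ∀ s < 3, (c24md φ inj).In ((c24md φ inj).gn ag2 2) (ag3 s) := in_of_chkW (aeg2 h0) aW2
theorem atop3 (h0 : ∀ s < 4, (c24md φ inj).In ⊤ (ag0 s)) : ∀ s < 3, (c24md φ inj).In ⊤ (ag3 s) := fun s hs => (ain3 h0 s hs).top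
theorem ale2 (h0 : ∀ s < 4, (c24md φ inj).In ⊤ (ag0 s)) : ((c24md φ inj).gn ag3 3) ≤ ((c24md φ inj).gn ag2 2) := gn_le (ain3 h0)
theorem aeg3 (h0 : ∀ s < 4, (c24md φ inj).In ⊤ (ag0 s)) : (c24md φ inj).El ((c24md φ inj).gn ag3 3) ag3 := el_gn (atop3 h0)
theorem aW3 : ∀ i < 2, (chkW c24.mul c24.one ag3 [[nat_lit 0, nat_lit 0, nat_lit 1, nat_lit 2, nat_lit 2, nat_lit 2, nat_lit 0, nat_lit 2],
  [nat_lit 1, nat_lit 2, nat_lit 1, nat_lit 0, nat_lit 0, nat_lit 1, nat_lit 2, nat_lit 0]] ag4) i = 0 :=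
  (rng_step (all0 _) aW3_0)
theorem ain4 (h0 : ∀ s < 4, (c24md φ inj).In ⊤ (ag0 s)) : ∀ s < 2, (c24md φ inj).In ((c24md φ inj).gn ag3 3) (ag4 s) := in_of_chkW (aeg3 h0) aW3
theorem atop4 (h0 : ∀ s < 4, (c24md φ inj).In ⊤ (ag0 s)) : ∀ s < 2, (c24md φ inj).In ⊤ (ag4 s) := fun s hs => (ain4 h0 s hs).top
theorem ale3 (h0 : ∀ s < 4, (c24md φ inj).In ⊤ (ag0 s)) : ((c24md φ inj).gn ag4 2) ≤ ((c24md φ inj).gn ag3 3) := gn_le (ain4 h0)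
theorem aeg4 (h0 : ∀ s < 4, (c24md φ inj).In ⊤ (ag0 s)) : (c24md φ inj).El ((c24md φ inj).gn ag4 2) ag4 := el_gn (atop4 h0)
theorem ale4 (h0 : ∀ s < 4, (c24md φ inj).In ⊤ (ag0 s)) : (⊥ : Subgroup G) ≤ ((c24md φ inj).gn ag4 2) := bot_le
theorem ael5 (h0 : ∀ s < 4, (c24md φ inj).In ⊤ (ag0 s)) : (c24md φ inj).El ⊥ ae5 := el_one _
theorem aub5 (h0 : ∀ s < 4, (c24md φ inj).In ⊤ (ag0 s)) : Nat.card (⊥ : Subgroup G) ≤ 1 := card_bot_le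
theorem aS4 : ∀ i < 2, (chkS c24.mul ag4 (nat_lit 2) aT4 ae5 ac4 (nat_lit 1) (nat_lit 2)) i = 0 :=
  (rng_step (all0 _) aS4_0)
theorem asch4 (h0 : ∀ s < 4, (c24md φ inj).In ⊤ (ag0 s)) : (∀ g ∈ ((c24md φ inj).gn ag4 2), ∃ i < 2, (c24md φ inj).Cos (⊥ : Subgroup G) aT4 g i) ∧ (∀ i < 2, (c24md φ inj).In ((c24md φ inj).gn ag4 2) (aT4 i)) ∧ Nat.card ((c24md φ inj).gn ag4 2) ≤ 2 * Nat.card (⊥ : Subgroup G) :=
  schreier (ael5 h0) (by decide) aT0_4 (atop4 h0) (ale4 h0) aS4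
theorem ael4 (h0 : ∀ s < 4, (c24md φ inj).In ⊤ (ag0 s)) : (c24md φ inj).El ((c24md φ inj).gn ag4 2) ae4 := (el_of_pad (asch4 h0).2.1).cel0 _
theorem aub4 (h0 : ∀ s < 4, (c24md φ inj).In ⊤ (ag0 s)) : Nat.card ((c24md φ inj).gn ag4 2) ≤ 2 := (upper (asch4 h0).2.2 (aub5 h0)).trans (by norm_num)
theorem aS3 : ∀ i < 8, (chkS c24.mul ag3 (nat_lit 3) aT3 ae4 ac3 (nat_lit 3) (nat_lit 8)) i = 0 :=
  (rng_step (all0 _) aS3_0)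
theorem asch3 (h0 : ∀ s < 4, (c24md φ inj).In ⊤ (ag0 s)) : (∀ g ∈ ((c24md φ inj).gn ag3 3), ∃ i < 8, (c24md φ inj).Cos ((c24md φ inj).gn ag4 2) aT3 g i) ∧ (∀ i < 8, (c24md φ inj).In ((c24md φ inj).gn ag3 3) (aT3 i)) ∧ Nat.card ((c24md φ inj).gn ag3 3) ≤ 8 * Nat.card ((c24md φ inj).gn ag4 2) :=
  schreier (ael4 h0) (by decide) aT0_3 (atop3 h0) (ale3 h0) aS3
theorem ael3 (h0 : ∀ s < 4, (c24md φ inj).In ⊤ (ag0 s)) : (c24md φ inj).El ((c24md φ inj).gn ag3 3) ae3 := (el_of_pad (asch3 h0).2.1).cel ((ael4 h0).mono (ale3 h0)) _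
theorem aub3 (h0 : ∀ s < 4, (c24md φ inj).In ⊤ (ag0 s)) : Nat.card ((c24md φ inj).gn ag3 3) ≤ 16 := (upper (asch3 h0).2.2 (aub4 h0)).trans (by norm_num)
theorem aS2 : ∀ i < 21, (chkS c24.mul ag2 (nat_lit 2) aT2 ae3 ac2 (nat_lit 5) (nat_lit 21)) i = 0 :=
  (rng_step (all0 _) aS2_0)
theorem asch2 (h0 : ∀ s < 4, (c24md φ inj).In ⊤ (ag0 s)) : (∀ g ∈ ((c24md φ inj).gn ag2 2), ∃ i < 21, (c24md φ inj).Cos ((c24md φ inj).gn ag3 3) aT2 g i) ∧ (∀ i < 21, (c24md φ inj).In ((c24md φ inj).gn ag2 2) (aT2 i)) ∧ Nat.card ((c24md φ inj).gn ag2 2) ≤ 21 * Nat.card ((c24md φ inj).gn ag3 3) :=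
  schreier (ael3 h0) (by decide) aT0_2 (atop2 h0) (ale2 h0) aS2
theorem ael2 (h0 : ∀ s < 4, (c24md φ inj).In ⊤ (ag0 s)) : (c24md φ inj).El ((c24md φ inj).gn ag2 2) ae2 := (el_of_pad (asch2 h0).2.1).cel ((ael3 h0).mono (ale2 h0)) _
theorem aub2 (h0 : ∀ s < 4, (c24md φ inj).In ⊤ (ag0 s)) : Nat.card ((c24md φ inj).gn ag2 2) ≤ 336 := (upper (asch2 h0).2.2 (aub3 h0)).trans (by norm_num)
theorem aS1 : ∀ i < 36, (chkS c24.mul ag1 (nat_lit 2) aT1 ae2 ac1 (nat_lit 6) (nat_lit 36)) i = 0 :=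
  (rng_step (all0 _) aS1_0)
theorem asch1 (h0 : ∀ s < 4, (c24md φ inj).In ⊤ (ag0 s)) : (∀ g ∈ ((c24md φ inj).gn ag1 2), ∃ i < 36, (c24md φ inj).Cos ((c24md φ inj).gn ag2 2) aT1 g i) ∧ (∀ i < 36, (c24md φ inj).In ((c24md φ inj).gn ag1 2) (aT1 i)) ∧ Nat.card ((c24md φ inj).gn ag1 2) ≤ 36 * Nat.card ((c24md φ inj).gn ag2 2) :=
  schreier (ael2 h0) (by decide) aT0_1 (atop1 h0) (ale1 h0) aS1
theorem ael1 (h0 : ∀ s < 4, (c24md φ inj).In ⊤ (ag0 s)) : (c24md φ inj).El ((c24md φ inj).gn ag1 2) ae1 := (el_of_pad (asch1 h0).2.1).cel ((ael2 h0).mono (ale1 h0)) _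
theorem aub1 (h0 : ∀ s < 4, (c24md φ inj).In ⊤ (ag0 s)) : Nat.card ((c24md φ inj).gn ag1 2) ≤ 12096 := (upper (asch1 h0).2.2 (aub2 h0)).trans (by norm_num)
theorem aS0 : ∀ i < 100, (chkS c24.mul ag0 (nat_lit 4) aT0 ae1 ac0 (nat_lit 7) (nat_lit 100)) i = 0 :=
  (rng_step (rng_step (all0 _) aS0_0) aS0_1)
theorem asch0 (h0 : ∀ s < 4, (c24md φ inj).In ⊤ (ag0 s)) : (∀ g ∈ ((c24md φ inj).gn ag0 4), ∃ i < 100, (c24md φ inj).Cos ((c24md φ inj).gn ag1 2) aT0 g i) ∧ (∀ i < 100, (c24md φ inj).In ((c24md φ inj).gn ag0 4) (aT0 i)) ∧ Nat.card ((c24md φ inj).gn ag0 4) ≤ 100 * Nat.card ((c24md φ inj).gn ag1 2) :=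
  schreier (ael1 h0) (by decide) aT0_0 (atop0 h0) (ale0 h0) aS0
theorem ael0 (h0 : ∀ s < 4, (c24md φ inj).In ⊤ (ag0 s)) : (c24md φ inj).El ((c24md φ inj).gn ag0 4) ae0 := (el_of_pad (asch0 h0).2.1).cel ((ael1 h0).mono (ale0 h0)) _
theorem aub0 (h0 : ∀ s < 4, (c24md φ inj).In ⊤ (ag0 s)) : Nat.card ((c24md φ inj).gn ag0 4) ≤ 1209600 := (upper (asch0 h0).2.2 (aub1 h0)).trans (by norm_num)
theorem alb5 (h0 : ∀ s < 4, (c24md φ inj).In ⊤ (ag0 s)) : 1 ≤ Nat.card (⊥ : Subgroup G) := one_le_card _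
theorem ay4Y : ∀ i < 2, (chkY c24b.canV c24b.row ay4 (nat_lit 2)) i = 0 :=
  allB (rngB_step (allB0 _ _) ay4Y_0) (by decide)
theorem ay4D : Dist (fun i => (fun x => (⟨c24b.vec (ZMod 11) 24 x⟩ : Vc φ)) (pt c24b.row ay4 i)) 2 :=
  dist_of_chk (@Cfg.Ok.canT G _ _ _ _ c24b (ZMod.charP 11) c24b_ok rfl rfl φ) ay4Y
theorem aO4 : ∀ i < 2, (chkO (c24b.imgV ag4) c24b.row ay4 aO4a (nat_lit 2) [nat_lit 0]) i = 0 :=
  allB (rngB_step (allB0 _ _) aO4_0) (by decide)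
theorem aR4 (h0 : ∀ s < 4, (c24md φ inj).In ⊤ (ag0 s)) : Reach ((c24md φ inj).gn ag4 2) (fun i => (fun x => (⟨c24b.vec (ZMod 11) 24 x⟩ : Vc φ)) (pt c24b.row ay4 i)) 2 [nat_lit 0] :=
  reach_of_chk (pv := (fun x => (⟨c24b.vec (ZMod 11) 24 x⟩ : Vc φ))) ((@Cfg.Ok.acts G _ _ _ _ c24b (ZMod.charP 11) c24b_ok rfl rfl (c24md φ inj) rfl ag4).ex (aeg4 h0)) aO4
theorem afx4 : (⊥ : Subgroup G) ≤ MulAction.stabilizer G ((fun i => (fun x => (⟨c24b.vec (ZMod 11) 24 x⟩ : Vc φ)) (pt c24b.row ay4 i)) (nat_lit 0)) := bot_le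
theorem alb4 (h0 : ∀ s < 4, (c24md φ inj).In ⊤ (ag0 s)) : 2 ≤ Nat.card ((c24md φ inj).gn ag4 2) :=
  le_of_eq_of_le (by norm_num) (lower ay4D (aR4 h0) (ale4 h0) afx4 (alb5 h0))
theorem aex4 (h0 : ∀ s < 4, (c24md φ inj).In ⊤ (ag0 s)) : MulAction.orbit ((c24md φ inj).gn ag4 2) ((fun i => (fun x => (⟨c24b.vec (ZMod 11) 24 x⟩ : Vc φ)) (pt c24b.row ay4 i)) (nat_lit 0)) = (fun i => (fun x => (⟨c24b.vec (ZMod 11) 24 x⟩ : Vc φ)) (pt c24b.row ay4 i)) '' {i | i < 2} ∧ ((c24md φ inj).gn ag4 2) ⊓ MulAction.stabilizer G ((fun i => (fun x => (⟨c24b.vec (ZMod 11) 24 x⟩ : Vc φ)) (pt c24b.row ay4 i)) (nat_lit 0)) = (⊥ : Subgroup G) ∧ Nat.card ((c24md φ inj).gn ag4 2) = 2 * 1 ∧ Nat.card (⊥ : Subgroup G) = 1 :=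
  exact ay4D (aR4 h0) (ale4 h0) afx4 (alb5 h0) ((aub4 h0).trans (by norm_num))
theorem ay3Y : ∀ i < 8, (chkY (canC c24.mul c24.one ay3) (rowC ay3) id (nat_lit 8)) i = 0 :=
  allB (rngB_step (allB0 _ _) ay3Y_0) (by decide)
theorem ay3D : Dist (fun i => (fun x => (⟨(c24md φ inj).ev x⟩ : Cj (c24md φ inj).φ)) (pt (rowC ay3) id i)) 8 :=
  dist_of_chk (canTC (@Cfg.Ok.canon G _ c24 c24_ok _ _ (ZMod.charP 11) _ rfl rfl φ inj) ay3) ay3Y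
theorem aO3 : ∀ i < 8, (chkO (imgC c24.mul ag3 ag3i ay3) (rowC ay3) id aO3a (nat_lit 8) [nat_lit 3]) i = 0 :=
  allB (rngB_step (allB0 _ _) aO3_0) (by decide)
theorem aR3 (h0 : ∀ s < 4, (c24md φ inj).In ⊤ (ag0 s)) : Reach ((c24md φ inj).gn ag3 3) (fun i => (fun x => (⟨(c24md φ inj).ev x⟩ : Cj (c24md φ inj).φ)) (pt (rowC ay3) id i)) 8 [nat_lit 3] :=
  reach_of_chk (pv := (fun x => (⟨(c24md φ inj).ev x⟩ : Cj (c24md φ inj).φ))) ((actsC (m := (c24md φ inj)) ag3I ay3).ex (aeg3 h0)) aO3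
theorem aF3 : ∀ i < 2, (chkF (imgC c24.mul ag4 ag4i ay3) (rowC ay3) id (nat_lit 3) [nat_lit 0, nat_lit 0]) i = 0 :=
  (rng_step (all0 _) aF3_0)
theorem afx3 : ((c24md φ inj).gn ag4 2) ≤ MulAction.stabilizer G ((fun i => (fun x => (⟨(c24md φ inj).ev x⟩ : Cj (c24md φ inj).φ)) (pt (rowC ay3) id i)) (nat_lit 3)) :=
  gn_le_stab (actsC (m := (c24md φ inj)) ag4I ay3) aF3
theorem alb3 (h0 : ∀ s < 4, (c24md φ inj).In ⊤ (ag0 s)) : 16 ≤ Nat.card ((c24md φ inj).gn ag3 3) :=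
  le_of_eq_of_le (by norm_num) (lower ay3D (aR3 h0) (ale3 h0) afx3 (alb4 h0))
theorem aex3 (h0 : ∀ s < 4, (c24md φ inj).In ⊤ (ag0 s)) : MulAction.orbit ((c24md φ inj).gn ag3 3) ((fun i => (fun x => (⟨(c24md φ inj).ev x⟩ : Cj (c24md φ inj).φ)) (pt (rowC ay3) id i)) (nat_lit 3)) = (fun i => (fun x => (⟨(c24md φ inj).ev x⟩ : Cj (c24md φ inj).φ)) (pt (rowC ay3) id i)) '' {i | i < 8} ∧ ((c24md φ inj).gn ag3 3) ⊓ MulAction.stabilizer G ((fun i => (fun x => (⟨(c24md φ inj).ev x⟩ : Cj (c24md φ inj).φ)) (pt (rowC ay3) id i)) (nat_lit 3)) = ((c24md φ inj).gn ag4 2) ∧ Nat.card ((c24md φ inj).gn ag3 3) = 8 * 2 ∧ Nat.card ((c24md φ inj).gn ag4 2) = 2 :=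
  exact ay3D (aR3 h0) (ale3 h0) afx3 (alb4 h0) ((aub3 h0).trans (by norm_num))
theorem ay2Y : ∀ i < 21, (chkY (canC c24.mul c24.one ay2) (rowC ay2) id (nat_lit 21)) i = 0 :=
  allB (rngB_step (allB0 _ _) ay2Y_0) (by decide)
theorem ay2D : Dist (fun i => (fun x => (⟨(c24md φ inj).ev x⟩ : Cj (c24md φ inj).φ)) (pt (rowC ay2) id i)) 21 :=
  dist_of_chk (canTC (@Cfg.Ok.canon G _ c24 c24_ok _ _ (ZMod.charP 11) _ rfl rfl φ inj) ay2) ay2Y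
theorem aO2 : ∀ i < 21, (chkO (imgC c24.mul ag2 ag2i ay2) (rowC ay2) id aO2a (nat_lit 21) [nat_lit 0]) i = 0 :=
  allB (rngB_step (allB0 _ _) aO2_0) (by decide)
theorem aR2 (h0 : ∀ s < 4, (c24md φ inj).In ⊤ (ag0 s)) : Reach ((c24md φ inj).gn ag2 2) (fun i => (fun x => (⟨(c24md φ inj).ev x⟩ : Cj (c24md φ inj).φ)) (pt (rowC ay2) id i)) 21 [nat_lit 0] :=
  reach_of_chk (pv := (fun x => (⟨(c24md φ inj).ev x⟩ : Cj (c24md φ inj).φ))) ((actsC (m := (c24md φ inj)) ag2I ay2).ex (aeg2 h0)) aO2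
theorem aF2 : ∀ i < 3, (chkF (imgC c24.mul ag3 ag3i ay2) (rowC ay2) id (nat_lit 0) [nat_lit 0, nat_lit 0, nat_lit 0]) i = 0 :=
  (rng_step (all0 _) aF2_0)
theorem afx2 : ((c24md φ inj).gn ag3 3) ≤ MulAction.stabilizer G ((fun i => (fun x => (⟨(c24md φ inj).ev x⟩ : Cj (c24md φ inj).φ)) (pt (rowC ay2) id i)) (nat_lit 0)) :=
  gn_le_stab (actsC (m := (c24md φ inj)) ag3I ay2) aF2
theorem alb2 (h0 : ∀ s < 4, (c24md φ inj).In ⊤ (ag0 s)) : 336 ≤ Nat.card ((c24md φ inj).gn ag2 2) :=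
  le_of_eq_of_le (by norm_num) (lower ay2D (aR2 h0) (ale2 h0) afx2 (alb3 h0))
theorem aex2 (h0 : ∀ s < 4, (c24md φ inj).In ⊤ (ag0 s)) : MulAction.orbit ((c24md φ inj).gn ag2 2) ((fun i => (fun x => (⟨(c24md φ inj).ev x⟩ : Cj (c24md φ inj).φ)) (pt (rowC ay2) id i)) (nat_lit 0)) = (fun i => (fun x => (⟨(c24md φ inj).ev x⟩ : Cj (c24md φ inj).φ)) (pt (rowC ay2) id i)) '' {i | i < 21} ∧ ((c24md φ inj).gn ag2 2) ⊓ MulAction.stabilizer G ((fun i => (fun x => (⟨(c24md φ inj).ev x⟩ : Cj (c24md φ inj).φ)) (pt (rowC ay2) id i)) (nat_lit 0)) = ((c24md φ inj).gn ag3 3) ∧ Nat.card ((c24md φ inj).gn ag2 2) = 21 * 16 ∧ Nat.card ((c24md φ inj).gn ag3 3) = 16 :=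
  exact ay2D (aR2 h0) (ale2 h0) afx2 (alb3 h0) ((aub2 h0).trans (by norm_num))
theorem ay1Y : ∀ i < 36, (chkY (canC c24.mul c24.one ay1) (rowC ay1) id (nat_lit 36)) i = 0 :=
  allB (rngB_step (allB0 _ _) ay1Y_0) (by decide)
theorem ay1D : Dist (fun i => (fun x => (⟨(c24md φ inj).ev x⟩ : Cj (c24md φ inj).φ)) (pt (rowC ay1) id i)) 36 :=
  dist_of_chk (canTC (@Cfg.Ok.canon G _ c24 c24_ok _ _ (ZMod.charP 11) _ rfl rfl φ inj) ay1) ay1Y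
theorem aO1 : ∀ i < 36, (chkO (imgC c24.mul ag1 ag1i ay1) (rowC ay1) id aO1a (nat_lit 36) [nat_lit 30]) i = 0 :=
  allB (rngB_step (allB0 _ _) aO1_0) (by decide)
theorem aR1 (h0 : ∀ s < 4, (c24md φ inj).In ⊤ (ag0 s)) : Reach ((c24md φ inj).gn ag1 2) (fun i => (fun x => (⟨(c24md φ inj).ev x⟩ : Cj (c24md φ inj).φ)) (pt (rowC ay1) id i)) 36 [nat_lit 30] :=
  reach_of_chk (pv := (fun x => (⟨(c24md φ inj).ev x⟩ : Cj (c24md φ inj).φ))) ((actsC (m := (c24md φ inj)) ag1I ay1).ex (aeg1 h0)) aO1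
theorem aF1 : ∀ i < 2, (chkF (imgC c24.mul ag2 ag2i ay1) (rowC ay1) id (nat_lit 30) [nat_lit 0, nat_lit 0]) i = 0 :=
  (rng_step (all0 _) aF1_0)
theorem afx1 : ((c24md φ inj).gn ag2 2) ≤ MulAction.stabilizer G ((fun i => (fun x => (⟨(c24md φ inj).ev x⟩ : Cj (c24md φ inj).φ)) (pt (rowC ay1) id i)) (nat_lit 30)) :=
  gn_le_stab (actsC (m := (c24md φ inj)) ag2I ay1) aF1
theorem alb1 (h0 : ∀ s < 4, (c24md φ inj).In ⊤ (ag0 s)) : 12096 ≤ Nat.card ((c24md φ inj).gn ag1 2) :=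
  le_of_eq_of_le (by norm_num) (lower ay1D (aR1 h0) (ale1 h0) afx1 (alb2 h0))
theorem aex1 (h0 : ∀ s < 4, (c24md φ inj).In ⊤ (ag0 s)) : MulAction.orbit ((c24md φ inj).gn ag1 2) ((fun i => (fun x => (⟨(c24md φ inj).ev x⟩ : Cj (c24md φ inj).φ)) (pt (rowC ay1) id i)) (nat_lit 30)) = (fun i => (fun x => (⟨(c24md φ inj).ev x⟩ : Cj (c24md φ inj).φ)) (pt (rowC ay1) id i)) '' {i | i < 36} ∧ ((c24md φ inj).gn ag1 2) ⊓ MulAction.stabilizer G ((fun i => (fun x => (⟨(c24md φ inj).ev x⟩ : Cj (c24md φ inj).φ)) (pt (rowC ay1) id i)) (nat_lit 30)) = ((c24md φ inj).gn ag2 2) ∧ Nat.card ((c24md φ inj).gn ag1 2) = 36 * 336 ∧ Nat.card ((c24md φ inj).gn ag2 2) = 336 :=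
  exact ay1D (aR1 h0) (ale1 h0) afx1 (alb2 h0) ((aub1 h0).trans (by norm_num))
theorem ay0Y : ∀ i < 100, (chkY (canC c24.mul c24.one ay0) (rowC ay0) id (nat_lit 100)) i = 0 :=
  allB (rngB_step (allB0 _ _) ay0Y_0) (by decide)
theorem ay0D : Dist (fun i => (fun x => (⟨(c24md φ inj).ev x⟩ : Cj (c24md φ inj).φ)) (pt (rowC ay0) id i)) 100 :=
  dist_of_chk (canTC (@Cfg.Ok.canon G _ c24 c24_ok _ _ (ZMod.charP 11) _ rfl rfl φ inj) ay0) ay0Y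
theorem aO0 : ∀ i < 100, (chkO (imgC c24.mul ag0 ag0i ay0) (rowC ay0) id aO0a (nat_lit 100) [nat_lit 1]) i = 0 :=
  allB (rngB_step (allB0 _ _) aO0_0) (by decide)
theorem aR0 (h0 : ∀ s < 4, (c24md φ inj).In ⊤ (ag0 s)) : Reach ((c24md φ inj).gn ag0 4) (fun i => (fun x => (⟨(c24md φ inj).ev x⟩ : Cj (c24md φ inj).φ)) (pt (rowC ay0) id i)) 100 [nat_lit 1] :=
  reach_of_chk (pv := (fun x => (⟨(c24md φ inj).ev x⟩ : Cj (c24md φ inj).φ))) ((actsC (m := (c24md φ inj)) ag0I ay0).ex (aeg0 h0)) aO0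
theorem aF0 : ∀ i < 2, (chkF (imgC c24.mul ag1 ag1i ay0) (rowC ay0) id (nat_lit 1) [nat_lit 0, nat_lit 0]) i = 0 :=
  (rng_step (all0 _) aF0_0)
theorem afx0 : ((c24md φ inj).gn ag1 2) ≤ MulAction.stabilizer G ((fun i => (fun x => (⟨(c24md φ inj).ev x⟩ : Cj (c24md φ inj).φ)) (pt (rowC ay0) id i)) (nat_lit 1)) :=
  gn_le_stab (actsC (m := (c24md φ inj)) ag1I ay0) aF0
theorem alb0 (h0 : ∀ s < 4, (c24md φ inj).In ⊤ (ag0 s)) : 1209600 ≤ Nat.card ((c24md φ inj).gn ag0 4) :=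
  le_of_eq_of_le (by norm_num) (lower ay0D (aR0 h0) (ale0 h0) afx0 (alb1 h0))
theorem aex0 (h0 : ∀ s < 4, (c24md φ inj).In ⊤ (ag0 s)) : MulAction.orbit ((c24md φ inj).gn ag0 4) ((fun i => (fun x => (⟨(c24md φ inj).ev x⟩ : Cj (c24md φ inj).φ)) (pt (rowC ay0) id i)) (nat_lit 1)) = (fun i => (fun x => (⟨(c24md φ inj).ev x⟩ : Cj (c24md φ inj).φ)) (pt (rowC ay0) id i)) '' {i | i < 100} ∧ ((c24md φ inj).gn ag0 4) ⊓ MulAction.stabilizer G ((fun i => (fun x => (⟨(c24md φ inj).ev x⟩ : Cj (c24md φ inj).φ)) (pt (rowC ay0) id i)) (nat_lit 1)) = ((c24md φ inj).gn ag1 2) ∧ Nat.card ((c24md φ inj).gn ag0 4) = 100 * 12096 ∧ Nat.card ((c24md φ inj).gn ag1 2) = 12096 :=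
  exact ay0D (aR0 h0) (ale0 h0) afx0 (alb1 h0) ((aub0 h0).trans (by norm_num))
theorem aK : ∀ i < 100, (chkO (imgC c24.mul ag1 ag1i ay0) (rowC ay0) id aKa (nat_lit 100) [nat_lit 1, nat_lit 0, nat_lit 2]) i = 0 :=
  allB (rngB_step (allB0 _ _) aK_0) (by decide)
theorem am2I : (c24md φ inj).Inv am2 am2i := ag1I.cons1 am2J
theorem am2O : ∀ i < 100, (chkO (imgC c24.mul am2 am2i ay0) (rowC ay0) id am2Oa (nat_lit 100) [nat_lit 1]) i = 0 :=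
  allB (rngB_step (allB0 _ _) am2O_0) (by decide)
theorem am0I : (c24md φ inj).Inv am0 am0i := ag1I.cons1 am0J
theorem am0O : ∀ i < 100, (chkO (imgC c24.mul am0 am0i ay0) (rowC ay0) id am0Oa (nat_lit 100) [nat_lit 1]) i = 0 :=
  allB (rngB_step (allB0 _ _) am0O_0) (by decide)
theorem amax (h0 : ∀ s < 4, (c24md φ inj).In ⊤ (ag0 s)) (ht : (c24md φ inj).gn ag0 4 = ⊤) : ∀ M : Subgroup G, ((c24md φ inj).gn ag1 2) ≤ M → M = ((c24md φ inj).gn ag1 2) ∨ M = ⊤ :=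
  max_of_roots (Y := (fun i => (fun x => (⟨(c24md φ inj).ev x⟩ : Cj (c24md φ inj).φ)) (pt (rowC ay0) id i))) (ht ▸ (aex0 h0).1) (ht ▸ (aex0 h0).2.1)
  (reach_of_chk (pv := (fun x => (⟨(c24md φ inj).ev x⟩ : Cj (c24md φ inj).φ))) ((actsC (m := (c24md φ inj)) ag1I ay0).ex (aeg1 h0)) aK)
  (List.forall_mem_cons.2 ⟨Or.inl rfl, (List.forall_mem_cons.2 ⟨Or.inr (root_ok (pv := (fun x => (⟨(c24md φ inj).ev x⟩ : Cj (c24md φ inj).φ))) (actsC (m := (c24md φ inj)) am0I ay0) ((asch0 h0).2.1 (nat_lit 1) (by decide)).top (aeg1 h0)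
    (ht ▸ (aex0 h0).1) (ht ▸ (aex0 h0).2.1) am0M am0O),
  (List.forall_mem_cons.2 ⟨Or.inr (root_ok (pv := (fun x => (⟨(c24md φ inj).ev x⟩ : Cj (c24md φ inj).φ))) (actsC (m := (c24md φ inj)) am2I ay0) ((asch0 h0).2.1 (nat_lit 83) (by decide)).top (aeg1 h0)
    (ht ▸ (aex0 h0).1) (ht ▸ (aex0 h0).2.1) am2M am2O),
  (fun _ h => absurd h List.not_mem_nil)⟩)⟩)⟩)
theorem acore1 (h0 : ∀ s < 4, (c24md φ inj).In ⊤ (ag0 s)) (N : Subgroup G) (hN : N.Normal) (h : N ≤ ((c24md φ inj).gn ag1 2)) : N ≤ ((c24md φ inj).gn ag1 2) := h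
theorem acore2 (h0 : ∀ s < 4, (c24md φ inj).In ⊤ (ag0 s)) (N : Subgroup G) (hN : N.Normal) (h : N ≤ ((c24md φ inj).gn ag1 2)) : N ≤ ((c24md φ inj).gn ag2 2) :=
  (le_inf (acore1 h0 N hN h) (normal_le_stab hN (h.trans afx0) (mem_orbit_of_eq (aex0 h0).1 (j := (nat_lit 89)) (by decide) (congrArg (fun x => (⟨(c24md φ inj).ev x⟩ : Cj (c24md φ inj).φ)) acp1)))).trans (aex1 h0).2.1.le
theorem acore3 (h0 : ∀ s < 4, (c24md φ inj).In ⊤ (ag0 s)) (N : Subgroup G) (hN : N.Normal) (h : N ≤ ((c24md φ inj).gn ag1 2)) : N ≤ ((c24md φ inj).gn ag3 3) :=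
  (le_inf (acore2 h0 N hN h) (normal_le_stab hN (h.trans afx0) (mem_orbit_of_eq (aex0 h0).1 (j := (nat_lit 5)) (by decide) (congrArg (fun x => (⟨(c24md φ inj).ev x⟩ : Cj (c24md φ inj).φ)) acp2)))).trans (aex2 h0).2.1.le
theorem acore4 (h0 : ∀ s < 4, (c24md φ inj).In ⊤ (ag0 s)) (N : Subgroup G) (hN : N.Normal) (h : N ≤ ((c24md φ inj).gn ag1 2)) : N ≤ ((c24md φ inj).gn ag4 2) :=
  (le_inf (acore3 h0 N hN h) (normal_le_stab hN (h.trans afx0) (mem_orbit_of_eq (aex0 h0).1 (j := (nat_lit 30)) (by decide) (congrArg (fun x => (⟨(c24md φ inj).ev x⟩ : Cj (c24md φ inj).φ)) acp3)))).trans (aex3 h0).2.1.le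
theorem aP : ∀ i < 4, (chkP c24.mul c24.one ag0 ae0 [[nat_lit 2917446, nat_lit 559244],
  [nat_lit 1869337, nat_lit 3031978],
  [nat_lit 1896494, nat_lit 3433121],
  [nat_lit 3199437, nat_lit 1647379]] (nat_lit 5)) i = 0 :=
  (rng_step (all0 _) aP_0)
theorem wY : ∀ i < 63, (chkY (canC c24.mul c24.one w) (rowC w) id (nat_lit 63)) i = 0 :=
  allB (rngB_step (allB0 _ _) wY_0) (by decide)
theorem wD : Dist (fun i => (fun x => (⟨(c24md φ inj).ev x⟩ : Cj (c24md φ inj).φ)) (pt (rowC w) id i)) 63 :=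
  dist_of_chk (canTC (@Cfg.Ok.canon G _ c24 c24_ok _ _ (ZMod.charP 11) _ rfl rfl φ inj) w) wY
theorem wO : ∀ i < 63, (chkO (imgC c24.mul ag1 ag1i w) (rowC w) id wOa (nat_lit 63) [nat_lit 0]) i = 0 :=
  allB (rngB_step (allB0 _ _) wO_0) (by decide)
theorem wC0 : ∀ i < 63, (chkC (imgC c24.mul ag1 ag1i w) (rowC w) id wC0a (nat_lit 63) (nat_lit 0)) i = 0 :=
  allB (rngB_step (allB0 _ _) wC0_0) (by decide)
theorem wC1 : ∀ i < 63, (chkC (imgC c24.mul ag1 ag1i w) (rowC w) id wC1a (nat_lit 63) (nat_lit 1)) i = 0 :=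
  allB (rngB_step (allB0 _ _) wC1_0) (by decide)
theorem worb (h0 : ∀ s < 4, (c24md φ inj).In ⊤ (ag0 s)) : MulAction.orbit ((c24md φ inj).gn ag1 2) ((fun i => (fun x => (⟨(c24md φ inj).ev x⟩ : Cj (c24md φ inj).φ)) (pt (rowC w) id i)) (nat_lit 0)) = (fun i => (fun x => (⟨(c24md φ inj).ev x⟩ : Cj (c24md φ inj).φ)) (pt (rowC w) id i)) '' {i | i < 63} :=
  orbit_gn (actsC (m := (c24md φ inj)) ag1I w) (by decide) (reach_of_chk (pv := (fun x => (⟨(c24md φ inj).ev x⟩ : Cj (c24md φ inj).φ))) ((actsC (m := (c24md φ inj)) ag1I w).ex (aeg1 h0)) wO)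
  fun s hs => by interval_cases s; exacts [⟨_, wC0⟩, ⟨_, wC1⟩]
theorem wmem (h0 : ∀ s < 4, (c24md φ inj).In ⊤ (ag0 s)) : (fun i => (fun x => (⟨(c24md φ inj).ev x⟩ : Cj (c24md φ inj).φ)) (pt (rowC w) id i)) (nat_lit 0) ∈ MulAction.orbit ((c24md φ inj).gn ag0 4) ((fun i => (fun x => (⟨(c24md φ inj).ev x⟩ : Cj (c24md φ inj).φ)) (pt (rowC ay0) id i)) (nat_lit 1)) :=
  mem_orbit_of_eq (aex0 h0).1 (j := (nat_lit 0)) (by decide) (congrArg (fun x => (⟨(c24md φ inj).ev x⟩ : Cj (c24md φ inj).φ)) wcp)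
theorem vmem (h0 : ∀ s < 4, (c24md φ inj).In ⊤ (ag0 s)) : (fun i => (fun x => (⟨(c24md φ inj).ev x⟩ : Cj (c24md φ inj).φ)) (pt (rowC ay1) id i)) (nat_lit 30) ∈ MulAction.orbit ((c24md φ inj).gn ag0 4) ((fun i => (fun x => (⟨(c24md φ inj).ev x⟩ : Cj (c24md φ inj).φ)) (pt (rowC ay0) id i)) (nat_lit 1)) :=
  mem_orbit_of_eq (aex0 h0).1 (j := (nat_lit 89)) (by decide) (congrArg (fun x => (⟨(c24md φ inj).ev x⟩ : Cj (c24md φ inj).φ)) acp1)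
theorem ctop0 (h0 : ∀ s < 2, (c24md φ inj).In ⊤ (cg0 s)) : ∀ s < 2, (c24md φ inj).In ⊤ (cg0 s) := h0
theorem ceg0 (h0 : ∀ s < 2, (c24md φ inj).In ⊤ (cg0 s)) : (c24md φ inj).El ((c24md φ inj).gn cg0 2) cg0 := el_gn (ctop0 h0)
theorem cW0 : ∀ i < 4, (chkW c24.mul c24.one cg0 [[nat_lit 0, nat_lit 0, nat_lit 0, nat_lit 1, nat_lit 0, nat_lit 1, nat_lit 0, nat_lit 0, nat_lit 0, nat_lit 1, nat_lit 1, nat_lit 1, nat_lit 0, nat_lit 1],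
  [nat_lit 0, nat_lit 1, nat_lit 0, nat_lit 0, nat_lit 1, nat_lit 0, nat_lit 0, nat_lit 1, nat_lit 0, nat_lit 1, nat_lit 1],
  [nat_lit 0, nat_lit 1, nat_lit 0, nat_lit 0, nat_lit 0, nat_lit 1, nat_lit 0, nat_lit 1, nat_lit 0, nat_lit 1, nat_lit 1, nat_lit 0, nat_lit 0, nat_lit 1],
  [nat_lit 0, nat_lit 0, nat_lit 1, nat_lit 0, nat_lit 0, nat_lit 0, nat_lit 0, nat_lit 1, nat_lit 0, nat_lit 0, nat_lit 0, nat_lit 1, nat_lit 0, nat_lit 1, nat_lit 0, nat_lit 1, nat_lit 0]] cg1) i = 0 :=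
  (rng_step (all0 _) cW0_0)
theorem cin1 (h0 : ∀ s < 2, (c24md φ inj).In ⊤ (cg0 s)) : ∀ s < 4, (c24md φ inj).In ((c24md φ inj).gn cg0 2) (cg1 s) := in_of_chkW (ceg0 h0) cW0
theorem ctop1 (h0 : ∀ s < 2, (c24md φ inj).In ⊤ (cg0 s)) : ∀ s < 4, (c24md φ inj).In ⊤ (cg1 s) := fun s hs => (cin1 h0 s hs).top
theorem cle0 (h0 : ∀ s < 2, (c24md φ inj).In ⊤ (cg0 s)) : ((c24md φ inj).gn cg1 4) ≤ ((c24md φ inj).gn cg0 2) := gn_le (cin1 h0)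
theorem ceg1 (h0 : ∀ s < 2, (c24md φ inj).In ⊤ (cg0 s)) : (c24md φ inj).El ((c24md φ inj).gn cg1 4) cg1 := el_gn (ctop1 h0)
theorem cle1 (h0 : ∀ s < 2, (c24md φ inj).In ⊤ (cg0 s)) : (⊥ : Subgroup G) ≤ ((c24md φ inj).gn cg1 4) := bot_le
theorem clb2 (h0 : ∀ s < 2, (c24md φ inj).In ⊤ (cg0 s)) : 1 ≤ Nat.card (⊥ : Subgroup G) := one_le_card _
theorem cy1Y : ∀ i < 32, (chkY c24b.canV c24b.row cy1 (nat_lit 32)) i = 0 :=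
  allB (rngB_step (allB0 _ _) cy1Y_0) (by decide)
theorem cy1D : Dist (fun i => (fun x => (⟨c24b.vec (ZMod 11) 24 x⟩ : Vc φ)) (pt c24b.row cy1 i)) 32 :=
  dist_of_chk (@Cfg.Ok.canT G _ _ _ _ c24b (ZMod.charP 11) c24b_ok rfl rfl φ) cy1Y
theorem cO1 : ∀ i < 32, (chkO (c24b.imgV cg1) c24b.row cy1 cO1a (nat_lit 32) [nat_lit 22]) i = 0 :=
  allB (rngB_step (allB0 _ _) cO1_0) (by decide)
theorem cR1 (h0 : ∀ s < 2, (c24md φ inj).In ⊤ (cg0 s)) : Reach ((c24md φ inj).gn cg1 4) (fun i => (fun x => (⟨c24b.vec (ZMod 11) 24 x⟩ : Vc φ)) (pt c24b.row cy1 i)) 32 [nat_lit 22] :=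
  reach_of_chk (pv := (fun x => (⟨c24b.vec (ZMod 11) 24 x⟩ : Vc φ))) ((@Cfg.Ok.acts G _ _ _ _ c24b (ZMod.charP 11) c24b_ok rfl rfl (c24md φ inj) rfl cg1).ex (ceg1 h0)) cO1
theorem cfx1 : (⊥ : Subgroup G) ≤ MulAction.stabilizer G ((fun i => (fun x => (⟨c24b.vec (ZMod 11) 24 x⟩ : Vc φ)) (pt c24b.row cy1 i)) (nat_lit 22)) := bot_le
theorem clb1 (h0 : ∀ s < 2, (c24md φ inj).In ⊤ (cg0 s)) : 32 ≤ Nat.card ((c24md φ inj).gn cg1 4) :=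
  le_of_eq_of_le (by norm_num) (lower cy1D (cR1 h0) (cle1 h0) cfx1 (clb2 h0))
theorem cy0Y : ∀ i < 120, (chkY c24b.canV c24b.row cy0 (nat_lit 120)) i = 0 :=
  allB (rngB_step (allB0 _ _) cy0Y_0) (by decide)
theorem cy0D : Dist (fun i => (fun x => (⟨c24b.vec (ZMod 11) 24 x⟩ : Vc φ)) (pt c24b.row cy0 i)) 120 :=
  dist_of_chk (@Cfg.Ok.canT G _ _ _ _ c24b (ZMod.charP 11) c24b_ok rfl rfl φ) cy0Y
theorem cO0 : ∀ i < 120, (chkO (c24b.imgV cg0) c24b.row cy0 cO0a (nat_lit 120) [nat_lit 0]) i = 0 :=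
  allB (rngB_step (allB0 _ _) cO0_0) (by decide)
theorem cR0 (h0 : ∀ s < 2, (c24md φ inj).In ⊤ (cg0 s)) : Reach ((c24md φ inj).gn cg0 2) (fun i => (fun x => (⟨c24b.vec (ZMod 11) 24 x⟩ : Vc φ)) (pt c24b.row cy0 i)) 120 [nat_lit 0] :=
  reach_of_chk (pv := (fun x => (⟨c24b.vec (ZMod 11) 24 x⟩ : Vc φ))) ((@Cfg.Ok.acts G _ _ _ _ c24b (ZMod.charP 11) c24b_ok rfl rfl (c24md φ inj) rfl cg0).ex (ceg0 h0)) cO0
theorem cF0 : ∀ i < 4, (chkF (c24b.imgV cg1) c24b.row cy0 (nat_lit 0) [nat_lit 0, nat_lit 0, nat_lit 0, nat_lit 0]) i = 0 :=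
  (rng_step (all0 _) cF0_0)
theorem cfx0 : ((c24md φ inj).gn cg1 4) ≤ MulAction.stabilizer G ((fun i => (fun x => (⟨c24b.vec (ZMod 11) 24 x⟩ : Vc φ)) (pt c24b.row cy0 i)) (nat_lit 0)) :=
  gn_le_stab (@Cfg.Ok.acts G _ _ _ _ c24b (ZMod.charP 11) c24b_ok rfl rfl (c24md φ inj) rfl cg1) cF0
theorem clb0 (h0 : ∀ s < 2, (c24md φ inj).In ⊤ (cg0 s)) : 3840 ≤ Nat.card ((c24md φ inj).gn cg0 2) :=
  le_of_eq_of_le (by norm_num) (lower cy0D (cR0 h0) (cle0 h0) cfx0 (clb1 h0))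
theorem cE : ∀ i < 2, (chkE cg0 ae0 [nat_lit 794670, nat_lit 3761035]) i = 0 :=
  (rng_step (all0 _) cE_0)
theorem cZ : ∀ i < 2, (fun s => Nat.xor (c24.mul (cg0 s) (ag0 0)) (c24.mul (ag0 0) (cg0 s))) i = 0 :=
  (rng_step (all0 _) cZ_0)
theorem qtop0 (h0 : ∀ s < 5, (c24md φ inj).In ⊤ (qg0 s)) : ∀ s < 5, (c24md φ inj).In ⊤ (qg0 s) := h0
theorem qeg0 (h0 : ∀ s < 5, (c24md φ inj).In ⊤ (qg0 s)) : (c24md φ inj).El ((c24md φ inj).gn qg0 5) qg0 := el_gn (qtop0 h0)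
theorem qle0 (h0 : ∀ s < 5, (c24md φ inj).In ⊤ (qg0 s)) : (⊥ : Subgroup G) ≤ ((c24md φ inj).gn qg0 5) := bot_le
theorem qel1 (h0 : ∀ s < 5, (c24md φ inj).In ⊤ (qg0 s)) : (c24md φ inj).El ⊥ qe1 := el_one _
theorem qub1 (h0 : ∀ s < 5, (c24md φ inj).In ⊤ (qg0 s)) : Nat.card (⊥ : Subgroup G) ≤ 1 := card_bot_le
theorem qS0 : ∀ i < 64, (chkS c24.mul qg0 (nat_lit 5) qT0 qe1 qc0 (nat_lit 6) (nat_lit 64)) i = 0 :=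
  (rng_step (all0 _) qS0_0)
theorem qsch0 (h0 : ∀ s < 5, (c24md φ inj).In ⊤ (qg0 s)) : (∀ g ∈ ((c24md φ inj).gn qg0 5), ∃ i < 64, (c24md φ inj).Cos (⊥ : Subgroup G) qT0 g i) ∧ (∀ i < 64, (c24md φ inj).In ((c24md φ inj).gn qg0 5) (qT0 i)) ∧ Nat.card ((c24md φ inj).gn qg0 5) ≤ 64 * Nat.card (⊥ : Subgroup G) :=
  schreier (qel1 h0) (by decide) qT0_0 (qtop0 h0) (qle0 h0) qS0
theorem qel0 (h0 : ∀ s < 5, (c24md φ inj).In ⊤ (qg0 s)) : (c24md φ inj).El ((c24md φ inj).gn qg0 5) qe0 := (el_of_pad (qsch0 h0).2.1).cel0 _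
theorem qub0 (h0 : ∀ s < 5, (c24md φ inj).In ⊤ (qg0 s)) : Nat.card ((c24md φ inj).gn qg0 5) ≤ 64 := (upper (qsch0 h0).2.2 (qub1 h0)).trans (by norm_num)
theorem qlb1 (h0 : ∀ s < 5, (c24md φ inj).In ⊤ (qg0 s)) : 1 ≤ Nat.card (⊥ : Subgroup G) := one_le_card _
theorem qy0Y : ∀ i < 64, (chkY c24b.canV c24b.row qy0 (nat_lit 64)) i = 0 :=
  allB (rngB_step (allB0 _ _) qy0Y_0) (by decide)
theorem qy0D : Dist (fun i => (fun x => (⟨c24b.vec (ZMod 11) 24 x⟩ : Vc φ)) (pt c24b.row qy0 i)) 64 :=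
  dist_of_chk (@Cfg.Ok.canT G _ _ _ _ c24b (ZMod.charP 11) c24b_ok rfl rfl φ) qy0Y
theorem qO0 : ∀ i < 64, (chkO (c24b.imgV qg0) c24b.row qy0 qO0a (nat_lit 64) [nat_lit 44]) i = 0 :=
  allB (rngB_step (allB0 _ _) qO0_0) (by decide)
theorem qR0 (h0 : ∀ s < 5, (c24md φ inj).In ⊤ (qg0 s)) : Reach ((c24md φ inj).gn qg0 5) (fun i => (fun x => (⟨c24b.vec (ZMod 11) 24 x⟩ : Vc φ)) (pt c24b.row qy0 i)) 64 [nat_lit 44] :=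
  reach_of_chk (pv := (fun x => (⟨c24b.vec (ZMod 11) 24 x⟩ : Vc φ))) ((@Cfg.Ok.acts G _ _ _ _ c24b (ZMod.charP 11) c24b_ok rfl rfl (c24md φ inj) rfl qg0).ex (qeg0 h0)) qO0
theorem qfx0 : (⊥ : Subgroup G) ≤ MulAction.stabilizer G ((fun i => (fun x => (⟨c24b.vec (ZMod 11) 24 x⟩ : Vc φ)) (pt c24b.row qy0 i)) (nat_lit 44)) := bot_le
theorem qlb0 (h0 : ∀ s < 5, (c24md φ inj).In ⊤ (qg0 s)) : 64 ≤ Nat.card ((c24md φ inj).gn qg0 5) :=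
  le_of_eq_of_le (by norm_num) (lower qy0D (qR0 h0) (qle0 h0) qfx0 (qlb1 h0))
theorem qex0 (h0 : ∀ s < 5, (c24md φ inj).In ⊤ (qg0 s)) : MulAction.orbit ((c24md φ inj).gn qg0 5) ((fun i => (fun x => (⟨c24b.vec (ZMod 11) 24 x⟩ : Vc φ)) (pt c24b.row qy0 i)) (nat_lit 44)) = (fun i => (fun x => (⟨c24b.vec (ZMod 11) 24 x⟩ : Vc φ)) (pt c24b.row qy0 i)) '' {i | i < 64} ∧ ((c24md φ inj).gn qg0 5) ⊓ MulAction.stabilizer G ((fun i => (fun x => (⟨c24b.vec (ZMod 11) 24 x⟩ : Vc φ)) (pt c24b.row qy0 i)) (nat_lit 44)) = (⊥ : Subgroup G) ∧ Nat.card ((c24md φ inj).gn qg0 5) = 64 * 1 ∧ Nat.card (⊥ : Subgroup G) = 1 :=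
  exact qy0D (qR0 h0) (qle0 h0) qfx0 (qlb1 h0) ((qub0 h0).trans (by norm_num))
section
variable {H : Type*} [Group H] [Finite H] {ψ : H →* Matrix (Fin 5) (Fin 5) (ZMod 2)} {inj' : Function.Injective ψ}

theorem ptop0 (h0 : ∀ s < 2, (c5md ψ inj').In ⊤ (pg0 s)) : ∀ s < 2, (c5md ψ inj').In ⊤ (pg0 s) := h0
theorem peg0 (h0 : ∀ s < 2, (c5md ψ inj').In ⊤ (pg0 s)) : (c5md ψ inj').El ((c5md ψ inj').gn pg0 2) pg0 := el_gn (ptop0 h0)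
theorem pW0 : ∀ i < 2, (chkW c5.mul c5.one pg0 [[nat_lit 1, nat_lit 1, nat_lit 1],
  [nat_lit 0, nat_lit 1, nat_lit 1, nat_lit 1, nat_lit 1, nat_lit 0, nat_lit 1, nat_lit 0]] pg1) i = 0 :=
  (rng_step (all0 _) pW0_0)
theorem pin1 (h0 : ∀ s < 2, (c5md ψ inj').In ⊤ (pg0 s)) : ∀ s < 2, (c5md ψ inj').In ((c5md ψ inj').gn pg0 2) (pg1 s) := in_of_chkW (peg0 h0) pW0
theorem ptop1 (h0 : ∀ s < 2, (c5md ψ inj').In ⊤ (pg0 s)) : ∀ s < 2, (c5md ψ inj').In ⊤ (pg1 s) := fun s hs => (pin1 h0 s hs).top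
theorem ple0 (h0 : ∀ s < 2, (c5md ψ inj').In ⊤ (pg0 s)) : ((c5md ψ inj').gn pg1 2) ≤ ((c5md ψ inj').gn pg0 2) := gn_le (pin1 h0)
theorem peg1 (h0 : ∀ s < 2, (c5md ψ inj').In ⊤ (pg0 s)) : (c5md ψ inj').El ((c5md ψ inj').gn pg1 2) pg1 := el_gn (ptop1 h0)
theorem pW1 : ∀ i < 2, (chkW c5.mul c5.one pg1 [[nat_lit 0, nat_lit 1, nat_lit 0, nat_lit 0, nat_lit 1, nat_lit 0, nat_lit 1, nat_lit 1, nat_lit 0],
  [nat_lit 0, nat_lit 1, nat_lit 1, nat_lit 1, nat_lit 0, nat_lit 1]] pg2) i = 0 :=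
  (rng_step (all0 _) pW1_0)
theorem pin2 (h0 : ∀ s < 2, (c5md ψ inj').In ⊤ (pg0 s)) : ∀ s < 2, (c5md ψ inj').In ((c5md ψ inj').gn pg1 2) (pg2 s) := in_of_chkW (peg1 h0) pW1
theorem ptop2 (h0 : ∀ s < 2, (c5md ψ inj').In ⊤ (pg0 s)) : ∀ s < 2, (c5md ψ inj').In ⊤ (pg2 s) := fun s hs => (pin2 h0 s hs).top
theorem ple1 (h0 : ∀ s < 2, (c5md ψ inj').In ⊤ (pg0 s)) : ((c5md ψ inj').gn pg2 2) ≤ ((c5md ψ inj').gn pg1 2) := gn_le (pin2 h0)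
theorem peg2 (h0 : ∀ s < 2, (c5md ψ inj').In ⊤ (pg0 s)) : (c5md ψ inj').El ((c5md ψ inj').gn pg2 2) pg2 := el_gn (ptop2 h0)
theorem ple2 (h0 : ∀ s < 2, (c5md ψ inj').In ⊤ (pg0 s)) : (⊥ : Subgroup H) ≤ ((c5md ψ inj').gn pg2 2) := bot_le
theorem plb3 (h0 : ∀ s < 2, (c5md ψ inj').In ⊤ (pg0 s)) : 1 ≤ Nat.card (⊥ : Subgroup H) := one_le_card _
theorem py2Y : ∀ i < 3, (chkY c5b.canV c5b.row py2 (nat_lit 3)) i = 0 :=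
  allB (rngB_step (allB0 _ _) py2Y_0) (by decide)
theorem py2D : Dist (fun i => (fun x => (⟨c5b.vec (ZMod 2) 5 x⟩ : Vc ψ)) (pt c5b.row py2 i)) 3 :=
  dist_of_chk (@Cfg.Ok.canT H _ _ _ _ c5b (ZMod.charP 2) c5b_ok rfl rfl ψ) py2Y
theorem pO2 : ∀ i < 3, (chkO (c5b.imgV pg2) c5b.row py2 pO2a (nat_lit 3) [nat_lit 0]) i = 0 :=
  allB (rngB_step (allB0 _ _) pO2_0) (by decide)
theorem pR2 (h0 : ∀ s < 2, (c5md ψ inj').In ⊤ (pg0 s)) : Reach ((c5md ψ inj').gn pg2 2) (fun i => (fun x => (⟨c5b.vec (ZMod 2) 5 x⟩ : Vc ψ)) (pt c5b.row py2 i)) 3 [nat_lit 0] :=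
  reach_of_chk (pv := (fun x => (⟨c5b.vec (ZMod 2) 5 x⟩ : Vc ψ))) ((@Cfg.Ok.acts H _ _ _ _ c5b (ZMod.charP 2) c5b_ok rfl rfl (c5md ψ inj') rfl pg2).ex (peg2 h0)) pO2
theorem pfx2 : (⊥ : Subgroup H) ≤ MulAction.stabilizer H ((fun i => (fun x => (⟨c5b.vec (ZMod 2) 5 x⟩ : Vc ψ)) (pt c5b.row py2 i)) (nat_lit 0)) := bot_le
theorem plb2 (h0 : ∀ s < 2, (c5md ψ inj').In ⊤ (pg0 s)) : 3 ≤ Nat.card ((c5md ψ inj').gn pg2 2) :=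
  le_of_eq_of_le (by norm_num) (lower py2D (pR2 h0) (ple2 h0) pfx2 (plb3 h0))
theorem py1Y : ∀ i < 4, (chkY c5b.canV c5b.row py1 (nat_lit 4)) i = 0 :=
  allB (rngB_step (allB0 _ _) py1Y_0) (by decide)
theorem py1D : Dist (fun i => (fun x => (⟨c5b.vec (ZMod 2) 5 x⟩ : Vc ψ)) (pt c5b.row py1 i)) 4 :=
  dist_of_chk (@Cfg.Ok.canT H _ _ _ _ c5b (ZMod.charP 2) c5b_ok rfl rfl ψ) py1Y
theorem pO1 : ∀ i < 4, (chkO (c5b.imgV pg1) c5b.row py1 pO1a (nat_lit 4) [nat_lit 0]) i = 0 :=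
  allB (rngB_step (allB0 _ _) pO1_0) (by decide)
theorem pR1 (h0 : ∀ s < 2, (c5md ψ inj').In ⊤ (pg0 s)) : Reach ((c5md ψ inj').gn pg1 2) (fun i => (fun x => (⟨c5b.vec (ZMod 2) 5 x⟩ : Vc ψ)) (pt c5b.row py1 i)) 4 [nat_lit 0] :=
  reach_of_chk (pv := (fun x => (⟨c5b.vec (ZMod 2) 5 x⟩ : Vc ψ))) ((@Cfg.Ok.acts H _ _ _ _ c5b (ZMod.charP 2) c5b_ok rfl rfl (c5md ψ inj') rfl pg1).ex (peg1 h0)) pO1
theorem pF1 : ∀ i < 2, (chkF (c5b.imgV pg2) c5b.row py1 (nat_lit 0) [nat_lit 0, nat_lit 0]) i = 0 :=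
  (rng_step (all0 _) pF1_0)
theorem pfx1 : ((c5md ψ inj').gn pg2 2) ≤ MulAction.stabilizer H ((fun i => (fun x => (⟨c5b.vec (ZMod 2) 5 x⟩ : Vc ψ)) (pt c5b.row py1 i)) (nat_lit 0)) :=
  gn_le_stab (@Cfg.Ok.acts H _ _ _ _ c5b (ZMod.charP 2) c5b_ok rfl rfl (c5md ψ inj') rfl pg2) pF1
theorem plb1 (h0 : ∀ s < 2, (c5md ψ inj').In ⊤ (pg0 s)) : 12 ≤ Nat.card ((c5md ψ inj').gn pg1 2) :=
  le_of_eq_of_le (by norm_num) (lower py1D (pR1 h0) (ple1 h0) pfx1 (plb2 h0))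
theorem py0Y : ∀ i < 5, (chkY c5b.canV c5b.row py0 (nat_lit 5)) i = 0 :=
  allB (rngB_step (allB0 _ _) py0Y_0) (by decide)
theorem py0D : Dist (fun i => (fun x => (⟨c5b.vec (ZMod 2) 5 x⟩ : Vc ψ)) (pt c5b.row py0 i)) 5 :=
  dist_of_chk (@Cfg.Ok.canT H _ _ _ _ c5b (ZMod.charP 2) c5b_ok rfl rfl ψ) py0Y
theorem pO0 : ∀ i < 5, (chkO (c5b.imgV pg0) c5b.row py0 pO0a (nat_lit 5) [nat_lit 0]) i = 0 :=
  allB (rngB_step (allB0 _ _) pO0_0) (by decide)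
theorem pR0 (h0 : ∀ s < 2, (c5md ψ inj').In ⊤ (pg0 s)) : Reach ((c5md ψ inj').gn pg0 2) (fun i => (fun x => (⟨c5b.vec (ZMod 2) 5 x⟩ : Vc ψ)) (pt c5b.row py0 i)) 5 [nat_lit 0] :=
  reach_of_chk (pv := (fun x => (⟨c5b.vec (ZMod 2) 5 x⟩ : Vc ψ))) ((@Cfg.Ok.acts H _ _ _ _ c5b (ZMod.charP 2) c5b_ok rfl rfl (c5md ψ inj') rfl pg0).ex (peg0 h0)) pO0
theorem pF0 : ∀ i < 2, (chkF (c5b.imgV pg1) c5b.row py0 (nat_lit 0) [nat_lit 0, nat_lit 0]) i = 0 :=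
  (rng_step (all0 _) pF0_0)
theorem pfx0 : ((c5md ψ inj').gn pg1 2) ≤ MulAction.stabilizer H ((fun i => (fun x => (⟨c5b.vec (ZMod 2) 5 x⟩ : Vc ψ)) (pt c5b.row py0 i)) (nat_lit 0)) :=
  gn_le_stab (@Cfg.Ok.acts H _ _ _ _ c5b (ZMod.charP 2) c5b_ok rfl rfl (c5md ψ inj') rfl pg1) pF0
theorem plb0 (h0 : ∀ s < 2, (c5md ψ inj').In ⊤ (pg0 s)) : 60 ≤ Nat.card ((c5md ψ inj').gn pg0 2) :=
  le_of_eq_of_le (by norm_num) (lower py0D (pR0 h0) (ple0 h0) pfx0 (plb1 h0))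
theorem etop0 (h0 : ∀ s < 2, (Mdl.prod (c24md φ inj) (c5md ψ inj') (nat_lit 7488) p5_lt p5_lt1).In ⊤ (eg0 s)) : ∀ s < 2, (Mdl.prod (c24md φ inj) (c5md ψ inj') (nat_lit 7488) p5_lt p5_lt1).In ⊤ (eg0 s) := h0
theorem eeg0 (h0 : ∀ s < 2, (Mdl.prod (c24md φ inj) (c5md ψ inj') (nat_lit 7488) p5_lt p5_lt1).In ⊤ (eg0 s)) : (Mdl.prod (c24md φ inj) (c5md ψ inj') (nat_lit 7488) p5_lt p5_lt1).El ((Mdl.prod (c24md φ inj) (c5md ψ inj') (nat_lit 7488) p5_lt p5_lt1).gn eg0 2) eg0 := el_gn (etop0 h0)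
theorem eW0 : ∀ i < 4, (chkW p5mul p5one eg0 [[nat_lit 1, nat_lit 0, nat_lit 0, nat_lit 1, nat_lit 0, nat_lit 1, nat_lit 1, nat_lit 0, nat_lit 1, nat_lit 0, nat_lit 0],
  [nat_lit 1, nat_lit 1, nat_lit 0, nat_lit 0, nat_lit 1, nat_lit 0, nat_lit 0, nat_lit 1, nat_lit 0, nat_lit 0, nat_lit 1],
  [nat_lit 0, nat_lit 1, nat_lit 0, nat_lit 0, nat_lit 1, nat_lit 1, nat_lit 1, nat_lit 0, nat_lit 0, nat_lit 1, nat_lit 0],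
  [nat_lit 0, nat_lit 0, nat_lit 0, nat_lit 0, nat_lit 1, nat_lit 0, nat_lit 1, nat_lit 0, nat_lit 0, nat_lit 1, nat_lit 0, nat_lit 1, nat_lit 0, nat_lit 1, nat_lit 0, nat_lit 0, nat_lit 1, nat_lit 0, nat_lit 1]] eg1) i = 0 :=
  (rng_step (all0 _) eW0_0)
theorem ein1 (h0 : ∀ s < 2, (Mdl.prod (c24md φ inj) (c5md ψ inj') (nat_lit 7488) p5_lt p5_lt1).In ⊤ (eg0 s)) : ∀ s < 4, (Mdl.prod (c24md φ inj) (c5md ψ inj') (nat_lit 7488) p5_lt p5_lt1).In ((Mdl.prod (c24md φ inj) (c5md ψ inj') (nat_lit 7488) p5_lt p5_lt1).gn eg0 2) (eg1 s) := in_of_chkW (eeg0 h0) eW0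
theorem etop1 (h0 : ∀ s < 2, (Mdl.prod (c24md φ inj) (c5md ψ inj') (nat_lit 7488) p5_lt p5_lt1).In ⊤ (eg0 s)) : ∀ s < 4, (Mdl.prod (c24md φ inj) (c5md ψ inj') (nat_lit 7488) p5_lt p5_lt1).In ⊤ (eg1 s) := fun s hs => (ein1 h0 s hs).top
theorem ele0 (h0 : ∀ s < 2, (Mdl.prod (c24md φ inj) (c5md ψ inj') (nat_lit 7488) p5_lt p5_lt1).In ⊤ (eg0 s)) : ((Mdl.prod (c24md φ inj) (c5md ψ inj') (nat_lit 7488) p5_lt p5_lt1).gn eg1 4) ≤ ((Mdl.prod (c24md φ inj) (c5md ψ inj') (nat_lit 7488) p5_lt p5_lt1).gn eg0 2) := gn_le (ein1 h0)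
theorem eeg1 (h0 : ∀ s < 2, (Mdl.prod (c24md φ inj) (c5md ψ inj') (nat_lit 7488) p5_lt p5_lt1).In ⊤ (eg0 s)) : (Mdl.prod (c24md φ inj) (c5md ψ inj') (nat_lit 7488) p5_lt p5_lt1).El ((Mdl.prod (c24md φ inj) (c5md ψ inj') (nat_lit 7488) p5_lt p5_lt1).gn eg1 4) eg1 := el_gn (etop1 h0)
theorem ele1 (h0 : ∀ s < 2, (Mdl.prod (c24md φ inj) (c5md ψ inj') (nat_lit 7488) p5_lt p5_lt1).In ⊤ (eg0 s)) : (⊥ : Subgroup (G × H)) ≤ ((Mdl.prod (c24md φ inj) (c5md ψ inj') (nat_lit 7488) p5_lt p5_lt1).gn eg1 4) := bot_le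
theorem eel2 (h0 : ∀ s < 2, (Mdl.prod (c24md φ inj) (c5md ψ inj') (nat_lit 7488) p5_lt p5_lt1).In ⊤ (eg0 s)) : (Mdl.prod (c24md φ inj) (c5md ψ inj') (nat_lit 7488) p5_lt p5_lt1).El ⊥ ee2 := el_one _
theorem eub2 (h0 : ∀ s < 2, (Mdl.prod (c24md φ inj) (c5md ψ inj') (nat_lit 7488) p5_lt p5_lt1).In ⊤ (eg0 s)) : Nat.card (⊥ : Subgroup (G × H)) ≤ 1 := card_bot_le
theorem eS1 : ∀ i < 32, (chkS p5mul eg1 (nat_lit 4) eT1 ee2 ec1 (nat_lit 5) (nat_lit 32)) i = 0 :=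
  (rng_step (all0 _) eS1_0)
theorem esch1 (h0 : ∀ s < 2, (Mdl.prod (c24md φ inj) (c5md ψ inj') (nat_lit 7488) p5_lt p5_lt1).In ⊤ (eg0 s)) : (∀ g ∈ ((Mdl.prod (c24md φ inj) (c5md ψ inj') (nat_lit 7488) p5_lt p5_lt1).gn eg1 4), ∃ i < 32, (Mdl.prod (c24md φ inj) (c5md ψ inj') (nat_lit 7488) p5_lt p5_lt1).Cos (⊥ : Subgroup (G × H)) eT1 g i) ∧ (∀ i < 32, (Mdl.prod (c24md φ inj) (c5md ψ inj') (nat_lit 7488) p5_lt p5_lt1).In ((Mdl.prod (c24md φ inj) (c5md ψ inj') (nat_lit 7488) p5_lt p5_lt1).gn eg1 4) (eT1 i)) ∧ Nat.card ((Mdl.prod (c24md φ inj) (c5md ψ inj') (nat_lit 7488) p5_lt p5_lt1).gn eg1 4) ≤ 32 * Nat.card (⊥ : Subgroup (G × H)) :=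
  schreier (eel2 h0) (by decide) eT0_1 (etop1 h0) (ele1 h0) eS1
theorem eel1 (h0 : ∀ s < 2, (Mdl.prod (c24md φ inj) (c5md ψ inj') (nat_lit 7488) p5_lt p5_lt1).In ⊤ (eg0 s)) : (Mdl.prod (c24md φ inj) (c5md ψ inj') (nat_lit 7488) p5_lt p5_lt1).El ((Mdl.prod (c24md φ inj) (c5md ψ inj') (nat_lit 7488) p5_lt p5_lt1).gn eg1 4) ee1 := (el_of_pad (esch1 h0).2.1).cel0 _
theorem eub1 (h0 : ∀ s < 2, (Mdl.prod (c24md φ inj) (c5md ψ inj') (nat_lit 7488) p5_lt p5_lt1).In ⊤ (eg0 s)) : Nat.card ((Mdl.prod (c24md φ inj) (c5md ψ inj') (nat_lit 7488) p5_lt p5_lt1).gn eg1 4) ≤ 32 := (upper (esch1 h0).2.2 (eub2 h0)).trans (by norm_num)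
theorem eS0 : ∀ i < 120, (chkS p5mul eg0 (nat_lit 2) eT0 ee1 ec0 (nat_lit 7) (nat_lit 120)) i = 0 :=
  (rng_step (all0 _) eS0_0)
theorem esch0 (h0 : ∀ s < 2, (Mdl.prod (c24md φ inj) (c5md ψ inj') (nat_lit 7488) p5_lt p5_lt1).In ⊤ (eg0 s)) : (∀ g ∈ ((Mdl.prod (c24md φ inj) (c5md ψ inj') (nat_lit 7488) p5_lt p5_lt1).gn eg0 2), ∃ i < 120, (Mdl.prod (c24md φ inj) (c5md ψ inj') (nat_lit 7488) p5_lt p5_lt1).Cos ((Mdl.prod (c24md φ inj) (c5md ψ inj') (nat_lit 7488) p5_lt p5_lt1).gn eg1 4) eT0 g i) ∧ (∀ i < 120, (Mdl.prod (c24md φ inj) (c5md ψ inj') (nat_lit 7488) p5_lt p5_lt1).In ((Mdl.prod (c24md φ inj) (c5md ψ inj') (nat_lit 7488) p5_lt p5_lt1).gn eg0 2) (eT0 i)) ∧ Nat.card ((Mdl.prod (c24md φ inj) (c5md ψ inj') (nat_lit 7488) p5_lt p5_lt1).gn eg0 2) ≤ 120 * Nat.card ((Mdl.prod (c24md φ inj) (c5md ψ inj') (nat_lit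 7488) p5_lt p5_lt1).gn eg1 4) :=
  schreier (eel1 h0) (by decide) eT0_0 (etop0 h0) (ele0 h0) eS0
theorem eel0 (h0 : ∀ s < 2, (Mdl.prod (c24md φ inj) (c5md ψ inj') (nat_lit 7488) p5_lt p5_lt1).In ⊤ (eg0 s)) : (Mdl.prod (c24md φ inj) (c5md ψ inj') (nat_lit 7488) p5_lt p5_lt1).El ((Mdl.prod (c24md φ inj) (c5md ψ inj') (nat_lit 7488) p5_lt p5_lt1).gn eg0 2) ee0 := (el_of_pad (esch0 h0).2.1).cel ((eel1 h0).mono (ele0 h0)) _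
theorem eub0 (h0 : ∀ s < 2, (Mdl.prod (c24md φ inj) (c5md ψ inj') (nat_lit 7488) p5_lt p5_lt1).In ⊤ (eg0 s)) : Nat.card ((Mdl.prod (c24md φ inj) (c5md ψ inj') (nat_lit 7488) p5_lt p5_lt1).gn eg0 2) ≤ 3840 := (upper (esch0 h0).2.2 (eub1 h0)).trans (by norm_num)
theorem qE : ∀ i < 5, (chkE qp ee0 [nat_lit 2560, nat_lit 1408, nat_lit 1542, nat_lit 3206, nat_lit 2304]) i = 0 :=
  (rng_step (rng_step (all0 _) qE_0) qE_1)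
theorem eP : ∀ i < 2, (chkPr (nat_lit 7488) eg0 cg0 pg0) i = 0 :=
  (rng_step (all0 _) eP_0)
theorem qP : ∀ i < 5, (chkPr (nat_lit 7488) qp qg0 (fun _ => c5.one)) i = 0 :=
  (rng_step (rng_step (all0 _) qP_0) qP_1)
end
section
variable {H : Type*} [Group H] [Finite H] {ψ : H →* Matrix (Fin 6) (Fin 6) (ZMod 3)} {inj' : Function.Injective ψ}

theorem stop0 (h0 : ∀ s < 2, (c6md ψ inj').In ⊤ (sg0 s)) : ∀ s < 2, (c6md ψ inj').In ⊤ (sg0 s) := h0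
theorem seg0 (h0 : ∀ s < 2, (c6md ψ inj').In ⊤ (sg0 s)) : (c6md ψ inj').El ((c6md ψ inj').gn sg0 2) sg0 := el_gn (stop0 h0)
theorem sW0 : ∀ i < 3, (chkW c6.mul c6.one sg0 [[nat_lit 0, nat_lit 0, nat_lit 0, nat_lit 0, nat_lit 0, nat_lit 1, nat_lit 0, nat_lit 1, nat_lit 1, nat_lit 0, nat_lit 0, nat_lit 1, nat_lit 1, nat_lit 0],
  [nat_lit 1, nat_lit 0, nat_lit 0, nat_lit 1, nat_lit 1, nat_lit 1, nat_lit 1, nat_lit 1, nat_lit 0, nat_lit 1, nat_lit 0, nat_lit 0],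
  [nat_lit 1, nat_lit 0, nat_lit 0, nat_lit 0, nat_lit 0, nat_lit 0, nat_lit 1, nat_lit 1, nat_lit 0, nat_lit 1, nat_lit 0]] sg1) i = 0 :=
  (rng_step (all0 _) sW0_0)
theorem sin1 (h0 : ∀ s < 2, (c6md ψ inj').In ⊤ (sg0 s)) : ∀ s < 3, (c6md ψ inj').In ((c6md ψ inj').gn sg0 2) (sg1 s) := in_of_chkW (seg0 h0) sW0
theorem stop1 (h0 : ∀ s < 2, (c6md ψ inj').In ⊤ (sg0 s)) : ∀ s < 3, (c6md ψ inj').In ⊤ (sg1 s) := fun s hs => (sin1 h0 s hs).top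
theorem sle0 (h0 : ∀ s < 2, (c6md ψ inj').In ⊤ (sg0 s)) : ((c6md ψ inj').gn sg1 3) ≤ ((c6md ψ inj').gn sg0 2) := gn_le (sin1 h0)
theorem seg1 (h0 : ∀ s < 2, (c6md ψ inj').In ⊤ (sg0 s)) : (c6md ψ inj').El ((c6md ψ inj').gn sg1 3) sg1 := el_gn (stop1 h0)
theorem sW1 : ∀ i < 2, (chkW c6.mul c6.one sg1 [[nat_lit 0, nat_lit 2, nat_lit 0, nat_lit 1, nat_lit 2, nat_lit 0, nat_lit 1, nat_lit 2, nat_lit 1, nat_lit 2, nat_lit 0, nat_lit 0],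
  [nat_lit 0, nat_lit 2, nat_lit 1, nat_lit 1, nat_lit 1, nat_lit 2, nat_lit 1, nat_lit 0, nat_lit 2, nat_lit 1, nat_lit 0, nat_lit 2, nat_lit 1]] sg2) i = 0 :=
  (rng_step (all0 _) sW1_0)
theorem sin2 (h0 : ∀ s < 2, (c6md ψ inj').In ⊤ (sg0 s)) : ∀ s < 2, (c6md ψ inj').In ((c6md ψ inj').gn sg1 3) (sg2 s) := in_of_chkW (seg1 h0) sW1
theorem stop2 (h0 : ∀ s < 2, (c6md ψ inj').In ⊤ (sg0 s)) : ∀ s < 2, (c6md ψ inj').In ⊤ (sg2 s) := fun s hs => (sin2 h0 s hs).top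
theorem sle1 (h0 : ∀ s < 2, (c6md ψ inj').In ⊤ (sg0 s)) : ((c6md ψ inj').gn sg2 2) ≤ ((c6md ψ inj').gn sg1 3) := gn_le (sin2 h0)
theorem seg2 (h0 : ∀ s < 2, (c6md ψ inj').In ⊤ (sg0 s)) : (c6md ψ inj').El ((c6md ψ inj').gn sg2 2) sg2 := el_gn (stop2 h0)
theorem sle2 (h0 : ∀ s < 2, (c6md ψ inj').In ⊤ (sg0 s)) : (⊥ : Subgroup H) ≤ ((c6md ψ inj').gn sg2 2) := bot_le
theorem slb3 (h0 : ∀ s < 2, (c6md ψ inj').In ⊤ (sg0 s)) : 1 ≤ Nat.card (⊥ : Subgroup H) := one_le_card _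
theorem sy2Y : ∀ i < 2, (chkY c6b.canV c6b.row sy2 (nat_lit 2)) i = 0 :=
  allB (rngB_step (allB0 _ _) sy2Y_0) (by decide)
theorem sy2D : Dist (fun i => (fun x => (⟨c6b.vec (ZMod 3) 6 x⟩ : Vc ψ)) (pt c6b.row sy2 i)) 2 :=
  dist_of_chk (@Cfg.Ok.canT H _ _ _ _ c6b (ZMod.charP 3) c6b_ok rfl rfl ψ) sy2Y
theorem sO2 : ∀ i < 2, (chkO (c6b.imgV sg2) c6b.row sy2 sO2a (nat_lit 2) [nat_lit 0]) i = 0 :=
  allB (rngB_step (allB0 _ _) sO2_0) (by decide)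
theorem sR2 (h0 : ∀ s < 2, (c6md ψ inj').In ⊤ (sg0 s)) : Reach ((c6md ψ inj').gn sg2 2) (fun i => (fun x => (⟨c6b.vec (ZMod 3) 6 x⟩ : Vc ψ)) (pt c6b.row sy2 i)) 2 [nat_lit 0] :=
  reach_of_chk (pv := (fun x => (⟨c6b.vec (ZMod 3) 6 x⟩ : Vc ψ))) ((@Cfg.Ok.acts H _ _ _ _ c6b (ZMod.charP 3) c6b_ok rfl rfl (c6md ψ inj') rfl sg2).ex (seg2 h0)) sO2
theorem sfx2 : (⊥ : Subgroup H) ≤ MulAction.stabilizer H ((fun i => (fun x => (⟨c6b.vec (ZMod 3) 6 x⟩ : Vc ψ)) (pt c6b.row sy2 i)) (nat_lit 0)) := bot_le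
theorem slb2 (h0 : ∀ s < 2, (c6md ψ inj').In ⊤ (sg0 s)) : 2 ≤ Nat.card ((c6md ψ inj').gn sg2 2) :=
  le_of_eq_of_le (by norm_num) (lower sy2D (sR2 h0) (sle2 h0) sfx2 (slb3 h0))
theorem sy1Y : ∀ i < 27, (chkY c6b.canL c6b.row sy1 (nat_lit 27)) i = 0 :=
  allB (rngB_step (allB0 _ _) sy1Y_0) (by decide)
theorem sy1D : Dist (fun i => (fun x => ln ψ (c6b.vec (ZMod 3) 6 x)) (pt c6b.row sy1 i)) 27 :=
  dist_of_chk (Cfg.Ok.canTL c6b_ok rfl rfl ψ) sy1Y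
theorem sO1 : ∀ i < 27, (chkO (c6b.imgL sg1) c6b.row sy1 sO1a (nat_lit 27) [nat_lit 0]) i = 0 :=
  allB (rngB_step (allB0 _ _) sO1_0) (by decide)
theorem sR1 (h0 : ∀ s < 2, (c6md ψ inj').In ⊤ (sg0 s)) : Reach ((c6md ψ inj').gn sg1 3) (fun i => (fun x => ln ψ (c6b.vec (ZMod 3) 6 x)) (pt c6b.row sy1 i)) 27 [nat_lit 0] :=
  reach_of_chk (pv := (fun x => ln ψ (c6b.vec (ZMod 3) 6 x))) ((Cfg.Ok.actsL c6b_ok (m := (c6md ψ inj')) rfl rfl rfl sg1).ex (seg1 h0)) sO1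
theorem sF1 : ∀ i < 2, (chkF (c6b.imgL sg2) c6b.row sy1 (nat_lit 0) [nat_lit 1, nat_lit 1]) i = 0 :=
  (rng_step (all0 _) sF1_0)
theorem sfx1 : ((c6md ψ inj').gn sg2 2) ≤ MulAction.stabilizer H ((fun i => (fun x => ln ψ (c6b.vec (ZMod 3) 6 x)) (pt c6b.row sy1 i)) (nat_lit 0)) :=
  gn_le_stab (Cfg.Ok.actsL c6b_ok (m := (c6md ψ inj')) rfl rfl rfl sg2) sF1
theorem slb1 (h0 : ∀ s < 2, (c6md ψ inj').In ⊤ (sg0 s)) : 54 ≤ Nat.card ((c6md ψ inj').gn sg1 3) :=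
  le_of_eq_of_le (by norm_num) (lower sy1D (sR1 h0) (sle1 h0) sfx1 (slb2 h0))
theorem sy0Y : ∀ i < 112, (chkY c6b.canL c6b.row sy0 (nat_lit 112)) i = 0 :=
  allB (rngB_step (allB0 _ _) sy0Y_0) (by decide)
theorem sy0D : Dist (fun i => (fun x => ln ψ (c6b.vec (ZMod 3) 6 x)) (pt c6b.row sy0 i)) 112 :=
  dist_of_chk (Cfg.Ok.canTL c6b_ok rfl rfl ψ) sy0Y
theorem sO0 : ∀ i < 112, (chkO (c6b.imgL sg0) c6b.row sy0 sO0a (nat_lit 112) [nat_lit 20]) i = 0 :=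
  allB (rngB_step (allB0 _ _) sO0_0) (by decide)
theorem sR0 (h0 : ∀ s < 2, (c6md ψ inj').In ⊤ (sg0 s)) : Reach ((c6md ψ inj').gn sg0 2) (fun i => (fun x => ln ψ (c6b.vec (ZMod 3) 6 x)) (pt c6b.row sy0 i)) 112 [nat_lit 20] :=
  reach_of_chk (pv := (fun x => ln ψ (c6b.vec (ZMod 3) 6 x))) ((Cfg.Ok.actsL c6b_ok (m := (c6md ψ inj')) rfl rfl rfl sg0).ex (seg0 h0)) sO0
theorem sF0 : ∀ i < 3, (chkF (c6b.imgL sg1) c6b.row sy0 (nat_lit 20) [nat_lit 1, nat_lit 0, nat_lit 0]) i = 0 :=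
  (rng_step (all0 _) sF0_0)
theorem sfx0 : ((c6md ψ inj').gn sg1 3) ≤ MulAction.stabilizer H ((fun i => (fun x => ln ψ (c6b.vec (ZMod 3) 6 x)) (pt c6b.row sy0 i)) (nat_lit 20)) :=
  gn_le_stab (Cfg.Ok.actsL c6b_ok (m := (c6md ψ inj')) rfl rfl rfl sg1) sF0
theorem slb0 (h0 : ∀ s < 2, (c6md ψ inj').In ⊤ (sg0 s)) : 6048 ≤ Nat.card ((c6md ψ inj').gn sg0 2) :=
  le_of_eq_of_le (by norm_num) (lower sy0D (sR0 h0) (sle0 h0) sfx0 (slb1 h0))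
theorem dtop0 (h0 : ∀ s < 2, (Mdl.prod (c24md φ inj) (c6md ψ inj') (nat_lit 7488) p6_lt p6_lt1).In ⊤ (dg0 s)) : ∀ s < 2, (Mdl.prod (c24md φ inj) (c6md ψ inj') (nat_lit 7488) p6_lt p6_lt1).In ⊤ (dg0 s) := h0
theorem deg0 (h0 : ∀ s < 2, (Mdl.prod (c24md φ inj) (c6md ψ inj') (nat_lit 7488) p6_lt p6_lt1).In ⊤ (dg0 s)) : (Mdl.prod (c24md φ inj) (c6md ψ inj') (nat_lit 7488) p6_lt p6_lt1).El ((Mdl.prod (c24md φ inj) (c6md ψ inj') (nat_lit 7488) p6_lt p6_lt1).gn dg0 2) dg0 := el_gn (dtop0 h0)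
theorem dW0 : ∀ i < 2, (chkW p6mul p6one dg0 [[nat_lit 0, nat_lit 0, nat_lit 1, nat_lit 0, nat_lit 0, nat_lit 0, nat_lit 1, nat_lit 1, nat_lit 0, nat_lit 1, nat_lit 0, nat_lit 1, nat_lit 0, nat_lit 1],
  [nat_lit 0, nat_lit 1, nat_lit 0, nat_lit 0, nat_lit 1, nat_lit 0, nat_lit 1, nat_lit 0, nat_lit 0, nat_lit 0, nat_lit 0, nat_lit 1, nat_lit 0, nat_lit 1, nat_lit 1]] dg1) i = 0 :=
  (rng_step (all0 _) dW0_0)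
theorem din1 (h0 : ∀ s < 2, (Mdl.prod (c24md φ inj) (c6md ψ inj') (nat_lit 7488) p6_lt p6_lt1).In ⊤ (dg0 s)) : ∀ s < 2, (Mdl.prod (c24md φ inj) (c6md ψ inj') (nat_lit 7488) p6_lt p6_lt1).In ((Mdl.prod (c24md φ inj) (c6md ψ inj') (nat_lit 7488) p6_lt p6_lt1).gn dg0 2) (dg1 s) := in_of_chkW (deg0 h0) dW0
theorem dtop1 (h0 : ∀ s < 2, (Mdl.prod (c24md φ inj) (c6md ψ inj') (nat_lit 7488) p6_lt p6_lt1).In ⊤ (dg0 s)) : ∀ s < 2, (Mdl.prod (c24md φ inj) (c6md ψ inj') (nat_lit 7488) p6_lt p6_lt1).In ⊤ (dg1 s) := fun s hs => (din1 h0 s hs).top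
theorem dle0 (h0 : ∀ s < 2, (Mdl.prod (c24md φ inj) (c6md ψ inj') (nat_lit 7488) p6_lt p6_lt1).In ⊤ (dg0 s)) : ((Mdl.prod (c24md φ inj) (c6md ψ inj') (nat_lit 7488) p6_lt p6_lt1).gn dg1 2) ≤ ((Mdl.prod (c24md φ inj) (c6md ψ inj') (nat_lit 7488) p6_lt p6_lt1).gn dg0 2) := gn_le (din1 h0)
theorem deg1 (h0 : ∀ s < 2, (Mdl.prod (c24md φ inj) (c6md ψ inj') (nat_lit 7488) p6_lt p6_lt1).In ⊤ (dg0 s)) : (Mdl.prod (c24md φ inj) (c6md ψ inj') (nat_lit 7488) p6_lt p6_lt1).El ((Mdl.prod (c24md φ inj) (c6md ψ inj') (nat_lit 7488) p6_lt p6_lt1).gn dg1 2) dg1 := el_gn (dtop1 h0)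
theorem dW1 : ∀ i < 2, (chkW p6mul p6one dg1 [[nat_lit 1, nat_lit 0, nat_lit 1, nat_lit 0, nat_lit 1, nat_lit 0],
  [nat_lit 0, nat_lit 0, nat_lit 1, nat_lit 1, nat_lit 0, nat_lit 0, nat_lit 1, nat_lit 0, nat_lit 1, nat_lit 1, nat_lit 1, nat_lit 1, nat_lit 1, nat_lit 0, nat_lit 1]] dg2) i = 0 :=
  (rng_step (all0 _) dW1_0)
theorem din2 (h0 : ∀ s < 2, (Mdl.prod (c24md φ inj) (c6md ψ inj') (nat_lit 7488) p6_lt p6_lt1).In ⊤ (dg0 s)) : ∀ s < 2, (Mdl.prod (c24md φ inj) (c6md ψ inj') (nat_lit 7488) p6_lt p6_lt1).In ((Mdl.prod (c24md φ inj) (c6md ψ inj') (nat_lit 7488) p6_lt p6_lt1).gn dg1 2) (dg2 s) := in_of_chkW (deg1 h0) dW1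
theorem dtop2 (h0 : ∀ s < 2, (Mdl.prod (c24md φ inj) (c6md ψ inj') (nat_lit 7488) p6_lt p6_lt1).In ⊤ (dg0 s)) : ∀ s < 2, (Mdl.prod (c24md φ inj) (c6md ψ inj') (nat_lit 7488) p6_lt p6_lt1).In ⊤ (dg2 s) := fun s hs => (din2 h0 s hs).top
theorem dle1 (h0 : ∀ s < 2, (Mdl.prod (c24md φ inj) (c6md ψ inj') (nat_lit 7488) p6_lt p6_lt1).In ⊤ (dg0 s)) : ((Mdl.prod (c24md φ inj) (c6md ψ inj') (nat_lit 7488) p6_lt p6_lt1).gn dg2 2) ≤ ((Mdl.prod (c24md φ inj) (c6md ψ inj') (nat_lit 7488) p6_lt p6_lt1).gn dg1 2) := gn_le (din2 h0)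
theorem deg2 (h0 : ∀ s < 2, (Mdl.prod (c24md φ inj) (c6md ψ inj') (nat_lit 7488) p6_lt p6_lt1).In ⊤ (dg0 s)) : (Mdl.prod (c24md φ inj) (c6md ψ inj') (nat_lit 7488) p6_lt p6_lt1).El ((Mdl.prod (c24md φ inj) (c6md ψ inj') (nat_lit 7488) p6_lt p6_lt1).gn dg2 2) dg2 := el_gn (dtop2 h0)
theorem dle2 (h0 : ∀ s < 2, (Mdl.prod (c24md φ inj) (c6md ψ inj') (nat_lit 7488) p6_lt p6_lt1).In ⊤ (dg0 s)) : (⊥ : Subgroup (G × H)) ≤ ((Mdl.prod (c24md φ inj) (c6md ψ inj') (nat_lit 7488) p6_lt p6_lt1).gn dg2 2) := bot_le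
theorem del3 (h0 : ∀ s < 2, (Mdl.prod (c24md φ inj) (c6md ψ inj') (nat_lit 7488) p6_lt p6_lt1).In ⊤ (dg0 s)) : (Mdl.prod (c24md φ inj) (c6md ψ inj') (nat_lit 7488) p6_lt p6_lt1).El ⊥ de3 := el_one _
theorem dub3 (h0 : ∀ s < 2, (Mdl.prod (c24md φ inj) (c6md ψ inj') (nat_lit 7488) p6_lt p6_lt1).In ⊤ (dg0 s)) : Nat.card (⊥ : Subgroup (G × H)) ≤ 1 := card_bot_le
theorem dS2 : ∀ i < 2, (chkS p6mul dg2 (nat_lit 2) dT2 de3 dc2 (nat_lit 1) (nat_lit 2)) i = 0 :=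
  (rng_step (all0 _) dS2_0)
theorem dsch2 (h0 : ∀ s < 2, (Mdl.prod (c24md φ inj) (c6md ψ inj') (nat_lit 7488) p6_lt p6_lt1).In ⊤ (dg0 s)) : (∀ g ∈ ((Mdl.prod (c24md φ inj) (c6md ψ inj') (nat_lit 7488) p6_lt p6_lt1).gn dg2 2), ∃ i < 2, (Mdl.prod (c24md φ inj) (c6md ψ inj') (nat_lit 7488) p6_lt p6_lt1).Cos (⊥ : Subgroup (G × H)) dT2 g i) ∧ (∀ i < 2, (Mdl.prod (c24md φ inj) (c6md ψ inj') (nat_lit 7488) p6_lt p6_lt1).In ((Mdl.prod (c24md φ inj) (c6md ψ inj') (nat_lit 7488) p6_lt p6_lt1).gn dg2 2) (dT2 i)) ∧ Nat.card ((Mdl.prod (c24md φ inj) (c6md ψ inj') (nat_lit 7488) p6_lt p6_lt1).gn dg2 2) ≤ 2 * Nat.card (⊥ : Subgroup (G × H)) :=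
  schreier (del3 h0) (by decide) dT0_2 (dtop2 h0) (dle2 h0) dS2
theorem del2 (h0 : ∀ s < 2, (Mdl.prod (c24md φ inj) (c6md ψ inj') (nat_lit 7488) p6_lt p6_lt1).In ⊤ (dg0 s)) : (Mdl.prod (c24md φ inj) (c6md ψ inj') (nat_lit 7488) p6_lt p6_lt1).El ((Mdl.prod (c24md φ inj) (c6md ψ inj') (nat_lit 7488) p6_lt p6_lt1).gn dg2 2) de2 := (el_of_pad (dsch2 h0).2.1).cel0 _
theorem dub2 (h0 : ∀ s < 2, (Mdl.prod (c24md φ inj) (c6md ψ inj') (nat_lit 7488) p6_lt p6_lt1).In ⊤ (dg0 s)) : Nat.card ((Mdl.prod (c24md φ inj) (c6md ψ inj') (nat_lit 7488) p6_lt p6_lt1).gn dg2 2) ≤ 2 := (upper (dsch2 h0).2.2 (dub3 h0)).trans (by norm_num)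
theorem dS1 : ∀ i < 27, (chkS p6mul dg1 (nat_lit 2) dT1 de2 dc1 (nat_lit 5) (nat_lit 27)) i = 0 :=
  (rng_step (all0 _) dS1_0)
theorem dsch1 (h0 : ∀ s < 2, (Mdl.prod (c24md φ inj) (c6md ψ inj') (nat_lit 7488) p6_lt p6_lt1).In ⊤ (dg0 s)) : (∀ g ∈ ((Mdl.prod (c24md φ inj) (c6md ψ inj') (nat_lit 7488) p6_lt p6_lt1).gn dg1 2), ∃ i < 27, (Mdl.prod (c24md φ inj) (c6md ψ inj') (nat_lit 7488) p6_lt p6_lt1).Cos ((Mdl.prod (c24md φ inj) (c6md ψ inj') (nat_lit 7488) p6_lt p6_lt1).gn dg2 2) dT1 g i) ∧ (∀ i < 27, (Mdl.prod (c24md φ inj) (c6md ψ inj') (nat_lit 7488) p6_lt p6_lt1).In ((Mdl.prod (c24md φ inj) (c6md ψ inj') (nat_lit 7488) p6_lt p6_lt1).gn dg1 2) (dT1 i)) ∧ Nat.card ((Mdl.prod (c24md φ inj) (c6md ψ inj') (nat_lit 7488) p6_lt p6_lt1).gn dg1 2) ≤ 27 * Nat.card ((Mdl.prod (c24md φ inj) (c6md ψ inj') (nat_lit 7488)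 p6_lt p6_lt1).gn dg2 2) :=
  schreier (del2 h0) (by decide) dT0_1 (dtop1 h0) (dle1 h0) dS1
theorem del1 (h0 : ∀ s < 2, (Mdl.prod (c24md φ inj) (c6md ψ inj') (nat_lit 7488) p6_lt p6_lt1).In ⊤ (dg0 s)) : (Mdl.prod (c24md φ inj) (c6md ψ inj') (nat_lit 7488) p6_lt p6_lt1).El ((Mdl.prod (c24md φ inj) (c6md ψ inj') (nat_lit 7488) p6_lt p6_lt1).gn dg1 2) de1 := (el_of_pad (dsch1 h0).2.1).cel ((del2 h0).mono (dle1 h0)) _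
theorem dub1 (h0 : ∀ s < 2, (Mdl.prod (c24md φ inj) (c6md ψ inj') (nat_lit 7488) p6_lt p6_lt1).In ⊤ (dg0 s)) : Nat.card ((Mdl.prod (c24md φ inj) (c6md ψ inj') (nat_lit 7488) p6_lt p6_lt1).gn dg1 2) ≤ 54 := (upper (dsch1 h0).2.2 (dub2 h0)).trans (by norm_num)
theorem dS0 : ∀ i < 224, (chkS p6mul dg0 (nat_lit 2) dT0 de1 dc0 (nat_lit 8) (nat_lit 224)) i = 0 :=
  (rng_step (rng_step (all0 _) dS0_0) dS0_1)
theorem dsch0 (h0 : ∀ s < 2, (Mdl.prod (c24md φ inj) (c6md ψ inj') (nat_lit 7488) p6_lt p6_lt1).In ⊤ (dg0 s)) : (∀ g ∈ ((Mdl.prod (c24md φ inj) (c6md ψ inj') (nat_lit 7488) p6_lt p6_lt1).gn dg0 2), ∃ i < 224, (Mdl.prod (c24md φ inj) (c6md ψ inj') (nat_lit 7488) p6_lt p6_lt1).Cos ((Mdl.prod (c24md φ inj) (c6md ψ inj') (nat_lit 7488) p6_lt p6_lt1).gn dg1 2) dT0 g i) ∧ (∀ i < 224, (Mdl.prod (c24md φ inj) (c6md ψ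 inj') (nat_lit 7488) p6_lt p6_lt1).In ((Mdl.prod (c24md φ inj) (c6md ψ inj') (nat_lit 7488) p6_lt p6_lt1).gn dg0 2) (dT0 i)) ∧ Nat.card ((Mdl.prod (c24md φ inj) (c6md ψ inj') (nat_lit 7488) p6_lt p6_lt1).gn dg0 2) ≤ 224 * Nat.card ((Mdl.prod (c24md φ inj) (c6md ψ inj') (nat_lit 7488) p6_lt p6_lt1).gn dg1 2) :=
  schreier (del1 h0) (by decide) dT0_0 (dtop0 h0) (dle0 h0) dS0
theorem del0 (h0 : ∀ s < 2, (Mdl.prod (c24md φ inj) (c6md ψ inj') (nat_lit 7488) p6_lt p6_lt1).In ⊤ (dg0 s)) : (Mdl.prod (c24md φ inj) (c6md ψ inj') (nat_lit 7488) p6_lt p6_lt1).El ((Mdl.prod (c24md φ inj) (c6md ψ inj') (nat_lit 7488) p6_lt p6_lt1).gn dg0 2) de0 := (el_of_pad (dsch0 h0).2.1).cel ((del1 h0).mono (dle0 h0)) _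
theorem dub0 (h0 : ∀ s < 2, (Mdl.prod (c24md φ inj) (c6md ψ inj') (nat_lit 7488) p6_lt p6_lt1).In ⊤ (dg0 s)) : Nat.card ((Mdl.prod (c24md φ inj) (c6md ψ inj') (nat_lit 7488) p6_lt p6_lt1).gn dg0 2) ≤ 12096 := (upper (dsch0 h0).2.2 (dub1 h0)).trans (by norm_num)
theorem dP : ∀ i < 2, (chkPr (nat_lit 7488) dg0 ag1 sg0) i = 0 :=
  (rng_step (all0 _) dP_0)
theorem zE : ∀ i < 1, (chkE zp de0 [nat_lit 8192]) i = 0 :=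
  (rng_step (all0 _) zE_0)
theorem zP : ∀ i < 1, (chkPr (nat_lit 7488) zp zt (fun _ => c6.one)) i = 0 :=
  (rng_step (all0 _) zP_0)
end

end Cfsg.Agent.H5.J2
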