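import Cfsg.Agent.H5.J3Ops

set_option autoImplicit false

namespace Cfsg.Agent.H5.J3

theorem c3 : sumTo chk3 204 = 0 := by decide +kernel
theorem c3' : sumTo (fun i => Nat.xor (t3 (204 + i)) cone) 52 = 0 := by decide +kernel
theorem c2 : sumTo chk2 120 = 0 := by decide +kernel
theorem c2' : sumTo (fun i => Nat.xor (t2 (120 + i)) cone) 8 = 0 := by decide +kernel
theorem t_zero : t1 0 = cone ∧ t2 0 = cone ∧ t3 0 = cone := by decide +kernel
theorem cwords : prodJ (wa.map off) = ca ∧ powJ (prodJ (wb.map off)) 5 = cb ∧ off 37 = cc ∧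
    prodJ (wl.map fun e => ifz e ca cb) = cl ∧ powJ ca 34 = cw := by decide +kernel
theorem crep : sumL repW (fun r => Nat.add (Nat.xor (altW cc r.2.1) (t1 r.1))
    (Nat.xor (altW (t1 r.1) r.2.2) cc)) = 0 := by decide +kernel
theorem crep' : repW.map (·.1) = reps := by decide +kernel
theorem coff : sumTo (fun i => Nat.add (Nat.xor (gel (fld offC 28 (2^28-1) i)) (off i))
    (nlt (Nat.land (fld offC 28 (2^28-1) i) 8191) 6156)) 45 = 0 := by decide +kernel
theorem c19 : sumL dec19 (fun r => Nat.xor (mulJ (gel r.2.1) (gel r.2.2)) r.1 +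
    Nat.xor (powJ (gel r.2.1) 19) cone + Nat.xor (powJ (gel r.2.2) 19) cone +
    nlt (Nat.land r.2.1 8191) 6156 + nlt (Nat.land r.2.2 8191) 6156) = 0 := by decide +kernel
theorem ctr : trChk ca caT + trChk cb cbT + trChk cc ccT + trChk ch0 ch0T + trChk ch1 ch1T +
    trChk ch2 ch2T = 0 := by decide +kernel
theorem cun : mulJ caT (cjJ ca) = cone ∧ mulJ cbT (cjJ cb) = cone ∧ mulJ ccT (cjJ cc) = cone := by
  decide +kernel
theorem chs : (gel gh0 = ch0 ∧ gel gh1 = ch1 ∧ gel gh2 = ch2) ∧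
    (Nat.land gh0 8191 < 6156 ∧ Nat.land gh1 8191 < 6156 ∧ Nat.land gh2 8191 < 6156) ∧
    act1 1 ch0T = 1 ∧ act1 1 ch1T = 1 ∧ act1 1 ch2T = 1 := by decide +kernel
theorem cab : mulJ ca cb ≠ mulJ cb ca := by decide +kernel
theorem cflags : Nat.land (vv 1) 128 ≠ 0 ∧ Nat.land (vv 1) 256 ≠ 0 ∧ Nat.land (vv 0) 128 = 0 ∧
    Nat.land (vv 73) 128 = 0 ∧ Nat.land (vv 72) 128 = 0 ∧ Nat.land (vv 511) 128 ≠ 0 ∧
    ∀ i < 9, Nat.land (vv (2 ^ i)) 128 ≠ 0 := by decide +kernel
theorem cX : sumTo (s64 (below 2160 chkX)) 34 = 0 := by decide +kernel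
theorem c1_0 : s512 (below 6156 chk1) 0 = 0 := by decide +kernel
theorem c1_1 : s512 (below 6156 chk1) 1 = 0 := by decide +kernel
theorem c1_2 : s512 (below 6156 chk1) 2 = 0 := by decide +kernel
theorem c1_3 : s512 (below 6156 chk1) 3 = 0 := by decide +kernel
theorem c1_4 : s512 (below 6156 chk1) 4 = 0 := by decide +kernel
theorem c1_5 : s512 (below 6156 chk1) 5 = 0 := by decide +kernel
theorem c1_6 : s512 (below 6156 chk1) 6 = 0 := by decide +kernel
theorem c1_7 : s512 (below 6156 chk1) 7 = 0 := by decide +kernel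
theorem c1_8 : s512 (below 6156 chk1) 8 = 0 := by decide +kernel
theorem c1_9 : s512 (below 6156 chk1) 9 = 0 := by decide +kernel
theorem c1_10 : s512 (below 6156 chk1) 10 = 0 := by decide +kernel
theorem c1_11 : s512 (below 6156 chk1) 11 = 0 := by decide +kernel
theorem c1_12 : s512 (below 6156 chk1) 12 = 0 := by decide +kernel

theorem c1 : ∀ i < 6156, chk1 i = 0 := by
  refine (s512_blk _).zero_below (c := 13) (fun j hj => ?_) (by norm_num)
  interval_cases j
  exacts [c1_0, c1_1, c1_2, c1_3, c1_4, c1_5, c1_6, c1_7, c1_8, c1_9, c1_10, c1_11, c1_12]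

end Cfsg.Agent.H5.J3
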