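import Cfsg.Agent.H5.F4Mat
import Cfsg.Agent.H5.J3Data

/-! The checking functions for the third Janko group. -/

set_option autoImplicit false

namespace Cfsg.Agent.H5

local infixl:65 " +ₙ " => Nat.add
local infixl:70 " *ₙ " => Nat.mul
local infixl:60 " &ₙ " => Nat.land
local infixl:58 " ^ₙ " => Nat.xor
local infixl:75 " >ₙ " => Nat.shiftRight

def x18 (f : ℕ → ℕ) : ℕ := (Nat.xor (Nat.xor (Nat.xor (Nat.xor (Nat.xor (Nat.xor (Nat.xor (Nat.xor (Nat.xor (Nat.xor (Nat.xor (Nat.xor (Nat.xor (Nat.xor (Nat.xor (Nat.xor (Nat.xor (Nat.xor (nat_lit 0) (f (nat_lit 0))) (f (nat_lit 1))) (f (nat_lit 2))) (f (nat_lit 3))) (f (nat_lit 4))) (f (nat_lit 5))) (f (nat_lit 6))) (f (nat_lit 7))) (f (nat_lit 8))) (f (nat_lit 9))) (f (nat_lit 10))) (f (nat_lit 11))) (f (nat_lit 12))) (f (nat_lit 13))) (f (nat_lit 14))) (f (nat_lit 15))) (f (nat_lit 16))) (f (nat_lit 17)))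

theorem x18_eq (f : ℕ → ℕ) : x18 f = xorTo f 18 := rfl

/-- zero iff `x ∈ l` -/
noncomputable def notmem (l : List ℕ) (x : ℕ) : ℕ :=
  List.rec (motive := fun _ => ℕ) (nat_lit 1) (fun a _ ih => Nat.mul (Nat.xor a x) ih) l

theorem mem_of_notmem {l : List ℕ} {x : ℕ} (h : notmem l x = 0) : x ∈ l := by
  induction l with
  | nil => exact absurd h Nat.one_ne_zero
  | cons a l ih =>
    rcases Nat.mul_eq_zero.1 h with h | h
    · rw [← xor_eq_zero' h]; exact List.mem_cons_self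
    · exact List.mem_cons_of_mem _ (ih h)

/-- zero iff `a < b` -/
def nlt (a b : ℕ) : ℕ := Nat.sub (Nat.succ a) b

theorem lt_of_nlt {a b : ℕ} (h : nlt a b = 0) : a < b := lt_of_sub_succ h

noncomputable def sumL {α : Type} (l : List α) (f : α → ℕ) : ℕ :=
  List.rec (motive := fun _ => ℕ) (nat_lit 0) (fun a _ ih => Nat.add (f a) ih) l

theorem sumL_zero {α : Type} {l : List α} {f : α → ℕ} (h : sumL l f = 0) : ∀ a ∈ l, f a = 0 := by
  induction l with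
  | nil => simp
  | cons a l ih =>
    obtain ⟨h1, h2⟩ := add_eq_zero' h
    intro b hb
    rcases List.mem_cons.1 hb with rfl | hb
    · exact h1
    · exact ih h2 b hb

namespace J3

def FULL : ℕ := nat_lit 0x3ffffffffffffffffffffffffffffffffffffffff
def til (B : ℕ) : ℕ := tilde4 (nat_lit 9) (nat_lit 0x1ff007fc01ff007fc01ff007fc01ff007fc01ff) (nat_lit 0x3ffffffffffffffffffffffffffffffffffffffff) (nat_lit 162) B
def mulJ (A B : ℕ) : ℕ := x18 (bstep (nat_lit 18) (nat_lit 0x1000040001000040001000040001000040001) (nat_lit 262143) A (til B))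
def M64 : ℕ := nat_lit 0x40001000040001000040001000040001000040001000040001000040001000040001000040001000040001000040001000040001000040001000040001000040001000040001000040001000040001000040001000040001000040001000040001000040001000040001000040001000040001000040001000040001000040001000040001000040001000040001
def BASE : ℕ := nat_lit 0xfc003e000f4003c000ec003a000e40038000dc0036000d40034000cc0032000c40030000bc002e000b4002c000ac002a000a400280009c00260009400240008c00220008400200007c001e00074001c0006c001a0006400180005c00160005400140004c00120004400100003c000e00034000c0002c000a0002400080001c00060001400040000c0002000040000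
def actB (A B : ℕ) : ℕ := x18 (bstep (nat_lit 18) M64 (nat_lit 262143) A (til B))
def act1 (v B : ℕ) : ℕ := x18 (bstep (nat_lit 18) (nat_lit 1) (nat_lit 262143) v (til B))

theorem lo_eq : lo4 9 9 = 0x1ff007fc01ff007fc01ff007fc01ff007fc01ff := by decide +kernel
theorem M9_eq : col1 (2 * 9) 9 = 0x1000040001000040001000040001000040001 := by decide +kernel
theorem M64_eq : col1 (2 * 9) 64 = M64 := by decide +kernel
theorem M1_eq : col1 (2 * 9) 1 = 1 := by decide +kernel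
theorem BASE_eq : pack (2 ^ 18) (fun i => i) 64 = BASE := by decide +kernel

theorem mulJ_eq (A B : ℕ) : mulJ A B = mul4 9 9 A B := by
  rw [mul4, lo_eq, M9_eq]; rfl
theorem actB_eq (A B : ℕ) : actB A B = mul4 9 64 A B := by
  rw [mul4, lo_eq, M64_eq]; rfl
theorem act1_eq (A B : ℕ) : act1 A B = mul4 9 1 A B := by
  rw [mul4, lo_eq, M1_eq]; rfl

noncomputable def t3 (i : ℕ) : ℕ := look T3 (nat_lit 4) (nat_lit 15) (nat_lit 162) FULL i
noncomputable def t2 (i : ℕ) : ℕ := look T2 (nat_lit 4) (nat_lit 15) (nat_lit 162) FULL i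
noncomputable def t1 (i : ℕ) : ℕ := look T1 (nat_lit 5) (nat_lit 31) (nat_lit 162) FULL i
noncomputable def kel (m : ℕ) : ℕ := mulJ (t2 (m &ₙ (nat_lit 127))) (t3 (m >ₙ (nat_lit 7) &ₙ (nat_lit 255)))
noncomputable def gel (m : ℕ) : ℕ := mulJ (t1 (m &ₙ (nat_lit 8191))) (kel (m >ₙ (nat_lit 13)))
noncomputable def off (i : ℕ) : ℕ := fld offT (nat_lit 162) FULL i

noncomputable def chk3' (i j1 j2 : ℕ) : ℕ :=
  (mulJ ca (t3 i) ^ₙ t3 j1) +ₙ (mulJ cl (t3 i) ^ₙ t3 j2) +ₙ nlt j1 (nat_lit 204) +ₙ nlt j2 (nat_lit 204) +ₙ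
    ifz i (nat_lit 0) (nlt j1 i *ₙ nlt j2 i)
noncomputable def chk3 (i : ℕ) : ℕ :=
  chk3' i (fld C3 (nat_lit 8) (nat_lit 255) ((nat_lit 2) *ₙ i)) (fld C3 (nat_lit 8) (nat_lit 255) ((nat_lit 2) *ₙ i +ₙ (nat_lit 1)))

noncomputable def chk2' (i m1 m2 : ℕ) : ℕ :=
  (mulJ ca (t2 i) ^ₙ kel m1) +ₙ (mulJ cb (t2 i) ^ₙ kel m2) +ₙ nlt (m1 &ₙ (nat_lit 127)) (nat_lit 120) +ₙ
    nlt (m2 &ₙ (nat_lit 127)) (nat_lit 120) +ₙ ifz i (nat_lit 0) (nlt (m1 &ₙ (nat_lit 127)) i *ₙ nlt (m2 &ₙ (nat_lit 127)) i)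
noncomputable def chk2 (i : ℕ) : ℕ :=
  chk2' i (fld C2 (nat_lit 15) (nat_lit 32767) ((nat_lit 2) *ₙ i)) (fld C2 (nat_lit 15) (nat_lit 32767) ((nat_lit 2) *ₙ i +ₙ (nat_lit 1)))

/-- zero iff `0 < j < i` -/
def btw (j i : ℕ) : ℕ := nlt j i +ₙ nlt (nat_lit 0) j

noncomputable def chk1'' (i t ma mb mc : ℕ) : ℕ :=
  (mulJ ca t ^ₙ gel ma) +ₙ (mulJ cb t ^ₙ gel mb) +ₙ (mulJ cc t ^ₙ gel mc) +ₙ
    nlt (ma &ₙ (nat_lit 8191)) (nat_lit 6156) +ₙ nlt (mb &ₙ (nat_lit 8191)) (nat_lit 6156) +ₙ nlt (mc &ₙ (nat_lit 8191)) (nat_lit 6156) +ₙ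
    ifz (btw (ma &ₙ (nat_lit 8191)) i *ₙ btw (mb &ₙ (nat_lit 8191)) i) (nat_lit 0) (ifz i (nat_lit 0) (notmem reps i))
noncomputable def chk1' (i e : ℕ) : ℕ :=
  chk1'' i (t1 i) (e &ₙ (nat_lit 268435455)) (e >ₙ (nat_lit 28) &ₙ (nat_lit 268435455)) (e >ₙ (nat_lit 56))
noncomputable def chk1 (i : ℕ) : ℕ := chk1' i (look C1 (nat_lit 6) (nat_lit 63) (nat_lit 84) (nat_lit 0xfffffffffffffffffffff) i)

noncomputable def vv (v : ℕ) : ℕ := look V (nat_lit 8) (nat_lit 255) (nat_lit 9) (nat_lit 511) v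

noncomputable def descV (v t ya yb yc g : ℕ) : ℕ :=
  ifz (g ^ₙ (nat_lit 3)) (notmem [(nat_lit 0), (nat_lit 1), (nat_lit 73), (nat_lit 72)] v)
    (nlt (vv (ifz g ya (ifz (g ^ₙ (nat_lit 1)) yb yc)) &ₙ (nat_lit 31)) (t &ₙ (nat_lit 31)))

noncomputable def coreV (v : ℕ) : ℕ :=
  ifz (notmem [(nat_lit 1), (nat_lit 512), (nat_lit 513)] v) (nat_lit 0)
    (vv (act1 v ch0T) &ₙ vv (act1 v ch1T) &ₙ vv (act1 v ch2T) &ₙ (nat_lit 256))

noncomputable def chkP (v t ta tb tc : ℕ) : ℕ :=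
  ((ta &ₙ tb &ₙ tc &ₙ (nat_lit 128)) ^ₙ (nat_lit 128)) +ₙ
    ifz (t &ₙ (nat_lit 256)) (nat_lit 0) (((ta &ₙ tb &ₙ (nat_lit 256)) ^ₙ (nat_lit 256)) +ₙ coreV v)

noncomputable def chkv' (v t ya yb yc : ℕ) : ℕ :=
  ifz (t &ₙ (nat_lit 128)) ((nat_lit 1048576) *ₙ descV v t ya yb yc (t >ₙ (nat_lit 5) &ₙ (nat_lit 3)))
    (Nat.succ ((nat_lit 1048576) *ₙ (descV v t ya yb yc (t >ₙ (nat_lit 5) &ₙ (nat_lit 3)) +ₙ
      chkP v t (vv ya) (vv yb) (vv yc))))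

noncomputable def chkv (b Ya Yb Yc i : ℕ) : ℕ :=
  chkv' (b +ₙ i) (vv (b +ₙ i)) (fld Ya (nat_lit 18) (nat_lit 262143) i) (fld Yb (nat_lit 18) (nat_lit 262143) i)
    (fld Yc (nat_lit 18) (nat_lit 262143) i)

noncomputable def chkV' (b A : ℕ) : ℕ := s64 (chkv b (actB A caT) (actB A cbT) (actB A ccT)) (nat_lit 0)
noncomputable def chkV (q : ℕ) : ℕ := chkV' ((nat_lit 64) *ₙ q) (BASE +ₙ M64 *ₙ ((nat_lit 64) *ₙ q))

noncomputable def xx (i : ℕ) : ℕ := look X (nat_lit 6) (nat_lit 63) (nat_lit 36) (nat_lit 68719476735) i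
noncomputable def xv (i : ℕ) : ℕ := xx i &ₙ (nat_lit 262143)
noncomputable def xd (i : ℕ) : ℕ := xx i >ₙ (nat_lit 31)
noncomputable def chkX' (i p : ℕ) : ℕ :=
  ifz (i ^ₙ xroot) (xv i ^ₙ xv0)
    ((xv i ^ₙ act1 (xv p) (ifz (xx i >ₙ (nat_lit 30) &ₙ (nat_lit 1)) ch0T ch1T)) +ₙ nlt (xd p) (xd i) +ₙ
      nlt p (nat_lit 2160)) +ₙ below (nat_lit 2159) (fun i => nlt (xv i) (xv (i +ₙ (nat_lit 1)))) i
noncomputable def chkX (i : ℕ) : ℕ := chkX' i (xx i >ₙ (nat_lit 18) &ₙ (nat_lit 4095))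

/-- alternating products -/
noncomputable def altW (x : ℕ) (w : List ℕ) : ℕ :=
  List.rec (motive := fun _ => ℕ) cone (fun e _ ih => mulJ (ifz e x (kel (Nat.pred e))) ih) w

noncomputable def prodJ (l : List ℕ) : ℕ :=
  List.rec (motive := fun _ => ℕ) cone (fun a _ ih => mulJ a ih) l
noncomputable def powJ (a n : ℕ) : ℕ :=
  Nat.rec (motive := fun _ => ℕ) cone (fun _ ih => mulJ a ih) n

noncomputable def trChk (A B : ℕ) : ℕ :=
  sumTo (fun i => sumTo (fun j => e4 9 A i j ^ₙ e4 9 B j i) 9) 9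

def cjJ (A : ℕ) : ℕ := A ^ₙ (A >ₙ (nat_lit 9) &ₙ (nat_lit 0x1ff007fc01ff007fc01ff007fc01ff007fc01ff))

end J3

end Cfsg.Agent.H5
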