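import Cfsg.Agent.H5.LeeE
import Cfsg.Agent.H5.LeeData1

/-! Enumeration of the minimal vectors and orbit certificates. -/

set_option autoImplicit false

namespace Cfsg.Agent.H5.Lee

open Finset H4

def ONE : ℕ := nat_lit 0x80004000200010000800040002000100008000400020001000080004000200010000800040002000100008000400020001
def TWO : ℕ := nat_lit 0x100008000400020001000080004000200010000800040002000100008000400020001000080004000200010000800040002
def FOUR : ℕ := nat_lit 0x200010000800040002000100008000400020001000080004000200010000800040002000100008000400020001000080004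
def ONE12 : ℕ := nat_lit 0x80004000200010000800040002000100008000400020001
def C9 : ℕ := nat_lit 0x1000480024001200090004800240012000900048002400120009000480024001200090004800240012000900048002400120009
def M255 : ℕ := nat_lit 0x7f803fc01fe00ff007f803fc01fe00ff007f803fc01fe00ff007f803fc01fe00ff007f803fc01fe00ff007f803fc01fe00ff
def m408 : ℕ := nat_lit 0xffffffffffffffffffffffffffffffffffffffffffffffffffffffffffffffffffffffffffffffffffffffffffffffffffffff
def U0 : ℕ := nat_lit 0x100048002400120009000480024001200090004800240012000900048002400120009000480024001200090004800240012000d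

def Eo (i : ℕ) : ℕ :=
  (fun S P => Nat.sub (Nat.add C9 (Nat.mul (nat_lit 8) (Nat.land S P)))
    (Nat.add (Nat.mul (nat_lit 2) S) (Nat.mul (nat_lit 4) P)))
  (Nat.xor (fld T1 (nat_lit 408) m408 (Nat.land i (nat_lit 63)))
    (fld T2 (nat_lit 408) m408 (Nat.land (Nat.shiftRight i (nat_lit 6)) (nat_lit 63))))
  (Nat.shiftLeft (nat_lit 1) (Nat.mul (nat_lit 17) (Nat.shiftRight i (nat_lit 12))))

noncomputable def oD (o : ℕ) : ℕ := look TD (nat_lit 4) (nat_lit 15) (nat_lit 408) m408 o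

noncomputable def Eb (j : ℕ) : ℕ :=
  force (Nat.shiftRight j (nat_lit 7)) fun o =>
  Nat.sub (Nat.add Z0 (Nat.land (Nat.shiftRight (Nat.add (oD o) M255) (nat_lit 7)) TWO))
    (Nat.land (Nat.shiftRight (Nat.add (Nat.land (oD o) (Nat.mul ONE
      (fld PT (nat_lit 8) (nat_lit 255) (Nat.land j (nat_lit 127))))) M255) (nat_lit 6)) FOUR)

def Ea (j : ℕ) : ℕ :=
  (fun p => (fun P Q => Nat.sub (Nat.add Z0 (Nat.add (Nat.mul (Nat.mul (nat_lit 8) (Nat.land j (nat_lit 1))) P)
      (Nat.mul (Nat.mul (nat_lit 4) (Nat.land j (nat_lit 2))) Q))) (Nat.mul (nat_lit 4) (Nat.add P Q)))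
    (Nat.shiftLeft (nat_lit 1) (Nat.mul (nat_lit 17) (Nat.land p (nat_lit 31))))
    (Nat.shiftLeft (nat_lit 1) (Nat.mul (nat_lit 17) (Nat.shiftRight p (nat_lit 5)))))
  (fld PA (nat_lit 10) (nat_lit 1023) (Nat.shiftRight j (nat_lit 2)))

/-- the minimal vector number `i` -/
noncomputable def E (i : ℕ) : ℕ :=
  ifz (Nat.div i (nat_lit 98304)) (Eo i)
    (ifz (Nat.div i (nat_lit 195456)) (Eb (Nat.sub i (nat_lit 98304))) (Ea (Nat.sub i (nat_lit 195456))))

def inf (X : ℕ) : ℕ := Nat.mod (Nat.land (Nat.shiftRight X (nat_lit 1)) ONE12) (nat_lit 131070)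

def lg17 (P : ℕ) : ℕ := fld (nat_lit 0xe9ac0c84828882b4ba4c768ecf2080a01400) (nat_lit 5) (nat_lit 31) (Nat.mod P (nat_lit 29))

def rankO (X : ℕ) : ℕ :=
  Nat.add (Nat.shiftLeft (lg17 (Nat.land (Nat.xor (Nat.shiftRight X (nat_lit 1))
    (Nat.shiftRight X (nat_lit 2))) ONE)) (nat_lit 12)) (inf X)

def rankA (X : ℕ) : ℕ :=
  (fun Q => (fun p q => Nat.add (Nat.add (nat_lit 195456) (Nat.mul (nat_lit 4)
      (Nat.add (Nat.div (Nat.mul q (Nat.sub q (nat_lit 1))) (nat_lit 2)) p)))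
      (Nat.add (Nat.div (dg X p) (nat_lit 8)) (Nat.mul (nat_lit 2) (Nat.div (dg X q) (nat_lit 8)))))
    (lg17 (Nat.xor Q (Nat.land Q (Nat.sub Q (nat_lit 1))))) (lg17 (Nat.land Q (Nat.sub Q (nat_lit 1)))))
  (Nat.land (Nat.shiftRight X (nat_lit 2)) ONE)

noncomputable def rankE (X : ℕ) : ℕ :=
  force (inf X) fun c => ifz c (rankA X)
    (force (look OI (nat_lit 8) (nat_lit 255) (nat_lit 10) (nat_lit 1023) c) fun o =>
      Nat.add (Nat.add (nat_lit 98304) (Nat.mul (nat_lit 128) o))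
        (Nat.land (Nat.mod (Nat.land (oD o) (Nat.mul (nat_lit 255)
          (Nat.land (Nat.shiftRight X (nat_lit 2)) ONE))) (nat_lit 131071)) (nat_lit 127)))

noncomputable def rank (X : ℕ) : ℕ := ifz (Nat.land X (nat_lit 1)) (rankE X) (rankO X)

/-- one step of an orbit certificate: the result is the orbit number, 30 (not concerned) or
31 (failure) -/
noncomputable def chkP (P key D par G bc : ℕ → ℕ) (r n q : ℕ) : ℕ :=
  force (key q) fun k => ifz (Nat.sub (Nat.succ k) r)
    (ifz (ifz (Nat.shiftRight (D q) (nat_lit 3)) (Nat.xor (P q) (bc k))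
      (force (par q) fun j => Nat.add (Nat.add (Nat.sub (Nat.succ j) n) (Nat.xor (key j) k))
        (Nat.add (Nat.sub (Nat.succ (Nat.shiftRight (D j) (nat_lit 3))) (Nat.shiftRight (D q) (nat_lit 3)))
          (Nat.xor (mv (G q) (P j)) (P q))))) k (nat_lit 31)) (nat_lit 30)

def p20 (a : ℕ) : ℕ := Nat.shiftLeft (nat_lit 1) (Nat.mul (nat_lit 20) a)

theorem p20_eq (a : ℕ) : p20 a = (2 ^ 20) ^ a := by
  change 1 <<< (20 * a) = _
  rw [Nat.one_shiftLeft, pow_mul]

noncomputable def gsel (T : Tr) (D : ℕ → ℕ) (q : ℕ) : ℕ := force (Nat.land (D q) (nat_lit 7)) T.get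

theorem gsel_cert {T : Tr} {D : ℕ → ℕ} {Q : ℕ → Prop} (h : ∀ a < 8, Q (T.get a)) (q : ℕ) :
    Q (gsel T D q) := h _ (lt_of_le_of_lt Nat.and_le_right (by norm_num))

noncomputable def dep1 (i : ℕ) : ℕ := look D1 (nat_lit 9) (nat_lit 511) (nat_lit 8) (nat_lit 255) i
noncomputable def key1 (i : ℕ) : ℕ :=
  fld KT (nat_lit 5) (nat_lit 31) (Nat.add (Nat.add (Nat.land (E i) (nat_lit 31))
    (Nat.land (Nat.shiftRight (E i) (nat_lit 12)) (nat_lit 992))) (Nat.div i (nat_lit 195456)))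
noncomputable def par1 (i : ℕ) : ℕ := rank (mv (gsel G1 dep1 i) (E i))
noncomputable def bc1 (k : ℕ) : ℕ := E (fld BI (nat_lit 18) (nat_lit 262143) k)
noncomputable def a1 (i : ℕ) : ℕ :=
  ifz (Nat.xor (rank (E i)) i) (chkP E key1 dep1 par1 (gsel G1 dep1) bc1 (nat_lit 19) (nat_lit 196560) i)
    (nat_lit 31)
noncomputable def b1 (i : ℕ) : ℕ :=
  Nat.add (nat_lit 32) (Nat.sub (Nat.shiftRight (dt U0 (E i)) (nat_lit 3)) (nat_lit 250))
noncomputable def chk1 (i : ℕ) : ℕ := force i fun i => Nat.add (p20 (a1 i)) (p20 (b1 i))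

end Cfsg.Agent.H5.Lee
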