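import Cfsg.Agent.H5.LyxD4

set_option autoImplicit false
set_option maxRecDepth 100000
set_option Elab.async false

namespace Cfsg.Agent.H5.Ly

theorem bW0_0 : rng bW0f (nat_lit 0) (nat_lit 3) = 0 := by decide +kernel
theorem bW1_0 : rng bW1f (nat_lit 0) (nat_lit 3) = 0 := by decide +kernel
theorem bW2_0 : rng bW2f (nat_lit 0) (nat_lit 2) = 0 := by decide +kernel
theorem bS3_0 : rng bS3f (nat_lit 0) (nat_lit 4) = 0 := by decide +kernel
theorem bT0_3 : bT3 0 = c111.one := by decide +kernel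
theorem bS2_0 : rng bS2f (nat_lit 0) (nat_lit 8) = 0 := by decide +kernel
theorem bS2_1 : rng bS2f (nat_lit 8) (nat_lit 8) = 0 := by decide +kernel
theorem bS2_2 : rng bS2f (nat_lit 16) (nat_lit 8) = 0 := by decide +kernel
theorem bS2_3 : rng bS2f (nat_lit 24) (nat_lit 8) = 0 := by decide +kernel
theorem bS2_4 : rng bS2f (nat_lit 32) (nat_lit 8) = 0 := by decide +kernel
theorem bS2_5 : rng bS2f (nat_lit 40) (nat_lit 8) = 0 := by decide +kernel
theorem bS2_6 : rng bS2f (nat_lit 48) (nat_lit 8) = 0 := by decide +kernel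
theorem bS2_7 : rng bS2f (nat_lit 56) (nat_lit 8) = 0 := by decide +kernel
theorem bS2_8 : rng bS2f (nat_lit 64) (nat_lit 8) = 0 := by decide +kernel
theorem bS2_9 : rng bS2f (nat_lit 72) (nat_lit 8) = 0 := by decide +kernel
theorem bS2_10 : rng bS2f (nat_lit 80) (nat_lit 8) = 0 := by decide +kernel
theorem bS2_11 : rng bS2f (nat_lit 88) (nat_lit 8) = 0 := by decide +kernel
theorem bS2_12 : rng bS2f (nat_lit 96) (nat_lit 8) = 0 := by decide +kernel
theorem bS2_13 : rng bS2f (nat_lit 104) (nat_lit 8) = 0 := by decide +kernel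
theorem bS2_14 : rng bS2f (nat_lit 112) (nat_lit 8) = 0 := by decide +kernel
theorem bS2_15 : rng bS2f (nat_lit 120) (nat_lit 5) = 0 := by decide +kernel
theorem bT0_2 : bT2 0 = c111.one := by decide +kernel
theorem bS1_0 : rng bS1f (nat_lit 0) (nat_lit 6) = 0 := by decide +kernel
theorem bS1_1 : rng bS1f (nat_lit 6) (nat_lit 6) = 0 := by decide +kernel
theorem bS1_2 : rng bS1f (nat_lit 12) (nat_lit 6) = 0 := by decide +kernel
theorem bS1_3 : rng bS1f (nat_lit 18) (nat_lit 6) = 0 := by decide +kernel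
theorem bS1_4 : rng bS1f (nat_lit 24) (nat_lit 6) = 0 := by decide +kernel
theorem bS1_5 : rng bS1f (nat_lit 30) (nat_lit 6) = 0 := by decide +kernel
theorem bS1_6 : rng bS1f (nat_lit 36) (nat_lit 6) = 0 := by decide +kernel
theorem bS1_7 : rng bS1f (nat_lit 42) (nat_lit 6) = 0 := by decide +kernel
theorem bS1_8 : rng bS1f (nat_lit 48) (nat_lit 6) = 0 := by decide +kernel
theorem bS1_9 : rng bS1f (nat_lit 54) (nat_lit 6) = 0 := by decide +kernel
theorem bS1_10 : rng bS1f (nat_lit 60) (nat_lit 6) = 0 := by decide +kernel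
theorem bS1_11 : rng bS1f (nat_lit 66) (nat_lit 6) = 0 := by decide +kernel
theorem bS1_12 : rng bS1f (nat_lit 72) (nat_lit 6) = 0 := by decide +kernel
theorem bS1_13 : rng bS1f (nat_lit 78) (nat_lit 6) = 0 := by decide +kernel
theorem bS1_14 : rng bS1f (nat_lit 84) (nat_lit 6) = 0 := by decide +kernel
theorem bS1_15 : rng bS1f (nat_lit 90) (nat_lit 6) = 0 := by decide +kernel
theorem bS1_16 : rng bS1f (nat_lit 96) (nat_lit 4) = 0 := by decide +kernel
theorem bT0_1 : bT1 0 = c111.one := by decide +kernel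
theorem bS0_0 : rng bS0f (nat_lit 0) (nat_lit 8) = 0 := by decide +kernel
theorem bS0_1 : rng bS0f (nat_lit 8) (nat_lit 8) = 0 := by decide +kernel
theorem bS0_2 : rng bS0f (nat_lit 16) (nat_lit 8) = 0 := by decide +kernel
theorem bS0_3 : rng bS0f (nat_lit 24) (nat_lit 6) = 0 := by decide +kernel
theorem bT0_0 : bT0 0 = c111.one := by decide +kernel
theorem by3Y_0 : rngB by3Yf (nat_lit 4) (nat_lit 0) (nat_lit 1) = 0 := by decide +kernel
theorem bO3_0 : rngB bO3f (nat_lit 4) (nat_lit 0) (nat_lit 1) = 0 := by decide +kernel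
theorem by2Y_0 : rngB by2Yf (nat_lit 125) (nat_lit 0) (nat_lit 2) = 0 := by decide +kernel
theorem bO2_0 : rngB bO2f (nat_lit 125) (nat_lit 0) (nat_lit 2) = 0 := by decide +kernel
theorem bF2_0 : rng bF2f (nat_lit 0) (nat_lit 2) = 0 := by decide +kernel
theorem by1Y_0 : rngB by1Yf (nat_lit 100) (nat_lit 0) (nat_lit 2) = 0 := by decide +kernel
theorem bO1_0 : rngB bO1f (nat_lit 100) (nat_lit 0) (nat_lit 2) = 0 := by decide +kernel
theorem bF1_0 : rng bF1f (nat_lit 0) (nat_lit 3) = 0 := by decide +kernel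
theorem by0Y_0 : rngB by0Yf (nat_lit 30) (nat_lit 0) (nat_lit 1) = 0 := by decide +kernel
theorem bO0_0 : rngB bO0f (nat_lit 30) (nat_lit 0) (nat_lit 1) = 0 := by decide +kernel
theorem bF0_0 : rng bF0f (nat_lit 0) (nat_lit 3) = 0 := by decide +kernel
theorem eD0 : eD 0 = c111.one := by decide +kernel
theorem eT_0 : rng eTf (nat_lit 0) (nat_lit 2) = 0 := by decide +kernel
theorem el2W0_0 : rng el2W0f (nat_lit 0) (nat_lit 2) = 0 := by decide +kernel
theorem el2y1Y_0 : rngB el2y1Yf (nat_lit 16) (nat_lit 0) (nat_lit 1) = 0 := by decide +kernel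
theorem el2O1_0 : rngB el2O1f (nat_lit 16) (nat_lit 0) (nat_lit 1) = 0 := by decide +kernel
theorem el2y0Y_0 : rngB el2y0Yf (nat_lit 125) (nat_lit 0) (nat_lit 2) = 0 := by decide +kernel
theorem el2O0_0 : rngB el2O0f (nat_lit 125) (nat_lit 0) (nat_lit 2) = 0 := by decide +kernel
theorem el2F0_0 : rng el2F0f (nat_lit 0) (nat_lit 2) = 0 := by decide +kernel
theorem el2E_0 : rng el2Ef (nat_lit 0) (nat_lit 2) = 0 := by decide +kernel
theorem el3W0_0 : rng el3W0f (nat_lit 0) (nat_lit 2) = 0 := by decide +kernel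
theorem el3y1Y_0 : rngB el3y1Yf (nat_lit 4) (nat_lit 0) (nat_lit 1) = 0 := by decide +kernel
theorem el3O1_0 : rngB el3O1f (nat_lit 4) (nat_lit 0) (nat_lit 1) = 0 := by decide +kernel
theorem el3y0Y_0 : rngB el3y0Yf (nat_lit 120) (nat_lit 0) (nat_lit 2) = 0 := by decide +kernel
theorem el3O0_0 : rngB el3O0f (nat_lit 120) (nat_lit 0) (nat_lit 2) = 0 := by decide +kernel
theorem el3F0_0 : rng el3F0f (nat_lit 0) (nat_lit 2) = 0 := by decide +kernel
theorem el3E_0 : rng el3Ef (nat_lit 0) (nat_lit 2) = 0 := by decide +kernel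
theorem eK_0 : rng eKf (nat_lit 0) (nat_lit 3) = 0 := by decide +kernel
theorem eL0_0 : rng eL0f (nat_lit 0) (nat_lit 2) = 0 := by decide +kernel
theorem eM0_0 : rng eM0f (nat_lit 0) (nat_lit 1) = 0 := by decide +kernel
theorem eR0_0 : rng eR0f (nat_lit 0) (nat_lit 1) = 0 := by decide +kernel
theorem eL1_0 : rng eL1f (nat_lit 0) (nat_lit 3) = 0 := by decide +kernel
theorem eO1_0 : rngB eO1f (nat_lit 30) (nat_lit 0) (nat_lit 1) = 0 := by decide +kernel
theorem eM1_0 : rng eM1f (nat_lit 0) (nat_lit 3) = 0 := by decide +kernel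
theorem eR1_0 : rng eR1f (nat_lit 0) (nat_lit 3) = 0 := by decide +kernel
theorem eL2_0 : rng eL2f (nat_lit 0) (nat_lit 2) = 0 := by decide +kernel
theorem eO2_0 : rngB eO2f (nat_lit 30) (nat_lit 0) (nat_lit 1) = 0 := by decide +kernel
theorem eM2_0 : rng eM2f (nat_lit 0) (nat_lit 3) = 0 := by decide +kernel
theorem eR2_0 : rng eR2f (nat_lit 0) (nat_lit 3) = 0 := by decide +kernel
theorem eL3_0 : rng eL3f (nat_lit 0) (nat_lit 2) = 0 := by decide +kernel
theorem eO3_0 : rngB eO3f (nat_lit 30) (nat_lit 0) (nat_lit 1) = 0 := by decide +kernel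
theorem eM3_0 : rng eM3f (nat_lit 0) (nat_lit 2) = 0 := by decide +kernel
theorem eR3_0 : rng eR3f (nat_lit 0) (nat_lit 2) = 0 := by decide +kernel
theorem eX3 : chkD c111.mul eD be0 [[nat_lit 3, nat_lit 808041, nat_lit 3, nat_lit 1694756, nat_lit 1, nat_lit 36938]] 0 = 0 := by decide +kernel
theorem eX2 : chkD c111.mul eD be0 [[nat_lit 2, nat_lit 43120, nat_lit 2, nat_lit 1340200, nat_lit 3, nat_lit 1878694]] 0 = 0 := by decide +kernel
theorem bXF_0 : rng bXFf (nat_lit 0) (nat_lit 2) = 0 := by decide +kernel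
theorem bxm0M : chkM (c111b.imgL bxm0) c111b.row bx0 (nat_lit 0) by0 [nat_lit 1] [nat_lit 1] 0 = 0 := by decide +kernel
theorem bxm1M : chkM (c111b.imgL bxm1) c111b.row bx0 (nat_lit 0) by1 [nat_lit 42] [nat_lit 3] 0 = 0 := by decide +kernel
theorem bxm2M : chkM (c111b.imgL bxm2) c111b.row bx0 (nat_lit 0) by2 [nat_lit 108] [nat_lit 1] 0 = 0 := by decide +kernel
theorem bxm3M : chkM (c111b.imgL bxm3) c111b.row bx0 (nat_lit 0) by3 [nat_lit 3] [nat_lit 1] 0 = 0 := by decide +kernel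
theorem eP_0 : rng ePf (nat_lit 0) (nat_lit 1) = 0 := by decide +kernel
theorem eP_1 : rng ePf (nat_lit 1) (nat_lit 1) = 0 := by decide +kernel
theorem eP_2 : rng ePf (nat_lit 2) (nat_lit 1) = 0 := by decide +kernel
theorem sW0_0 : rng sW0f (nat_lit 0) (nat_lit 3) = 0 := by decide +kernel
theorem sW1_0 : rng sW1f (nat_lit 0) (nat_lit 2) = 0 := by decide +kernel
theorem sW2_0 : rng sW2f (nat_lit 0) (nat_lit 2) = 0 := by decide +kernel
theorem sS3_0 : rng sS3f (nat_lit 0) (nat_lit 3) = 0 := by decide +kernel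
theorem sT0_3 : sT3 0 = c111.one := by decide +kernel
theorem sS2_0 : rng sS2f (nat_lit 0) (nat_lit 4) = 0 := by decide +kernel
theorem sT0_2 : sT2 0 = c111.one := by decide +kernel
theorem sS1_0 : rng sS1f (nat_lit 0) (nat_lit 6) = 0 := by decide +kernel
theorem sS1_1 : rng sS1f (nat_lit 6) (nat_lit 6) = 0 := by decide +kernel
theorem sS1_2 : rng sS1f (nat_lit 12) (nat_lit 6) = 0 := by decide +kernel
theorem sS1_3 : rng sS1f (nat_lit 18) (nat_lit 6) = 0 := by decide +kernel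
theorem sS1_4 : rng sS1f (nat_lit 24) (nat_lit 6) = 0 := by decide +kernel
theorem sS1_5 : rng sS1f (nat_lit 30) (nat_lit 6) = 0 := by decide +kernel
theorem sS1_6 : rng sS1f (nat_lit 36) (nat_lit 6) = 0 := by decide +kernel
theorem sS1_7 : rng sS1f (nat_lit 42) (nat_lit 6) = 0 := by decide +kernel
theorem sS1_8 : rng sS1f (nat_lit 48) (nat_lit 6) = 0 := by decide +kernel
theorem sS1_9 : rng sS1f (nat_lit 54) (nat_lit 6) = 0 := by decide +kernel
theorem sS1_10 : rng sS1f (nat_lit 60) (nat_lit 6) = 0 := by decide +kernel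
theorem sS1_11 : rng sS1f (nat_lit 66) (nat_lit 6) = 0 := by decide +kernel
theorem sS1_12 : rng sS1f (nat_lit 72) (nat_lit 6) = 0 := by decide +kernel
theorem sS1_13 : rng sS1f (nat_lit 78) (nat_lit 6) = 0 := by decide +kernel
theorem sS1_14 : rng sS1f (nat_lit 84) (nat_lit 6) = 0 := by decide +kernel
theorem sS1_15 : rng sS1f (nat_lit 90) (nat_lit 6) = 0 := by decide +kernel
theorem sS1_16 : rng sS1f (nat_lit 96) (nat_lit 6) = 0 := by decide +kernel
theorem sS1_17 : rng sS1f (nat_lit 102) (nat_lit 6) = 0 := by decide +kernel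
theorem sS1_18 : rng sS1f (nat_lit 108) (nat_lit 6) = 0 := by decide +kernel
theorem sS1_19 : rng sS1f (nat_lit 114) (nat_lit 6) = 0 := by decide +kernel
theorem sS1_20 : rng sS1f (nat_lit 120) (nat_lit 5) = 0 := by decide +kernel
theorem sT0_1 : sT1 0 = c111.one := by decide +kernel
theorem sS0_0 : rng sS0f (nat_lit 0) (nat_lit 8) = 0 := by decide +kernel
theorem sS0_1 : rng sS0f (nat_lit 8) (nat_lit 8) = 0 := by decide +kernel
theorem sS0_2 : rng sS0f (nat_lit 16) (nat_lit 8) = 0 := by decide +kernel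
theorem sS0_3 : rng sS0f (nat_lit 24) (nat_lit 8) = 0 := by decide +kernel
theorem sS0_4 : rng sS0f (nat_lit 32) (nat_lit 8) = 0 := by decide +kernel
theorem sS0_5 : rng sS0f (nat_lit 40) (nat_lit 8) = 0 := by decide +kernel
theorem sS0_6 : rng sS0f (nat_lit 48) (nat_lit 8) = 0 := by decide +kernel
theorem sS0_7 : rng sS0f (nat_lit 56) (nat_lit 8) = 0 := by decide +kernel

end Cfsg.Agent.H5.Ly
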