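import Cfsg.Agent.H5.LyxD4

set_option autoImplicit false
set_option maxRecDepth 100000
set_option Elab.async false

namespace Cfsg.Agent.H5.Ly

theorem sS0_8 : rng sS0f (nat_lit 64) (nat_lit 8) = 0 := by decide +kernel
theorem sS0_9 : rng sS0f (nat_lit 72) (nat_lit 8) = 0 := by decide +kernel
theorem sS0_10 : rng sS0f (nat_lit 80) (nat_lit 8) = 0 := by decide +kernel
theorem sS0_11 : rng sS0f (nat_lit 88) (nat_lit 8) = 0 := by decide +kernel
theorem sS0_12 : rng sS0f (nat_lit 96) (nat_lit 8) = 0 := by decide +kernel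
theorem sS0_13 : rng sS0f (nat_lit 104) (nat_lit 8) = 0 := by decide +kernel
theorem sS0_14 : rng sS0f (nat_lit 112) (nat_lit 8) = 0 := by decide +kernel
theorem sS0_15 : rng sS0f (nat_lit 120) (nat_lit 8) = 0 := by decide +kernel
theorem sS0_16 : rng sS0f (nat_lit 128) (nat_lit 8) = 0 := by decide +kernel
theorem sS0_17 : rng sS0f (nat_lit 136) (nat_lit 8) = 0 := by decide +kernel
theorem sS0_18 : rng sS0f (nat_lit 144) (nat_lit 8) = 0 := by decide +kernel
theorem sS0_19 : rng sS0f (nat_lit 152) (nat_lit 8) = 0 := by decide +kernel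
theorem sS0_20 : rng sS0f (nat_lit 160) (nat_lit 8) = 0 := by decide +kernel
theorem sS0_21 : rng sS0f (nat_lit 168) (nat_lit 8) = 0 := by decide +kernel
theorem sS0_22 : rng sS0f (nat_lit 176) (nat_lit 8) = 0 := by decide +kernel
theorem sS0_23 : rng sS0f (nat_lit 184) (nat_lit 8) = 0 := by decide +kernel
theorem sS0_24 : rng sS0f (nat_lit 192) (nat_lit 8) = 0 := by decide +kernel
theorem sS0_25 : rng sS0f (nat_lit 200) (nat_lit 8) = 0 := by decide +kernel
theorem sS0_26 : rng sS0f (nat_lit 208) (nat_lit 8) = 0 := by decide +kernel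
theorem sS0_27 : rng sS0f (nat_lit 216) (nat_lit 8) = 0 := by decide +kernel
theorem sS0_28 : rng sS0f (nat_lit 224) (nat_lit 8) = 0 := by decide +kernel
theorem sS0_29 : rng sS0f (nat_lit 232) (nat_lit 8) = 0 := by decide +kernel
theorem sS0_30 : rng sS0f (nat_lit 240) (nat_lit 8) = 0 := by decide +kernel
theorem sS0_31 : rng sS0f (nat_lit 248) (nat_lit 4) = 0 := by decide +kernel
theorem sT0_0 : sT0 0 = c111.one := by decide +kernel
theorem sy3Y_0 : rngB sy3Yf (nat_lit 3) (nat_lit 0) (nat_lit 1) = 0 := by decide +kernel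
theorem sO3_0 : rngB sO3f (nat_lit 3) (nat_lit 0) (nat_lit 1) = 0 := by decide +kernel
theorem sy2Y_0 : rngB sy2Yf (nat_lit 4) (nat_lit 0) (nat_lit 1) = 0 := by decide +kernel
theorem sO2_0 : rngB sO2f (nat_lit 4) (nat_lit 0) (nat_lit 1) = 0 := by decide +kernel
theorem sF2_0 : rng sF2f (nat_lit 0) (nat_lit 2) = 0 := by decide +kernel
theorem sy1Y_0 : rngB sy1Yf (nat_lit 125) (nat_lit 0) (nat_lit 2) = 0 := by decide +kernel
theorem sO1_0 : rngB sO1f (nat_lit 125) (nat_lit 0) (nat_lit 2) = 0 := by decide +kernel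
theorem sF1_0 : rng sF1f (nat_lit 0) (nat_lit 2) = 0 := by decide +kernel
theorem sy0Y_0 : rngB sy0Yf (nat_lit 252) (nat_lit 0) (nat_lit 4) = 0 := by decide +kernel
theorem sO0_0 : rngB sO0f (nat_lit 252) (nat_lit 0) (nat_lit 4) = 0 := by decide +kernel
theorem sF0_0 : rng sF0f (nat_lit 0) (nat_lit 3) = 0 := by decide +kernel
theorem fD0 : fD 0 = c111.one := by decide +kernel
theorem fT_0 : rng fTf (nat_lit 0) (nat_lit 3) = 0 := by decide +kernel
theorem fl2W0_0 : rng fl2W0f (nat_lit 0) (nat_lit 2) = 0 := by decide +kernel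
theorem fl2y1Y_0 : rngB fl2y1Yf (nat_lit 3) (nat_lit 0) (nat_lit 1) = 0 := by decide +kernel
theorem fl2O1_0 : rngB fl2O1f (nat_lit 3) (nat_lit 0) (nat_lit 1) = 0 := by decide +kernel
theorem fl2y0Y_0 : rngB fl2y0Yf (nat_lit 36) (nat_lit 0) (nat_lit 1) = 0 := by decide +kernel
theorem fl2O0_0 : rngB fl2O0f (nat_lit 36) (nat_lit 0) (nat_lit 1) = 0 := by decide +kernel
theorem fl2F0_0 : rng fl2F0f (nat_lit 0) (nat_lit 2) = 0 := by decide +kernel
theorem fl2E_0 : rng fl2Ef (nat_lit 0) (nat_lit 2) = 0 := by decide +kernel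
theorem fl3W0_0 : rng fl3W0f (nat_lit 0) (nat_lit 2) = 0 := by decide +kernel
theorem fl3y1Y_0 : rngB fl3y1Yf (nat_lit 3) (nat_lit 0) (nat_lit 1) = 0 := by decide +kernel
theorem fl3O1_0 : rngB fl3O1f (nat_lit 3) (nat_lit 0) (nat_lit 1) = 0 := by decide +kernel
theorem fl3y0Y_0 : rngB fl3y0Yf (nat_lit 48) (nat_lit 0) (nat_lit 1) = 0 := by decide +kernel
theorem fl3O0_0 : rngB fl3O0f (nat_lit 48) (nat_lit 0) (nat_lit 1) = 0 := by decide +kernel
theorem fl3F0_0 : rng fl3F0f (nat_lit 0) (nat_lit 2) = 0 := by decide +kernel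
theorem fl3E_0 : rng fl3Ef (nat_lit 0) (nat_lit 2) = 0 := by decide +kernel
theorem fl4W0_0 : rng fl4W0f (nat_lit 0) (nat_lit 2) = 0 := by decide +kernel
theorem fl4W1_0 : rng fl4W1f (nat_lit 0) (nat_lit 2) = 0 := by decide +kernel
theorem fl4y2Y_0 : rngB fl4y2Yf (nat_lit 3) (nat_lit 0) (nat_lit 1) = 0 := by decide +kernel
theorem fl4O2_0 : rngB fl4O2f (nat_lit 3) (nat_lit 0) (nat_lit 1) = 0 := by decide +kernel
theorem fl4y1Y_0 : rngB fl4y1Yf (nat_lit 2) (nat_lit 0) (nat_lit 1) = 0 := by decide +kernel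
theorem fl4O1_0 : rngB fl4O1f (nat_lit 2) (nat_lit 0) (nat_lit 1) = 0 := by decide +kernel
theorem fl4F1_0 : rng fl4F1f (nat_lit 0) (nat_lit 2) = 0 := by decide +kernel
theorem fl4y0Y_0 : rngB fl4y0Yf (nat_lit 84) (nat_lit 0) (nat_lit 2) = 0 := by decide +kernel
theorem fl4O0_0 : rngB fl4O0f (nat_lit 84) (nat_lit 0) (nat_lit 2) = 0 := by decide +kernel
theorem fl4F0_0 : rng fl4F0f (nat_lit 0) (nat_lit 2) = 0 := by decide +kernel
theorem fl4E_0 : rng fl4Ef (nat_lit 0) (nat_lit 2) = 0 := by decide +kernel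
theorem fK_0 : rng fKf (nat_lit 0) (nat_lit 3) = 0 := by decide +kernel
theorem fL0_0 : rng fL0f (nat_lit 0) (nat_lit 2) = 0 := by decide +kernel
theorem fM0_0 : rng fM0f (nat_lit 0) (nat_lit 1) = 0 := by decide +kernel
theorem fR0_0 : rng fR0f (nat_lit 0) (nat_lit 1) = 0 := by decide +kernel
theorem fL1_0 : rng fL1f (nat_lit 0) (nat_lit 3) = 0 := by decide +kernel
theorem fO1_0 : rngB fO1f (nat_lit 252) (nat_lit 0) (nat_lit 4) = 0 := by decide +kernel
theorem fM1_0 : rng fM1f (nat_lit 0) (nat_lit 4) = 0 := by decide +kernel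
theorem fR1_0 : rng fR1f (nat_lit 0) (nat_lit 4) = 0 := by decide +kernel
theorem fL2_0 : rng fL2f (nat_lit 0) (nat_lit 2) = 0 := by decide +kernel
theorem fO2_0 : rngB fO2f (nat_lit 252) (nat_lit 0) (nat_lit 4) = 0 := by decide +kernel
theorem fM2_0 : rng fM2f (nat_lit 0) (nat_lit 12) = 0 := by decide +kernel
theorem fR2_0 : rng fR2f (nat_lit 0) (nat_lit 6) = 0 := by decide +kernel
theorem fR2_1 : rng fR2f (nat_lit 6) (nat_lit 6) = 0 := by decide +kernel
theorem fL3_0 : rng fL3f (nat_lit 0) (nat_lit 2) = 0 := by decide +kernel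
theorem fO3_0 : rngB fO3f (nat_lit 252) (nat_lit 0) (nat_lit 4) = 0 := by decide +kernel
theorem fM3_0 : rng fM3f (nat_lit 0) (nat_lit 9) = 0 := by decide +kernel
theorem fR3_0 : rng fR3f (nat_lit 0) (nat_lit 6) = 0 := by decide +kernel
theorem fR3_1 : rng fR3f (nat_lit 6) (nat_lit 3) = 0 := by decide +kernel
theorem fL4_0 : rng fL4f (nat_lit 0) (nat_lit 2) = 0 := by decide +kernel
theorem fO4_0 : rngB fO4f (nat_lit 252) (nat_lit 0) (nat_lit 4) = 0 := by decide +kernel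
theorem fM4_0 : rng fM4f (nat_lit 0) (nat_lit 4) = 0 := by decide +kernel
theorem fR4_0 : rng fR4f (nat_lit 0) (nat_lit 4) = 0 := by decide +kernel
theorem fX2 : chkD c111.mul fD se0 [[nat_lit 2, nat_lit 228195, nat_lit 2, nat_lit 316768, nat_lit 1, nat_lit 271774]] 0 = 0 := by decide +kernel
theorem fX3 : chkD c111.mul fD se0 [[nat_lit 3, nat_lit 182737, nat_lit 3, nat_lit 268707, nat_lit 1, nat_lit 295879]] 0 = 0 := by decide +kernel
theorem fX4 : chkD c111.mul fD se0 [[nat_lit 4, nat_lit 260249, nat_lit 4, nat_lit 110398, nat_lit 3, nat_lit 390656]] 0 = 0 := by decide +kernel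
theorem sXF_0 : rng sXFf (nat_lit 0) (nat_lit 2) = 0 := by decide +kernel
theorem sxm0M : chkM (c111b.imgV sxm0) c111b.row sx0 (nat_lit 0) sy0 [nat_lit 103] [nat_lit 0] 0 = 0 := by decide +kernel
theorem sxm1M : chkM (c111b.imgV sxm1) c111b.row sx0 (nat_lit 0) sy1 [nat_lit 62] [nat_lit 0] 0 = 0 := by decide +kernel
theorem sxm2M : chkM (c111b.imgV sxm2) c111b.row sx0 (nat_lit 0) sy2 [nat_lit 3] [nat_lit 0] 0 = 0 := by decide +kernel
theorem FyY_0 : rngB FyYf (nat_lit 7128) (nat_lit 0) (nat_lit 16) = 0 := by decide +kernel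
theorem FyY_1 : rngB FyYf (nat_lit 7128) (nat_lit 16) (nat_lit 16) = 0 := by decide +kernel
theorem FyY_2 : rngB FyYf (nat_lit 7128) (nat_lit 32) (nat_lit 16) = 0 := by decide +kernel
theorem FyY_3 : rngB FyYf (nat_lit 7128) (nat_lit 48) (nat_lit 16) = 0 := by decide +kernel
theorem FyY_4 : rngB FyYf (nat_lit 7128) (nat_lit 64) (nat_lit 16) = 0 := by decide +kernel
theorem FyY_5 : rngB FyYf (nat_lit 7128) (nat_lit 80) (nat_lit 16) = 0 := by decide +kernel
theorem FyY_6 : rngB FyYf (nat_lit 7128) (nat_lit 96) (nat_lit 16) = 0 := by decide +kernel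
theorem FO_0 : rngB FOf (nat_lit 7128) (nat_lit 0) (nat_lit 16) = 0 := by decide +kernel
theorem FO_1 : rngB FOf (nat_lit 7128) (nat_lit 16) (nat_lit 16) = 0 := by decide +kernel
theorem FO_2 : rngB FOf (nat_lit 7128) (nat_lit 32) (nat_lit 16) = 0 := by decide +kernel
theorem FO_3 : rngB FOf (nat_lit 7128) (nat_lit 48) (nat_lit 16) = 0 := by decide +kernel
theorem FO_4 : rngB FOf (nat_lit 7128) (nat_lit 64) (nat_lit 16) = 0 := by decide +kernel
theorem FO_5 : rngB FOf (nat_lit 7128) (nat_lit 80) (nat_lit 16) = 0 := by decide +kernel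
theorem FO_6 : rngB FOf (nat_lit 7128) (nat_lit 96) (nat_lit 16) = 0 := by decide +kernel
theorem FF_0 : rng FFf (nat_lit 0) (nat_lit 2) = 0 := by decide +kernel
theorem fP_0 : rng fPf (nat_lit 0) (nat_lit 1) = 0 := by decide +kernel
theorem fP_1 : rng fPf (nat_lit 1) (nat_lit 1) = 0 := by decide +kernel
theorem fP_2 : rng fPf (nat_lit 2) (nat_lit 1) = 0 := by decide +kernel
theorem fZ0_0 : rng fZ0f (nat_lit 0) (nat_lit 3) = 0 := by decide +kernel
theorem fZ1_0 : rng fZ1f (nat_lit 0) (nat_lit 3) = 0 := by decide +kernel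
theorem fnc : c111.mul (sg0 0) (sg0 1) ≠ c111.mul (sg0 1) (sg0 0) := by decide +kernel
theorem zE_0 : rng zEf (nat_lit 0) (nat_lit 2) = 0 := by decide +kernel
theorem xZ_0 : rng xZf (nat_lit 0) (nat_lit 3) = 0 := by decide +kernel
theorem zO : pw c111.mul c111.one (zt 0) 2 = c111.one ∧ pw c111.mul c111.one (zt 1) 3 = c111.one ∧ c111.mul (zt 0) c111.one ≠ c111.mul c111.one c111.one ∧ c111.mul (zt 1) c111.one ≠ c111.mul c111.one c111.one := by decide +kernel
theorem pW0_0 : rng pW0f (nat_lit 0) (nat_lit 2) = 0 := by decide +kernel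
theorem pW1_0 : rng pW1f (nat_lit 0) (nat_lit 2) = 0 := by decide +kernel
theorem pW2_0 : rng pW2f (nat_lit 0) (nat_lit 2) = 0 := by decide +kernel
theorem pW3_0 : rng pW3f (nat_lit 0) (nat_lit 2) = 0 := by decide +kernel
theorem pW4_0 : rng pW4f (nat_lit 0) (nat_lit 2) = 0 := by decide +kernel
theorem pW5_0 : rng pW5f (nat_lit 0) (nat_lit 2) = 0 := by decide +kernel
theorem pW6_0 : rng pW6f (nat_lit 0) (nat_lit 2) = 0 := by decide +kernel
theorem pW7_0 : rng pW7f (nat_lit 0) (nat_lit 2) = 0 := by decide +kernel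
theorem py8Y_0 : rngB py8Yf (nat_lit 3) (nat_lit 0) (nat_lit 1) = 0 := by decide +kernel
theorem pO8_0 : rngB pO8f (nat_lit 3) (nat_lit 0) (nat_lit 1) = 0 := by decide +kernel
theorem py7Y_0 : rngB py7Yf (nat_lit 4) (nat_lit 0) (nat_lit 1) = 0 := by decide +kernel
theorem pO7_0 : rngB pO7f (nat_lit 4) (nat_lit 0) (nat_lit 1) = 0 := by decide +kernel
theorem pF7_0 : rng pF7f (nat_lit 0) (nat_lit 2) = 0 := by decide +kernel
theorem py6Y_0 : rngB py6Yf (nat_lit 5) (nat_lit 0) (nat_lit 1) = 0 := by decide +kernel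
theorem pO6_0 : rngB pO6f (nat_lit 5) (nat_lit 0) (nat_lit 1) = 0 := by decide +kernel
theorem pF6_0 : rng pF6f (nat_lit 0) (nat_lit 2) = 0 := by decide +kernel
theorem py5Y_0 : rngB py5Yf (nat_lit 6) (nat_lit 0) (nat_lit 1) = 0 := by decide +kernel
theorem pO5_0 : rngB pO5f (nat_lit 6) (nat_lit 0) (nat_lit 1) = 0 := by decide +kernel
theorem pF5_0 : rng pF5f (nat_lit 0) (nat_lit 2) = 0 := by decide +kernel
theorem py4Y_0 : rngB py4Yf (nat_lit 7) (nat_lit 0) (nat_lit 1) = 0 := by decide +kernel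
theorem pO4_0 : rngB pO4f (nat_lit 7) (nat_lit 0) (nat_lit 1) = 0 := by decide +kernel
theorem pF4_0 : rng pF4f (nat_lit 0) (nat_lit 2) = 0 := by decide +kernel
theorem py3Y_0 : rngB py3Yf (nat_lit 8) (nat_lit 0) (nat_lit 1) = 0 := by decide +kernel
theorem pO3_0 : rngB pO3f (nat_lit 8) (nat_lit 0) (nat_lit 1) = 0 := by decide +kernel
theorem pF3_0 : rng pF3f (nat_lit 0) (nat_lit 2) = 0 := by decide +kernel
theorem py2Y_0 : rngB py2Yf (nat_lit 9) (nat_lit 0) (nat_lit 1) = 0 := by decide +kernel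
theorem pO2_0 : rngB pO2f (nat_lit 9) (nat_lit 0) (nat_lit 1) = 0 := by decide +kernel
theorem pF2_0 : rng pF2f (nat_lit 0) (nat_lit 2) = 0 := by decide +kernel
theorem py1Y_0 : rngB py1Yf (nat_lit 10) (nat_lit 0) (nat_lit 1) = 0 := by decide +kernel
theorem pO1_0 : rngB pO1f (nat_lit 10) (nat_lit 0) (nat_lit 1) = 0 := by decide +kernel
theorem pF1_0 : rng pF1f (nat_lit 0) (nat_lit 2) = 0 := by decide +kernel
theorem py0Y_0 : rngB py0Yf (nat_lit 11) (nat_lit 0) (nat_lit 1) = 0 := by decide +kernel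
theorem pO0_0 : rngB pO0f (nat_lit 11) (nat_lit 0) (nat_lit 1) = 0 := by decide +kernel
theorem pF0_0 : rng pF0f (nat_lit 0) (nat_lit 2) = 0 := by decide +kernel
theorem qW0_0 : rng qW0f (nat_lit 0) (nat_lit 2) = 0 := by decide +kernel
theorem qW1_0 : rng qW1f (nat_lit 0) (nat_lit 2) = 0 := by decide +kernel
theorem qW2_0 : rng qW2f (nat_lit 0) (nat_lit 2) = 0 := by decide +kernel
theorem qW3_0 : rng qW3f (nat_lit 0) (nat_lit 2) = 0 := by decide +kernel
theorem qW4_0 : rng qW4f (nat_lit 0) (nat_lit 2) = 0 := by decide +kernel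
theorem qS5_0 : rng qS5f (nat_lit 0) (nat_lit 20) = 0 := by decide +kernel
theorem qS5_1 : rng qS5f (nat_lit 20) (nat_lit 20) = 0 := by decide +kernel
theorem qS5_2 : rng qS5f (nat_lit 40) (nat_lit 20) = 0 := by decide +kernel
theorem qS5_3 : rng qS5f (nat_lit 60) (nat_lit 20) = 0 := by decide +kernel
theorem qS5_4 : rng qS5f (nat_lit 80) (nat_lit 20) = 0 := by decide +kernel
theorem qS5_5 : rng qS5f (nat_lit 100) (nat_lit 20) = 0 := by decide +kernel
theorem qT0_5 : qT5 0 = pqone := by decide +kernel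
theorem qS4_0 : rng qS4f (nat_lit 0) (nat_lit 13) = 0 := by decide +kernel
theorem qS4_1 : rng qS4f (nat_lit 13) (nat_lit 13) = 0 := by decide +kernel
theorem qS4_2 : rng qS4f (nat_lit 26) (nat_lit 13) = 0 := by decide +kernel
theorem qS4_3 : rng qS4f (nat_lit 39) (nat_lit 3) = 0 := by decide +kernel
theorem qT0_4 : qT4 0 = pqone := by decide +kernel
theorem qS3_0 : rng qS3f (nat_lit 0) (nat_lit 8) = 0 := by decide +kernel
theorem qT0_3 : qT3 0 = pqone := by decide +kernel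
theorem qS2_0 : rng qS2f (nat_lit 0) (nat_lit 8) = 0 := by decide +kernel
theorem qS2_1 : rng qS2f (nat_lit 8) (nat_lit 1) = 0 := by decide +kernel
theorem qT0_2 : qT2 0 = pqone := by decide +kernel
theorem qS1_0 : rng qS1f (nat_lit 0) (nat_lit 6) = 0 := by decide +kernel
theorem qS1_1 : rng qS1f (nat_lit 6) (nat_lit 4) = 0 := by decide +kernel
theorem qT0_1 : qT1 0 = pqone := by decide +kernel
theorem qS0_0 : rng qS0f (nat_lit 0) (nat_lit 5) = 0 := by decide +kernel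
theorem qS0_1 : rng qS0f (nat_lit 5) (nat_lit 5) = 0 := by decide +kernel
theorem qS0_2 : rng qS0f (nat_lit 10) (nat_lit 1) = 0 := by decide +kernel
theorem qT0_0 : qT0 0 = pqone := by decide +kernel
theorem qP_0 : rng qPf (nat_lit 0) (nat_lit 2) = 0 := by decide +kernel
theorem zpE_0 : rng zpEf (nat_lit 0) (nat_lit 1) = 0 := by decide +kernel
theorem zpP_0 : rng zpPf (nat_lit 0) (nat_lit 1) = 0 := by decide +kernel
theorem kZ_0 : rng kZf (nat_lit 0) (nat_lit 2) = 0 := by decide +kernel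
theorem kO_0 : rng kOf (nat_lit 0) (nat_lit 2) = 0 := by decide +kernel
theorem kne : c111.mul (kg 0) c111.one ≠ c111.mul c111.one c111.one := by decide +kernel
theorem cW0_0 : rng cW0f (nat_lit 0) (nat_lit 2) = 0 := by decide +kernel
theorem cW1_0 : rng cW1f (nat_lit 0) (nat_lit 2) = 0 := by decide +kernel
theorem cW2_0 : rng cW2f (nat_lit 0) (nat_lit 2) = 0 := by decide +kernel
theorem cy3Y_0 : rngB cy3Yf (nat_lit 120) (nat_lit 0) (nat_lit 2) = 0 := by decide +kernel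
theorem cO3_0 : rngB cO3f (nat_lit 120) (nat_lit 0) (nat_lit 2) = 0 := by decide +kernel
theorem cy2Y_0 : rngB cy2Yf (nat_lit 25) (nat_lit 0) (nat_lit 1) = 0 := by decide +kernel
theorem cO2_0 : rngB cO2f (nat_lit 25) (nat_lit 0) (nat_lit 1) = 0 := by decide +kernel
theorem cF2_0 : rng cF2f (nat_lit 0) (nat_lit 2) = 0 := by decide +kernel
theorem cy1Y_0 : rngB cy1Yf (nat_lit 124) (nat_lit 0) (nat_lit 2) = 0 := by decide +kernel
theorem cO1_0 : rngB cO1f (nat_lit 124) (nat_lit 0) (nat_lit 2) = 0 := by decide +kernel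
theorem cF1_0 : rng cF1f (nat_lit 0) (nat_lit 2) = 0 := by decide +kernel
theorem cy0Y_0 : rngB cy0Yf (nat_lit 15750) (nat_lit 0) (nat_lit 16) = 0 := by decide +kernel
theorem cy0Y_1 : rngB cy0Yf (nat_lit 15750) (nat_lit 16) (nat_lit 16) = 0 := by decide +kernel
theorem cy0Y_2 : rngB cy0Yf (nat_lit 15750) (nat_lit 32) (nat_lit 16) = 0 := by decide +kernel
theorem cy0Y_3 : rngB cy0Yf (nat_lit 15750) (nat_lit 48) (nat_lit 16) = 0 := by decide +kernel
theorem cy0Y_4 : rngB cy0Yf (nat_lit 15750) (nat_lit 64) (nat_lit 16) = 0 := by decide +kernel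
theorem cy0Y_5 : rngB cy0Yf (nat_lit 15750) (nat_lit 80) (nat_lit 16) = 0 := by decide +kernel
theorem cy0Y_6 : rngB cy0Yf (nat_lit 15750) (nat_lit 96) (nat_lit 16) = 0 := by decide +kernel
theorem cy0Y_7 : rngB cy0Yf (nat_lit 15750) (nat_lit 112) (nat_lit 16) = 0 := by decide +kernel
theorem cy0Y_8 : rngB cy0Yf (nat_lit 15750) (nat_lit 128) (nat_lit 16) = 0 := by decide +kernel
theorem cy0Y_9 : rngB cy0Yf (nat_lit 15750) (nat_lit 144) (nat_lit 16) = 0 := by decide +kernel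
theorem cy0Y_10 : rngB cy0Yf (nat_lit 15750) (nat_lit 160) (nat_lit 16) = 0 := by decide +kernel
theorem cy0Y_11 : rngB cy0Yf (nat_lit 15750) (nat_lit 176) (nat_lit 16) = 0 := by decide +kernel
theorem cy0Y_12 : rngB cy0Yf (nat_lit 15750) (nat_lit 192) (nat_lit 16) = 0 := by decide +kernel
theorem cy0Y_13 : rngB cy0Yf (nat_lit 15750) (nat_lit 208) (nat_lit 16) = 0 := by decide +kernel
theorem cy0Y_14 : rngB cy0Yf (nat_lit 15750) (nat_lit 224) (nat_lit 16) = 0 := by decide +kernel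
theorem cy0Y_15 : rngB cy0Yf (nat_lit 15750) (nat_lit 240) (nat_lit 7) = 0 := by decide +kernel
theorem cO0_0 : rngB cO0f (nat_lit 15750) (nat_lit 0) (nat_lit 16) = 0 := by decide +kernel
theorem cO0_1 : rngB cO0f (nat_lit 15750) (nat_lit 16) (nat_lit 16) = 0 := by decide +kernel
theorem cO0_2 : rngB cO0f (nat_lit 15750) (nat_lit 32) (nat_lit 16) = 0 := by decide +kernel
theorem cO0_3 : rngB cO0f (nat_lit 15750) (nat_lit 48) (nat_lit 16) = 0 := by decide +kernel
theorem cO0_4 : rngB cO0f (nat_lit 15750) (nat_lit 64) (nat_lit 16) = 0 := by decide +kernel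

end Cfsg.Agent.H5.Ly
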