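import Cfsg.Agent.H5.LyxD4

set_option autoImplicit false
set_option maxRecDepth 100000
set_option Elab.async false

namespace Cfsg.Agent.H5.Ly

theorem cO0_5 : rngB cO0f (nat_lit 15750) (nat_lit 80) (nat_lit 16) = 0 := by decide +kernel
theorem cO0_6 : rngB cO0f (nat_lit 15750) (nat_lit 96) (nat_lit 16) = 0 := by decide +kernel
theorem cO0_7 : rngB cO0f (nat_lit 15750) (nat_lit 112) (nat_lit 16) = 0 := by decide +kernel
theorem cO0_8 : rngB cO0f (nat_lit 15750) (nat_lit 128) (nat_lit 16) = 0 := by decide +kernel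
theorem cO0_9 : rngB cO0f (nat_lit 15750) (nat_lit 144) (nat_lit 16) = 0 := by decide +kernel
theorem cO0_10 : rngB cO0f (nat_lit 15750) (nat_lit 160) (nat_lit 16) = 0 := by decide +kernel
theorem cO0_11 : rngB cO0f (nat_lit 15750) (nat_lit 176) (nat_lit 16) = 0 := by decide +kernel
theorem cO0_12 : rngB cO0f (nat_lit 15750) (nat_lit 192) (nat_lit 16) = 0 := by decide +kernel
theorem cO0_13 : rngB cO0f (nat_lit 15750) (nat_lit 208) (nat_lit 16) = 0 := by decide +kernel
theorem cO0_14 : rngB cO0f (nat_lit 15750) (nat_lit 224) (nat_lit 16) = 0 := by decide +kernel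
theorem cO0_15 : rngB cO0f (nat_lit 15750) (nat_lit 240) (nat_lit 7) = 0 := by decide +kernel
theorem cF0_0 : rng cF0f (nat_lit 0) (nat_lit 2) = 0 := by decide +kernel
theorem i0E_0 : rng i0Ef (nat_lit 0) (nat_lit 2) = 0 := by decide +kernel
theorem i1E_0 : rng i1Ef (nat_lit 0) (nat_lit 2) = 0 := by decide +kernel
theorem i0K_0 : rng i0Kf (nat_lit 0) (nat_lit 2) = 0 := by decide +kernel
theorem i1K_0 : rng i1Kf (nat_lit 0) (nat_lit 2) = 0 := by decide +kernel
theorem i1F_0 : rng i1Ff (nat_lit 0) (nat_lit 2) = 0 := by decide +kernel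
theorem c3K_0 : rng c3Kf (nat_lit 0) (nat_lit 2) = 0 := by decide +kernel
theorem j0O_0 : rngB j0Of (nat_lit 30) (nat_lit 0) (nat_lit 1) = 0 := by decide +kernel
theorem j0X_0 : rngB j0Xf (nat_lit 15750) (nat_lit 0) (nat_lit 16) = 0 := by decide +kernel
theorem j0X_1 : rngB j0Xf (nat_lit 15750) (nat_lit 16) (nat_lit 16) = 0 := by decide +kernel
theorem j0X_2 : rngB j0Xf (nat_lit 15750) (nat_lit 32) (nat_lit 16) = 0 := by decide +kernel
theorem j0X_3 : rngB j0Xf (nat_lit 15750) (nat_lit 48) (nat_lit 16) = 0 := by decide +kernel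
theorem j0X_4 : rngB j0Xf (nat_lit 15750) (nat_lit 64) (nat_lit 16) = 0 := by decide +kernel
theorem j0X_5 : rngB j0Xf (nat_lit 15750) (nat_lit 80) (nat_lit 16) = 0 := by decide +kernel
theorem j0X_6 : rngB j0Xf (nat_lit 15750) (nat_lit 96) (nat_lit 16) = 0 := by decide +kernel
theorem j0X_7 : rngB j0Xf (nat_lit 15750) (nat_lit 112) (nat_lit 16) = 0 := by decide +kernel
theorem j0X_8 : rngB j0Xf (nat_lit 15750) (nat_lit 128) (nat_lit 16) = 0 := by decide +kernel
theorem j0X_9 : rngB j0Xf (nat_lit 15750) (nat_lit 144) (nat_lit 16) = 0 := by decide +kernel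
theorem j0X_10 : rngB j0Xf (nat_lit 15750) (nat_lit 160) (nat_lit 16) = 0 := by decide +kernel
theorem j0X_11 : rngB j0Xf (nat_lit 15750) (nat_lit 176) (nat_lit 16) = 0 := by decide +kernel
theorem j0X_12 : rngB j0Xf (nat_lit 15750) (nat_lit 192) (nat_lit 16) = 0 := by decide +kernel
theorem j0X_13 : rngB j0Xf (nat_lit 15750) (nat_lit 208) (nat_lit 16) = 0 := by decide +kernel
theorem j0X_14 : rngB j0Xf (nat_lit 15750) (nat_lit 224) (nat_lit 16) = 0 := by decide +kernel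
theorem j0X_15 : rngB j0Xf (nat_lit 15750) (nat_lit 240) (nat_lit 7) = 0 := by decide +kernel
theorem j0cp : pt c111b.row cy0 (nat_lit 8499) = pt c111b.row j0p (nat_lit 15) := by decide +kernel
theorem j0M : chkM (c111b.imgV j0z) c111b.row cy0 (nat_lit 8499) cy0 [nat_lit 8499] [nat_lit 0] 0 = 0 := by decide +kernel
theorem j1O_0 : rngB j1Of (nat_lit 4) (nat_lit 0) (nat_lit 1) = 0 := by decide +kernel
theorem j1X_0 : rngB j1Xf (nat_lit 124) (nat_lit 0) (nat_lit 2) = 0 := by decide +kernel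
theorem j1cp : pt c111b.row cy1 (nat_lit 5) = pt c111b.row j1p (nat_lit 0) := by decide +kernel
theorem j1M : chkM (c111b.imgV j1z) c111b.row cy1 (nat_lit 5) cy1 [nat_lit 5] [nat_lit 0] 0 = 0 := by decide +kernel
theorem j2O_0 : rngB j2Of (nat_lit 1) (nat_lit 0) (nat_lit 1) = 0 := by decide +kernel
theorem j2X_0 : rngB j2Xf (nat_lit 25) (nat_lit 0) (nat_lit 1) = 0 := by decide +kernel
theorem j2cp : pt c111b.row cy2 (nat_lit 0) = pt c111b.row j2p (nat_lit 0) := by decide +kernel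
theorem j2M : chkM (c111b.imgV j2z) c111b.row cy2 (nat_lit 0) cy2 [nat_lit 0] [nat_lit 0] 0 = 0 := by decide +kernel
theorem uE_0 : rng uEf (nat_lit 0) (nat_lit 3) = 0 := by decide +kernel
theorem uyY_0 : rngB uyYf (nat_lit 2) (nat_lit 0) (nat_lit 1) = 0 := by decide +kernel
theorem uO_0 : rngB uOf (nat_lit 2) (nat_lit 0) (nat_lit 1) = 0 := by decide +kernel
theorem uF_0 : rng uFf (nat_lit 0) (nat_lit 2) = 0 := by decide +kernel
theorem vyY_0 : rngB vyYf (nat_lit 7750) (nat_lit 0) (nat_lit 16) = 0 := by decide +kernel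
theorem vyY_1 : rngB vyYf (nat_lit 7750) (nat_lit 16) (nat_lit 16) = 0 := by decide +kernel
theorem vyY_2 : rngB vyYf (nat_lit 7750) (nat_lit 32) (nat_lit 16) = 0 := by decide +kernel
theorem vyY_3 : rngB vyYf (nat_lit 7750) (nat_lit 48) (nat_lit 16) = 0 := by decide +kernel
theorem vyY_4 : rngB vyYf (nat_lit 7750) (nat_lit 64) (nat_lit 16) = 0 := by decide +kernel
theorem vyY_5 : rngB vyYf (nat_lit 7750) (nat_lit 80) (nat_lit 16) = 0 := by decide +kernel
theorem vyY_6 : rngB vyYf (nat_lit 7750) (nat_lit 96) (nat_lit 16) = 0 := by decide +kernel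
theorem vyY_7 : rngB vyYf (nat_lit 7750) (nat_lit 112) (nat_lit 10) = 0 := by decide +kernel
theorem vO_0 : rngB vOf (nat_lit 7750) (nat_lit 0) (nat_lit 16) = 0 := by decide +kernel
theorem vO_1 : rngB vOf (nat_lit 7750) (nat_lit 16) (nat_lit 16) = 0 := by decide +kernel
theorem vO_2 : rngB vOf (nat_lit 7750) (nat_lit 32) (nat_lit 16) = 0 := by decide +kernel
theorem vO_3 : rngB vOf (nat_lit 7750) (nat_lit 48) (nat_lit 16) = 0 := by decide +kernel
theorem vO_4 : rngB vOf (nat_lit 7750) (nat_lit 64) (nat_lit 16) = 0 := by decide +kernel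
theorem vO_5 : rngB vOf (nat_lit 7750) (nat_lit 80) (nat_lit 16) = 0 := by decide +kernel
theorem vO_6 : rngB vOf (nat_lit 7750) (nat_lit 96) (nat_lit 16) = 0 := by decide +kernel
theorem vO_7 : rngB vOf (nat_lit 7750) (nat_lit 112) (nat_lit 10) = 0 := by decide +kernel
theorem vF_0 : rng vFf (nat_lit 0) (nat_lit 3) = 0 := by decide +kernel
theorem uS_0 : rng uSf (nat_lit 0) (nat_lit 2) = 0 := by decide +kernel
theorem uN_0 : rng uNf (nat_lit 0) (nat_lit 2) = 0 := by decide +kernel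
theorem ut0 : ut 0 = c111.one := by decide +kernel
theorem k0O_0 : rngB k0Of (nat_lit 1) (nat_lit 0) (nat_lit 1) = 0 := by decide +kernel
theorem k0X_0 : rngB k0Xf (nat_lit 7750) (nat_lit 0) (nat_lit 16) = 0 := by decide +kernel
theorem k0X_1 : rngB k0Xf (nat_lit 7750) (nat_lit 16) (nat_lit 16) = 0 := by decide +kernel
theorem k0X_2 : rngB k0Xf (nat_lit 7750) (nat_lit 32) (nat_lit 16) = 0 := by decide +kernel
theorem k0X_3 : rngB k0Xf (nat_lit 7750) (nat_lit 48) (nat_lit 16) = 0 := by decide +kernel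
theorem k0X_4 : rngB k0Xf (nat_lit 7750) (nat_lit 64) (nat_lit 16) = 0 := by decide +kernel
theorem k0X_5 : rngB k0Xf (nat_lit 7750) (nat_lit 80) (nat_lit 16) = 0 := by decide +kernel
theorem k0X_6 : rngB k0Xf (nat_lit 7750) (nat_lit 96) (nat_lit 16) = 0 := by decide +kernel
theorem k0X_7 : rngB k0Xf (nat_lit 7750) (nat_lit 112) (nat_lit 10) = 0 := by decide +kernel
theorem k0cp : pt c111b.row vy (nat_lit 5659) = pt c111b.row k0p (nat_lit 0) := by decide +kernel
theorem k0M : chkM (c111b.imgL k0z) c111b.row vy (nat_lit 5659) vy [nat_lit 5659] [nat_lit 0] 0 = 0 := by decide +kernel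
theorem aW0_0 : rng aW0f (nat_lit 0) (nat_lit 3) = 0 := by decide +kernel
theorem aW1_0 : rng aW1f (nat_lit 0) (nat_lit 3) = 0 := by decide +kernel
theorem aW2_0 : rng aW2f (nat_lit 0) (nat_lit 2) = 0 := by decide +kernel
theorem ay3Y_0 : rngB ay3Yf (nat_lit 4) (nat_lit 0) (nat_lit 1) = 0 := by decide +kernel
theorem aO3_0 : rngB aO3f (nat_lit 4) (nat_lit 0) (nat_lit 1) = 0 := by decide +kernel
theorem ay2Y_0 : rngB ay2Yf (nat_lit 125) (nat_lit 0) (nat_lit 2) = 0 := by decide +kernel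
theorem aO2_0 : rngB aO2f (nat_lit 125) (nat_lit 0) (nat_lit 2) = 0 := by decide +kernel
theorem aF2_0 : rng aF2f (nat_lit 0) (nat_lit 2) = 0 := by decide +kernel
theorem ay1Y_0 : rngB ay1Yf (nat_lit 100) (nat_lit 0) (nat_lit 2) = 0 := by decide +kernel
theorem aO1_0 : rngB aO1f (nat_lit 100) (nat_lit 0) (nat_lit 2) = 0 := by decide +kernel
theorem aF1_0 : rng aF1f (nat_lit 0) (nat_lit 3) = 0 := by decide +kernel
theorem ay0Y_0 : rngB ay0Yf (nat_lit 117180) (nat_lit 0) (nat_lit 16) = 0 := by decide +kernel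
theorem ay0Y_1 : rngB ay0Yf (nat_lit 117180) (nat_lit 16) (nat_lit 16) = 0 := by decide +kernel
theorem ay0Y_2 : rngB ay0Yf (nat_lit 117180) (nat_lit 32) (nat_lit 16) = 0 := by decide +kernel
theorem ay0Y_3 : rngB ay0Yf (nat_lit 117180) (nat_lit 48) (nat_lit 16) = 0 := by decide +kernel
theorem ay0Y_4 : rngB ay0Yf (nat_lit 117180) (nat_lit 64) (nat_lit 16) = 0 := by decide +kernel
theorem ay0Y_5 : rngB ay0Yf (nat_lit 117180) (nat_lit 80) (nat_lit 16) = 0 := by decide +kernel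
theorem ay0Y_6 : rngB ay0Yf (nat_lit 117180) (nat_lit 96) (nat_lit 16) = 0 := by decide +kernel
theorem ay0Y_7 : rngB ay0Yf (nat_lit 117180) (nat_lit 112) (nat_lit 16) = 0 := by decide +kernel
theorem ay0Y_8 : rngB ay0Yf (nat_lit 117180) (nat_lit 128) (nat_lit 16) = 0 := by decide +kernel
theorem ay0Y_9 : rngB ay0Yf (nat_lit 117180) (nat_lit 144) (nat_lit 16) = 0 := by decide +kernel
theorem ay0Y_10 : rngB ay0Yf (nat_lit 117180) (nat_lit 160) (nat_lit 16) = 0 := by decide +kernel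
theorem ay0Y_11 : rngB ay0Yf (nat_lit 117180) (nat_lit 176) (nat_lit 16) = 0 := by decide +kernel
theorem ay0Y_12 : rngB ay0Yf (nat_lit 117180) (nat_lit 192) (nat_lit 16) = 0 := by decide +kernel
theorem ay0Y_13 : rngB ay0Yf (nat_lit 117180) (nat_lit 208) (nat_lit 16) = 0 := by decide +kernel
theorem ay0Y_14 : rngB ay0Yf (nat_lit 117180) (nat_lit 224) (nat_lit 16) = 0 := by decide +kernel
theorem ay0Y_15 : rngB ay0Yf (nat_lit 117180) (nat_lit 240) (nat_lit 16) = 0 := by decide +kernel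
theorem ay0Y_16 : rngB ay0Yf (nat_lit 117180) (nat_lit 256) (nat_lit 16) = 0 := by decide +kernel
theorem ay0Y_17 : rngB ay0Yf (nat_lit 117180) (nat_lit 272) (nat_lit 16) = 0 := by decide +kernel
theorem ay0Y_18 : rngB ay0Yf (nat_lit 117180) (nat_lit 288) (nat_lit 16) = 0 := by decide +kernel
theorem ay0Y_19 : rngB ay0Yf (nat_lit 117180) (nat_lit 304) (nat_lit 16) = 0 := by decide +kernel
theorem ay0Y_20 : rngB ay0Yf (nat_lit 117180) (nat_lit 320) (nat_lit 16) = 0 := by decide +kernel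
theorem ay0Y_21 : rngB ay0Yf (nat_lit 117180) (nat_lit 336) (nat_lit 16) = 0 := by decide +kernel
theorem ay0Y_22 : rngB ay0Yf (nat_lit 117180) (nat_lit 352) (nat_lit 16) = 0 := by decide +kernel
theorem ay0Y_23 : rngB ay0Yf (nat_lit 117180) (nat_lit 368) (nat_lit 16) = 0 := by decide +kernel
theorem ay0Y_24 : rngB ay0Yf (nat_lit 117180) (nat_lit 384) (nat_lit 16) = 0 := by decide +kernel
theorem ay0Y_25 : rngB ay0Yf (nat_lit 117180) (nat_lit 400) (nat_lit 16) = 0 := by decide +kernel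
theorem ay0Y_26 : rngB ay0Yf (nat_lit 117180) (nat_lit 416) (nat_lit 16) = 0 := by decide +kernel
theorem ay0Y_27 : rngB ay0Yf (nat_lit 117180) (nat_lit 432) (nat_lit 16) = 0 := by decide +kernel
theorem ay0Y_28 : rngB ay0Yf (nat_lit 117180) (nat_lit 448) (nat_lit 16) = 0 := by decide +kernel
theorem ay0Y_29 : rngB ay0Yf (nat_lit 117180) (nat_lit 464) (nat_lit 16) = 0 := by decide +kernel
theorem ay0Y_30 : rngB ay0Yf (nat_lit 117180) (nat_lit 480) (nat_lit 16) = 0 := by decide +kernel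
theorem ay0Y_31 : rngB ay0Yf (nat_lit 117180) (nat_lit 496) (nat_lit 16) = 0 := by decide +kernel
theorem ay0Y_32 : rngB ay0Yf (nat_lit 117180) (nat_lit 512) (nat_lit 16) = 0 := by decide +kernel
theorem ay0Y_33 : rngB ay0Yf (nat_lit 117180) (nat_lit 528) (nat_lit 16) = 0 := by decide +kernel
theorem ay0Y_34 : rngB ay0Yf (nat_lit 117180) (nat_lit 544) (nat_lit 16) = 0 := by decide +kernel
theorem ay0Y_35 : rngB ay0Yf (nat_lit 117180) (nat_lit 560) (nat_lit 16) = 0 := by decide +kernel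
theorem ay0Y_36 : rngB ay0Yf (nat_lit 117180) (nat_lit 576) (nat_lit 16) = 0 := by decide +kernel
theorem ay0Y_37 : rngB ay0Yf (nat_lit 117180) (nat_lit 592) (nat_lit 16) = 0 := by decide +kernel
theorem ay0Y_38 : rngB ay0Yf (nat_lit 117180) (nat_lit 608) (nat_lit 16) = 0 := by decide +kernel
theorem ay0Y_39 : rngB ay0Yf (nat_lit 117180) (nat_lit 624) (nat_lit 16) = 0 := by decide +kernel
theorem ay0Y_40 : rngB ay0Yf (nat_lit 117180) (nat_lit 640) (nat_lit 16) = 0 := by decide +kernel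
theorem ay0Y_41 : rngB ay0Yf (nat_lit 117180) (nat_lit 656) (nat_lit 16) = 0 := by decide +kernel
theorem ay0Y_42 : rngB ay0Yf (nat_lit 117180) (nat_lit 672) (nat_lit 16) = 0 := by decide +kernel
theorem ay0Y_43 : rngB ay0Yf (nat_lit 117180) (nat_lit 688) (nat_lit 16) = 0 := by decide +kernel
theorem ay0Y_44 : rngB ay0Yf (nat_lit 117180) (nat_lit 704) (nat_lit 16) = 0 := by decide +kernel
theorem ay0Y_45 : rngB ay0Yf (nat_lit 117180) (nat_lit 720) (nat_lit 16) = 0 := by decide +kernel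
theorem ay0Y_46 : rngB ay0Yf (nat_lit 117180) (nat_lit 736) (nat_lit 16) = 0 := by decide +kernel
theorem ay0Y_47 : rngB ay0Yf (nat_lit 117180) (nat_lit 752) (nat_lit 16) = 0 := by decide +kernel
theorem ay0Y_48 : rngB ay0Yf (nat_lit 117180) (nat_lit 768) (nat_lit 16) = 0 := by decide +kernel
theorem ay0Y_49 : rngB ay0Yf (nat_lit 117180) (nat_lit 784) (nat_lit 16) = 0 := by decide +kernel
theorem ay0Y_50 : rngB ay0Yf (nat_lit 117180) (nat_lit 800) (nat_lit 16) = 0 := by decide +kernel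
theorem ay0Y_51 : rngB ay0Yf (nat_lit 117180) (nat_lit 816) (nat_lit 16) = 0 := by decide +kernel
theorem ay0Y_52 : rngB ay0Yf (nat_lit 117180) (nat_lit 832) (nat_lit 16) = 0 := by decide +kernel
theorem ay0Y_53 : rngB ay0Yf (nat_lit 117180) (nat_lit 848) (nat_lit 16) = 0 := by decide +kernel
theorem ay0Y_54 : rngB ay0Yf (nat_lit 117180) (nat_lit 864) (nat_lit 16) = 0 := by decide +kernel
theorem ay0Y_55 : rngB ay0Yf (nat_lit 117180) (nat_lit 880) (nat_lit 16) = 0 := by decide +kernel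
theorem ay0Y_56 : rngB ay0Yf (nat_lit 117180) (nat_lit 896) (nat_lit 16) = 0 := by decide +kernel
theorem ay0Y_57 : rngB ay0Yf (nat_lit 117180) (nat_lit 912) (nat_lit 16) = 0 := by decide +kernel
theorem ay0Y_58 : rngB ay0Yf (nat_lit 117180) (nat_lit 928) (nat_lit 16) = 0 := by decide +kernel
theorem ay0Y_59 : rngB ay0Yf (nat_lit 117180) (nat_lit 944) (nat_lit 16) = 0 := by decide +kernel
theorem ay0Y_60 : rngB ay0Yf (nat_lit 117180) (nat_lit 960) (nat_lit 16) = 0 := by decide +kernel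
theorem ay0Y_61 : rngB ay0Yf (nat_lit 117180) (nat_lit 976) (nat_lit 16) = 0 := by decide +kernel
theorem ay0Y_62 : rngB ay0Yf (nat_lit 117180) (nat_lit 992) (nat_lit 16) = 0 := by decide +kernel
theorem ay0Y_63 : rngB ay0Yf (nat_lit 117180) (nat_lit 1008) (nat_lit 16) = 0 := by decide +kernel
theorem ay0Y_64 : rngB ay0Yf (nat_lit 117180) (nat_lit 1024) (nat_lit 16) = 0 := by decide +kernel
theorem ay0Y_65 : rngB ay0Yf (nat_lit 117180) (nat_lit 1040) (nat_lit 16) = 0 := by decide +kernel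
theorem ay0Y_66 : rngB ay0Yf (nat_lit 117180) (nat_lit 1056) (nat_lit 16) = 0 := by decide +kernel
theorem ay0Y_67 : rngB ay0Yf (nat_lit 117180) (nat_lit 1072) (nat_lit 16) = 0 := by decide +kernel
theorem ay0Y_68 : rngB ay0Yf (nat_lit 117180) (nat_lit 1088) (nat_lit 16) = 0 := by decide +kernel
theorem ay0Y_69 : rngB ay0Yf (nat_lit 117180) (nat_lit 1104) (nat_lit 16) = 0 := by decide +kernel
theorem ay0Y_70 : rngB ay0Yf (nat_lit 117180) (nat_lit 1120) (nat_lit 16) = 0 := by decide +kernel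
theorem ay0Y_71 : rngB ay0Yf (nat_lit 117180) (nat_lit 1136) (nat_lit 16) = 0 := by decide +kernel
theorem ay0Y_72 : rngB ay0Yf (nat_lit 117180) (nat_lit 1152) (nat_lit 16) = 0 := by decide +kernel
theorem ay0Y_73 : rngB ay0Yf (nat_lit 117180) (nat_lit 1168) (nat_lit 16) = 0 := by decide +kernel
theorem ay0Y_74 : rngB ay0Yf (nat_lit 117180) (nat_lit 1184) (nat_lit 16) = 0 := by decide +kernel
theorem ay0Y_75 : rngB ay0Yf (nat_lit 117180) (nat_lit 1200) (nat_lit 16) = 0 := by decide +kernel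
theorem ay0Y_76 : rngB ay0Yf (nat_lit 117180) (nat_lit 1216) (nat_lit 16) = 0 := by decide +kernel
theorem ay0Y_77 : rngB ay0Yf (nat_lit 117180) (nat_lit 1232) (nat_lit 16) = 0 := by decide +kernel
theorem ay0Y_78 : rngB ay0Yf (nat_lit 117180) (nat_lit 1248) (nat_lit 16) = 0 := by decide +kernel
theorem ay0Y_79 : rngB ay0Yf (nat_lit 117180) (nat_lit 1264) (nat_lit 16) = 0 := by decide +kernel
theorem ay0Y_80 : rngB ay0Yf (nat_lit 117180) (nat_lit 1280) (nat_lit 16) = 0 := by decide +kernel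
theorem ay0Y_81 : rngB ay0Yf (nat_lit 117180) (nat_lit 1296) (nat_lit 16) = 0 := by decide +kernel
theorem ay0Y_82 : rngB ay0Yf (nat_lit 117180) (nat_lit 1312) (nat_lit 16) = 0 := by decide +kernel
theorem ay0Y_83 : rngB ay0Yf (nat_lit 117180) (nat_lit 1328) (nat_lit 16) = 0 := by decide +kernel
theorem ay0Y_84 : rngB ay0Yf (nat_lit 117180) (nat_lit 1344) (nat_lit 16) = 0 := by decide +kernel
theorem ay0Y_85 : rngB ay0Yf (nat_lit 117180) (nat_lit 1360) (nat_lit 16) = 0 := by decide +kernel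
theorem ay0Y_86 : rngB ay0Yf (nat_lit 117180) (nat_lit 1376) (nat_lit 16) = 0 := by decide +kernel
theorem ay0Y_87 : rngB ay0Yf (nat_lit 117180) (nat_lit 1392) (nat_lit 16) = 0 := by decide +kernel
theorem ay0Y_88 : rngB ay0Yf (nat_lit 117180) (nat_lit 1408) (nat_lit 16) = 0 := by decide +kernel
theorem ay0Y_89 : rngB ay0Yf (nat_lit 117180) (nat_lit 1424) (nat_lit 16) = 0 := by decide +kernel
theorem ay0Y_90 : rngB ay0Yf (nat_lit 117180) (nat_lit 1440) (nat_lit 16) = 0 := by decide +kernel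
theorem ay0Y_91 : rngB ay0Yf (nat_lit 117180) (nat_lit 1456) (nat_lit 16) = 0 := by decide +kernel
theorem ay0Y_92 : rngB ay0Yf (nat_lit 117180) (nat_lit 1472) (nat_lit 16) = 0 := by decide +kernel
theorem ay0Y_93 : rngB ay0Yf (nat_lit 117180) (nat_lit 1488) (nat_lit 16) = 0 := by decide +kernel
theorem ay0Y_94 : rngB ay0Yf (nat_lit 117180) (nat_lit 1504) (nat_lit 16) = 0 := by decide +kernel
theorem ay0Y_95 : rngB ay0Yf (nat_lit 117180) (nat_lit 1520) (nat_lit 16) = 0 := by decide +kernel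
theorem ay0Y_96 : rngB ay0Yf (nat_lit 117180) (nat_lit 1536) (nat_lit 16) = 0 := by decide +kernel
theorem ay0Y_97 : rngB ay0Yf (nat_lit 117180) (nat_lit 1552) (nat_lit 16) = 0 := by decide +kernel
theorem ay0Y_98 : rngB ay0Yf (nat_lit 117180) (nat_lit 1568) (nat_lit 16) = 0 := by decide +kernel
theorem ay0Y_99 : rngB ay0Yf (nat_lit 117180) (nat_lit 1584) (nat_lit 16) = 0 := by decide +kernel
theorem ay0Y_100 : rngB ay0Yf (nat_lit 117180) (nat_lit 1600) (nat_lit 16) = 0 := by decide +kernel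
theorem ay0Y_101 : rngB ay0Yf (nat_lit 117180) (nat_lit 1616) (nat_lit 16) = 0 := by decide +kernel
theorem ay0Y_102 : rngB ay0Yf (nat_lit 117180) (nat_lit 1632) (nat_lit 16) = 0 := by decide +kernel
theorem ay0Y_103 : rngB ay0Yf (nat_lit 117180) (nat_lit 1648) (nat_lit 16) = 0 := by decide +kernel
theorem ay0Y_104 : rngB ay0Yf (nat_lit 117180) (nat_lit 1664) (nat_lit 16) = 0 := by decide +kernel
theorem ay0Y_105 : rngB ay0Yf (nat_lit 117180) (nat_lit 1680) (nat_lit 16) = 0 := by decide +kernel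
theorem ay0Y_106 : rngB ay0Yf (nat_lit 117180) (nat_lit 1696) (nat_lit 16) = 0 := by decide +kernel
theorem ay0Y_107 : rngB ay0Yf (nat_lit 117180) (nat_lit 1712) (nat_lit 16) = 0 := by decide +kernel
theorem ay0Y_108 : rngB ay0Yf (nat_lit 117180) (nat_lit 1728) (nat_lit 16) = 0 := by decide +kernel
theorem ay0Y_109 : rngB ay0Yf (nat_lit 117180) (nat_lit 1744) (nat_lit 16) = 0 := by decide +kernel
theorem ay0Y_110 : rngB ay0Yf (nat_lit 117180) (nat_lit 1760) (nat_lit 16) = 0 := by decide +kernel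

end Cfsg.Agent.H5.Ly
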