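import Cfsg.Agent.H5.LyxD4

set_option autoImplicit false
set_option maxRecDepth 100000
set_option Elab.async false

namespace Cfsg.Agent.H5.Ly

theorem ay0Y_111 : rngB ay0Yf (nat_lit 117180) (nat_lit 1776) (nat_lit 16) = 0 := by decide +kernel
theorem ay0Y_112 : rngB ay0Yf (nat_lit 117180) (nat_lit 1792) (nat_lit 16) = 0 := by decide +kernel
theorem ay0Y_113 : rngB ay0Yf (nat_lit 117180) (nat_lit 1808) (nat_lit 16) = 0 := by decide +kernel
theorem ay0Y_114 : rngB ay0Yf (nat_lit 117180) (nat_lit 1824) (nat_lit 7) = 0 := by decide +kernel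
theorem aO0_0 : rngB aO0f (nat_lit 117180) (nat_lit 0) (nat_lit 16) = 0 := by decide +kernel
theorem aO0_1 : rngB aO0f (nat_lit 117180) (nat_lit 16) (nat_lit 16) = 0 := by decide +kernel
theorem aO0_2 : rngB aO0f (nat_lit 117180) (nat_lit 32) (nat_lit 16) = 0 := by decide +kernel
theorem aO0_3 : rngB aO0f (nat_lit 117180) (nat_lit 48) (nat_lit 16) = 0 := by decide +kernel
theorem aO0_4 : rngB aO0f (nat_lit 117180) (nat_lit 64) (nat_lit 16) = 0 := by decide +kernel
theorem aO0_5 : rngB aO0f (nat_lit 117180) (nat_lit 80) (nat_lit 16) = 0 := by decide +kernel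
theorem aO0_6 : rngB aO0f (nat_lit 117180) (nat_lit 96) (nat_lit 16) = 0 := by decide +kernel
theorem aO0_7 : rngB aO0f (nat_lit 117180) (nat_lit 112) (nat_lit 16) = 0 := by decide +kernel
theorem aO0_8 : rngB aO0f (nat_lit 117180) (nat_lit 128) (nat_lit 16) = 0 := by decide +kernel
theorem aO0_9 : rngB aO0f (nat_lit 117180) (nat_lit 144) (nat_lit 16) = 0 := by decide +kernel
theorem aO0_10 : rngB aO0f (nat_lit 117180) (nat_lit 160) (nat_lit 16) = 0 := by decide +kernel
theorem aO0_11 : rngB aO0f (nat_lit 117180) (nat_lit 176) (nat_lit 16) = 0 := by decide +kernel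
theorem aO0_12 : rngB aO0f (nat_lit 117180) (nat_lit 192) (nat_lit 16) = 0 := by decide +kernel
theorem aO0_13 : rngB aO0f (nat_lit 117180) (nat_lit 208) (nat_lit 16) = 0 := by decide +kernel
theorem aO0_14 : rngB aO0f (nat_lit 117180) (nat_lit 224) (nat_lit 16) = 0 := by decide +kernel
theorem aO0_15 : rngB aO0f (nat_lit 117180) (nat_lit 240) (nat_lit 16) = 0 := by decide +kernel
theorem aO0_16 : rngB aO0f (nat_lit 117180) (nat_lit 256) (nat_lit 16) = 0 := by decide +kernel
theorem aO0_17 : rngB aO0f (nat_lit 117180) (nat_lit 272) (nat_lit 16) = 0 := by decide +kernel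
theorem aO0_18 : rngB aO0f (nat_lit 117180) (nat_lit 288) (nat_lit 16) = 0 := by decide +kernel
theorem aO0_19 : rngB aO0f (nat_lit 117180) (nat_lit 304) (nat_lit 16) = 0 := by decide +kernel
theorem aO0_20 : rngB aO0f (nat_lit 117180) (nat_lit 320) (nat_lit 16) = 0 := by decide +kernel
theorem aO0_21 : rngB aO0f (nat_lit 117180) (nat_lit 336) (nat_lit 16) = 0 := by decide +kernel
theorem aO0_22 : rngB aO0f (nat_lit 117180) (nat_lit 352) (nat_lit 16) = 0 := by decide +kernel
theorem aO0_23 : rngB aO0f (nat_lit 117180) (nat_lit 368) (nat_lit 16) = 0 := by decide +kernel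
theorem aO0_24 : rngB aO0f (nat_lit 117180) (nat_lit 384) (nat_lit 16) = 0 := by decide +kernel
theorem aO0_25 : rngB aO0f (nat_lit 117180) (nat_lit 400) (nat_lit 16) = 0 := by decide +kernel
theorem aO0_26 : rngB aO0f (nat_lit 117180) (nat_lit 416) (nat_lit 16) = 0 := by decide +kernel
theorem aO0_27 : rngB aO0f (nat_lit 117180) (nat_lit 432) (nat_lit 16) = 0 := by decide +kernel
theorem aO0_28 : rngB aO0f (nat_lit 117180) (nat_lit 448) (nat_lit 16) = 0 := by decide +kernel
theorem aO0_29 : rngB aO0f (nat_lit 117180) (nat_lit 464) (nat_lit 16) = 0 := by decide +kernel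
theorem aO0_30 : rngB aO0f (nat_lit 117180) (nat_lit 480) (nat_lit 16) = 0 := by decide +kernel
theorem aO0_31 : rngB aO0f (nat_lit 117180) (nat_lit 496) (nat_lit 16) = 0 := by decide +kernel
theorem aO0_32 : rngB aO0f (nat_lit 117180) (nat_lit 512) (nat_lit 16) = 0 := by decide +kernel
theorem aO0_33 : rngB aO0f (nat_lit 117180) (nat_lit 528) (nat_lit 16) = 0 := by decide +kernel
theorem aO0_34 : rngB aO0f (nat_lit 117180) (nat_lit 544) (nat_lit 16) = 0 := by decide +kernel
theorem aO0_35 : rngB aO0f (nat_lit 117180) (nat_lit 560) (nat_lit 16) = 0 := by decide +kernel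
theorem aO0_36 : rngB aO0f (nat_lit 117180) (nat_lit 576) (nat_lit 16) = 0 := by decide +kernel
theorem aO0_37 : rngB aO0f (nat_lit 117180) (nat_lit 592) (nat_lit 16) = 0 := by decide +kernel
theorem aO0_38 : rngB aO0f (nat_lit 117180) (nat_lit 608) (nat_lit 16) = 0 := by decide +kernel
theorem aO0_39 : rngB aO0f (nat_lit 117180) (nat_lit 624) (nat_lit 16) = 0 := by decide +kernel
theorem aO0_40 : rngB aO0f (nat_lit 117180) (nat_lit 640) (nat_lit 16) = 0 := by decide +kernel
theorem aO0_41 : rngB aO0f (nat_lit 117180) (nat_lit 656) (nat_lit 16) = 0 := by decide +kernel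
theorem aO0_42 : rngB aO0f (nat_lit 117180) (nat_lit 672) (nat_lit 16) = 0 := by decide +kernel
theorem aO0_43 : rngB aO0f (nat_lit 117180) (nat_lit 688) (nat_lit 16) = 0 := by decide +kernel
theorem aO0_44 : rngB aO0f (nat_lit 117180) (nat_lit 704) (nat_lit 16) = 0 := by decide +kernel
theorem aO0_45 : rngB aO0f (nat_lit 117180) (nat_lit 720) (nat_lit 16) = 0 := by decide +kernel
theorem aO0_46 : rngB aO0f (nat_lit 117180) (nat_lit 736) (nat_lit 16) = 0 := by decide +kernel
theorem aO0_47 : rngB aO0f (nat_lit 117180) (nat_lit 752) (nat_lit 16) = 0 := by decide +kernel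
theorem aO0_48 : rngB aO0f (nat_lit 117180) (nat_lit 768) (nat_lit 16) = 0 := by decide +kernel
theorem aO0_49 : rngB aO0f (nat_lit 117180) (nat_lit 784) (nat_lit 16) = 0 := by decide +kernel
theorem aO0_50 : rngB aO0f (nat_lit 117180) (nat_lit 800) (nat_lit 16) = 0 := by decide +kernel
theorem aO0_51 : rngB aO0f (nat_lit 117180) (nat_lit 816) (nat_lit 16) = 0 := by decide +kernel
theorem aO0_52 : rngB aO0f (nat_lit 117180) (nat_lit 832) (nat_lit 16) = 0 := by decide +kernel
theorem aO0_53 : rngB aO0f (nat_lit 117180) (nat_lit 848) (nat_lit 16) = 0 := by decide +kernel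
theorem aO0_54 : rngB aO0f (nat_lit 117180) (nat_lit 864) (nat_lit 16) = 0 := by decide +kernel
theorem aO0_55 : rngB aO0f (nat_lit 117180) (nat_lit 880) (nat_lit 16) = 0 := by decide +kernel
theorem aO0_56 : rngB aO0f (nat_lit 117180) (nat_lit 896) (nat_lit 16) = 0 := by decide +kernel
theorem aO0_57 : rngB aO0f (nat_lit 117180) (nat_lit 912) (nat_lit 16) = 0 := by decide +kernel
theorem aO0_58 : rngB aO0f (nat_lit 117180) (nat_lit 928) (nat_lit 16) = 0 := by decide +kernel
theorem aO0_59 : rngB aO0f (nat_lit 117180) (nat_lit 944) (nat_lit 16) = 0 := by decide +kernel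
theorem aO0_60 : rngB aO0f (nat_lit 117180) (nat_lit 960) (nat_lit 16) = 0 := by decide +kernel
theorem aO0_61 : rngB aO0f (nat_lit 117180) (nat_lit 976) (nat_lit 16) = 0 := by decide +kernel
theorem aO0_62 : rngB aO0f (nat_lit 117180) (nat_lit 992) (nat_lit 16) = 0 := by decide +kernel
theorem aO0_63 : rngB aO0f (nat_lit 117180) (nat_lit 1008) (nat_lit 16) = 0 := by decide +kernel
theorem aO0_64 : rngB aO0f (nat_lit 117180) (nat_lit 1024) (nat_lit 16) = 0 := by decide +kernel
theorem aO0_65 : rngB aO0f (nat_lit 117180) (nat_lit 1040) (nat_lit 16) = 0 := by decide +kernel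
theorem aO0_66 : rngB aO0f (nat_lit 117180) (nat_lit 1056) (nat_lit 16) = 0 := by decide +kernel
theorem aO0_67 : rngB aO0f (nat_lit 117180) (nat_lit 1072) (nat_lit 16) = 0 := by decide +kernel
theorem aO0_68 : rngB aO0f (nat_lit 117180) (nat_lit 1088) (nat_lit 16) = 0 := by decide +kernel
theorem aO0_69 : rngB aO0f (nat_lit 117180) (nat_lit 1104) (nat_lit 16) = 0 := by decide +kernel
theorem aO0_70 : rngB aO0f (nat_lit 117180) (nat_lit 1120) (nat_lit 16) = 0 := by decide +kernel
theorem aO0_71 : rngB aO0f (nat_lit 117180) (nat_lit 1136) (nat_lit 16) = 0 := by decide +kernel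
theorem aO0_72 : rngB aO0f (nat_lit 117180) (nat_lit 1152) (nat_lit 16) = 0 := by decide +kernel
theorem aO0_73 : rngB aO0f (nat_lit 117180) (nat_lit 1168) (nat_lit 16) = 0 := by decide +kernel
theorem aO0_74 : rngB aO0f (nat_lit 117180) (nat_lit 1184) (nat_lit 16) = 0 := by decide +kernel
theorem aO0_75 : rngB aO0f (nat_lit 117180) (nat_lit 1200) (nat_lit 16) = 0 := by decide +kernel
theorem aO0_76 : rngB aO0f (nat_lit 117180) (nat_lit 1216) (nat_lit 16) = 0 := by decide +kernel
theorem aO0_77 : rngB aO0f (nat_lit 117180) (nat_lit 1232) (nat_lit 16) = 0 := by decide +kernel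
theorem aO0_78 : rngB aO0f (nat_lit 117180) (nat_lit 1248) (nat_lit 16) = 0 := by decide +kernel
theorem aO0_79 : rngB aO0f (nat_lit 117180) (nat_lit 1264) (nat_lit 16) = 0 := by decide +kernel
theorem aO0_80 : rngB aO0f (nat_lit 117180) (nat_lit 1280) (nat_lit 16) = 0 := by decide +kernel
theorem aO0_81 : rngB aO0f (nat_lit 117180) (nat_lit 1296) (nat_lit 16) = 0 := by decide +kernel
theorem aO0_82 : rngB aO0f (nat_lit 117180) (nat_lit 1312) (nat_lit 16) = 0 := by decide +kernel
theorem aO0_83 : rngB aO0f (nat_lit 117180) (nat_lit 1328) (nat_lit 16) = 0 := by decide +kernel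
theorem aO0_84 : rngB aO0f (nat_lit 117180) (nat_lit 1344) (nat_lit 16) = 0 := by decide +kernel
theorem aO0_85 : rngB aO0f (nat_lit 117180) (nat_lit 1360) (nat_lit 16) = 0 := by decide +kernel
theorem aO0_86 : rngB aO0f (nat_lit 117180) (nat_lit 1376) (nat_lit 16) = 0 := by decide +kernel
theorem aO0_87 : rngB aO0f (nat_lit 117180) (nat_lit 1392) (nat_lit 16) = 0 := by decide +kernel
theorem aO0_88 : rngB aO0f (nat_lit 117180) (nat_lit 1408) (nat_lit 16) = 0 := by decide +kernel
theorem aO0_89 : rngB aO0f (nat_lit 117180) (nat_lit 1424) (nat_lit 16) = 0 := by decide +kernel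
theorem aO0_90 : rngB aO0f (nat_lit 117180) (nat_lit 1440) (nat_lit 16) = 0 := by decide +kernel
theorem aO0_91 : rngB aO0f (nat_lit 117180) (nat_lit 1456) (nat_lit 16) = 0 := by decide +kernel
theorem aO0_92 : rngB aO0f (nat_lit 117180) (nat_lit 1472) (nat_lit 16) = 0 := by decide +kernel
theorem aO0_93 : rngB aO0f (nat_lit 117180) (nat_lit 1488) (nat_lit 16) = 0 := by decide +kernel
theorem aO0_94 : rngB aO0f (nat_lit 117180) (nat_lit 1504) (nat_lit 16) = 0 := by decide +kernel
theorem aO0_95 : rngB aO0f (nat_lit 117180) (nat_lit 1520) (nat_lit 16) = 0 := by decide +kernel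
theorem aO0_96 : rngB aO0f (nat_lit 117180) (nat_lit 1536) (nat_lit 16) = 0 := by decide +kernel
theorem aO0_97 : rngB aO0f (nat_lit 117180) (nat_lit 1552) (nat_lit 16) = 0 := by decide +kernel
theorem aO0_98 : rngB aO0f (nat_lit 117180) (nat_lit 1568) (nat_lit 16) = 0 := by decide +kernel
theorem aO0_99 : rngB aO0f (nat_lit 117180) (nat_lit 1584) (nat_lit 16) = 0 := by decide +kernel
theorem aO0_100 : rngB aO0f (nat_lit 117180) (nat_lit 1600) (nat_lit 16) = 0 := by decide +kernel
theorem aO0_101 : rngB aO0f (nat_lit 117180) (nat_lit 1616) (nat_lit 16) = 0 := by decide +kernel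
theorem aO0_102 : rngB aO0f (nat_lit 117180) (nat_lit 1632) (nat_lit 16) = 0 := by decide +kernel
theorem aO0_103 : rngB aO0f (nat_lit 117180) (nat_lit 1648) (nat_lit 16) = 0 := by decide +kernel
theorem aO0_104 : rngB aO0f (nat_lit 117180) (nat_lit 1664) (nat_lit 16) = 0 := by decide +kernel
theorem aO0_105 : rngB aO0f (nat_lit 117180) (nat_lit 1680) (nat_lit 16) = 0 := by decide +kernel
theorem aO0_106 : rngB aO0f (nat_lit 117180) (nat_lit 1696) (nat_lit 16) = 0 := by decide +kernel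
theorem aO0_107 : rngB aO0f (nat_lit 117180) (nat_lit 1712) (nat_lit 16) = 0 := by decide +kernel
theorem aO0_108 : rngB aO0f (nat_lit 117180) (nat_lit 1728) (nat_lit 16) = 0 := by decide +kernel
theorem aO0_109 : rngB aO0f (nat_lit 117180) (nat_lit 1744) (nat_lit 16) = 0 := by decide +kernel
theorem aO0_110 : rngB aO0f (nat_lit 117180) (nat_lit 1760) (nat_lit 16) = 0 := by decide +kernel
theorem aO0_111 : rngB aO0f (nat_lit 117180) (nat_lit 1776) (nat_lit 16) = 0 := by decide +kernel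
theorem aO0_112 : rngB aO0f (nat_lit 117180) (nat_lit 1792) (nat_lit 16) = 0 := by decide +kernel
theorem aO0_113 : rngB aO0f (nat_lit 117180) (nat_lit 1808) (nat_lit 16) = 0 := by decide +kernel
theorem aO0_114 : rngB aO0f (nat_lit 117180) (nat_lit 1824) (nat_lit 7) = 0 := by decide +kernel
theorem aF0_0 : rng aF0f (nat_lit 0) (nat_lit 3) = 0 := by decide +kernel
theorem dD0 : dD 0 = c111.one := by decide +kernel
theorem dT_0 : rng dTf (nat_lit 0) (nat_lit 3) = 0 := by decide +kernel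
theorem l1W0_0 : rng l1W0f (nat_lit 0) (nat_lit 2) = 0 := by decide +kernel
theorem l1W1_0 : rng l1W1f (nat_lit 0) (nat_lit 3) = 0 := by decide +kernel
theorem l1W2_0 : rng l1W2f (nat_lit 0) (nat_lit 2) = 0 := by decide +kernel
theorem l1y3Y_0 : rngB l1y3Yf (nat_lit 4) (nat_lit 0) (nat_lit 1) = 0 := by decide +kernel
theorem l1O3_0 : rngB l1O3f (nat_lit 4) (nat_lit 0) (nat_lit 1) = 0 := by decide +kernel
theorem l1y2Y_0 : rngB l1y2Yf (nat_lit 125) (nat_lit 0) (nat_lit 2) = 0 := by decide +kernel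
theorem l1O2_0 : rngB l1O2f (nat_lit 125) (nat_lit 0) (nat_lit 2) = 0 := by decide +kernel
theorem l1F2_0 : rng l1F2f (nat_lit 0) (nat_lit 2) = 0 := by decide +kernel
theorem l1y1Y_0 : rngB l1y1Yf (nat_lit 100) (nat_lit 0) (nat_lit 2) = 0 := by decide +kernel
theorem l1O1_0 : rngB l1O1f (nat_lit 100) (nat_lit 0) (nat_lit 2) = 0 := by decide +kernel
theorem l1F1_0 : rng l1F1f (nat_lit 0) (nat_lit 3) = 0 := by decide +kernel
theorem l1y0Y_0 : rngB l1y0Yf (nat_lit 6) (nat_lit 0) (nat_lit 1) = 0 := by decide +kernel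
theorem l1O0_0 : rngB l1O0f (nat_lit 6) (nat_lit 0) (nat_lit 1) = 0 := by decide +kernel
theorem l1F0_0 : rng l1F0f (nat_lit 0) (nat_lit 2) = 0 := by decide +kernel
theorem l1E_0 : rng l1Ef (nat_lit 0) (nat_lit 2) = 0 := by decide +kernel
theorem l2W0_0 : rng l2W0f (nat_lit 0) (nat_lit 2) = 0 := by decide +kernel
theorem l2y1Y_0 : rngB l2y1Yf (nat_lit 80) (nat_lit 0) (nat_lit 2) = 0 := by decide +kernel
theorem l2O1_0 : rngB l2O1f (nat_lit 80) (nat_lit 0) (nat_lit 2) = 0 := by decide +kernel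
theorem l2y0Y_0 : rngB l2y0Yf (nat_lit 36) (nat_lit 0) (nat_lit 1) = 0 := by decide +kernel
theorem l2O0_0 : rngB l2O0f (nat_lit 36) (nat_lit 0) (nat_lit 1) = 0 := by decide +kernel
theorem l2F0_0 : rng l2F0f (nat_lit 0) (nat_lit 2) = 0 := by decide +kernel
theorem l2E_0 : rng l2Ef (nat_lit 0) (nat_lit 2) = 0 := by decide +kernel
theorem l3W0_0 : rng l3W0f (nat_lit 0) (nat_lit 2) = 0 := by decide +kernel
theorem l3y1Y_0 : rngB l3y1Yf (nat_lit 8) (nat_lit 0) (nat_lit 1) = 0 := by decide +kernel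
theorem l3O1_0 : rngB l3O1f (nat_lit 8) (nat_lit 0) (nat_lit 1) = 0 := by decide +kernel
theorem l3y0Y_0 : rngB l3y0Yf (nat_lit 126) (nat_lit 0) (nat_lit 2) = 0 := by decide +kernel
theorem l3O0_0 : rngB l3O0f (nat_lit 126) (nat_lit 0) (nat_lit 2) = 0 := by decide +kernel
theorem l3F0_0 : rng l3F0f (nat_lit 0) (nat_lit 2) = 0 := by decide +kernel
theorem l3E_0 : rng l3Ef (nat_lit 0) (nat_lit 2) = 0 := by decide +kernel

end Cfsg.Agent.H5.Ly
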