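import Cfsg.Agent.H5.LyxD4

set_option autoImplicit false
set_option maxRecDepth 100000
set_option Elab.async false

namespace Cfsg.Agent.H5.Ly

theorem l4W0_0 : rng l4W0f (nat_lit 0) (nat_lit 2) = 0 := by decide +kernel
theorem l4y1Y_0 : rngB l4y1Yf (nat_lit 16) (nat_lit 0) (nat_lit 1) = 0 := by decide +kernel
theorem l4O1_0 : rngB l4O1f (nat_lit 16) (nat_lit 0) (nat_lit 1) = 0 := by decide +kernel
theorem l4y0Y_0 : rngB l4y0Yf (nat_lit 378) (nat_lit 0) (nat_lit 6) = 0 := by decide +kernel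
theorem l4O0_0 : rngB l4O0f (nat_lit 378) (nat_lit 0) (nat_lit 6) = 0 := by decide +kernel
theorem l4F0_0 : rng l4F0f (nat_lit 0) (nat_lit 2) = 0 := by decide +kernel
theorem l4E_0 : rng l4Ef (nat_lit 0) (nat_lit 2) = 0 := by decide +kernel
theorem dK_0 : rng dKf (nat_lit 0) (nat_lit 3) = 0 := by decide +kernel
theorem dL0_0 : rng dL0f (nat_lit 0) (nat_lit 3) = 0 := by decide +kernel
theorem dM0_0 : rng dM0f (nat_lit 0) (nat_lit 1) = 0 := by decide +kernel
theorem dR0_0 : rng dR0f (nat_lit 0) (nat_lit 1) = 0 := by decide +kernel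
theorem dL1_0 : rng dL1f (nat_lit 0) (nat_lit 2) = 0 := by decide +kernel
theorem dO1_0 : rngB dO1f (nat_lit 117180) (nat_lit 0) (nat_lit 16) = 0 := by decide +kernel
theorem dO1_1 : rngB dO1f (nat_lit 117180) (nat_lit 16) (nat_lit 16) = 0 := by decide +kernel
theorem dO1_2 : rngB dO1f (nat_lit 117180) (nat_lit 32) (nat_lit 16) = 0 := by decide +kernel
theorem dO1_3 : rngB dO1f (nat_lit 117180) (nat_lit 48) (nat_lit 16) = 0 := by decide +kernel
theorem dO1_4 : rngB dO1f (nat_lit 117180) (nat_lit 64) (nat_lit 16) = 0 := by decide +kernel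
theorem dO1_5 : rngB dO1f (nat_lit 117180) (nat_lit 80) (nat_lit 16) = 0 := by decide +kernel
theorem dO1_6 : rngB dO1f (nat_lit 117180) (nat_lit 96) (nat_lit 16) = 0 := by decide +kernel
theorem dO1_7 : rngB dO1f (nat_lit 117180) (nat_lit 112) (nat_lit 16) = 0 := by decide +kernel
theorem dO1_8 : rngB dO1f (nat_lit 117180) (nat_lit 128) (nat_lit 16) = 0 := by decide +kernel
theorem dO1_9 : rngB dO1f (nat_lit 117180) (nat_lit 144) (nat_lit 16) = 0 := by decide +kernel
theorem dO1_10 : rngB dO1f (nat_lit 117180) (nat_lit 160) (nat_lit 16) = 0 := by decide +kernel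
theorem dO1_11 : rngB dO1f (nat_lit 117180) (nat_lit 176) (nat_lit 16) = 0 := by decide +kernel
theorem dO1_12 : rngB dO1f (nat_lit 117180) (nat_lit 192) (nat_lit 16) = 0 := by decide +kernel
theorem dO1_13 : rngB dO1f (nat_lit 117180) (nat_lit 208) (nat_lit 16) = 0 := by decide +kernel
theorem dO1_14 : rngB dO1f (nat_lit 117180) (nat_lit 224) (nat_lit 16) = 0 := by decide +kernel
theorem dO1_15 : rngB dO1f (nat_lit 117180) (nat_lit 240) (nat_lit 16) = 0 := by decide +kernel
theorem dO1_16 : rngB dO1f (nat_lit 117180) (nat_lit 256) (nat_lit 16) = 0 := by decide +kernel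
theorem dO1_17 : rngB dO1f (nat_lit 117180) (nat_lit 272) (nat_lit 16) = 0 := by decide +kernel
theorem dO1_18 : rngB dO1f (nat_lit 117180) (nat_lit 288) (nat_lit 16) = 0 := by decide +kernel
theorem dO1_19 : rngB dO1f (nat_lit 117180) (nat_lit 304) (nat_lit 16) = 0 := by decide +kernel
theorem dO1_20 : rngB dO1f (nat_lit 117180) (nat_lit 320) (nat_lit 16) = 0 := by decide +kernel
theorem dO1_21 : rngB dO1f (nat_lit 117180) (nat_lit 336) (nat_lit 16) = 0 := by decide +kernel
theorem dO1_22 : rngB dO1f (nat_lit 117180) (nat_lit 352) (nat_lit 16) = 0 := by decide +kernel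
theorem dO1_23 : rngB dO1f (nat_lit 117180) (nat_lit 368) (nat_lit 16) = 0 := by decide +kernel
theorem dO1_24 : rngB dO1f (nat_lit 117180) (nat_lit 384) (nat_lit 16) = 0 := by decide +kernel
theorem dO1_25 : rngB dO1f (nat_lit 117180) (nat_lit 400) (nat_lit 16) = 0 := by decide +kernel
theorem dO1_26 : rngB dO1f (nat_lit 117180) (nat_lit 416) (nat_lit 16) = 0 := by decide +kernel
theorem dO1_27 : rngB dO1f (nat_lit 117180) (nat_lit 432) (nat_lit 16) = 0 := by decide +kernel
theorem dO1_28 : rngB dO1f (nat_lit 117180) (nat_lit 448) (nat_lit 16) = 0 := by decide +kernel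
theorem dO1_29 : rngB dO1f (nat_lit 117180) (nat_lit 464) (nat_lit 16) = 0 := by decide +kernel
theorem dO1_30 : rngB dO1f (nat_lit 117180) (nat_lit 480) (nat_lit 16) = 0 := by decide +kernel
theorem dO1_31 : rngB dO1f (nat_lit 117180) (nat_lit 496) (nat_lit 16) = 0 := by decide +kernel
theorem dO1_32 : rngB dO1f (nat_lit 117180) (nat_lit 512) (nat_lit 16) = 0 := by decide +kernel
theorem dO1_33 : rngB dO1f (nat_lit 117180) (nat_lit 528) (nat_lit 16) = 0 := by decide +kernel
theorem dO1_34 : rngB dO1f (nat_lit 117180) (nat_lit 544) (nat_lit 16) = 0 := by decide +kernel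
theorem dO1_35 : rngB dO1f (nat_lit 117180) (nat_lit 560) (nat_lit 16) = 0 := by decide +kernel
theorem dO1_36 : rngB dO1f (nat_lit 117180) (nat_lit 576) (nat_lit 16) = 0 := by decide +kernel
theorem dO1_37 : rngB dO1f (nat_lit 117180) (nat_lit 592) (nat_lit 16) = 0 := by decide +kernel
theorem dO1_38 : rngB dO1f (nat_lit 117180) (nat_lit 608) (nat_lit 16) = 0 := by decide +kernel
theorem dO1_39 : rngB dO1f (nat_lit 117180) (nat_lit 624) (nat_lit 16) = 0 := by decide +kernel
theorem dO1_40 : rngB dO1f (nat_lit 117180) (nat_lit 640) (nat_lit 16) = 0 := by decide +kernel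
theorem dO1_41 : rngB dO1f (nat_lit 117180) (nat_lit 656) (nat_lit 16) = 0 := by decide +kernel
theorem dO1_42 : rngB dO1f (nat_lit 117180) (nat_lit 672) (nat_lit 16) = 0 := by decide +kernel
theorem dO1_43 : rngB dO1f (nat_lit 117180) (nat_lit 688) (nat_lit 16) = 0 := by decide +kernel
theorem dO1_44 : rngB dO1f (nat_lit 117180) (nat_lit 704) (nat_lit 16) = 0 := by decide +kernel
theorem dO1_45 : rngB dO1f (nat_lit 117180) (nat_lit 720) (nat_lit 16) = 0 := by decide +kernel
theorem dO1_46 : rngB dO1f (nat_lit 117180) (nat_lit 736) (nat_lit 16) = 0 := by decide +kernel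
theorem dO1_47 : rngB dO1f (nat_lit 117180) (nat_lit 752) (nat_lit 16) = 0 := by decide +kernel
theorem dO1_48 : rngB dO1f (nat_lit 117180) (nat_lit 768) (nat_lit 16) = 0 := by decide +kernel
theorem dO1_49 : rngB dO1f (nat_lit 117180) (nat_lit 784) (nat_lit 16) = 0 := by decide +kernel
theorem dO1_50 : rngB dO1f (nat_lit 117180) (nat_lit 800) (nat_lit 16) = 0 := by decide +kernel
theorem dO1_51 : rngB dO1f (nat_lit 117180) (nat_lit 816) (nat_lit 16) = 0 := by decide +kernel
theorem dO1_52 : rngB dO1f (nat_lit 117180) (nat_lit 832) (nat_lit 16) = 0 := by decide +kernel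
theorem dO1_53 : rngB dO1f (nat_lit 117180) (nat_lit 848) (nat_lit 16) = 0 := by decide +kernel
theorem dO1_54 : rngB dO1f (nat_lit 117180) (nat_lit 864) (nat_lit 16) = 0 := by decide +kernel
theorem dO1_55 : rngB dO1f (nat_lit 117180) (nat_lit 880) (nat_lit 16) = 0 := by decide +kernel
theorem dO1_56 : rngB dO1f (nat_lit 117180) (nat_lit 896) (nat_lit 16) = 0 := by decide +kernel
theorem dO1_57 : rngB dO1f (nat_lit 117180) (nat_lit 912) (nat_lit 16) = 0 := by decide +kernel
theorem dO1_58 : rngB dO1f (nat_lit 117180) (nat_lit 928) (nat_lit 16) = 0 := by decide +kernel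
theorem dO1_59 : rngB dO1f (nat_lit 117180) (nat_lit 944) (nat_lit 16) = 0 := by decide +kernel
theorem dO1_60 : rngB dO1f (nat_lit 117180) (nat_lit 960) (nat_lit 16) = 0 := by decide +kernel
theorem dO1_61 : rngB dO1f (nat_lit 117180) (nat_lit 976) (nat_lit 16) = 0 := by decide +kernel
theorem dO1_62 : rngB dO1f (nat_lit 117180) (nat_lit 992) (nat_lit 16) = 0 := by decide +kernel
theorem dO1_63 : rngB dO1f (nat_lit 117180) (nat_lit 1008) (nat_lit 16) = 0 := by decide +kernel
theorem dO1_64 : rngB dO1f (nat_lit 117180) (nat_lit 1024) (nat_lit 16) = 0 := by decide +kernel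
theorem dO1_65 : rngB dO1f (nat_lit 117180) (nat_lit 1040) (nat_lit 16) = 0 := by decide +kernel
theorem dO1_66 : rngB dO1f (nat_lit 117180) (nat_lit 1056) (nat_lit 16) = 0 := by decide +kernel
theorem dO1_67 : rngB dO1f (nat_lit 117180) (nat_lit 1072) (nat_lit 16) = 0 := by decide +kernel
theorem dO1_68 : rngB dO1f (nat_lit 117180) (nat_lit 1088) (nat_lit 16) = 0 := by decide +kernel
theorem dO1_69 : rngB dO1f (nat_lit 117180) (nat_lit 1104) (nat_lit 16) = 0 := by decide +kernel
theorem dO1_70 : rngB dO1f (nat_lit 117180) (nat_lit 1120) (nat_lit 16) = 0 := by decide +kernel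
theorem dO1_71 : rngB dO1f (nat_lit 117180) (nat_lit 1136) (nat_lit 16) = 0 := by decide +kernel
theorem dO1_72 : rngB dO1f (nat_lit 117180) (nat_lit 1152) (nat_lit 16) = 0 := by decide +kernel
theorem dO1_73 : rngB dO1f (nat_lit 117180) (nat_lit 1168) (nat_lit 16) = 0 := by decide +kernel
theorem dO1_74 : rngB dO1f (nat_lit 117180) (nat_lit 1184) (nat_lit 16) = 0 := by decide +kernel
theorem dO1_75 : rngB dO1f (nat_lit 117180) (nat_lit 1200) (nat_lit 16) = 0 := by decide +kernel
theorem dO1_76 : rngB dO1f (nat_lit 117180) (nat_lit 1216) (nat_lit 16) = 0 := by decide +kernel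
theorem dO1_77 : rngB dO1f (nat_lit 117180) (nat_lit 1232) (nat_lit 16) = 0 := by decide +kernel
theorem dO1_78 : rngB dO1f (nat_lit 117180) (nat_lit 1248) (nat_lit 16) = 0 := by decide +kernel
theorem dO1_79 : rngB dO1f (nat_lit 117180) (nat_lit 1264) (nat_lit 16) = 0 := by decide +kernel
theorem dO1_80 : rngB dO1f (nat_lit 117180) (nat_lit 1280) (nat_lit 16) = 0 := by decide +kernel
theorem dO1_81 : rngB dO1f (nat_lit 117180) (nat_lit 1296) (nat_lit 16) = 0 := by decide +kernel
theorem dO1_82 : rngB dO1f (nat_lit 117180) (nat_lit 1312) (nat_lit 16) = 0 := by decide +kernel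
theorem dO1_83 : rngB dO1f (nat_lit 117180) (nat_lit 1328) (nat_lit 16) = 0 := by decide +kernel
theorem dO1_84 : rngB dO1f (nat_lit 117180) (nat_lit 1344) (nat_lit 16) = 0 := by decide +kernel
theorem dO1_85 : rngB dO1f (nat_lit 117180) (nat_lit 1360) (nat_lit 16) = 0 := by decide +kernel
theorem dO1_86 : rngB dO1f (nat_lit 117180) (nat_lit 1376) (nat_lit 16) = 0 := by decide +kernel
theorem dO1_87 : rngB dO1f (nat_lit 117180) (nat_lit 1392) (nat_lit 16) = 0 := by decide +kernel
theorem dO1_88 : rngB dO1f (nat_lit 117180) (nat_lit 1408) (nat_lit 16) = 0 := by decide +kernel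
theorem dO1_89 : rngB dO1f (nat_lit 117180) (nat_lit 1424) (nat_lit 16) = 0 := by decide +kernel
theorem dO1_90 : rngB dO1f (nat_lit 117180) (nat_lit 1440) (nat_lit 16) = 0 := by decide +kernel
theorem dO1_91 : rngB dO1f (nat_lit 117180) (nat_lit 1456) (nat_lit 16) = 0 := by decide +kernel
theorem dO1_92 : rngB dO1f (nat_lit 117180) (nat_lit 1472) (nat_lit 16) = 0 := by decide +kernel
theorem dO1_93 : rngB dO1f (nat_lit 117180) (nat_lit 1488) (nat_lit 16) = 0 := by decide +kernel
theorem dO1_94 : rngB dO1f (nat_lit 117180) (nat_lit 1504) (nat_lit 16) = 0 := by decide +kernel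
theorem dO1_95 : rngB dO1f (nat_lit 117180) (nat_lit 1520) (nat_lit 16) = 0 := by decide +kernel
theorem dO1_96 : rngB dO1f (nat_lit 117180) (nat_lit 1536) (nat_lit 16) = 0 := by decide +kernel
theorem dO1_97 : rngB dO1f (nat_lit 117180) (nat_lit 1552) (nat_lit 16) = 0 := by decide +kernel
theorem dO1_98 : rngB dO1f (nat_lit 117180) (nat_lit 1568) (nat_lit 16) = 0 := by decide +kernel
theorem dO1_99 : rngB dO1f (nat_lit 117180) (nat_lit 1584) (nat_lit 16) = 0 := by decide +kernel
theorem dO1_100 : rngB dO1f (nat_lit 117180) (nat_lit 1600) (nat_lit 16) = 0 := by decide +kernel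
theorem dO1_101 : rngB dO1f (nat_lit 117180) (nat_lit 1616) (nat_lit 16) = 0 := by decide +kernel
theorem dO1_102 : rngB dO1f (nat_lit 117180) (nat_lit 1632) (nat_lit 16) = 0 := by decide +kernel
theorem dO1_103 : rngB dO1f (nat_lit 117180) (nat_lit 1648) (nat_lit 16) = 0 := by decide +kernel
theorem dO1_104 : rngB dO1f (nat_lit 117180) (nat_lit 1664) (nat_lit 16) = 0 := by decide +kernel
theorem dO1_105 : rngB dO1f (nat_lit 117180) (nat_lit 1680) (nat_lit 16) = 0 := by decide +kernel
theorem dO1_106 : rngB dO1f (nat_lit 117180) (nat_lit 1696) (nat_lit 16) = 0 := by decide +kernel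
theorem dO1_107 : rngB dO1f (nat_lit 117180) (nat_lit 1712) (nat_lit 16) = 0 := by decide +kernel
theorem dO1_108 : rngB dO1f (nat_lit 117180) (nat_lit 1728) (nat_lit 16) = 0 := by decide +kernel
theorem dO1_109 : rngB dO1f (nat_lit 117180) (nat_lit 1744) (nat_lit 16) = 0 := by decide +kernel
theorem dO1_110 : rngB dO1f (nat_lit 117180) (nat_lit 1760) (nat_lit 16) = 0 := by decide +kernel
theorem dO1_111 : rngB dO1f (nat_lit 117180) (nat_lit 1776) (nat_lit 16) = 0 := by decide +kernel
theorem dO1_112 : rngB dO1f (nat_lit 117180) (nat_lit 1792) (nat_lit 16) = 0 := by decide +kernel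
theorem dO1_113 : rngB dO1f (nat_lit 117180) (nat_lit 1808) (nat_lit 16) = 0 := by decide +kernel
theorem dO1_114 : rngB dO1f (nat_lit 117180) (nat_lit 1824) (nat_lit 7) = 0 := by decide +kernel
theorem dM1_0 : rng dM1f (nat_lit 0) (nat_lit 8) = 0 := by decide +kernel
theorem dM1_1 : rng dM1f (nat_lit 8) (nat_lit 2) = 0 := by decide +kernel
theorem dR1_0 : rng dR1f (nat_lit 0) (nat_lit 2) = 0 := by decide +kernel
theorem dR1_1 : rng dR1f (nat_lit 2) (nat_lit 2) = 0 := by decide +kernel
theorem dR1_2 : rng dR1f (nat_lit 4) (nat_lit 2) = 0 := by decide +kernel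
theorem dR1_3 : rng dR1f (nat_lit 6) (nat_lit 2) = 0 := by decide +kernel
theorem dR1_4 : rng dR1f (nat_lit 8) (nat_lit 2) = 0 := by decide +kernel
theorem dL2_0 : rng dL2f (nat_lit 0) (nat_lit 2) = 0 := by decide +kernel
theorem dO2_0 : rngB dO2f (nat_lit 117180) (nat_lit 0) (nat_lit 16) = 0 := by decide +kernel
theorem dO2_1 : rngB dO2f (nat_lit 117180) (nat_lit 16) (nat_lit 16) = 0 := by decide +kernel
theorem dO2_2 : rngB dO2f (nat_lit 117180) (nat_lit 32) (nat_lit 16) = 0 := by decide +kernel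
theorem dO2_3 : rngB dO2f (nat_lit 117180) (nat_lit 48) (nat_lit 16) = 0 := by decide +kernel
theorem dO2_4 : rngB dO2f (nat_lit 117180) (nat_lit 64) (nat_lit 16) = 0 := by decide +kernel
theorem dO2_5 : rngB dO2f (nat_lit 117180) (nat_lit 80) (nat_lit 16) = 0 := by decide +kernel
theorem dO2_6 : rngB dO2f (nat_lit 117180) (nat_lit 96) (nat_lit 16) = 0 := by decide +kernel
theorem dO2_7 : rngB dO2f (nat_lit 117180) (nat_lit 112) (nat_lit 16) = 0 := by decide +kernel
theorem dO2_8 : rngB dO2f (nat_lit 117180) (nat_lit 128) (nat_lit 16) = 0 := by decide +kernel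
theorem dO2_9 : rngB dO2f (nat_lit 117180) (nat_lit 144) (nat_lit 16) = 0 := by decide +kernel
theorem dO2_10 : rngB dO2f (nat_lit 117180) (nat_lit 160) (nat_lit 16) = 0 := by decide +kernel
theorem dO2_11 : rngB dO2f (nat_lit 117180) (nat_lit 176) (nat_lit 16) = 0 := by decide +kernel
theorem dO2_12 : rngB dO2f (nat_lit 117180) (nat_lit 192) (nat_lit 16) = 0 := by decide +kernel
theorem dO2_13 : rngB dO2f (nat_lit 117180) (nat_lit 208) (nat_lit 16) = 0 := by decide +kernel
theorem dO2_14 : rngB dO2f (nat_lit 117180) (nat_lit 224) (nat_lit 16) = 0 := by decide +kernel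
theorem dO2_15 : rngB dO2f (nat_lit 117180) (nat_lit 240) (nat_lit 16) = 0 := by decide +kernel
theorem dO2_16 : rngB dO2f (nat_lit 117180) (nat_lit 256) (nat_lit 16) = 0 := by decide +kernel
theorem dO2_17 : rngB dO2f (nat_lit 117180) (nat_lit 272) (nat_lit 16) = 0 := by decide +kernel
theorem dO2_18 : rngB dO2f (nat_lit 117180) (nat_lit 288) (nat_lit 16) = 0 := by decide +kernel
theorem dO2_19 : rngB dO2f (nat_lit 117180) (nat_lit 304) (nat_lit 16) = 0 := by decide +kernel
theorem dO2_20 : rngB dO2f (nat_lit 117180) (nat_lit 320) (nat_lit 16) = 0 := by decide +kernel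
theorem dO2_21 : rngB dO2f (nat_lit 117180) (nat_lit 336) (nat_lit 16) = 0 := by decide +kernel
theorem dO2_22 : rngB dO2f (nat_lit 117180) (nat_lit 352) (nat_lit 16) = 0 := by decide +kernel
theorem dO2_23 : rngB dO2f (nat_lit 117180) (nat_lit 368) (nat_lit 16) = 0 := by decide +kernel
theorem dO2_24 : rngB dO2f (nat_lit 117180) (nat_lit 384) (nat_lit 16) = 0 := by decide +kernel
theorem dO2_25 : rngB dO2f (nat_lit 117180) (nat_lit 400) (nat_lit 16) = 0 := by decide +kernel
theorem dO2_26 : rngB dO2f (nat_lit 117180) (nat_lit 416) (nat_lit 16) = 0 := by decide +kernel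
theorem dO2_27 : rngB dO2f (nat_lit 117180) (nat_lit 432) (nat_lit 16) = 0 := by decide +kernel
theorem dO2_28 : rngB dO2f (nat_lit 117180) (nat_lit 448) (nat_lit 16) = 0 := by decide +kernel

end Cfsg.Agent.H5.Ly
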