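import Cfsg.Agent.H5.LyxD4

set_option autoImplicit false
set_option maxRecDepth 100000
set_option Elab.async false

namespace Cfsg.Agent.H5.Ly

theorem dO2_29 : rngB dO2f (nat_lit 117180) (nat_lit 464) (nat_lit 16) = 0 := by decide +kernel
theorem dO2_30 : rngB dO2f (nat_lit 117180) (nat_lit 480) (nat_lit 16) = 0 := by decide +kernel
theorem dO2_31 : rngB dO2f (nat_lit 117180) (nat_lit 496) (nat_lit 16) = 0 := by decide +kernel
theorem dO2_32 : rngB dO2f (nat_lit 117180) (nat_lit 512) (nat_lit 16) = 0 := by decide +kernel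
theorem dO2_33 : rngB dO2f (nat_lit 117180) (nat_lit 528) (nat_lit 16) = 0 := by decide +kernel
theorem dO2_34 : rngB dO2f (nat_lit 117180) (nat_lit 544) (nat_lit 16) = 0 := by decide +kernel
theorem dO2_35 : rngB dO2f (nat_lit 117180) (nat_lit 560) (nat_lit 16) = 0 := by decide +kernel
theorem dO2_36 : rngB dO2f (nat_lit 117180) (nat_lit 576) (nat_lit 16) = 0 := by decide +kernel
theorem dO2_37 : rngB dO2f (nat_lit 117180) (nat_lit 592) (nat_lit 16) = 0 := by decide +kernel
theorem dO2_38 : rngB dO2f (nat_lit 117180) (nat_lit 608) (nat_lit 16) = 0 := by decide +kernel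
theorem dO2_39 : rngB dO2f (nat_lit 117180) (nat_lit 624) (nat_lit 16) = 0 := by decide +kernel
theorem dO2_40 : rngB dO2f (nat_lit 117180) (nat_lit 640) (nat_lit 16) = 0 := by decide +kernel
theorem dO2_41 : rngB dO2f (nat_lit 117180) (nat_lit 656) (nat_lit 16) = 0 := by decide +kernel
theorem dO2_42 : rngB dO2f (nat_lit 117180) (nat_lit 672) (nat_lit 16) = 0 := by decide +kernel
theorem dO2_43 : rngB dO2f (nat_lit 117180) (nat_lit 688) (nat_lit 16) = 0 := by decide +kernel
theorem dO2_44 : rngB dO2f (nat_lit 117180) (nat_lit 704) (nat_lit 16) = 0 := by decide +kernel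
theorem dO2_45 : rngB dO2f (nat_lit 117180) (nat_lit 720) (nat_lit 16) = 0 := by decide +kernel
theorem dO2_46 : rngB dO2f (nat_lit 117180) (nat_lit 736) (nat_lit 16) = 0 := by decide +kernel
theorem dO2_47 : rngB dO2f (nat_lit 117180) (nat_lit 752) (nat_lit 16) = 0 := by decide +kernel
theorem dO2_48 : rngB dO2f (nat_lit 117180) (nat_lit 768) (nat_lit 16) = 0 := by decide +kernel
theorem dO2_49 : rngB dO2f (nat_lit 117180) (nat_lit 784) (nat_lit 16) = 0 := by decide +kernel
theorem dO2_50 : rngB dO2f (nat_lit 117180) (nat_lit 800) (nat_lit 16) = 0 := by decide +kernel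
theorem dO2_51 : rngB dO2f (nat_lit 117180) (nat_lit 816) (nat_lit 16) = 0 := by decide +kernel
theorem dO2_52 : rngB dO2f (nat_lit 117180) (nat_lit 832) (nat_lit 16) = 0 := by decide +kernel
theorem dO2_53 : rngB dO2f (nat_lit 117180) (nat_lit 848) (nat_lit 16) = 0 := by decide +kernel
theorem dO2_54 : rngB dO2f (nat_lit 117180) (nat_lit 864) (nat_lit 16) = 0 := by decide +kernel
theorem dO2_55 : rngB dO2f (nat_lit 117180) (nat_lit 880) (nat_lit 16) = 0 := by decide +kernel
theorem dO2_56 : rngB dO2f (nat_lit 117180) (nat_lit 896) (nat_lit 16) = 0 := by decide +kernel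
theorem dO2_57 : rngB dO2f (nat_lit 117180) (nat_lit 912) (nat_lit 16) = 0 := by decide +kernel
theorem dO2_58 : rngB dO2f (nat_lit 117180) (nat_lit 928) (nat_lit 16) = 0 := by decide +kernel
theorem dO2_59 : rngB dO2f (nat_lit 117180) (nat_lit 944) (nat_lit 16) = 0 := by decide +kernel
theorem dO2_60 : rngB dO2f (nat_lit 117180) (nat_lit 960) (nat_lit 16) = 0 := by decide +kernel
theorem dO2_61 : rngB dO2f (nat_lit 117180) (nat_lit 976) (nat_lit 16) = 0 := by decide +kernel
theorem dO2_62 : rngB dO2f (nat_lit 117180) (nat_lit 992) (nat_lit 16) = 0 := by decide +kernel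
theorem dO2_63 : rngB dO2f (nat_lit 117180) (nat_lit 1008) (nat_lit 16) = 0 := by decide +kernel
theorem dO2_64 : rngB dO2f (nat_lit 117180) (nat_lit 1024) (nat_lit 16) = 0 := by decide +kernel
theorem dO2_65 : rngB dO2f (nat_lit 117180) (nat_lit 1040) (nat_lit 16) = 0 := by decide +kernel
theorem dO2_66 : rngB dO2f (nat_lit 117180) (nat_lit 1056) (nat_lit 16) = 0 := by decide +kernel
theorem dO2_67 : rngB dO2f (nat_lit 117180) (nat_lit 1072) (nat_lit 16) = 0 := by decide +kernel
theorem dO2_68 : rngB dO2f (nat_lit 117180) (nat_lit 1088) (nat_lit 16) = 0 := by decide +kernel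
theorem dO2_69 : rngB dO2f (nat_lit 117180) (nat_lit 1104) (nat_lit 16) = 0 := by decide +kernel
theorem dO2_70 : rngB dO2f (nat_lit 117180) (nat_lit 1120) (nat_lit 16) = 0 := by decide +kernel
theorem dO2_71 : rngB dO2f (nat_lit 117180) (nat_lit 1136) (nat_lit 16) = 0 := by decide +kernel
theorem dO2_72 : rngB dO2f (nat_lit 117180) (nat_lit 1152) (nat_lit 16) = 0 := by decide +kernel
theorem dO2_73 : rngB dO2f (nat_lit 117180) (nat_lit 1168) (nat_lit 16) = 0 := by decide +kernel
theorem dO2_74 : rngB dO2f (nat_lit 117180) (nat_lit 1184) (nat_lit 16) = 0 := by decide +kernel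
theorem dO2_75 : rngB dO2f (nat_lit 117180) (nat_lit 1200) (nat_lit 16) = 0 := by decide +kernel
theorem dO2_76 : rngB dO2f (nat_lit 117180) (nat_lit 1216) (nat_lit 16) = 0 := by decide +kernel
theorem dO2_77 : rngB dO2f (nat_lit 117180) (nat_lit 1232) (nat_lit 16) = 0 := by decide +kernel
theorem dO2_78 : rngB dO2f (nat_lit 117180) (nat_lit 1248) (nat_lit 16) = 0 := by decide +kernel
theorem dO2_79 : rngB dO2f (nat_lit 117180) (nat_lit 1264) (nat_lit 16) = 0 := by decide +kernel
theorem dO2_80 : rngB dO2f (nat_lit 117180) (nat_lit 1280) (nat_lit 16) = 0 := by decide +kernel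
theorem dO2_81 : rngB dO2f (nat_lit 117180) (nat_lit 1296) (nat_lit 16) = 0 := by decide +kernel
theorem dO2_82 : rngB dO2f (nat_lit 117180) (nat_lit 1312) (nat_lit 16) = 0 := by decide +kernel
theorem dO2_83 : rngB dO2f (nat_lit 117180) (nat_lit 1328) (nat_lit 16) = 0 := by decide +kernel
theorem dO2_84 : rngB dO2f (nat_lit 117180) (nat_lit 1344) (nat_lit 16) = 0 := by decide +kernel
theorem dO2_85 : rngB dO2f (nat_lit 117180) (nat_lit 1360) (nat_lit 16) = 0 := by decide +kernel
theorem dO2_86 : rngB dO2f (nat_lit 117180) (nat_lit 1376) (nat_lit 16) = 0 := by decide +kernel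
theorem dO2_87 : rngB dO2f (nat_lit 117180) (nat_lit 1392) (nat_lit 16) = 0 := by decide +kernel
theorem dO2_88 : rngB dO2f (nat_lit 117180) (nat_lit 1408) (nat_lit 16) = 0 := by decide +kernel
theorem dO2_89 : rngB dO2f (nat_lit 117180) (nat_lit 1424) (nat_lit 16) = 0 := by decide +kernel
theorem dO2_90 : rngB dO2f (nat_lit 117180) (nat_lit 1440) (nat_lit 16) = 0 := by decide +kernel
theorem dO2_91 : rngB dO2f (nat_lit 117180) (nat_lit 1456) (nat_lit 16) = 0 := by decide +kernel
theorem dO2_92 : rngB dO2f (nat_lit 117180) (nat_lit 1472) (nat_lit 16) = 0 := by decide +kernel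
theorem dO2_93 : rngB dO2f (nat_lit 117180) (nat_lit 1488) (nat_lit 16) = 0 := by decide +kernel
theorem dO2_94 : rngB dO2f (nat_lit 117180) (nat_lit 1504) (nat_lit 16) = 0 := by decide +kernel
theorem dO2_95 : rngB dO2f (nat_lit 117180) (nat_lit 1520) (nat_lit 16) = 0 := by decide +kernel
theorem dO2_96 : rngB dO2f (nat_lit 117180) (nat_lit 1536) (nat_lit 16) = 0 := by decide +kernel
theorem dO2_97 : rngB dO2f (nat_lit 117180) (nat_lit 1552) (nat_lit 16) = 0 := by decide +kernel
theorem dO2_98 : rngB dO2f (nat_lit 117180) (nat_lit 1568) (nat_lit 16) = 0 := by decide +kernel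
theorem dO2_99 : rngB dO2f (nat_lit 117180) (nat_lit 1584) (nat_lit 16) = 0 := by decide +kernel
theorem dO2_100 : rngB dO2f (nat_lit 117180) (nat_lit 1600) (nat_lit 16) = 0 := by decide +kernel
theorem dO2_101 : rngB dO2f (nat_lit 117180) (nat_lit 1616) (nat_lit 16) = 0 := by decide +kernel
theorem dO2_102 : rngB dO2f (nat_lit 117180) (nat_lit 1632) (nat_lit 16) = 0 := by decide +kernel
theorem dO2_103 : rngB dO2f (nat_lit 117180) (nat_lit 1648) (nat_lit 16) = 0 := by decide +kernel
theorem dO2_104 : rngB dO2f (nat_lit 117180) (nat_lit 1664) (nat_lit 16) = 0 := by decide +kernel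
theorem dO2_105 : rngB dO2f (nat_lit 117180) (nat_lit 1680) (nat_lit 16) = 0 := by decide +kernel
theorem dO2_106 : rngB dO2f (nat_lit 117180) (nat_lit 1696) (nat_lit 16) = 0 := by decide +kernel
theorem dO2_107 : rngB dO2f (nat_lit 117180) (nat_lit 1712) (nat_lit 16) = 0 := by decide +kernel
theorem dO2_108 : rngB dO2f (nat_lit 117180) (nat_lit 1728) (nat_lit 16) = 0 := by decide +kernel
theorem dO2_109 : rngB dO2f (nat_lit 117180) (nat_lit 1744) (nat_lit 16) = 0 := by decide +kernel
theorem dO2_110 : rngB dO2f (nat_lit 117180) (nat_lit 1760) (nat_lit 16) = 0 := by decide +kernel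
theorem dO2_111 : rngB dO2f (nat_lit 117180) (nat_lit 1776) (nat_lit 16) = 0 := by decide +kernel
theorem dO2_112 : rngB dO2f (nat_lit 117180) (nat_lit 1792) (nat_lit 16) = 0 := by decide +kernel
theorem dO2_113 : rngB dO2f (nat_lit 117180) (nat_lit 1808) (nat_lit 16) = 0 := by decide +kernel
theorem dO2_114 : rngB dO2f (nat_lit 117180) (nat_lit 1824) (nat_lit 7) = 0 := by decide +kernel
theorem dM2_0 : rng dM2f (nat_lit 0) (nat_lit 8) = 0 := by decide +kernel
theorem dM2_1 : rng dM2f (nat_lit 8) (nat_lit 8) = 0 := by decide +kernel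
theorem dM2_2 : rng dM2f (nat_lit 16) (nat_lit 8) = 0 := by decide +kernel
theorem dM2_3 : rng dM2f (nat_lit 24) (nat_lit 8) = 0 := by decide +kernel
theorem dM2_4 : rng dM2f (nat_lit 32) (nat_lit 8) = 0 := by decide +kernel
theorem dM2_5 : rng dM2f (nat_lit 40) (nat_lit 8) = 0 := by decide +kernel
theorem dM2_6 : rng dM2f (nat_lit 48) (nat_lit 8) = 0 := by decide +kernel
theorem dM2_7 : rng dM2f (nat_lit 56) (nat_lit 8) = 0 := by decide +kernel
theorem dM2_8 : rng dM2f (nat_lit 64) (nat_lit 5) = 0 := by decide +kernel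
theorem dR2_0 : rng dR2f (nat_lit 0) (nat_lit 2) = 0 := by decide +kernel
theorem dR2_1 : rng dR2f (nat_lit 2) (nat_lit 2) = 0 := by decide +kernel
theorem dR2_2 : rng dR2f (nat_lit 4) (nat_lit 2) = 0 := by decide +kernel
theorem dR2_3 : rng dR2f (nat_lit 6) (nat_lit 2) = 0 := by decide +kernel
theorem dR2_4 : rng dR2f (nat_lit 8) (nat_lit 2) = 0 := by decide +kernel
theorem dR2_5 : rng dR2f (nat_lit 10) (nat_lit 2) = 0 := by decide +kernel
theorem dR2_6 : rng dR2f (nat_lit 12) (nat_lit 2) = 0 := by decide +kernel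
theorem dR2_7 : rng dR2f (nat_lit 14) (nat_lit 2) = 0 := by decide +kernel
theorem dR2_8 : rng dR2f (nat_lit 16) (nat_lit 2) = 0 := by decide +kernel
theorem dR2_9 : rng dR2f (nat_lit 18) (nat_lit 2) = 0 := by decide +kernel
theorem dR2_10 : rng dR2f (nat_lit 20) (nat_lit 2) = 0 := by decide +kernel
theorem dR2_11 : rng dR2f (nat_lit 22) (nat_lit 2) = 0 := by decide +kernel
theorem dR2_12 : rng dR2f (nat_lit 24) (nat_lit 2) = 0 := by decide +kernel
theorem dR2_13 : rng dR2f (nat_lit 26) (nat_lit 2) = 0 := by decide +kernel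
theorem dR2_14 : rng dR2f (nat_lit 28) (nat_lit 2) = 0 := by decide +kernel
theorem dR2_15 : rng dR2f (nat_lit 30) (nat_lit 2) = 0 := by decide +kernel
theorem dR2_16 : rng dR2f (nat_lit 32) (nat_lit 2) = 0 := by decide +kernel
theorem dR2_17 : rng dR2f (nat_lit 34) (nat_lit 2) = 0 := by decide +kernel
theorem dR2_18 : rng dR2f (nat_lit 36) (nat_lit 2) = 0 := by decide +kernel
theorem dR2_19 : rng dR2f (nat_lit 38) (nat_lit 2) = 0 := by decide +kernel
theorem dR2_20 : rng dR2f (nat_lit 40) (nat_lit 2) = 0 := by decide +kernel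
theorem dR2_21 : rng dR2f (nat_lit 42) (nat_lit 2) = 0 := by decide +kernel
theorem dR2_22 : rng dR2f (nat_lit 44) (nat_lit 2) = 0 := by decide +kernel
theorem dR2_23 : rng dR2f (nat_lit 46) (nat_lit 2) = 0 := by decide +kernel
theorem dR2_24 : rng dR2f (nat_lit 48) (nat_lit 2) = 0 := by decide +kernel
theorem dR2_25 : rng dR2f (nat_lit 50) (nat_lit 2) = 0 := by decide +kernel
theorem dR2_26 : rng dR2f (nat_lit 52) (nat_lit 2) = 0 := by decide +kernel
theorem dR2_27 : rng dR2f (nat_lit 54) (nat_lit 2) = 0 := by decide +kernel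
theorem dR2_28 : rng dR2f (nat_lit 56) (nat_lit 2) = 0 := by decide +kernel
theorem dR2_29 : rng dR2f (nat_lit 58) (nat_lit 2) = 0 := by decide +kernel
theorem dR2_30 : rng dR2f (nat_lit 60) (nat_lit 2) = 0 := by decide +kernel
theorem dR2_31 : rng dR2f (nat_lit 62) (nat_lit 2) = 0 := by decide +kernel
theorem dR2_32 : rng dR2f (nat_lit 64) (nat_lit 2) = 0 := by decide +kernel
theorem dR2_33 : rng dR2f (nat_lit 66) (nat_lit 2) = 0 := by decide +kernel
theorem dR2_34 : rng dR2f (nat_lit 68) (nat_lit 1) = 0 := by decide +kernel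
theorem dL3_0 : rng dL3f (nat_lit 0) (nat_lit 2) = 0 := by decide +kernel
theorem dO3_0 : rngB dO3f (nat_lit 117180) (nat_lit 0) (nat_lit 16) = 0 := by decide +kernel

end Cfsg.Agent.H5.Ly
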