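import Cfsg.Agent.H5.LyxD4

set_option autoImplicit false
set_option maxRecDepth 100000
set_option Elab.async false

namespace Cfsg.Agent.H5.Ly

theorem dO3_1 : rngB dO3f (nat_lit 117180) (nat_lit 16) (nat_lit 16) = 0 := by decide +kernel
theorem dO3_2 : rngB dO3f (nat_lit 117180) (nat_lit 32) (nat_lit 16) = 0 := by decide +kernel
theorem dO3_3 : rngB dO3f (nat_lit 117180) (nat_lit 48) (nat_lit 16) = 0 := by decide +kernel
theorem dO3_4 : rngB dO3f (nat_lit 117180) (nat_lit 64) (nat_lit 16) = 0 := by decide +kernel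
theorem dO3_5 : rngB dO3f (nat_lit 117180) (nat_lit 80) (nat_lit 16) = 0 := by decide +kernel
theorem dO3_6 : rngB dO3f (nat_lit 117180) (nat_lit 96) (nat_lit 16) = 0 := by decide +kernel
theorem dO3_7 : rngB dO3f (nat_lit 117180) (nat_lit 112) (nat_lit 16) = 0 := by decide +kernel
theorem dO3_8 : rngB dO3f (nat_lit 117180) (nat_lit 128) (nat_lit 16) = 0 := by decide +kernel
theorem dO3_9 : rngB dO3f (nat_lit 117180) (nat_lit 144) (nat_lit 16) = 0 := by decide +kernel
theorem dO3_10 : rngB dO3f (nat_lit 117180) (nat_lit 160) (nat_lit 16) = 0 := by decide +kernel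
theorem dO3_11 : rngB dO3f (nat_lit 117180) (nat_lit 176) (nat_lit 16) = 0 := by decide +kernel
theorem dO3_12 : rngB dO3f (nat_lit 117180) (nat_lit 192) (nat_lit 16) = 0 := by decide +kernel
theorem dO3_13 : rngB dO3f (nat_lit 117180) (nat_lit 208) (nat_lit 16) = 0 := by decide +kernel
theorem dO3_14 : rngB dO3f (nat_lit 117180) (nat_lit 224) (nat_lit 16) = 0 := by decide +kernel
theorem dO3_15 : rngB dO3f (nat_lit 117180) (nat_lit 240) (nat_lit 16) = 0 := by decide +kernel
theorem dO3_16 : rngB dO3f (nat_lit 117180) (nat_lit 256) (nat_lit 16) = 0 := by decide +kernel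
theorem dO3_17 : rngB dO3f (nat_lit 117180) (nat_lit 272) (nat_lit 16) = 0 := by decide +kernel
theorem dO3_18 : rngB dO3f (nat_lit 117180) (nat_lit 288) (nat_lit 16) = 0 := by decide +kernel
theorem dO3_19 : rngB dO3f (nat_lit 117180) (nat_lit 304) (nat_lit 16) = 0 := by decide +kernel
theorem dO3_20 : rngB dO3f (nat_lit 117180) (nat_lit 320) (nat_lit 16) = 0 := by decide +kernel
theorem dO3_21 : rngB dO3f (nat_lit 117180) (nat_lit 336) (nat_lit 16) = 0 := by decide +kernel
theorem dO3_22 : rngB dO3f (nat_lit 117180) (nat_lit 352) (nat_lit 16) = 0 := by decide +kernel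
theorem dO3_23 : rngB dO3f (nat_lit 117180) (nat_lit 368) (nat_lit 16) = 0 := by decide +kernel
theorem dO3_24 : rngB dO3f (nat_lit 117180) (nat_lit 384) (nat_lit 16) = 0 := by decide +kernel
theorem dO3_25 : rngB dO3f (nat_lit 117180) (nat_lit 400) (nat_lit 16) = 0 := by decide +kernel
theorem dO3_26 : rngB dO3f (nat_lit 117180) (nat_lit 416) (nat_lit 16) = 0 := by decide +kernel
theorem dO3_27 : rngB dO3f (nat_lit 117180) (nat_lit 432) (nat_lit 16) = 0 := by decide +kernel
theorem dO3_28 : rngB dO3f (nat_lit 117180) (nat_lit 448) (nat_lit 16) = 0 := by decide +kernel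
theorem dO3_29 : rngB dO3f (nat_lit 117180) (nat_lit 464) (nat_lit 16) = 0 := by decide +kernel
theorem dO3_30 : rngB dO3f (nat_lit 117180) (nat_lit 480) (nat_lit 16) = 0 := by decide +kernel
theorem dO3_31 : rngB dO3f (nat_lit 117180) (nat_lit 496) (nat_lit 16) = 0 := by decide +kernel
theorem dO3_32 : rngB dO3f (nat_lit 117180) (nat_lit 512) (nat_lit 16) = 0 := by decide +kernel
theorem dO3_33 : rngB dO3f (nat_lit 117180) (nat_lit 528) (nat_lit 16) = 0 := by decide +kernel
theorem dO3_34 : rngB dO3f (nat_lit 117180) (nat_lit 544) (nat_lit 16) = 0 := by decide +kernel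
theorem dO3_35 : rngB dO3f (nat_lit 117180) (nat_lit 560) (nat_lit 16) = 0 := by decide +kernel
theorem dO3_36 : rngB dO3f (nat_lit 117180) (nat_lit 576) (nat_lit 16) = 0 := by decide +kernel
theorem dO3_37 : rngB dO3f (nat_lit 117180) (nat_lit 592) (nat_lit 16) = 0 := by decide +kernel
theorem dO3_38 : rngB dO3f (nat_lit 117180) (nat_lit 608) (nat_lit 16) = 0 := by decide +kernel
theorem dO3_39 : rngB dO3f (nat_lit 117180) (nat_lit 624) (nat_lit 16) = 0 := by decide +kernel
theorem dO3_40 : rngB dO3f (nat_lit 117180) (nat_lit 640) (nat_lit 16) = 0 := by decide +kernel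
theorem dO3_41 : rngB dO3f (nat_lit 117180) (nat_lit 656) (nat_lit 16) = 0 := by decide +kernel
theorem dO3_42 : rngB dO3f (nat_lit 117180) (nat_lit 672) (nat_lit 16) = 0 := by decide +kernel
theorem dO3_43 : rngB dO3f (nat_lit 117180) (nat_lit 688) (nat_lit 16) = 0 := by decide +kernel
theorem dO3_44 : rngB dO3f (nat_lit 117180) (nat_lit 704) (nat_lit 16) = 0 := by decide +kernel
theorem dO3_45 : rngB dO3f (nat_lit 117180) (nat_lit 720) (nat_lit 16) = 0 := by decide +kernel
theorem dO3_46 : rngB dO3f (nat_lit 117180) (nat_lit 736) (nat_lit 16) = 0 := by decide +kernel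
theorem dO3_47 : rngB dO3f (nat_lit 117180) (nat_lit 752) (nat_lit 16) = 0 := by decide +kernel
theorem dO3_48 : rngB dO3f (nat_lit 117180) (nat_lit 768) (nat_lit 16) = 0 := by decide +kernel
theorem dO3_49 : rngB dO3f (nat_lit 117180) (nat_lit 784) (nat_lit 16) = 0 := by decide +kernel
theorem dO3_50 : rngB dO3f (nat_lit 117180) (nat_lit 800) (nat_lit 16) = 0 := by decide +kernel
theorem dO3_51 : rngB dO3f (nat_lit 117180) (nat_lit 816) (nat_lit 16) = 0 := by decide +kernel
theorem dO3_52 : rngB dO3f (nat_lit 117180) (nat_lit 832) (nat_lit 16) = 0 := by decide +kernel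
theorem dO3_53 : rngB dO3f (nat_lit 117180) (nat_lit 848) (nat_lit 16) = 0 := by decide +kernel
theorem dO3_54 : rngB dO3f (nat_lit 117180) (nat_lit 864) (nat_lit 16) = 0 := by decide +kernel
theorem dO3_55 : rngB dO3f (nat_lit 117180) (nat_lit 880) (nat_lit 16) = 0 := by decide +kernel
theorem dO3_56 : rngB dO3f (nat_lit 117180) (nat_lit 896) (nat_lit 16) = 0 := by decide +kernel
theorem dO3_57 : rngB dO3f (nat_lit 117180) (nat_lit 912) (nat_lit 16) = 0 := by decide +kernel
theorem dO3_58 : rngB dO3f (nat_lit 117180) (nat_lit 928) (nat_lit 16) = 0 := by decide +kernel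
theorem dO3_59 : rngB dO3f (nat_lit 117180) (nat_lit 944) (nat_lit 16) = 0 := by decide +kernel
theorem dO3_60 : rngB dO3f (nat_lit 117180) (nat_lit 960) (nat_lit 16) = 0 := by decide +kernel
theorem dO3_61 : rngB dO3f (nat_lit 117180) (nat_lit 976) (nat_lit 16) = 0 := by decide +kernel
theorem dO3_62 : rngB dO3f (nat_lit 117180) (nat_lit 992) (nat_lit 16) = 0 := by decide +kernel
theorem dO3_63 : rngB dO3f (nat_lit 117180) (nat_lit 1008) (nat_lit 16) = 0 := by decide +kernel
theorem dO3_64 : rngB dO3f (nat_lit 117180) (nat_lit 1024) (nat_lit 16) = 0 := by decide +kernel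
theorem dO3_65 : rngB dO3f (nat_lit 117180) (nat_lit 1040) (nat_lit 16) = 0 := by decide +kernel
theorem dO3_66 : rngB dO3f (nat_lit 117180) (nat_lit 1056) (nat_lit 16) = 0 := by decide +kernel
theorem dO3_67 : rngB dO3f (nat_lit 117180) (nat_lit 1072) (nat_lit 16) = 0 := by decide +kernel
theorem dO3_68 : rngB dO3f (nat_lit 117180) (nat_lit 1088) (nat_lit 16) = 0 := by decide +kernel
theorem dO3_69 : rngB dO3f (nat_lit 117180) (nat_lit 1104) (nat_lit 16) = 0 := by decide +kernel
theorem dO3_70 : rngB dO3f (nat_lit 117180) (nat_lit 1120) (nat_lit 16) = 0 := by decide +kernel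
theorem dO3_71 : rngB dO3f (nat_lit 117180) (nat_lit 1136) (nat_lit 16) = 0 := by decide +kernel
theorem dO3_72 : rngB dO3f (nat_lit 117180) (nat_lit 1152) (nat_lit 16) = 0 := by decide +kernel
theorem dO3_73 : rngB dO3f (nat_lit 117180) (nat_lit 1168) (nat_lit 16) = 0 := by decide +kernel
theorem dO3_74 : rngB dO3f (nat_lit 117180) (nat_lit 1184) (nat_lit 16) = 0 := by decide +kernel
theorem dO3_75 : rngB dO3f (nat_lit 117180) (nat_lit 1200) (nat_lit 16) = 0 := by decide +kernel
theorem dO3_76 : rngB dO3f (nat_lit 117180) (nat_lit 1216) (nat_lit 16) = 0 := by decide +kernel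
theorem dO3_77 : rngB dO3f (nat_lit 117180) (nat_lit 1232) (nat_lit 16) = 0 := by decide +kernel
theorem dO3_78 : rngB dO3f (nat_lit 117180) (nat_lit 1248) (nat_lit 16) = 0 := by decide +kernel
theorem dO3_79 : rngB dO3f (nat_lit 117180) (nat_lit 1264) (nat_lit 16) = 0 := by decide +kernel
theorem dO3_80 : rngB dO3f (nat_lit 117180) (nat_lit 1280) (nat_lit 16) = 0 := by decide +kernel
theorem dO3_81 : rngB dO3f (nat_lit 117180) (nat_lit 1296) (nat_lit 16) = 0 := by decide +kernel
theorem dO3_82 : rngB dO3f (nat_lit 117180) (nat_lit 1312) (nat_lit 16) = 0 := by decide +kernel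
theorem dO3_83 : rngB dO3f (nat_lit 117180) (nat_lit 1328) (nat_lit 16) = 0 := by decide +kernel
theorem dO3_84 : rngB dO3f (nat_lit 117180) (nat_lit 1344) (nat_lit 16) = 0 := by decide +kernel
theorem dO3_85 : rngB dO3f (nat_lit 117180) (nat_lit 1360) (nat_lit 16) = 0 := by decide +kernel
theorem dO3_86 : rngB dO3f (nat_lit 117180) (nat_lit 1376) (nat_lit 16) = 0 := by decide +kernel
theorem dO3_87 : rngB dO3f (nat_lit 117180) (nat_lit 1392) (nat_lit 16) = 0 := by decide +kernel
theorem dO3_88 : rngB dO3f (nat_lit 117180) (nat_lit 1408) (nat_lit 16) = 0 := by decide +kernel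
theorem dO3_89 : rngB dO3f (nat_lit 117180) (nat_lit 1424) (nat_lit 16) = 0 := by decide +kernel
theorem dO3_90 : rngB dO3f (nat_lit 117180) (nat_lit 1440) (nat_lit 16) = 0 := by decide +kernel
theorem dO3_91 : rngB dO3f (nat_lit 117180) (nat_lit 1456) (nat_lit 16) = 0 := by decide +kernel
theorem dO3_92 : rngB dO3f (nat_lit 117180) (nat_lit 1472) (nat_lit 16) = 0 := by decide +kernel
theorem dO3_93 : rngB dO3f (nat_lit 117180) (nat_lit 1488) (nat_lit 16) = 0 := by decide +kernel
theorem dO3_94 : rngB dO3f (nat_lit 117180) (nat_lit 1504) (nat_lit 16) = 0 := by decide +kernel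
theorem dO3_95 : rngB dO3f (nat_lit 117180) (nat_lit 1520) (nat_lit 16) = 0 := by decide +kernel
theorem dO3_96 : rngB dO3f (nat_lit 117180) (nat_lit 1536) (nat_lit 16) = 0 := by decide +kernel
theorem dO3_97 : rngB dO3f (nat_lit 117180) (nat_lit 1552) (nat_lit 16) = 0 := by decide +kernel
theorem dO3_98 : rngB dO3f (nat_lit 117180) (nat_lit 1568) (nat_lit 16) = 0 := by decide +kernel
theorem dO3_99 : rngB dO3f (nat_lit 117180) (nat_lit 1584) (nat_lit 16) = 0 := by decide +kernel
theorem dO3_100 : rngB dO3f (nat_lit 117180) (nat_lit 1600) (nat_lit 16) = 0 := by decide +kernel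
theorem dO3_101 : rngB dO3f (nat_lit 117180) (nat_lit 1616) (nat_lit 16) = 0 := by decide +kernel
theorem dO3_102 : rngB dO3f (nat_lit 117180) (nat_lit 1632) (nat_lit 16) = 0 := by decide +kernel
theorem dO3_103 : rngB dO3f (nat_lit 117180) (nat_lit 1648) (nat_lit 16) = 0 := by decide +kernel
theorem dO3_104 : rngB dO3f (nat_lit 117180) (nat_lit 1664) (nat_lit 16) = 0 := by decide +kernel
theorem dO3_105 : rngB dO3f (nat_lit 117180) (nat_lit 1680) (nat_lit 16) = 0 := by decide +kernel
theorem dO3_106 : rngB dO3f (nat_lit 117180) (nat_lit 1696) (nat_lit 16) = 0 := by decide +kernel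
theorem dO3_107 : rngB dO3f (nat_lit 117180) (nat_lit 1712) (nat_lit 16) = 0 := by decide +kernel
theorem dO3_108 : rngB dO3f (nat_lit 117180) (nat_lit 1728) (nat_lit 16) = 0 := by decide +kernel
theorem dO3_109 : rngB dO3f (nat_lit 117180) (nat_lit 1744) (nat_lit 16) = 0 := by decide +kernel
theorem dO3_110 : rngB dO3f (nat_lit 117180) (nat_lit 1760) (nat_lit 16) = 0 := by decide +kernel
theorem dO3_111 : rngB dO3f (nat_lit 117180) (nat_lit 1776) (nat_lit 16) = 0 := by decide +kernel
theorem dO3_112 : rngB dO3f (nat_lit 117180) (nat_lit 1792) (nat_lit 16) = 0 := by decide +kernel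
theorem dO3_113 : rngB dO3f (nat_lit 117180) (nat_lit 1808) (nat_lit 16) = 0 := by decide +kernel
theorem dO3_114 : rngB dO3f (nat_lit 117180) (nat_lit 1824) (nat_lit 7) = 0 := by decide +kernel
theorem dM3_0 : rng dM3f (nat_lit 0) (nat_lit 8) = 0 := by decide +kernel
theorem dM3_1 : rng dM3f (nat_lit 8) (nat_lit 8) = 0 := by decide +kernel
theorem dM3_2 : rng dM3f (nat_lit 16) (nat_lit 8) = 0 := by decide +kernel
theorem dM3_3 : rng dM3f (nat_lit 24) (nat_lit 8) = 0 := by decide +kernel
theorem dM3_4 : rng dM3f (nat_lit 32) (nat_lit 8) = 0 := by decide +kernel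
theorem dM3_5 : rng dM3f (nat_lit 40) (nat_lit 8) = 0 := by decide +kernel
theorem dM3_6 : rng dM3f (nat_lit 48) (nat_lit 8) = 0 := by decide +kernel
theorem dM3_7 : rng dM3f (nat_lit 56) (nat_lit 8) = 0 := by decide +kernel
theorem dM3_8 : rng dM3f (nat_lit 64) (nat_lit 8) = 0 := by decide +kernel
theorem dM3_9 : rng dM3f (nat_lit 72) (nat_lit 8) = 0 := by decide +kernel
theorem dM3_10 : rng dM3f (nat_lit 80) (nat_lit 8) = 0 := by decide +kernel
theorem dM3_11 : rng dM3f (nat_lit 88) (nat_lit 8) = 0 := by decide +kernel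
theorem dM3_12 : rng dM3f (nat_lit 96) (nat_lit 8) = 0 := by decide +kernel
theorem dM3_13 : rng dM3f (nat_lit 104) (nat_lit 8) = 0 := by decide +kernel
theorem dM3_14 : rng dM3f (nat_lit 112) (nat_lit 8) = 0 := by decide +kernel
theorem dM3_15 : rng dM3f (nat_lit 120) (nat_lit 8) = 0 := by decide +kernel
theorem dM3_16 : rng dM3f (nat_lit 128) (nat_lit 8) = 0 := by decide +kernel
theorem dM3_17 : rng dM3f (nat_lit 136) (nat_lit 8) = 0 := by decide +kernel
theorem dM3_18 : rng dM3f (nat_lit 144) (nat_lit 2) = 0 := by decide +kernel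
theorem dR3_0 : rng dR3f (nat_lit 0) (nat_lit 2) = 0 := by decide +kernel
theorem dR3_1 : rng dR3f (nat_lit 2) (nat_lit 2) = 0 := by decide +kernel
theorem dR3_2 : rng dR3f (nat_lit 4) (nat_lit 2) = 0 := by decide +kernel
theorem dR3_3 : rng dR3f (nat_lit 6) (nat_lit 2) = 0 := by decide +kernel
theorem dR3_4 : rng dR3f (nat_lit 8) (nat_lit 2) = 0 := by decide +kernel
theorem dR3_5 : rng dR3f (nat_lit 10) (nat_lit 2) = 0 := by decide +kernel

end Cfsg.Agent.H5.Ly
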