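import Cfsg.Agent.H5.LyxD4

set_option autoImplicit false
set_option maxRecDepth 100000
set_option Elab.async false

namespace Cfsg.Agent.H5.Ly

theorem dR3_6 : rng dR3f (nat_lit 12) (nat_lit 2) = 0 := by decide +kernel
theorem dR3_7 : rng dR3f (nat_lit 14) (nat_lit 2) = 0 := by decide +kernel
theorem dR3_8 : rng dR3f (nat_lit 16) (nat_lit 2) = 0 := by decide +kernel
theorem dR3_9 : rng dR3f (nat_lit 18) (nat_lit 2) = 0 := by decide +kernel
theorem dR3_10 : rng dR3f (nat_lit 20) (nat_lit 2) = 0 := by decide +kernel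
theorem dR3_11 : rng dR3f (nat_lit 22) (nat_lit 2) = 0 := by decide +kernel
theorem dR3_12 : rng dR3f (nat_lit 24) (nat_lit 2) = 0 := by decide +kernel
theorem dR3_13 : rng dR3f (nat_lit 26) (nat_lit 2) = 0 := by decide +kernel
theorem dR3_14 : rng dR3f (nat_lit 28) (nat_lit 2) = 0 := by decide +kernel
theorem dR3_15 : rng dR3f (nat_lit 30) (nat_lit 2) = 0 := by decide +kernel
theorem dR3_16 : rng dR3f (nat_lit 32) (nat_lit 2) = 0 := by decide +kernel
theorem dR3_17 : rng dR3f (nat_lit 34) (nat_lit 2) = 0 := by decide +kernel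
theorem dR3_18 : rng dR3f (nat_lit 36) (nat_lit 2) = 0 := by decide +kernel
theorem dR3_19 : rng dR3f (nat_lit 38) (nat_lit 2) = 0 := by decide +kernel
theorem dR3_20 : rng dR3f (nat_lit 40) (nat_lit 2) = 0 := by decide +kernel
theorem dR3_21 : rng dR3f (nat_lit 42) (nat_lit 2) = 0 := by decide +kernel
theorem dR3_22 : rng dR3f (nat_lit 44) (nat_lit 2) = 0 := by decide +kernel
theorem dR3_23 : rng dR3f (nat_lit 46) (nat_lit 2) = 0 := by decide +kernel
theorem dR3_24 : rng dR3f (nat_lit 48) (nat_lit 2) = 0 := by decide +kernel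
theorem dR3_25 : rng dR3f (nat_lit 50) (nat_lit 2) = 0 := by decide +kernel
theorem dR3_26 : rng dR3f (nat_lit 52) (nat_lit 2) = 0 := by decide +kernel
theorem dR3_27 : rng dR3f (nat_lit 54) (nat_lit 2) = 0 := by decide +kernel
theorem dR3_28 : rng dR3f (nat_lit 56) (nat_lit 2) = 0 := by decide +kernel
theorem dR3_29 : rng dR3f (nat_lit 58) (nat_lit 2) = 0 := by decide +kernel
theorem dR3_30 : rng dR3f (nat_lit 60) (nat_lit 2) = 0 := by decide +kernel
theorem dR3_31 : rng dR3f (nat_lit 62) (nat_lit 2) = 0 := by decide +kernel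
theorem dR3_32 : rng dR3f (nat_lit 64) (nat_lit 2) = 0 := by decide +kernel
theorem dR3_33 : rng dR3f (nat_lit 66) (nat_lit 2) = 0 := by decide +kernel
theorem dR3_34 : rng dR3f (nat_lit 68) (nat_lit 2) = 0 := by decide +kernel
theorem dR3_35 : rng dR3f (nat_lit 70) (nat_lit 2) = 0 := by decide +kernel
theorem dR3_36 : rng dR3f (nat_lit 72) (nat_lit 2) = 0 := by decide +kernel
theorem dR3_37 : rng dR3f (nat_lit 74) (nat_lit 2) = 0 := by decide +kernel
theorem dR3_38 : rng dR3f (nat_lit 76) (nat_lit 2) = 0 := by decide +kernel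
theorem dR3_39 : rng dR3f (nat_lit 78) (nat_lit 2) = 0 := by decide +kernel
theorem dR3_40 : rng dR3f (nat_lit 80) (nat_lit 2) = 0 := by decide +kernel
theorem dR3_41 : rng dR3f (nat_lit 82) (nat_lit 2) = 0 := by decide +kernel
theorem dR3_42 : rng dR3f (nat_lit 84) (nat_lit 2) = 0 := by decide +kernel
theorem dR3_43 : rng dR3f (nat_lit 86) (nat_lit 2) = 0 := by decide +kernel
theorem dR3_44 : rng dR3f (nat_lit 88) (nat_lit 2) = 0 := by decide +kernel
theorem dR3_45 : rng dR3f (nat_lit 90) (nat_lit 2) = 0 := by decide +kernel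
theorem dR3_46 : rng dR3f (nat_lit 92) (nat_lit 2) = 0 := by decide +kernel
theorem dR3_47 : rng dR3f (nat_lit 94) (nat_lit 2) = 0 := by decide +kernel
theorem dR3_48 : rng dR3f (nat_lit 96) (nat_lit 2) = 0 := by decide +kernel
theorem dR3_49 : rng dR3f (nat_lit 98) (nat_lit 2) = 0 := by decide +kernel
theorem dR3_50 : rng dR3f (nat_lit 100) (nat_lit 2) = 0 := by decide +kernel
theorem dR3_51 : rng dR3f (nat_lit 102) (nat_lit 2) = 0 := by decide +kernel
theorem dR3_52 : rng dR3f (nat_lit 104) (nat_lit 2) = 0 := by decide +kernel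
theorem dR3_53 : rng dR3f (nat_lit 106) (nat_lit 2) = 0 := by decide +kernel
theorem dR3_54 : rng dR3f (nat_lit 108) (nat_lit 2) = 0 := by decide +kernel
theorem dR3_55 : rng dR3f (nat_lit 110) (nat_lit 2) = 0 := by decide +kernel
theorem dR3_56 : rng dR3f (nat_lit 112) (nat_lit 2) = 0 := by decide +kernel
theorem dR3_57 : rng dR3f (nat_lit 114) (nat_lit 2) = 0 := by decide +kernel
theorem dR3_58 : rng dR3f (nat_lit 116) (nat_lit 2) = 0 := by decide +kernel
theorem dR3_59 : rng dR3f (nat_lit 118) (nat_lit 2) = 0 := by decide +kernel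
theorem dR3_60 : rng dR3f (nat_lit 120) (nat_lit 2) = 0 := by decide +kernel
theorem dR3_61 : rng dR3f (nat_lit 122) (nat_lit 2) = 0 := by decide +kernel
theorem dR3_62 : rng dR3f (nat_lit 124) (nat_lit 2) = 0 := by decide +kernel
theorem dR3_63 : rng dR3f (nat_lit 126) (nat_lit 2) = 0 := by decide +kernel
theorem dR3_64 : rng dR3f (nat_lit 128) (nat_lit 2) = 0 := by decide +kernel
theorem dR3_65 : rng dR3f (nat_lit 130) (nat_lit 2) = 0 := by decide +kernel
theorem dR3_66 : rng dR3f (nat_lit 132) (nat_lit 2) = 0 := by decide +kernel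
theorem dR3_67 : rng dR3f (nat_lit 134) (nat_lit 2) = 0 := by decide +kernel
theorem dR3_68 : rng dR3f (nat_lit 136) (nat_lit 2) = 0 := by decide +kernel
theorem dR3_69 : rng dR3f (nat_lit 138) (nat_lit 2) = 0 := by decide +kernel
theorem dR3_70 : rng dR3f (nat_lit 140) (nat_lit 2) = 0 := by decide +kernel
theorem dR3_71 : rng dR3f (nat_lit 142) (nat_lit 2) = 0 := by decide +kernel
theorem dR3_72 : rng dR3f (nat_lit 144) (nat_lit 2) = 0 := by decide +kernel
theorem dL4_0 : rng dL4f (nat_lit 0) (nat_lit 2) = 0 := by decide +kernel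
theorem dO4_0 : rngB dO4f (nat_lit 117180) (nat_lit 0) (nat_lit 16) = 0 := by decide +kernel
theorem dO4_1 : rngB dO4f (nat_lit 117180) (nat_lit 16) (nat_lit 16) = 0 := by decide +kernel
theorem dO4_2 : rngB dO4f (nat_lit 117180) (nat_lit 32) (nat_lit 16) = 0 := by decide +kernel
theorem dO4_3 : rngB dO4f (nat_lit 117180) (nat_lit 48) (nat_lit 16) = 0 := by decide +kernel
theorem dO4_4 : rngB dO4f (nat_lit 117180) (nat_lit 64) (nat_lit 16) = 0 := by decide +kernel
theorem dO4_5 : rngB dO4f (nat_lit 117180) (nat_lit 80) (nat_lit 16) = 0 := by decide +kernel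
theorem dO4_6 : rngB dO4f (nat_lit 117180) (nat_lit 96) (nat_lit 16) = 0 := by decide +kernel
theorem dO4_7 : rngB dO4f (nat_lit 117180) (nat_lit 112) (nat_lit 16) = 0 := by decide +kernel
theorem dO4_8 : rngB dO4f (nat_lit 117180) (nat_lit 128) (nat_lit 16) = 0 := by decide +kernel
theorem dO4_9 : rngB dO4f (nat_lit 117180) (nat_lit 144) (nat_lit 16) = 0 := by decide +kernel
theorem dO4_10 : rngB dO4f (nat_lit 117180) (nat_lit 160) (nat_lit 16) = 0 := by decide +kernel
theorem dO4_11 : rngB dO4f (nat_lit 117180) (nat_lit 176) (nat_lit 16) = 0 := by decide +kernel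
theorem dO4_12 : rngB dO4f (nat_lit 117180) (nat_lit 192) (nat_lit 16) = 0 := by decide +kernel
theorem dO4_13 : rngB dO4f (nat_lit 117180) (nat_lit 208) (nat_lit 16) = 0 := by decide +kernel
theorem dO4_14 : rngB dO4f (nat_lit 117180) (nat_lit 224) (nat_lit 16) = 0 := by decide +kernel
theorem dO4_15 : rngB dO4f (nat_lit 117180) (nat_lit 240) (nat_lit 16) = 0 := by decide +kernel
theorem dO4_16 : rngB dO4f (nat_lit 117180) (nat_lit 256) (nat_lit 16) = 0 := by decide +kernel
theorem dO4_17 : rngB dO4f (nat_lit 117180) (nat_lit 272) (nat_lit 16) = 0 := by decide +kernel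
theorem dO4_18 : rngB dO4f (nat_lit 117180) (nat_lit 288) (nat_lit 16) = 0 := by decide +kernel
theorem dO4_19 : rngB dO4f (nat_lit 117180) (nat_lit 304) (nat_lit 16) = 0 := by decide +kernel
theorem dO4_20 : rngB dO4f (nat_lit 117180) (nat_lit 320) (nat_lit 16) = 0 := by decide +kernel
theorem dO4_21 : rngB dO4f (nat_lit 117180) (nat_lit 336) (nat_lit 16) = 0 := by decide +kernel
theorem dO4_22 : rngB dO4f (nat_lit 117180) (nat_lit 352) (nat_lit 16) = 0 := by decide +kernel
theorem dO4_23 : rngB dO4f (nat_lit 117180) (nat_lit 368) (nat_lit 16) = 0 := by decide +kernel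
theorem dO4_24 : rngB dO4f (nat_lit 117180) (nat_lit 384) (nat_lit 16) = 0 := by decide +kernel
theorem dO4_25 : rngB dO4f (nat_lit 117180) (nat_lit 400) (nat_lit 16) = 0 := by decide +kernel
theorem dO4_26 : rngB dO4f (nat_lit 117180) (nat_lit 416) (nat_lit 16) = 0 := by decide +kernel
theorem dO4_27 : rngB dO4f (nat_lit 117180) (nat_lit 432) (nat_lit 16) = 0 := by decide +kernel
theorem dO4_28 : rngB dO4f (nat_lit 117180) (nat_lit 448) (nat_lit 16) = 0 := by decide +kernel
theorem dO4_29 : rngB dO4f (nat_lit 117180) (nat_lit 464) (nat_lit 16) = 0 := by decide +kernel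
theorem dO4_30 : rngB dO4f (nat_lit 117180) (nat_lit 480) (nat_lit 16) = 0 := by decide +kernel
theorem dO4_31 : rngB dO4f (nat_lit 117180) (nat_lit 496) (nat_lit 16) = 0 := by decide +kernel
theorem dO4_32 : rngB dO4f (nat_lit 117180) (nat_lit 512) (nat_lit 16) = 0 := by decide +kernel
theorem dO4_33 : rngB dO4f (nat_lit 117180) (nat_lit 528) (nat_lit 16) = 0 := by decide +kernel
theorem dO4_34 : rngB dO4f (nat_lit 117180) (nat_lit 544) (nat_lit 16) = 0 := by decide +kernel
theorem dO4_35 : rngB dO4f (nat_lit 117180) (nat_lit 560) (nat_lit 16) = 0 := by decide +kernel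
theorem dO4_36 : rngB dO4f (nat_lit 117180) (nat_lit 576) (nat_lit 16) = 0 := by decide +kernel
theorem dO4_37 : rngB dO4f (nat_lit 117180) (nat_lit 592) (nat_lit 16) = 0 := by decide +kernel
theorem dO4_38 : rngB dO4f (nat_lit 117180) (nat_lit 608) (nat_lit 16) = 0 := by decide +kernel
theorem dO4_39 : rngB dO4f (nat_lit 117180) (nat_lit 624) (nat_lit 16) = 0 := by decide +kernel
theorem dO4_40 : rngB dO4f (nat_lit 117180) (nat_lit 640) (nat_lit 16) = 0 := by decide +kernel
theorem dO4_41 : rngB dO4f (nat_lit 117180) (nat_lit 656) (nat_lit 16) = 0 := by decide +kernel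
theorem dO4_42 : rngB dO4f (nat_lit 117180) (nat_lit 672) (nat_lit 16) = 0 := by decide +kernel
theorem dO4_43 : rngB dO4f (nat_lit 117180) (nat_lit 688) (nat_lit 16) = 0 := by decide +kernel
theorem dO4_44 : rngB dO4f (nat_lit 117180) (nat_lit 704) (nat_lit 16) = 0 := by decide +kernel
theorem dO4_45 : rngB dO4f (nat_lit 117180) (nat_lit 720) (nat_lit 16) = 0 := by decide +kernel
theorem dO4_46 : rngB dO4f (nat_lit 117180) (nat_lit 736) (nat_lit 16) = 0 := by decide +kernel
theorem dO4_47 : rngB dO4f (nat_lit 117180) (nat_lit 752) (nat_lit 16) = 0 := by decide +kernel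
theorem dO4_48 : rngB dO4f (nat_lit 117180) (nat_lit 768) (nat_lit 16) = 0 := by decide +kernel
theorem dO4_49 : rngB dO4f (nat_lit 117180) (nat_lit 784) (nat_lit 16) = 0 := by decide +kernel
theorem dO4_50 : rngB dO4f (nat_lit 117180) (nat_lit 800) (nat_lit 16) = 0 := by decide +kernel
theorem dO4_51 : rngB dO4f (nat_lit 117180) (nat_lit 816) (nat_lit 16) = 0 := by decide +kernel

end Cfsg.Agent.H5.Ly
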