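import Cfsg.Agent.H5.LyxD4

set_option autoImplicit false
set_option maxRecDepth 100000
set_option Elab.async false

namespace Cfsg.Agent.H5.Ly

theorem dO4_52 : rngB dO4f (nat_lit 117180) (nat_lit 832) (nat_lit 16) = 0 := by decide +kernel
theorem dO4_53 : rngB dO4f (nat_lit 117180) (nat_lit 848) (nat_lit 16) = 0 := by decide +kernel
theorem dO4_54 : rngB dO4f (nat_lit 117180) (nat_lit 864) (nat_lit 16) = 0 := by decide +kernel
theorem dO4_55 : rngB dO4f (nat_lit 117180) (nat_lit 880) (nat_lit 16) = 0 := by decide +kernel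
theorem dO4_56 : rngB dO4f (nat_lit 117180) (nat_lit 896) (nat_lit 16) = 0 := by decide +kernel
theorem dO4_57 : rngB dO4f (nat_lit 117180) (nat_lit 912) (nat_lit 16) = 0 := by decide +kernel
theorem dO4_58 : rngB dO4f (nat_lit 117180) (nat_lit 928) (nat_lit 16) = 0 := by decide +kernel
theorem dO4_59 : rngB dO4f (nat_lit 117180) (nat_lit 944) (nat_lit 16) = 0 := by decide +kernel
theorem dO4_60 : rngB dO4f (nat_lit 117180) (nat_lit 960) (nat_lit 16) = 0 := by decide +kernel
theorem dO4_61 : rngB dO4f (nat_lit 117180) (nat_lit 976) (nat_lit 16) = 0 := by decide +kernel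
theorem dO4_62 : rngB dO4f (nat_lit 117180) (nat_lit 992) (nat_lit 16) = 0 := by decide +kernel
theorem dO4_63 : rngB dO4f (nat_lit 117180) (nat_lit 1008) (nat_lit 16) = 0 := by decide +kernel
theorem dO4_64 : rngB dO4f (nat_lit 117180) (nat_lit 1024) (nat_lit 16) = 0 := by decide +kernel
theorem dO4_65 : rngB dO4f (nat_lit 117180) (nat_lit 1040) (nat_lit 16) = 0 := by decide +kernel
theorem dO4_66 : rngB dO4f (nat_lit 117180) (nat_lit 1056) (nat_lit 16) = 0 := by decide +kernel
theorem dO4_67 : rngB dO4f (nat_lit 117180) (nat_lit 1072) (nat_lit 16) = 0 := by decide +kernel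
theorem dO4_68 : rngB dO4f (nat_lit 117180) (nat_lit 1088) (nat_lit 16) = 0 := by decide +kernel
theorem dO4_69 : rngB dO4f (nat_lit 117180) (nat_lit 1104) (nat_lit 16) = 0 := by decide +kernel
theorem dO4_70 : rngB dO4f (nat_lit 117180) (nat_lit 1120) (nat_lit 16) = 0 := by decide +kernel
theorem dO4_71 : rngB dO4f (nat_lit 117180) (nat_lit 1136) (nat_lit 16) = 0 := by decide +kernel
theorem dO4_72 : rngB dO4f (nat_lit 117180) (nat_lit 1152) (nat_lit 16) = 0 := by decide +kernel
theorem dO4_73 : rngB dO4f (nat_lit 117180) (nat_lit 1168) (nat_lit 16) = 0 := by decide +kernel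
theorem dO4_74 : rngB dO4f (nat_lit 117180) (nat_lit 1184) (nat_lit 16) = 0 := by decide +kernel
theorem dO4_75 : rngB dO4f (nat_lit 117180) (nat_lit 1200) (nat_lit 16) = 0 := by decide +kernel
theorem dO4_76 : rngB dO4f (nat_lit 117180) (nat_lit 1216) (nat_lit 16) = 0 := by decide +kernel
theorem dO4_77 : rngB dO4f (nat_lit 117180) (nat_lit 1232) (nat_lit 16) = 0 := by decide +kernel
theorem dO4_78 : rngB dO4f (nat_lit 117180) (nat_lit 1248) (nat_lit 16) = 0 := by decide +kernel
theorem dO4_79 : rngB dO4f (nat_lit 117180) (nat_lit 1264) (nat_lit 16) = 0 := by decide +kernel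
theorem dO4_80 : rngB dO4f (nat_lit 117180) (nat_lit 1280) (nat_lit 16) = 0 := by decide +kernel
theorem dO4_81 : rngB dO4f (nat_lit 117180) (nat_lit 1296) (nat_lit 16) = 0 := by decide +kernel
theorem dO4_82 : rngB dO4f (nat_lit 117180) (nat_lit 1312) (nat_lit 16) = 0 := by decide +kernel
theorem dO4_83 : rngB dO4f (nat_lit 117180) (nat_lit 1328) (nat_lit 16) = 0 := by decide +kernel
theorem dO4_84 : rngB dO4f (nat_lit 117180) (nat_lit 1344) (nat_lit 16) = 0 := by decide +kernel
theorem dO4_85 : rngB dO4f (nat_lit 117180) (nat_lit 1360) (nat_lit 16) = 0 := by decide +kernel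
theorem dO4_86 : rngB dO4f (nat_lit 117180) (nat_lit 1376) (nat_lit 16) = 0 := by decide +kernel
theorem dO4_87 : rngB dO4f (nat_lit 117180) (nat_lit 1392) (nat_lit 16) = 0 := by decide +kernel
theorem dO4_88 : rngB dO4f (nat_lit 117180) (nat_lit 1408) (nat_lit 16) = 0 := by decide +kernel
theorem dO4_89 : rngB dO4f (nat_lit 117180) (nat_lit 1424) (nat_lit 16) = 0 := by decide +kernel
theorem dO4_90 : rngB dO4f (nat_lit 117180) (nat_lit 1440) (nat_lit 16) = 0 := by decide +kernel
theorem dO4_91 : rngB dO4f (nat_lit 117180) (nat_lit 1456) (nat_lit 16) = 0 := by decide +kernel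
theorem dO4_92 : rngB dO4f (nat_lit 117180) (nat_lit 1472) (nat_lit 16) = 0 := by decide +kernel
theorem dO4_93 : rngB dO4f (nat_lit 117180) (nat_lit 1488) (nat_lit 16) = 0 := by decide +kernel
theorem dO4_94 : rngB dO4f (nat_lit 117180) (nat_lit 1504) (nat_lit 16) = 0 := by decide +kernel
theorem dO4_95 : rngB dO4f (nat_lit 117180) (nat_lit 1520) (nat_lit 16) = 0 := by decide +kernel
theorem dO4_96 : rngB dO4f (nat_lit 117180) (nat_lit 1536) (nat_lit 16) = 0 := by decide +kernel
theorem dO4_97 : rngB dO4f (nat_lit 117180) (nat_lit 1552) (nat_lit 16) = 0 := by decide +kernel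
theorem dO4_98 : rngB dO4f (nat_lit 117180) (nat_lit 1568) (nat_lit 16) = 0 := by decide +kernel
theorem dO4_99 : rngB dO4f (nat_lit 117180) (nat_lit 1584) (nat_lit 16) = 0 := by decide +kernel
theorem dO4_100 : rngB dO4f (nat_lit 117180) (nat_lit 1600) (nat_lit 16) = 0 := by decide +kernel
theorem dO4_101 : rngB dO4f (nat_lit 117180) (nat_lit 1616) (nat_lit 16) = 0 := by decide +kernel
theorem dO4_102 : rngB dO4f (nat_lit 117180) (nat_lit 1632) (nat_lit 16) = 0 := by decide +kernel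
theorem dO4_103 : rngB dO4f (nat_lit 117180) (nat_lit 1648) (nat_lit 16) = 0 := by decide +kernel
theorem dO4_104 : rngB dO4f (nat_lit 117180) (nat_lit 1664) (nat_lit 16) = 0 := by decide +kernel
theorem dO4_105 : rngB dO4f (nat_lit 117180) (nat_lit 1680) (nat_lit 16) = 0 := by decide +kernel
theorem dO4_106 : rngB dO4f (nat_lit 117180) (nat_lit 1696) (nat_lit 16) = 0 := by decide +kernel
theorem dO4_107 : rngB dO4f (nat_lit 117180) (nat_lit 1712) (nat_lit 16) = 0 := by decide +kernel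
theorem dO4_108 : rngB dO4f (nat_lit 117180) (nat_lit 1728) (nat_lit 16) = 0 := by decide +kernel
theorem dO4_109 : rngB dO4f (nat_lit 117180) (nat_lit 1744) (nat_lit 16) = 0 := by decide +kernel
theorem dO4_110 : rngB dO4f (nat_lit 117180) (nat_lit 1760) (nat_lit 16) = 0 := by decide +kernel
theorem dO4_111 : rngB dO4f (nat_lit 117180) (nat_lit 1776) (nat_lit 16) = 0 := by decide +kernel
theorem dO4_112 : rngB dO4f (nat_lit 117180) (nat_lit 1792) (nat_lit 16) = 0 := by decide +kernel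
theorem dO4_113 : rngB dO4f (nat_lit 117180) (nat_lit 1808) (nat_lit 16) = 0 := by decide +kernel
theorem dO4_114 : rngB dO4f (nat_lit 117180) (nat_lit 1824) (nat_lit 7) = 0 := by decide +kernel
theorem dM4_0 : rng dM4f (nat_lit 0) (nat_lit 8) = 0 := by decide +kernel
theorem dM4_1 : rng dM4f (nat_lit 8) (nat_lit 8) = 0 := by decide +kernel
theorem dM4_2 : rng dM4f (nat_lit 16) (nat_lit 8) = 0 := by decide +kernel
theorem dM4_3 : rng dM4f (nat_lit 24) (nat_lit 2) = 0 := by decide +kernel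
theorem dR4_0 : rng dR4f (nat_lit 0) (nat_lit 2) = 0 := by decide +kernel
theorem dR4_1 : rng dR4f (nat_lit 2) (nat_lit 2) = 0 := by decide +kernel
theorem dR4_2 : rng dR4f (nat_lit 4) (nat_lit 2) = 0 := by decide +kernel
theorem dR4_3 : rng dR4f (nat_lit 6) (nat_lit 2) = 0 := by decide +kernel
theorem dR4_4 : rng dR4f (nat_lit 8) (nat_lit 2) = 0 := by decide +kernel
theorem dR4_5 : rng dR4f (nat_lit 10) (nat_lit 2) = 0 := by decide +kernel
theorem dR4_6 : rng dR4f (nat_lit 12) (nat_lit 2) = 0 := by decide +kernel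
theorem dR4_7 : rng dR4f (nat_lit 14) (nat_lit 2) = 0 := by decide +kernel
theorem dR4_8 : rng dR4f (nat_lit 16) (nat_lit 2) = 0 := by decide +kernel
theorem dR4_9 : rng dR4f (nat_lit 18) (nat_lit 2) = 0 := by decide +kernel
theorem dR4_10 : rng dR4f (nat_lit 20) (nat_lit 2) = 0 := by decide +kernel
theorem dR4_11 : rng dR4f (nat_lit 22) (nat_lit 2) = 0 := by decide +kernel
theorem dR4_12 : rng dR4f (nat_lit 24) (nat_lit 2) = 0 := by decide +kernel
theorem dX2 : chkD c111.mul dD ee [[nat_lit 2, nat_lit 9008910151947, nat_lit 2, nat_lit 15850467108378, nat_lit 1, nat_lit 2063077526931]] 0 = 0 := by decide +kernel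
theorem dX3 : chkD c111.mul dD ee [[nat_lit 3, nat_lit 11071687389147, nat_lit 3, nat_lit 9505963535003, nat_lit 2, nat_lit 10180236099975]] 0 = 0 := by decide +kernel
theorem dX4 : chkD c111.mul dD ee [[nat_lit 4, nat_lit 8421903814427, nat_lit 4, nat_lit 9128844858203, nat_lit 2, nat_lit 5706319766791]] 0 = 0 := by decide +kernel
theorem dI_0 : rng dIf (nat_lit 0) (nat_lit 4) = 0 := by decide +kernel
theorem dP_0 : rng dPf (nat_lit 0) (nat_lit 1) = 0 := by decide +kernel
theorem dP_1 : rng dPf (nat_lit 1) (nat_lit 1) = 0 := by decide +kernel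
theorem dP_2 : rng dPf (nat_lit 2) (nat_lit 1) = 0 := by decide +kernel
theorem dP_3 : rng dPf (nat_lit 3) (nat_lit 1) = 0 := by decide +kernel
theorem etE_0 : rng etEf (nat_lit 0) (nat_lit 4) = 0 := by decide +kernel
theorem etE_1 : rng etEf (nat_lit 4) (nat_lit 1) = 0 := by decide +kernel
theorem etO : pw c111.mul c111.one (et 0) 37 = c111.one ∧ c111.mul (et 0) c111.one ≠ c111.mul c111.one c111.one ∧ et 2 = fD 1 ∧ et 3 = kg 0 ∧ et 4 = kg 1 := by decide +kernel
theorem etP : pw c111.mul c111.one (et 1) 67 = c111.one ∧ c111.mul (et 1) c111.one ≠ c111.mul c111.one c111.one := by decide +kernel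
theorem t1S0_0 : rng t1S0f (nat_lit 0) (nat_lit 20) = 0 := by decide +kernel
theorem t1S0_1 : rng t1S0f (nat_lit 20) (nat_lit 12) = 0 := by decide +kernel
theorem t1T0_0 : t1T0 0 = c111.one := by decide +kernel
theorem t1y0Y_0 : rngB t1y0Yf (nat_lit 32) (nat_lit 0) (nat_lit 1) = 0 := by decide +kernel
theorem t1O0_0 : rngB t1O0f (nat_lit 32) (nat_lit 0) (nat_lit 1) = 0 := by decide +kernel
theorem t1E_0 : rng t1Ef (nat_lit 0) (nat_lit 2) = 0 := by decide +kernel
theorem t1L_0 : rng t1Lf (nat_lit 0) (nat_lit 2) = 0 := by decide +kernel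
theorem t1Q_0 : rng t1Qf (nat_lit 0) (nat_lit 4) = 0 := by decide +kernel
theorem t1Q_1 : rng t1Qf (nat_lit 4) (nat_lit 4) = 0 := by decide +kernel
theorem t1Q_2 : rng t1Qf (nat_lit 8) (nat_lit 4) = 0 := by decide +kernel
theorem t1Q_3 : rng t1Qf (nat_lit 12) (nat_lit 4) = 0 := by decide +kernel
theorem t1Q_4 : rng t1Qf (nat_lit 16) (nat_lit 4) = 0 := by decide +kernel
theorem t1Q_5 : rng t1Qf (nat_lit 20) (nat_lit 4) = 0 := by decide +kernel
theorem t1Q_6 : rng t1Qf (nat_lit 24) (nat_lit 4) = 0 := by decide +kernel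
theorem t1Q_7 : rng t1Qf (nat_lit 28) (nat_lit 4) = 0 := by decide +kernel
theorem t2S0_0 : rng t2S0f (nat_lit 0) (nat_lit 13) = 0 := by decide +kernel
theorem t2S0_1 : rng t2S0f (nat_lit 13) (nat_lit 13) = 0 := by decide +kernel
theorem t2S0_2 : rng t2S0f (nat_lit 26) (nat_lit 13) = 0 := by decide +kernel
theorem t2S0_3 : rng t2S0f (nat_lit 39) (nat_lit 13) = 0 := by decide +kernel
theorem t2S0_4 : rng t2S0f (nat_lit 52) (nat_lit 12) = 0 := by decide +kernel
theorem t2T0_0 : t2T0 0 = c111.one := by decide +kernel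
theorem t2y0Y_0 : rngB t2y0Yf (nat_lit 64) (nat_lit 0) (nat_lit 1) = 0 := by decide +kernel
theorem t2O0_0 : rngB t2O0f (nat_lit 64) (nat_lit 0) (nat_lit 1) = 0 := by decide +kernel
theorem t2E_0 : rng t2Ef (nat_lit 0) (nat_lit 3) = 0 := by decide +kernel
theorem t2L_0 : rng t2Lf (nat_lit 0) (nat_lit 3) = 0 := by decide +kernel
theorem t2Q_0 : rng t2Qf (nat_lit 0) (nat_lit 4) = 0 := by decide +kernel
theorem t2Q_1 : rng t2Qf (nat_lit 4) (nat_lit 4) = 0 := by decide +kernel
theorem t2Q_2 : rng t2Qf (nat_lit 8) (nat_lit 4) = 0 := by decide +kernel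
theorem t2Q_3 : rng t2Qf (nat_lit 12) (nat_lit 4) = 0 := by decide +kernel
theorem t2Q_4 : rng t2Qf (nat_lit 16) (nat_lit 4) = 0 := by decide +kernel
theorem t2Q_5 : rng t2Qf (nat_lit 20) (nat_lit 4) = 0 := by decide +kernel
theorem t2Q_6 : rng t2Qf (nat_lit 24) (nat_lit 4) = 0 := by decide +kernel
theorem t2Q_7 : rng t2Qf (nat_lit 28) (nat_lit 4) = 0 := by decide +kernel
theorem t2Q_8 : rng t2Qf (nat_lit 32) (nat_lit 4) = 0 := by decide +kernel
theorem t2Q_9 : rng t2Qf (nat_lit 36) (nat_lit 4) = 0 := by decide +kernel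
theorem t2Q_10 : rng t2Qf (nat_lit 40) (nat_lit 4) = 0 := by decide +kernel
theorem t2Q_11 : rng t2Qf (nat_lit 44) (nat_lit 4) = 0 := by decide +kernel

end Cfsg.Agent.H5.Ly
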