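import Cfsg.Agent.H5.LyxD4

set_option autoImplicit false
set_option maxRecDepth 100000
set_option Elab.async false

namespace Cfsg.Agent.H5.Ly

theorem t2Q_12 : rng t2Qf (nat_lit 48) (nat_lit 4) = 0 := by decide +kernel
theorem t2Q_13 : rng t2Qf (nat_lit 52) (nat_lit 4) = 0 := by decide +kernel
theorem t2Q_14 : rng t2Qf (nat_lit 56) (nat_lit 4) = 0 := by decide +kernel
theorem t2Q_15 : rng t2Qf (nat_lit 60) (nat_lit 4) = 0 := by decide +kernel
theorem t3S0_0 : rng t3S0f (nat_lit 0) (nat_lit 16) = 0 := by decide +kernel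
theorem t3T0_0 : t3T0 0 = c111.one := by decide +kernel
theorem t3y0Y_0 : rngB t3y0Yf (nat_lit 16) (nat_lit 0) (nat_lit 1) = 0 := by decide +kernel
theorem t3O0_0 : rngB t3O0f (nat_lit 16) (nat_lit 0) (nat_lit 1) = 0 := by decide +kernel
theorem t3E_0 : rng t3Ef (nat_lit 0) (nat_lit 2) = 0 := by decide +kernel
theorem t3L_0 : rng t3Lf (nat_lit 0) (nat_lit 2) = 0 := by decide +kernel
theorem t3Q_0 : rng t3Qf (nat_lit 0) (nat_lit 4) = 0 := by decide +kernel
theorem t3Q_1 : rng t3Qf (nat_lit 4) (nat_lit 4) = 0 := by decide +kernel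
theorem t3Q_2 : rng t3Qf (nat_lit 8) (nat_lit 4) = 0 := by decide +kernel
theorem t3Q_3 : rng t3Qf (nat_lit 12) (nat_lit 4) = 0 := by decide +kernel
theorem t4S0_0 : rng t4S0f (nat_lit 0) (nat_lit 20) = 0 := by decide +kernel
theorem t4S0_1 : rng t4S0f (nat_lit 20) (nat_lit 12) = 0 := by decide +kernel
theorem t4T0_0 : t4T0 0 = c111.one := by decide +kernel
theorem t4y0Y_0 : rngB t4y0Yf (nat_lit 32) (nat_lit 0) (nat_lit 1) = 0 := by decide +kernel
theorem t4O0_0 : rngB t4O0f (nat_lit 32) (nat_lit 0) (nat_lit 1) = 0 := by decide +kernel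
theorem t4E_0 : rng t4Ef (nat_lit 0) (nat_lit 2) = 0 := by decide +kernel
theorem t4L_0 : rng t4Lf (nat_lit 0) (nat_lit 2) = 0 := by decide +kernel
theorem t4Q_0 : rng t4Qf (nat_lit 0) (nat_lit 4) = 0 := by decide +kernel
theorem t4Q_1 : rng t4Qf (nat_lit 4) (nat_lit 4) = 0 := by decide +kernel
theorem t4Q_2 : rng t4Qf (nat_lit 8) (nat_lit 4) = 0 := by decide +kernel
theorem t4Q_3 : rng t4Qf (nat_lit 12) (nat_lit 4) = 0 := by decide +kernel
theorem t4Q_4 : rng t4Qf (nat_lit 16) (nat_lit 4) = 0 := by decide +kernel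
theorem t4Q_5 : rng t4Qf (nat_lit 20) (nat_lit 4) = 0 := by decide +kernel
theorem t4Q_6 : rng t4Qf (nat_lit 24) (nat_lit 4) = 0 := by decide +kernel
theorem t4Q_7 : rng t4Qf (nat_lit 28) (nat_lit 4) = 0 := by decide +kernel
theorem u1S0_0 : rng u1S0f (nat_lit 0) (nat_lit 3) = 0 := by decide +kernel
theorem u1T0_0 : u1T0 0 = c111.one := by decide +kernel
theorem u1y0Y_0 : rngB u1y0Yf (nat_lit 3) (nat_lit 0) (nat_lit 1) = 0 := by decide +kernel
theorem u1O0_0 : rngB u1O0f (nat_lit 3) (nat_lit 0) (nat_lit 1) = 0 := by decide +kernel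
theorem u1E_0 : rng u1Ef (nat_lit 0) (nat_lit 1) = 0 := by decide +kernel
theorem u1L_0 : rng u1Lf (nat_lit 0) (nat_lit 1) = 0 := by decide +kernel
theorem u1Q_0 : rng u1Qf (nat_lit 0) (nat_lit 3) = 0 := by decide +kernel
theorem u2S0_0 : rng u2S0f (nat_lit 0) (nat_lit 9) = 0 := by decide +kernel
theorem u2T0_0 : u2T0 0 = c111.one := by decide +kernel
theorem u2y0Y_0 : rngB u2y0Yf (nat_lit 9) (nat_lit 0) (nat_lit 1) = 0 := by decide +kernel
theorem u2O0_0 : rngB u2O0f (nat_lit 9) (nat_lit 0) (nat_lit 1) = 0 := by decide +kernel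
theorem u2E_0 : rng u2Ef (nat_lit 0) (nat_lit 2) = 0 := by decide +kernel
theorem u2L_0 : rng u2Lf (nat_lit 0) (nat_lit 2) = 0 := by decide +kernel
theorem u2Q_0 : rng u2Qf (nat_lit 0) (nat_lit 4) = 0 := by decide +kernel
theorem u2Q_1 : rng u2Qf (nat_lit 4) (nat_lit 4) = 0 := by decide +kernel
theorem u2Q_2 : rng u2Qf (nat_lit 8) (nat_lit 1) = 0 := by decide +kernel
theorem u3S0_0 : rng u3S0f (nat_lit 0) (nat_lit 9) = 0 := by decide +kernel
theorem u3T0_0 : u3T0 0 = c111.one := by decide +kernel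
theorem u3y0Y_0 : rngB u3y0Yf (nat_lit 9) (nat_lit 0) (nat_lit 1) = 0 := by decide +kernel
theorem u3O0_0 : rngB u3O0f (nat_lit 9) (nat_lit 0) (nat_lit 1) = 0 := by decide +kernel
theorem u3E_0 : rng u3Ef (nat_lit 0) (nat_lit 2) = 0 := by decide +kernel
theorem u3L_0 : rng u3Lf (nat_lit 0) (nat_lit 2) = 0 := by decide +kernel
theorem u3Q_0 : rng u3Qf (nat_lit 0) (nat_lit 4) = 0 := by decide +kernel
theorem u3Q_1 : rng u3Qf (nat_lit 4) (nat_lit 4) = 0 := by decide +kernel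
theorem u3Q_2 : rng u3Qf (nat_lit 8) (nat_lit 1) = 0 := by decide +kernel
theorem u4S0_0 : rng u4S0f (nat_lit 0) (nat_lit 20) = 0 := by decide +kernel
theorem u4S0_1 : rng u4S0f (nat_lit 20) (nat_lit 7) = 0 := by decide +kernel
theorem u4T0_0 : u4T0 0 = c111.one := by decide +kernel
theorem u4y0Y_0 : rngB u4y0Yf (nat_lit 27) (nat_lit 0) (nat_lit 1) = 0 := by decide +kernel
theorem u4O0_0 : rngB u4O0f (nat_lit 27) (nat_lit 0) (nat_lit 1) = 0 := by decide +kernel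
theorem u4E_0 : rng u4Ef (nat_lit 0) (nat_lit 2) = 0 := by decide +kernel
theorem u4L_0 : rng u4Lf (nat_lit 0) (nat_lit 2) = 0 := by decide +kernel
theorem u4Q_0 : rng u4Qf (nat_lit 0) (nat_lit 4) = 0 := by decide +kernel
theorem u4Q_1 : rng u4Qf (nat_lit 4) (nat_lit 4) = 0 := by decide +kernel
theorem u4Q_2 : rng u4Qf (nat_lit 8) (nat_lit 4) = 0 := by decide +kernel
theorem u4Q_3 : rng u4Qf (nat_lit 12) (nat_lit 4) = 0 := by decide +kernel
theorem u4Q_4 : rng u4Qf (nat_lit 16) (nat_lit 4) = 0 := by decide +kernel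
theorem u4Q_5 : rng u4Qf (nat_lit 20) (nat_lit 4) = 0 := by decide +kernel
theorem u4Q_6 : rng u4Qf (nat_lit 24) (nat_lit 3) = 0 := by decide +kernel

end Cfsg.Agent.H5.Ly
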