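import Cfsg.Agent.H5.LyxC0
import Cfsg.Agent.H5.LyxC1
import Cfsg.Agent.H5.LyxC2
import Cfsg.Agent.H5.LyxC3
import Cfsg.Agent.H5.LyxC4
import Cfsg.Agent.H5.LyxC5
import Cfsg.Agent.H5.LyxC6
import Cfsg.Agent.H5.LyxC7
import Cfsg.Agent.H5.LyxC8
import Cfsg.Agent.H5.LyxC9

set_option autoImplicit false
set_option maxRecDepth 100000
set_option Elab.async false

namespace Cfsg.Agent.H5.Ly

open Mdl

set_option linter.unusedSectionVars false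
set_option linter.unusedVariables false
attribute [local irreducible] look Tr.get pr

variable {G : Type*} [Group G] [Finite G] {φ : G →* Matrix (Fin 111) (Fin 111) (ZMod 5)} {inj : Function.Injective φ}

theorem btop0 (h0 : ∀ s < 2, (c111md φ inj).In ⊤ (bg0 s)) : ∀ s < 2, (c111md φ inj).In ⊤ (bg0 s) := h0
theorem beg0 (h0 : ∀ s < 2, (c111md φ inj).In ⊤ (bg0 s)) : (c111md φ inj).El ((c111md φ inj).gn bg0 2) bg0 := el_gn (btop0 h0)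
theorem bW0 : ∀ i < 3, (chkW c111.mul c111.one bg0 [[nat_lit 1, nat_lit 0, nat_lit 0, nat_lit 1, nat_lit 1, nat_lit 0],
  [nat_lit 0, nat_lit 0, nat_lit 1, nat_lit 1, nat_lit 0, nat_lit 0, nat_lit 1, nat_lit 0],
  [nat_lit 0, nat_lit 0, nat_lit 0, nat_lit 0]] bg1) i = 0 :=
  (rng_step (all0 _) bW0_0)
theorem bin1 (h0 : ∀ s < 2, (c111md φ inj).In ⊤ (bg0 s)) : ∀ s < 3, (c111md φ inj).In ((c111md φ inj).gn bg0 2) (bg1 s) := in_of_chkW (beg0 h0) bW0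
theorem btop1 (h0 : ∀ s < 2, (c111md φ inj).In ⊤ (bg0 s)) : ∀ s < 3, (c111md φ inj).In ⊤ (bg1 s) := fun s hs => (bin1 h0 s hs).top
theorem ble0 (h0 : ∀ s < 2, (c111md φ inj).In ⊤ (bg0 s)) : ((c111md φ inj).gn bg1 3) ≤ ((c111md φ inj).gn bg0 2) := gn_le (bin1 h0)
theorem beg1 (h0 : ∀ s < 2, (c111md φ inj).In ⊤ (bg0 s)) : (c111md φ inj).El ((c111md φ inj).gn bg1 3) bg1 := el_gn (btop1 h0)
theorem bW1 : ∀ i < 3, (chkW c111.mul c111.one bg1 [[nat_lit 1, nat_lit 1, nat_lit 0, nat_lit 2, nat_lit 1, nat_lit 0, nat_lit 1, nat_lit 2, nat_lit 0],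
  [nat_lit 2],
  [nat_lit 1, nat_lit 0, nat_lit 0, nat_lit 1, nat_lit 1, nat_lit 0, nat_lit 0, nat_lit 2, nat_lit 1]] bg2) i = 0 :=
  (rng_step (all0 _) bW1_0)
theorem bin2 (h0 : ∀ s < 2, (c111md φ inj).In ⊤ (bg0 s)) : ∀ s < 3, (c111md φ inj).In ((c111md φ inj).gn bg1 3) (bg2 s) := in_of_chkW (beg1 h0) bW1
theorem btop2 (h0 : ∀ s < 2, (c111md φ inj).In ⊤ (bg0 s)) : ∀ s < 3, (c111md φ inj).In ⊤ (bg2 s) := fun s hs => (bin2 h0 s hs).top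
theorem ble1 (h0 : ∀ s < 2, (c111md φ inj).In ⊤ (bg0 s)) : ((c111md φ inj).gn bg2 3) ≤ ((c111md φ inj).gn bg1 3) := gn_le (bin2 h0)
theorem beg2 (h0 : ∀ s < 2, (c111md φ inj).In ⊤ (bg0 s)) : (c111md φ inj).El ((c111md φ inj).gn bg2 3) bg2 := el_gn (btop2 h0)
theorem bW2 : ∀ i < 2, (chkW c111.mul c111.one bg2 [[nat_lit 2, nat_lit 0, nat_lit 0, nat_lit 1],
  [nat_lit 1, nat_lit 1, nat_lit 1, nat_lit 0, nat_lit 2, nat_lit 1, nat_lit 2, nat_lit 2]] bg3) i = 0 :=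
  (rng_step (all0 _) bW2_0)
theorem bin3 (h0 : ∀ s < 2, (c111md φ inj).In ⊤ (bg0 s)) : ∀ s < 2, (c111md φ inj).In ((c111md φ inj).gn bg2 3) (bg3 s) := in_of_chkW (beg2 h0) bW2
theorem btop3 (h0 : ∀ s < 2, (c111md φ inj).In ⊤ (bg0 s)) : ∀ s < 2, (c111md φ inj).In ⊤ (bg3 s) := fun s hs => (bin3 h0 s hs).top
theorem ble2 (h0 : ∀ s < 2, (c111md φ inj).In ⊤ (bg0 s)) : ((c111md φ inj).gn bg3 2) ≤ ((c111md φ inj).gn bg2 3) := gn_le (bin3 h0)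
theorem beg3 (h0 : ∀ s < 2, (c111md φ inj).In ⊤ (bg0 s)) : (c111md φ inj).El ((c111md φ inj).gn bg3 2) bg3 := el_gn (btop3 h0)
theorem ble3 (h0 : ∀ s < 2, (c111md φ inj).In ⊤ (bg0 s)) : (⊥ : Subgroup G) ≤ ((c111md φ inj).gn bg3 2) := bot_le
theorem bel4 (h0 : ∀ s < 2, (c111md φ inj).In ⊤ (bg0 s)) : (c111md φ inj).El ⊥ be4 := el_one _
theorem bub4 (h0 : ∀ s < 2, (c111md φ inj).In ⊤ (bg0 s)) : Nat.card (⊥ : Subgroup G) ≤ 1 := card_bot_le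
theorem bS3 : ∀ i < 4, (chkS c111.mul bg3 (nat_lit 2) bT3 be4 bc3 (nat_lit 2) (nat_lit 4)) i = 0 :=
  (rng_step (all0 _) bS3_0)
theorem bsch3 (h0 : ∀ s < 2, (c111md φ inj).In ⊤ (bg0 s)) : (∀ g ∈ ((c111md φ inj).gn bg3 2), ∃ i < 4, (c111md φ inj).Cos (⊥ : Subgroup G) bT3 g i) ∧ (∀ i < 4, (c111md φ inj).In ((c111md φ inj).gn bg3 2) (bT3 i)) ∧ Nat.card ((c111md φ inj).gn bg3 2) ≤ 4 * Nat.card (⊥ : Subgroup G) :=
  schreier (bel4 h0) (by decide) bT0_3 (btop3 h0) (ble3 h0) bS3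
theorem bel3 (h0 : ∀ s < 2, (c111md φ inj).In ⊤ (bg0 s)) : (c111md φ inj).El ((c111md φ inj).gn bg3 2) be3 := (el_of_pad (bsch3 h0).2.1).cel0 _
theorem bub3 (h0 : ∀ s < 2, (c111md φ inj).In ⊤ (bg0 s)) : Nat.card ((c111md φ inj).gn bg3 2) ≤ 4 := (upper (bsch3 h0).2.2 (bub4 h0)).trans (by norm_num)
theorem bS2 : ∀ i < 125, (chkS c111.mul bg2 (nat_lit 3) bT2 be3 bc2 (nat_lit 7) (nat_lit 125)) i = 0 :=
  (rng_step (rng_step (rng_step (rng_step (rng_step (rng_step (rng_step (rng_step (rng_step (rng_step (rng_step (rng_step (rng_step (rng_step (rng_step (rng_step (all0 _) bS2_0) bS2_1) bS2_2) bS2_3) bS2_4) bS2_5) bS2_6) bS2_7) bS2_8) bS2_9) bS2_10) bS2_11) bS2_12) bS2_13) bS2_14) bS2_15)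
theorem bsch2 (h0 : ∀ s < 2, (c111md φ inj).In ⊤ (bg0 s)) : (∀ g ∈ ((c111md φ inj).gn bg2 3), ∃ i < 125, (c111md φ inj).Cos ((c111md φ inj).gn bg3 2) bT2 g i) ∧ (∀ i < 125, (c111md φ inj).In ((c111md φ inj).gn bg2 3) (bT2 i)) ∧ Nat.card ((c111md φ inj).gn bg2 3) ≤ 125 * Nat.card ((c111md φ inj).gn bg3 2) :=
  schreier (bel3 h0) (by decide) bT0_2 (btop2 h0) (ble2 h0) bS2
theorem bel2 (h0 : ∀ s < 2, (c111md φ inj).In ⊤ (bg0 s)) : (c111md φ inj).El ((c111md φ inj).gn bg2 3) be2 := (el_of_pad (bsch2 h0).2.1).cel ((bel3 h0).mono (ble2 h0)) _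
theorem bub2 (h0 : ∀ s < 2, (c111md φ inj).In ⊤ (bg0 s)) : Nat.card ((c111md φ inj).gn bg2 3) ≤ 500 := (upper (bsch2 h0).2.2 (bub3 h0)).trans (by norm_num)
theorem bS1 : ∀ i < 100, (chkS c111.mul bg1 (nat_lit 3) bT1 be2 bc1 (nat_lit 7) (nat_lit 100)) i = 0 :=
  (rng_step (rng_step (rng_step (rng_step (rng_step (rng_step (rng_step (rng_step (rng_step (rng_step (rng_step (rng_step (rng_step (rng_step (rng_step (rng_step (rng_step (all0 _) bS1_0) bS1_1) bS1_2) bS1_3) bS1_4) bS1_5) bS1_6) bS1_7) bS1_8) bS1_9) bS1_10) bS1_11) bS1_12) bS1_13) bS1_14) bS1_15) bS1_16)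
theorem bsch1 (h0 : ∀ s < 2, (c111md φ inj).In ⊤ (bg0 s)) : (∀ g ∈ ((c111md φ inj).gn bg1 3), ∃ i < 100, (c111md φ inj).Cos ((c111md φ inj).gn bg2 3) bT1 g i) ∧ (∀ i < 100, (c111md φ inj).In ((c111md φ inj).gn bg1 3) (bT1 i)) ∧ Nat.card ((c111md φ inj).gn bg1 3) ≤ 100 * Nat.card ((c111md φ inj).gn bg2 3) :=
  schreier (bel2 h0) (by decide) bT0_1 (btop1 h0) (ble1 h0) bS1
theorem bel1 (h0 : ∀ s < 2, (c111md φ inj).In ⊤ (bg0 s)) : (c111md φ inj).El ((c111md φ inj).gn bg1 3) be1 := (el_of_pad (bsch1 h0).2.1).cel ((bel2 h0).mono (ble1 h0)) _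
theorem bub1 (h0 : ∀ s < 2, (c111md φ inj).In ⊤ (bg0 s)) : Nat.card ((c111md φ inj).gn bg1 3) ≤ 50000 := (upper (bsch1 h0).2.2 (bub2 h0)).trans (by norm_num)
theorem bS0 : ∀ i < 30, (chkS c111.mul bg0 (nat_lit 2) bT0 be1 bc0 (nat_lit 5) (nat_lit 30)) i = 0 :=
  (rng_step (rng_step (rng_step (rng_step (all0 _) bS0_0) bS0_1) bS0_2) bS0_3)
theorem bsch0 (h0 : ∀ s < 2, (c111md φ inj).In ⊤ (bg0 s)) : (∀ g ∈ ((c111md φ inj).gn bg0 2), ∃ i < 30, (c111md φ inj).Cos ((c111md φ inj).gn bg1 3) bT0 g i) ∧ (∀ i < 30, (c111md φ inj).In ((c111md φ inj).gn bg0 2) (bT0 i)) ∧ Nat.card ((c111md φ inj).gn bg0 2) ≤ 30 * Nat.card ((c111md φ inj).gn bg1 3) :=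
  schreier (bel1 h0) (by decide) bT0_0 (btop0 h0) (ble0 h0) bS0
theorem bel0 (h0 : ∀ s < 2, (c111md φ inj).In ⊤ (bg0 s)) : (c111md φ inj).El ((c111md φ inj).gn bg0 2) be0 := (el_of_pad (bsch0 h0).2.1).cel ((bel1 h0).mono (ble0 h0)) _
theorem bub0 (h0 : ∀ s < 2, (c111md φ inj).In ⊤ (bg0 s)) : Nat.card ((c111md φ inj).gn bg0 2) ≤ 1500000 := (upper (bsch0 h0).2.2 (bub1 h0)).trans (by norm_num)
theorem blb4 (h0 : ∀ s < 2, (c111md φ inj).In ⊤ (bg0 s)) : 1 ≤ Nat.card (⊥ : Subgroup G) := one_le_card _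
theorem by3Y : ∀ i < 4, (chkY c111b.canL c111b.row by3 (nat_lit 4)) i = 0 :=
  allB (rngB_step (allB0 _ _) by3Y_0) (by decide)
theorem by3D : Dist (fun i => (fun x => ln φ (c111b.vec (ZMod 5) 111 x)) (pt c111b.row by3 i)) 4 :=
  dist_of_chk (Cfg.Ok.canTL c111b_ok rfl rfl φ) by3Y
theorem bO3 : ∀ i < 4, (chkO (c111b.imgL bg3) c111b.row by3 bO3a (nat_lit 4) [nat_lit 3]) i = 0 :=
  allB (rngB_step (allB0 _ _) bO3_0) (by decide)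
theorem bR3 (h0 : ∀ s < 2, (c111md φ inj).In ⊤ (bg0 s)) : Reach ((c111md φ inj).gn bg3 2) (fun i => (fun x => ln φ (c111b.vec (ZMod 5) 111 x)) (pt c111b.row by3 i)) 4 [nat_lit 3] :=
  reach_of_chk (pv := (fun x => ln φ (c111b.vec (ZMod 5) 111 x))) ((Cfg.Ok.actsL c111b_ok (m := (c111md φ inj)) rfl rfl rfl bg3).ex (beg3 h0)) bO3
theorem bfx3 : (⊥ : Subgroup G) ≤ MulAction.stabilizer G ((fun i => (fun x => ln φ (c111b.vec (ZMod 5) 111 x)) (pt c111b.row by3 i)) (nat_lit 3)) := bot_le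
theorem blb3 (h0 : ∀ s < 2, (c111md φ inj).In ⊤ (bg0 s)) : 4 ≤ Nat.card ((c111md φ inj).gn bg3 2) :=
  le_of_eq_of_le (by norm_num) (lower by3D (bR3 h0) (ble3 h0) bfx3 (blb4 h0))
theorem bex3 (h0 : ∀ s < 2, (c111md φ inj).In ⊤ (bg0 s)) : MulAction.orbit ((c111md φ inj).gn bg3 2) ((fun i => (fun x => ln φ (c111b.vec (ZMod 5) 111 x)) (pt c111b.row by3 i)) (nat_lit 3)) = (fun i => (fun x => ln φ (c111b.vec (ZMod 5) 111 x)) (pt c111b.row by3 i)) '' {i | i < 4} ∧ ((c111md φ inj).gn bg3 2) ⊓ MulAction.stabilizer G ((fun i => (fun x => ln φ (c111b.vec (ZMod 5) 111 x)) (pt c111b.row by3 i)) (nat_lit 3)) = (⊥ : Subgroup G) ∧ Nat.card ((c111md φ inj).gn bg3 2) = 4 * 1 ∧ Nat.card (⊥ : Subgroup G) = 1 :=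
  exact by3D (bR3 h0) (ble3 h0) bfx3 (blb4 h0) ((bub3 h0).trans (by norm_num))
theorem by2Y : ∀ i < 125, (chkY c111b.canL c111b.row by2 (nat_lit 125)) i = 0 :=
  allB (rngB_step (allB0 _ _) by2Y_0) (by decide)
theorem by2D : Dist (fun i => (fun x => ln φ (c111b.vec (ZMod 5) 111 x)) (pt c111b.row by2 i)) 125 :=
  dist_of_chk (Cfg.Ok.canTL c111b_ok rfl rfl φ) by2Y
theorem bO2 : ∀ i < 125, (chkO (c111b.imgL bg2) c111b.row by2 bO2a (nat_lit 125) [nat_lit 108]) i = 0 :=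
  allB (rngB_step (allB0 _ _) bO2_0) (by decide)
theorem bR2 (h0 : ∀ s < 2, (c111md φ inj).In ⊤ (bg0 s)) : Reach ((c111md φ inj).gn bg2 3) (fun i => (fun x => ln φ (c111b.vec (ZMod 5) 111 x)) (pt c111b.row by2 i)) 125 [nat_lit 108] :=
  reach_of_chk (pv := (fun x => ln φ (c111b.vec (ZMod 5) 111 x))) ((Cfg.Ok.actsL c111b_ok (m := (c111md φ inj)) rfl rfl rfl bg2).ex (beg2 h0)) bO2
theorem bF2 : ∀ i < 2, (chkF (c111b.imgL bg3) c111b.row by2 (nat_lit 108) [nat_lit 3, nat_lit 2]) i = 0 :=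
  (rng_step (all0 _) bF2_0)
theorem bfx2 : ((c111md φ inj).gn bg3 2) ≤ MulAction.stabilizer G ((fun i => (fun x => ln φ (c111b.vec (ZMod 5) 111 x)) (pt c111b.row by2 i)) (nat_lit 108)) :=
  gn_le_stab (Cfg.Ok.actsL c111b_ok (m := (c111md φ inj)) rfl rfl rfl bg3) bF2
theorem blb2 (h0 : ∀ s < 2, (c111md φ inj).In ⊤ (bg0 s)) : 500 ≤ Nat.card ((c111md φ inj).gn bg2 3) :=
  le_of_eq_of_le (by norm_num) (lower by2D (bR2 h0) (ble2 h0) bfx2 (blb3 h0))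
theorem bex2 (h0 : ∀ s < 2, (c111md φ inj).In ⊤ (bg0 s)) : MulAction.orbit ((c111md φ inj).gn bg2 3) ((fun i => (fun x => ln φ (c111b.vec (ZMod 5) 111 x)) (pt c111b.row by2 i)) (nat_lit 108)) = (fun i => (fun x => ln φ (c111b.vec (ZMod 5) 111 x)) (pt c111b.row by2 i)) '' {i | i < 125} ∧ ((c111md φ inj).gn bg2 3) ⊓ MulAction.stabilizer G ((fun i => (fun x => ln φ (c111b.vec (ZMod 5) 111 x)) (pt c111b.row by2 i)) (nat_lit 108)) = ((c111md φ inj).gn bg3 2) ∧ Nat.card ((c111md φ inj).gn bg2 3) = 125 * 4 ∧ Nat.card ((c111md φ inj).gn bg3 2) = 4 :=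
  exact by2D (bR2 h0) (ble2 h0) bfx2 (blb3 h0) ((bub2 h0).trans (by norm_num))
theorem by1Y : ∀ i < 100, (chkY c111b.canL c111b.row by1 (nat_lit 100)) i = 0 :=
  allB (rngB_step (allB0 _ _) by1Y_0) (by decide)
theorem by1D : Dist (fun i => (fun x => ln φ (c111b.vec (ZMod 5) 111 x)) (pt c111b.row by1 i)) 100 :=
  dist_of_chk (Cfg.Ok.canTL c111b_ok rfl rfl φ) by1Y
theorem bO1 : ∀ i < 100, (chkO (c111b.imgL bg1) c111b.row by1 bO1a (nat_lit 100) [nat_lit 42]) i = 0 :=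
  allB (rngB_step (allB0 _ _) bO1_0) (by decide)
theorem bR1 (h0 : ∀ s < 2, (c111md φ inj).In ⊤ (bg0 s)) : Reach ((c111md φ inj).gn bg1 3) (fun i => (fun x => ln φ (c111b.vec (ZMod 5) 111 x)) (pt c111b.row by1 i)) 100 [nat_lit 42] :=
  reach_of_chk (pv := (fun x => ln φ (c111b.vec (ZMod 5) 111 x))) ((Cfg.Ok.actsL c111b_ok (m := (c111md φ inj)) rfl rfl rfl bg1).ex (beg1 h0)) bO1
theorem bF1 : ∀ i < 3, (chkF (c111b.imgL bg2) c111b.row by1 (nat_lit 42) [nat_lit 0, nat_lit 0, nat_lit 0]) i = 0 :=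
  (rng_step (all0 _) bF1_0)
theorem bfx1 : ((c111md φ inj).gn bg2 3) ≤ MulAction.stabilizer G ((fun i => (fun x => ln φ (c111b.vec (ZMod 5) 111 x)) (pt c111b.row by1 i)) (nat_lit 42)) :=
  gn_le_stab (Cfg.Ok.actsL c111b_ok (m := (c111md φ inj)) rfl rfl rfl bg2) bF1
theorem blb1 (h0 : ∀ s < 2, (c111md φ inj).In ⊤ (bg0 s)) : 50000 ≤ Nat.card ((c111md φ inj).gn bg1 3) :=
  le_of_eq_of_le (by norm_num) (lower by1D (bR1 h0) (ble1 h0) bfx1 (blb2 h0))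
theorem bex1 (h0 : ∀ s < 2, (c111md φ inj).In ⊤ (bg0 s)) : MulAction.orbit ((c111md φ inj).gn bg1 3) ((fun i => (fun x => ln φ (c111b.vec (ZMod 5) 111 x)) (pt c111b.row by1 i)) (nat_lit 42)) = (fun i => (fun x => ln φ (c111b.vec (ZMod 5) 111 x)) (pt c111b.row by1 i)) '' {i | i < 100} ∧ ((c111md φ inj).gn bg1 3) ⊓ MulAction.stabilizer G ((fun i => (fun x => ln φ (c111b.vec (ZMod 5) 111 x)) (pt c111b.row by1 i)) (nat_lit 42)) = ((c111md φ inj).gn bg2 3) ∧ Nat.card ((c111md φ inj).gn bg1 3) = 100 * 500 ∧ Nat.card ((c111md φ inj).gn bg2 3) = 500 :=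
  exact by1D (bR1 h0) (ble1 h0) bfx1 (blb2 h0) ((bub1 h0).trans (by norm_num))
theorem by0Y : ∀ i < 30, (chkY c111b.canL c111b.row by0 (nat_lit 30)) i = 0 :=
  allB (rngB_step (allB0 _ _) by0Y_0) (by decide)
theorem by0D : Dist (fun i => (fun x => ln φ (c111b.vec (ZMod 5) 111 x)) (pt c111b.row by0 i)) 30 :=
  dist_of_chk (Cfg.Ok.canTL c111b_ok rfl rfl φ) by0Y
theorem bO0 : ∀ i < 30, (chkO (c111b.imgL bg0) c111b.row by0 bO0a (nat_lit 30) [nat_lit 1]) i = 0 :=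
  allB (rngB_step (allB0 _ _) bO0_0) (by decide)
theorem bR0 (h0 : ∀ s < 2, (c111md φ inj).In ⊤ (bg0 s)) : Reach ((c111md φ inj).gn bg0 2) (fun i => (fun x => ln φ (c111b.vec (ZMod 5) 111 x)) (pt c111b.row by0 i)) 30 [nat_lit 1] :=
  reach_of_chk (pv := (fun x => ln φ (c111b.vec (ZMod 5) 111 x))) ((Cfg.Ok.actsL c111b_ok (m := (c111md φ inj)) rfl rfl rfl bg0).ex (beg0 h0)) bO0
theorem bF0 : ∀ i < 3, (chkF (c111b.imgL bg1) c111b.row by0 (nat_lit 1) [nat_lit 2, nat_lit 3, nat_lit 0]) i = 0 :=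
  (rng_step (all0 _) bF0_0)
theorem bfx0 : ((c111md φ inj).gn bg1 3) ≤ MulAction.stabilizer G ((fun i => (fun x => ln φ (c111b.vec (ZMod 5) 111 x)) (pt c111b.row by0 i)) (nat_lit 1)) :=
  gn_le_stab (Cfg.Ok.actsL c111b_ok (m := (c111md φ inj)) rfl rfl rfl bg1) bF0
theorem blb0 (h0 : ∀ s < 2, (c111md φ inj).In ⊤ (bg0 s)) : 1500000 ≤ Nat.card ((c111md φ inj).gn bg0 2) :=
  le_of_eq_of_le (by norm_num) (lower by0D (bR0 h0) (ble0 h0) bfx0 (blb1 h0))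
theorem bex0 (h0 : ∀ s < 2, (c111md φ inj).In ⊤ (bg0 s)) : MulAction.orbit ((c111md φ inj).gn bg0 2) ((fun i => (fun x => ln φ (c111b.vec (ZMod 5) 111 x)) (pt c111b.row by0 i)) (nat_lit 1)) = (fun i => (fun x => ln φ (c111b.vec (ZMod 5) 111 x)) (pt c111b.row by0 i)) '' {i | i < 30} ∧ ((c111md φ inj).gn bg0 2) ⊓ MulAction.stabilizer G ((fun i => (fun x => ln φ (c111b.vec (ZMod 5) 111 x)) (pt c111b.row by0 i)) (nat_lit 1)) = ((c111md φ inj).gn bg1 3) ∧ Nat.card ((c111md φ inj).gn bg0 2) = 30 * 50000 ∧ Nat.card ((c111md φ inj).gn bg1 3) = 50000 :=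
  exact by0D (bR0 h0) (ble0 h0) bfx0 (blb1 h0) ((bub0 h0).trans (by norm_num))
theorem eT : ∀ i < 2, (chkT c111.mul eD be0 [[nat_lit 1, nat_lit 994388], [nat_lit 2, nat_lit 180724]]) i = 0 :=
  (rng_step (all0 _) eT_0)
theorem ele : ((c111md φ inj).gn bg0 2) ≤ ((c111md φ inj).gn eg 3) := le_gn_cons _ _ _
theorem eelD (h0 : ∀ s < 2, (c111md φ inj).In ⊤ (bg0 s)) (h1 : (c111md φ inj).In ⊤ (eD 1)) : (c111md φ inj).El ((c111md φ inj).gn eg 3) eD :=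
  el_D (n := 2) ((bel0 h0).mono ele) eD0 (in_gn_cons h1 _ _) eT
theorem etop (h0 : ∀ s < 2, (c111md φ inj).In ⊤ (bg0 s)) (h1 : (c111md φ inj).In ⊤ (eD 1)) : (c111md φ inj).El ⊤ eD := (eelD h0 h1).mono le_top
theorem eel (h0 : ∀ s < 2, (c111md φ inj).In ⊤ (bg0 s)) (h1 : (c111md φ inj).In ⊤ (eD 1)) : (c111md φ inj).El ((c111md φ inj).gn eg 3) ee := (eelD h0 h1).del ((bel0 h0).mono ele) _ _
theorem el2top0 (h0 : ∀ s < 2, (c111md φ inj).In ⊤ (el2g0 s)) : ∀ s < 2, (c111md φ inj).In ⊤ (el2g0 s) := h0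
theorem el2eg0 (h0 : ∀ s < 2, (c111md φ inj).In ⊤ (el2g0 s)) : (c111md φ inj).El ((c111md φ inj).gn el2g0 2) el2g0 := el_gn (el2top0 h0)
theorem el2W0 : ∀ i < 2, (chkW c111.mul c111.one el2g0 [[nat_lit 0, nat_lit 0, nat_lit 0, nat_lit 1, nat_lit 1, nat_lit 1, nat_lit 0, nat_lit 1, nat_lit 1],
  [nat_lit 1, nat_lit 1, nat_lit 0, nat_lit 1, nat_lit 1, nat_lit 1, nat_lit 0, nat_lit 0]] el2g1) i = 0 :=
  (rng_step (all0 _) el2W0_0)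
theorem el2in1 (h0 : ∀ s < 2, (c111md φ inj).In ⊤ (el2g0 s)) : ∀ s < 2, (c111md φ inj).In ((c111md φ inj).gn el2g0 2) (el2g1 s) := in_of_chkW (el2eg0 h0) el2W0
theorem el2top1 (h0 : ∀ s < 2, (c111md φ inj).In ⊤ (el2g0 s)) : ∀ s < 2, (c111md φ inj).In ⊤ (el2g1 s) := fun s hs => (el2in1 h0 s hs).top
theorem el2le0 (h0 : ∀ s < 2, (c111md φ inj).In ⊤ (el2g0 s)) : ((c111md φ inj).gn el2g1 2) ≤ ((c111md φ inj).gn el2g0 2) := gn_le (el2in1 h0)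
theorem el2eg1 (h0 : ∀ s < 2, (c111md φ inj).In ⊤ (el2g0 s)) : (c111md φ inj).El ((c111md φ inj).gn el2g1 2) el2g1 := el_gn (el2top1 h0)
theorem el2le1 (h0 : ∀ s < 2, (c111md φ inj).In ⊤ (el2g0 s)) : (⊥ : Subgroup G) ≤ ((c111md φ inj).gn el2g1 2) := bot_le
theorem el2lb2 (h0 : ∀ s < 2, (c111md φ inj).In ⊤ (el2g0 s)) : 1 ≤ Nat.card (⊥ : Subgroup G) := one_le_card _
theorem el2y1Y : ∀ i < 16, (chkY c111b.canL c111b.row el2y1 (nat_lit 16)) i = 0 :=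
  allB (rngB_step (allB0 _ _) el2y1Y_0) (by decide)
theorem el2y1D : Dist (fun i => (fun x => ln φ (c111b.vec (ZMod 5) 111 x)) (pt c111b.row el2y1 i)) 16 :=
  dist_of_chk (Cfg.Ok.canTL c111b_ok rfl rfl φ) el2y1Y
theorem el2O1 : ∀ i < 16, (chkO (c111b.imgL el2g1) c111b.row el2y1 el2O1a (nat_lit 16) [nat_lit 12]) i = 0 :=
  allB (rngB_step (allB0 _ _) el2O1_0) (by decide)
theorem el2R1 (h0 : ∀ s < 2, (c111md φ inj).In ⊤ (el2g0 s)) : Reach ((c111md φ inj).gn el2g1 2) (fun i => (fun x => ln φ (c111b.vec (ZMod 5) 111 x)) (pt c111b.row el2y1 i)) 16 [nat_lit 12] :=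
  reach_of_chk (pv := (fun x => ln φ (c111b.vec (ZMod 5) 111 x))) ((Cfg.Ok.actsL c111b_ok (m := (c111md φ inj)) rfl rfl rfl el2g1).ex (el2eg1 h0)) el2O1
theorem el2fx1 : (⊥ : Subgroup G) ≤ MulAction.stabilizer G ((fun i => (fun x => ln φ (c111b.vec (ZMod 5) 111 x)) (pt c111b.row el2y1 i)) (nat_lit 12)) := bot_le
theorem el2lb1 (h0 : ∀ s < 2, (c111md φ inj).In ⊤ (el2g0 s)) : 16 ≤ Nat.card ((c111md φ inj).gn el2g1 2) :=
  le_of_eq_of_le (by norm_num) (lower el2y1D (el2R1 h0) (el2le1 h0) el2fx1 (el2lb2 h0))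
theorem el2y0Y : ∀ i < 125, (chkY c111b.canL c111b.row el2y0 (nat_lit 125)) i = 0 :=
  allB (rngB_step (allB0 _ _) el2y0Y_0) (by decide)
theorem el2y0D : Dist (fun i => (fun x => ln φ (c111b.vec (ZMod 5) 111 x)) (pt c111b.row el2y0 i)) 125 :=
  dist_of_chk (Cfg.Ok.canTL c111b_ok rfl rfl φ) el2y0Y
theorem el2O0 : ∀ i < 125, (chkO (c111b.imgL el2g0) c111b.row el2y0 el2O0a (nat_lit 125) [nat_lit 115]) i = 0 :=
  allB (rngB_step (allB0 _ _) el2O0_0) (by decide)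
theorem el2R0 (h0 : ∀ s < 2, (c111md φ inj).In ⊤ (el2g0 s)) : Reach ((c111md φ inj).gn el2g0 2) (fun i => (fun x => ln φ (c111b.vec (ZMod 5) 111 x)) (pt c111b.row el2y0 i)) 125 [nat_lit 115] :=
  reach_of_chk (pv := (fun x => ln φ (c111b.vec (ZMod 5) 111 x))) ((Cfg.Ok.actsL c111b_ok (m := (c111md φ inj)) rfl rfl rfl el2g0).ex (el2eg0 h0)) el2O0
theorem el2F0 : ∀ i < 2, (chkF (c111b.imgL el2g1) c111b.row el2y0 (nat_lit 115) [nat_lit 3, nat_lit 2]) i = 0 :=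
  (rng_step (all0 _) el2F0_0)
theorem el2fx0 : ((c111md φ inj).gn el2g1 2) ≤ MulAction.stabilizer G ((fun i => (fun x => ln φ (c111b.vec (ZMod 5) 111 x)) (pt c111b.row el2y0 i)) (nat_lit 115)) :=
  gn_le_stab (Cfg.Ok.actsL c111b_ok (m := (c111md φ inj)) rfl rfl rfl el2g1) el2F0
theorem el2lb0 (h0 : ∀ s < 2, (c111md φ inj).In ⊤ (el2g0 s)) : 2000 ≤ Nat.card ((c111md φ inj).gn el2g0 2) :=
  le_of_eq_of_le (by norm_num) (lower el2y0D (el2R0 h0) (el2le0 h0) el2fx0 (el2lb1 h0))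
theorem el2E : ∀ i < 2, (chkE el2g0 be0 [nat_lit 1210208, nat_lit 1148160]) i = 0 :=
  (rng_step (all0 _) el2E_0)
theorem el2in (h0 : ∀ s < 2, (c111md φ inj).In ⊤ (bg0 s)) : ∀ s < 2, (c111md φ inj).In ((c111md φ inj).gn bg0 2) (el2g0 s) := in_of_chkE (bel0 h0) el2E
theorem el3top0 (h0 : ∀ s < 2, (c111md φ inj).In ⊤ (el3g0 s)) : ∀ s < 2, (c111md φ inj).In ⊤ (el3g0 s) := h0
theorem el3eg0 (h0 : ∀ s < 2, (c111md φ inj).In ⊤ (el3g0 s)) : (c111md φ inj).El ((c111md φ inj).gn el3g0 2) el3g0 := el_gn (el3top0 h0)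
theorem el3W0 : ∀ i < 2, (chkW c111.mul c111.one el3g0 [[nat_lit 0, nat_lit 0, nat_lit 1, nat_lit 0, nat_lit 1, nat_lit 1, nat_lit 1, nat_lit 1, nat_lit 0, nat_lit 1, nat_lit 1],
  [nat_lit 0, nat_lit 1, nat_lit 0, nat_lit 0, nat_lit 0, nat_lit 1, nat_lit 0]] el3g1) i = 0 :=
  (rng_step (all0 _) el3W0_0)
theorem el3in1 (h0 : ∀ s < 2, (c111md φ inj).In ⊤ (el3g0 s)) : ∀ s < 2, (c111md φ inj).In ((c111md φ inj).gn el3g0 2) (el3g1 s) := in_of_chkW (el3eg0 h0) el3W0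
theorem el3top1 (h0 : ∀ s < 2, (c111md φ inj).In ⊤ (el3g0 s)) : ∀ s < 2, (c111md φ inj).In ⊤ (el3g1 s) := fun s hs => (el3in1 h0 s hs).top
theorem el3le0 (h0 : ∀ s < 2, (c111md φ inj).In ⊤ (el3g0 s)) : ((c111md φ inj).gn el3g1 2) ≤ ((c111md φ inj).gn el3g0 2) := gn_le (el3in1 h0)
theorem el3eg1 (h0 : ∀ s < 2, (c111md φ inj).In ⊤ (el3g0 s)) : (c111md φ inj).El ((c111md φ inj).gn el3g1 2) el3g1 := el_gn (el3top1 h0)
theorem el3le1 (h0 : ∀ s < 2, (c111md φ inj).In ⊤ (el3g0 s)) : (⊥ : Subgroup G) ≤ ((c111md φ inj).gn el3g1 2) := bot_le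
theorem el3lb2 (h0 : ∀ s < 2, (c111md φ inj).In ⊤ (el3g0 s)) : 1 ≤ Nat.card (⊥ : Subgroup G) := one_le_card _
theorem el3y1Y : ∀ i < 4, (chkY c111b.canL c111b.row el3y1 (nat_lit 4)) i = 0 :=
  allB (rngB_step (allB0 _ _) el3y1Y_0) (by decide)
theorem el3y1D : Dist (fun i => (fun x => ln φ (c111b.vec (ZMod 5) 111 x)) (pt c111b.row el3y1 i)) 4 :=
  dist_of_chk (Cfg.Ok.canTL c111b_ok rfl rfl φ) el3y1Y
theorem el3O1 : ∀ i < 4, (chkO (c111b.imgL el3g1) c111b.row el3y1 el3O1a (nat_lit 4) [nat_lit 0]) i = 0 :=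
  allB (rngB_step (allB0 _ _) el3O1_0) (by decide)
theorem el3R1 (h0 : ∀ s < 2, (c111md φ inj).In ⊤ (el3g0 s)) : Reach ((c111md φ inj).gn el3g1 2) (fun i => (fun x => ln φ (c111b.vec (ZMod 5) 111 x)) (pt c111b.row el3y1 i)) 4 [nat_lit 0] :=
  reach_of_chk (pv := (fun x => ln φ (c111b.vec (ZMod 5) 111 x))) ((Cfg.Ok.actsL c111b_ok (m := (c111md φ inj)) rfl rfl rfl el3g1).ex (el3eg1 h0)) el3O1
theorem el3fx1 : (⊥ : Subgroup G) ≤ MulAction.stabilizer G ((fun i => (fun x => ln φ (c111b.vec (ZMod 5) 111 x)) (pt c111b.row el3y1 i)) (nat_lit 0)) := bot_le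
theorem el3lb1 (h0 : ∀ s < 2, (c111md φ inj).In ⊤ (el3g0 s)) : 4 ≤ Nat.card ((c111md φ inj).gn el3g1 2) :=
  le_of_eq_of_le (by norm_num) (lower el3y1D (el3R1 h0) (el3le1 h0) el3fx1 (el3lb2 h0))
theorem el3y0Y : ∀ i < 120, (chkY c111b.canL c111b.row el3y0 (nat_lit 120)) i = 0 :=
  allB (rngB_step (allB0 _ _) el3y0Y_0) (by decide)
theorem el3y0D : Dist (fun i => (fun x => ln φ (c111b.vec (ZMod 5) 111 x)) (pt c111b.row el3y0 i)) 120 :=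
  dist_of_chk (Cfg.Ok.canTL c111b_ok rfl rfl φ) el3y0Y
theorem el3O0 : ∀ i < 120, (chkO (c111b.imgL el3g0) c111b.row el3y0 el3O0a (nat_lit 120) [nat_lit 80]) i = 0 :=
  allB (rngB_step (allB0 _ _) el3O0_0) (by decide)
theorem el3R0 (h0 : ∀ s < 2, (c111md φ inj).In ⊤ (el3g0 s)) : Reach ((c111md φ inj).gn el3g0 2) (fun i => (fun x => ln φ (c111b.vec (ZMod 5) 111 x)) (pt c111b.row el3y0 i)) 120 [nat_lit 80] :=
  reach_of_chk (pv := (fun x => ln φ (c111b.vec (ZMod 5) 111 x))) ((Cfg.Ok.actsL c111b_ok (m := (c111md φ inj)) rfl rfl rfl el3g0).ex (el3eg0 h0)) el3O0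
theorem el3F0 : ∀ i < 2, (chkF (c111b.imgL el3g1) c111b.row el3y0 (nat_lit 80) [nat_lit 0, nat_lit 0]) i = 0 :=
  (rng_step (all0 _) el3F0_0)
theorem el3fx0 : ((c111md φ inj).gn el3g1 2) ≤ MulAction.stabilizer G ((fun i => (fun x => ln φ (c111b.vec (ZMod 5) 111 x)) (pt c111b.row el3y0 i)) (nat_lit 80)) :=
  gn_le_stab (Cfg.Ok.actsL c111b_ok (m := (c111md φ inj)) rfl rfl rfl el3g1) el3F0
theorem el3lb0 (h0 : ∀ s < 2, (c111md φ inj).In ⊤ (el3g0 s)) : 480 ≤ Nat.card ((c111md φ inj).gn el3g0 2) :=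
  le_of_eq_of_le (by norm_num) (lower el3y0D (el3R0 h0) (el3le0 h0) el3fx0 (el3lb1 h0))
theorem el3E : ∀ i < 2, (chkE el3g0 be0 [nat_lit 743048, nat_lit 1234862]) i = 0 :=
  (rng_step (all0 _) el3E_0)
theorem el3in (h0 : ∀ s < 2, (c111md φ inj).In ⊤ (bg0 s)) : ∀ s < 2, (c111md φ inj).In ((c111md φ inj).gn bg0 2) (el3g0 s) := in_of_chkE (bel0 h0) el3E
theorem eK : ∀ i < 3, (chkK c111.mul (eD 1) bg1 be0 [nat_lit 1801248, nat_lit 2069120, nat_lit 171104]) i = 0 :=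
  (rng_step (all0 _) eK_0)
theorem eKL (h0 : ∀ s < 2, (c111md φ inj).In ⊤ (bg0 s)) (h1 : (c111md φ inj).In ⊤ (eD 1)) : ((c111md φ inj).gn bg1 3) ≤ Lc ((c111md φ inj).gn bg0 2) ((c111md φ inj).elt (eD 1))⁻¹ :=
  gn_le (in_of_chkK (bel0 h0) h1 (bin1 h0) eK)
theorem eL0 : ∀ i < 2, (chkL c111.mul (eD (nat_lit 0)) bg0 be0 [nat_lit 638983, nat_lit 1511534]) i = 0 :=
  (rng_step (all0 _) eL0_0)
theorem eLL0 (h0 : ∀ s < 2, (c111md φ inj).In ⊤ (bg0 s)) (h1 : (c111md φ inj).In ⊤ (eD 1)) : ((c111md φ inj).gn bg0 2) ≤ Lc ((c111md φ inj).gn bg0 2) ((c111md φ inj).elt (eD (nat_lit 0))) :=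
  gn_le (in_of_chkL (bel0 h0) (etop h0 h1 _) (fun s _ => beg0 h0 s) eL0)
theorem eM0 : ∀ i < 1, (chkM (c111b.imgL em0) c111b.row by0 (nat_lit 1) by0 [nat_lit 1] [nat_lit 0]) i = 0 :=
  (rng_step (all0 _) eM0_0)
theorem eR0 : ∀ i < 1, (chkR c111.mul eD be0 ew0 (nat_lit 0) (nat_lit 4)) i = 0 :=
  (rng_step (all0 _) eR0_0)
theorem est0 (h0 : ∀ s < 2, (c111md φ inj).In ⊤ (bg0 s)) (h1 : (c111md φ inj).In ⊤ (eD 1)) : ∀ h ∈ ((c111md φ inj).gn bg0 2), ∃ j < 4, DCos ((c111md φ inj).gn bg0 2) ((c111md φ inj).elt (eD j)) ((c111md φ inj).elt (eD (nat_lit 0)) * h * (c111md φ inj).elt (eD 1)) :=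
  dc_roots (pv := (fun x => ln φ (c111b.vec (ZMod 5) 111 x))) (etop h0 h1) (bel0 h0) ((bex0 h0).1) (((bex0 h0).2.1).le.trans (eKL h0 h1)) (eLL0 h0 h1)
    (bR0 h0) (Cfg.Ok.actsL c111b_ok (m := (c111md φ inj)) rfl rfl rfl em0) rfl eM0 eR0
theorem eL1 : ∀ i < 3, (chkL c111.mul (eD (nat_lit 1)) bg1 be0 [nat_lit 162688, nat_lit 1085728, nat_lit 170816]) i = 0 :=
  (rng_step (all0 _) eL1_0)
theorem eLL1 (h0 : ∀ s < 2, (c111md φ inj).In ⊤ (bg0 s)) (h1 : (c111md φ inj).In ⊤ (eD 1)) : ((c111md φ inj).gn bg1 3) ≤ Lc ((c111md φ inj).gn bg0 2) ((c111md φ inj).elt (eD (nat_lit 1))) :=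
  gn_le (in_of_chkL (bel0 h0) (etop h0 h1 _) (bin1 h0) eL1)
theorem eO1 : ∀ i < 30, (chkO (c111b.imgL bg1) c111b.row by0 eO1a (nat_lit 30) [nat_lit 0, nat_lit 1, nat_lit 5]) i = 0 :=
  allB (rngB_step (allB0 _ _) eO1_0) (by decide)
theorem eM1 : ∀ i < 3, (chkM (c111b.imgL em1) c111b.row by0 (nat_lit 1) by0 [nat_lit 0, nat_lit 1, nat_lit 5] [nat_lit 2, nat_lit 0, nat_lit 1]) i = 0 :=
  (rng_step (all0 _) eM1_0)
theorem eR1 : ∀ i < 3, (chkR c111.mul eD be0 ew1 (nat_lit 1) (nat_lit 4)) i = 0 :=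
  (rng_step (all0 _) eR1_0)
theorem est1 (h0 : ∀ s < 2, (c111md φ inj).In ⊤ (bg0 s)) (h1 : (c111md φ inj).In ⊤ (eD 1)) : ∀ h ∈ ((c111md φ inj).gn bg0 2), ∃ j < 4, DCos ((c111md φ inj).gn bg0 2) ((c111md φ inj).elt (eD j)) ((c111md φ inj).elt (eD (nat_lit 1)) * h * (c111md φ inj).elt (eD 1)) :=
  dc_roots (pv := (fun x => ln φ (c111b.vec (ZMod 5) 111 x))) (etop h0 h1) (bel0 h0) ((bex0 h0).1) (((bex0 h0).2.1).le.trans (eKL h0 h1)) (eLL1 h0 h1)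
    (reach_of_chk (pv := (fun x => ln φ (c111b.vec (ZMod 5) 111 x))) ((Cfg.Ok.actsL c111b_ok (m := (c111md φ inj)) rfl rfl rfl bg1).ex (el_gn fun s hs => (bin1 h0 s hs).top)) eO1) (Cfg.Ok.actsL c111b_ok (m := (c111md φ inj)) rfl rfl rfl em1) rfl eM1 eR1
theorem eL2 : ∀ i < 2, (chkL c111.mul (eD (nat_lit 2)) el2g0 be0 [nat_lit 918752, nat_lit 867072]) i = 0 :=
  (rng_step (all0 _) eL2_0)
theorem eLL2 (h0 : ∀ s < 2, (c111md φ inj).In ⊤ (bg0 s)) (h1 : (c111md φ inj).In ⊤ (eD 1)) : ((c111md φ inj).gn el2g0 2) ≤ Lc ((c111md φ inj).gn bg0 2) ((c111md φ inj).elt (eD (nat_lit 2))) :=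
  gn_le (in_of_chkL (bel0 h0) (etop h0 h1 _) (el2in h0) eL2)
theorem eO2 : ∀ i < 30, (chkO (c111b.imgL el2g0) c111b.row by0 eO2a (nat_lit 30) [nat_lit 0, nat_lit 1, nat_lit 5]) i = 0 :=
  allB (rngB_step (allB0 _ _) eO2_0) (by decide)
theorem eM2 : ∀ i < 3, (chkM (c111b.imgL em2) c111b.row by0 (nat_lit 1) by0 [nat_lit 0, nat_lit 1, nat_lit 5] [nat_lit 2, nat_lit 0, nat_lit 1]) i = 0 :=
  (rng_step (all0 _) eM2_0)
theorem eR2 : ∀ i < 3, (chkR c111.mul eD be0 ew2 (nat_lit 2) (nat_lit 4)) i = 0 :=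
  (rng_step (all0 _) eR2_0)
theorem est2 (h0 : ∀ s < 2, (c111md φ inj).In ⊤ (bg0 s)) (h1 : (c111md φ inj).In ⊤ (eD 1)) : ∀ h ∈ ((c111md φ inj).gn bg0 2), ∃ j < 4, DCos ((c111md φ inj).gn bg0 2) ((c111md φ inj).elt (eD j)) ((c111md φ inj).elt (eD (nat_lit 2)) * h * (c111md φ inj).elt (eD 1)) :=
  dc_roots (pv := (fun x => ln φ (c111b.vec (ZMod 5) 111 x))) (etop h0 h1) (bel0 h0) ((bex0 h0).1) (((bex0 h0).2.1).le.trans (eKL h0 h1)) (eLL2 h0 h1)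
    (reach_of_chk (pv := (fun x => ln φ (c111b.vec (ZMod 5) 111 x))) ((Cfg.Ok.actsL c111b_ok (m := (c111md φ inj)) rfl rfl rfl el2g0).ex (el_gn fun s hs => (el2in h0 s hs).top)) eO2) (Cfg.Ok.actsL c111b_ok (m := (c111md φ inj)) rfl rfl rfl em2) rfl eM2 eR2
theorem eL3 : ∀ i < 2, (chkL c111.mul (eD (nat_lit 3)) el3g0 be0 [nat_lit 2000759, nat_lit 226570]) i = 0 :=
  (rng_step (all0 _) eL3_0)
theorem eLL3 (h0 : ∀ s < 2, (c111md φ inj).In ⊤ (bg0 s)) (h1 : (c111md φ inj).In ⊤ (eD 1)) : ((c111md φ inj).gn el3g0 2) ≤ Lc ((c111md φ inj).gn bg0 2) ((c111md φ inj).elt (eD (nat_lit 3))) :=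
  gn_le (in_of_chkL (bel0 h0) (etop h0 h1 _) (el3in h0) eL3)
theorem eO3 : ∀ i < 30, (chkO (c111b.imgL el3g0) c111b.row by0 eO3a (nat_lit 30) [nat_lit 0, nat_lit 1]) i = 0 :=
  allB (rngB_step (allB0 _ _) eO3_0) (by decide)
theorem eM3 : ∀ i < 2, (chkM (c111b.imgL em3) c111b.row by0 (nat_lit 1) by0 [nat_lit 0, nat_lit 1] [nat_lit 2, nat_lit 0]) i = 0 :=
  (rng_step (all0 _) eM3_0)
theorem eR3 : ∀ i < 2, (chkR c111.mul eD be0 ew3 (nat_lit 3) (nat_lit 4)) i = 0 :=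
  (rng_step (all0 _) eR3_0)
theorem est3 (h0 : ∀ s < 2, (c111md φ inj).In ⊤ (bg0 s)) (h1 : (c111md φ inj).In ⊤ (eD 1)) : ∀ h ∈ ((c111md φ inj).gn bg0 2), ∃ j < 4, DCos ((c111md φ inj).gn bg0 2) ((c111md φ inj).elt (eD j)) ((c111md φ inj).elt (eD (nat_lit 3)) * h * (c111md φ inj).elt (eD 1)) :=
  dc_roots (pv := (fun x => ln φ (c111b.vec (ZMod 5) 111 x))) (etop h0 h1) (bel0 h0) ((bex0 h0).1) (((bex0 h0).2.1).le.trans (eKL h0 h1)) (eLL3 h0 h1)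
    (reach_of_chk (pv := (fun x => ln φ (c111b.vec (ZMod 5) 111 x))) ((Cfg.Ok.actsL c111b_ok (m := (c111md φ inj)) rfl rfl rfl el3g0).ex (el_gn fun s hs => (el3in h0 s hs).top)) eO3) (Cfg.Ok.actsL c111b_ok (m := (c111md φ inj)) rfl rfl rfl em3) rfl eM3 eR3
theorem ecov (h0 : ∀ s < 2, (c111md φ inj).In ⊤ (bg0 s)) (h1 : (c111md φ inj).In ⊤ (eD 1)) : ∀ x ∈ ((c111md φ inj).gn eg 3), ∃ i < 4, DCos ((c111md φ inj).gn bg0 2) ((c111md φ inj).elt (eD i)) x :=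
  dc_all (by decide) eD0 h1 fun i hi => by
    interval_cases i; exacts [est0 h0 h1, est1 h0 h1, est2 h0 h1, est3 h0 h1]
theorem eB (h0 : ∀ s < 2, (c111md φ inj).In ⊤ (bg0 s)) (h1 : (c111md φ inj).In ⊤ (eD 1)) : ∀ i < 4, getN [nat_lit 1500000, nat_lit 50000, nat_lit 2000, nat_lit 480] i ≤ Nat.card (Lc ((c111md φ inj).gn bg0 2) ((c111md φ inj).elt (eD i))) := fun i hi => by
  interval_cases i
  exacts [(blb0 h0).trans (Subgroup.card_le_of_le (eLL0 h0 h1)),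
    (blb1 h0).trans (Subgroup.card_le_of_le (eLL1 h0 h1)),
    (el2lb0 fun s hs => (el2in h0 s hs).top).trans (Subgroup.card_le_of_le (eLL2 h0 h1)),
    (el3lb0 fun s hs => (el3in h0 s hs).top).trans (Subgroup.card_le_of_le (eLL3 h0 h1))]
theorem eBC : (∀ i < 4, 1500000 = getN [nat_lit 1500000, nat_lit 50000, nat_lit 2000, nat_lit 480] i * getN [nat_lit 1, nat_lit 30, nat_lit 750, nat_lit 3125] i) ∧ 1500000 * ∑ i ∈ Finset.range 4, getN [nat_lit 1, nat_lit 30, nat_lit 750, nat_lit 3125] i = 5859000000 := by decide +kernel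
theorem eub (h0 : ∀ s < 2, (c111md φ inj).In ⊤ (bg0 s)) (h1 : (c111md φ inj).In ⊤ (eD 1)) : Nat.card ((c111md φ inj).gn eg 3) ≤ 5859000000 :=
  (dc_card_le (ecov h0 h1) (bub0 h0) _ _ (eB h0 h1) eBC.1).trans eBC.2.le
theorem eex (h0 : ∀ s < 2, (c111md φ inj).In ⊤ (bg0 s)) (h1 : (c111md φ inj).In ⊤ (eD 1)) (hA : Nat.card ((c111md φ inj).gn bg0 2) = 1500000) (hG : 5859000000 ≤ Nat.card ((c111md φ inj).gn eg 3)) : ∀ i < 4, Nat.card (Lc ((c111md φ inj).gn bg0 2) ((c111md φ inj).elt (eD i))) = getN [nat_lit 1500000, nat_lit 50000, nat_lit 2000, nat_lit 480] i :=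
  dc_exact (ecov h0 h1) hA _ _ (eB h0 h1) eBC.1 (eBC.2.le.trans hG)
theorem ex3 (h0 : ∀ s < 2, (c111md φ inj).In ⊤ (bg0 s)) (h1 : (c111md φ inj).In ⊤ (eD 1)) (M : Subgroup G) (h : ((c111md φ inj).gn bg0 2) ≤ M) (hi : (c111md φ inj).elt (eD (nat_lit 3)) ∈ M) : (c111md φ inj).elt (eD 1) ∈ M :=
  (mem_of_chkD (etop h0 h1) (bel0 h0) eX3 h hi hi)
theorem ex2 (h0 : ∀ s < 2, (c111md φ inj).In ⊤ (bg0 s)) (h1 : (c111md φ inj).In ⊤ (eD 1)) (M : Subgroup G) (h : ((c111md φ inj).gn bg0 2) ≤ M) (hi : (c111md φ inj).elt (eD (nat_lit 2)) ∈ M) : (c111md φ inj).elt (eD 1) ∈ M :=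
  ex3 h0 h1 M h (mem_of_chkD (etop h0 h1) (bel0 h0) eX2 h hi hi)
theorem emax (h0 : ∀ s < 2, (c111md φ inj).In ⊤ (bg0 s)) (h1 : (c111md φ inj).In ⊤ (eD 1)) : ∀ M : Subgroup G, ((c111md φ inj).gn bg0 2) ≤ M → M ≤ ((c111md φ inj).gn eg 3) → M = ((c111md φ inj).gn bg0 2) ∨ M = ((c111md φ inj).gn eg 3) :=
  dc_max (d := fun i => (c111md φ inj).elt (eD i)) ((congrArg _ eD0).trans elt_one) (gn_cons_le h1) (ecov h0 h1) fun i hi h0' => by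
    interval_cases i; exacts [fun _ _ h => h, ex2 h0 h1, ex3 h0 h1]
theorem Hel (h0 : ∀ s < 3, (c111md φ inj).In ⊤ (eg s)) : (c111md φ inj).El ((c111md φ inj).gn eg 3) ee := eel (top_cons h0) (h0 0 (by decide))
theorem Hub (h0 : ∀ s < 3, (c111md φ inj).In ⊤ (eg s)) : Nat.card ((c111md φ inj).gn eg 3) ≤ 5859000000 := eub (top_cons h0) (h0 0 (by decide))
theorem bXF : ∀ i < 2, (chkF (c111b.imgL bg0) c111b.row bx0 (nat_lit 0) [nat_lit 3, nat_lit 2]) i = 0 :=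
  (rng_step (all0 _) bXF_0)
theorem bcore0 (h0 : ∀ s < 2, (c111md φ inj).In ⊤ (bg0 s)) (he : (c111md φ inj).El ⊤ ee) (N : Subgroup G) (hN : N.Normal) (h : N ≤ ((c111md φ inj).gn bg0 2)) : N ≤ ((c111md φ inj).gn bg0 2) := h
theorem bcore1 (h0 : ∀ s < 2, (c111md φ inj).In ⊤ (bg0 s)) (he : (c111md φ inj).El ⊤ ee) (N : Subgroup G) (hN : N.Normal) (h : N ≤ ((c111md φ inj).gn bg0 2)) : N ≤ ((c111md φ inj).gn bg1 3) :=
  (le_inf (bcore0 h0 he N hN h) (le_stab_of_chkM (pv := (fun x => ln φ (c111b.vec (ZMod 5) 111 x))) (Cfg.Ok.actsL c111b_ok (m := (c111md φ inj)) rfl rfl rfl bxm0) (he _) hN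
    (h.trans (gn_le_stab (Cfg.Ok.actsL c111b_ok (m := (c111md φ inj)) rfl rfl rfl bg0) bXF)) bxm0M)).trans (bex0 h0).2.1.le
theorem bcore2 (h0 : ∀ s < 2, (c111md φ inj).In ⊤ (bg0 s)) (he : (c111md φ inj).El ⊤ ee) (N : Subgroup G) (hN : N.Normal) (h : N ≤ ((c111md φ inj).gn bg0 2)) : N ≤ ((c111md φ inj).gn bg2 3) :=
  (le_inf (bcore1 h0 he N hN h) (le_stab_of_chkM (pv := (fun x => ln φ (c111b.vec (ZMod 5) 111 x))) (Cfg.Ok.actsL c111b_ok (m := (c111md φ inj)) rfl rfl rfl bxm1) (he _) hN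
    (h.trans (gn_le_stab (Cfg.Ok.actsL c111b_ok (m := (c111md φ inj)) rfl rfl rfl bg0) bXF)) bxm1M)).trans (bex1 h0).2.1.le
theorem bcore3 (h0 : ∀ s < 2, (c111md φ inj).In ⊤ (bg0 s)) (he : (c111md φ inj).El ⊤ ee) (N : Subgroup G) (hN : N.Normal) (h : N ≤ ((c111md φ inj).gn bg0 2)) : N ≤ ((c111md φ inj).gn bg3 2) :=
  (le_inf (bcore2 h0 he N hN h) (le_stab_of_chkM (pv := (fun x => ln φ (c111b.vec (ZMod 5) 111 x))) (Cfg.Ok.actsL c111b_ok (m := (c111md φ inj)) rfl rfl rfl bxm2) (he _) hN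
    (h.trans (gn_le_stab (Cfg.Ok.actsL c111b_ok (m := (c111md φ inj)) rfl rfl rfl bg0) bXF)) bxm2M)).trans (bex2 h0).2.1.le
theorem bcore4 (h0 : ∀ s < 2, (c111md φ inj).In ⊤ (bg0 s)) (he : (c111md φ inj).El ⊤ ee) (N : Subgroup G) (hN : N.Normal) (h : N ≤ ((c111md φ inj).gn bg0 2)) : N ≤ (⊥ : Subgroup G) :=
  (le_inf (bcore3 h0 he N hN h) (le_stab_of_chkM (pv := (fun x => ln φ (c111b.vec (ZMod 5) 111 x))) (Cfg.Ok.actsL c111b_ok (m := (c111md φ inj)) rfl rfl rfl bxm3) (he _) hN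
    (h.trans (gn_le_stab (Cfg.Ok.actsL c111b_ok (m := (c111md φ inj)) rfl rfl rfl bg0) bXF)) bxm3M)).trans (bex3 h0).2.1.le
theorem eP : ∀ i < 3, (chkP c111.mul c111.one eg ee [[nat_lit 16632738463814, nat_lit 8498856619407],
  [nat_lit 15776640425011, nat_lit 5405122621787],
  [nat_lit 8647980830899, nat_lit 3562118563239, nat_lit 17124337094023]] (nat_lit 7)) i = 0 :=
  (rng_step (rng_step (rng_step (all0 _) eP_0) eP_1) eP_2)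
theorem stop0 (h0 : ∀ s < 2, (c111md φ inj).In ⊤ (sg0 s)) : ∀ s < 2, (c111md φ inj).In ⊤ (sg0 s) := h0
theorem seg0 (h0 : ∀ s < 2, (c111md φ inj).In ⊤ (sg0 s)) : (c111md φ inj).El ((c111md φ inj).gn sg0 2) sg0 := el_gn (stop0 h0)
theorem sW0 : ∀ i < 3, (chkW c111.mul c111.one sg0 [[nat_lit 0, nat_lit 1, nat_lit 1, nat_lit 1, nat_lit 1, nat_lit 1, nat_lit 0, nat_lit 0],
  [nat_lit 0, nat_lit 0, nat_lit 1, nat_lit 0, nat_lit 1, nat_lit 1, nat_lit 1, nat_lit 0, nat_lit 0, nat_lit 1, nat_lit 1, nat_lit 0, nat_lit 1, nat_lit 1],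
  [nat_lit 0, nat_lit 0, nat_lit 1, nat_lit 1, nat_lit 0, nat_lit 1, nat_lit 1, nat_lit 1, nat_lit 1, nat_lit 1, nat_lit 0, nat_lit 1]] sg1) i = 0 :=
  (rng_step (all0 _) sW0_0)
theorem sin1 (h0 : ∀ s < 2, (c111md φ inj).In ⊤ (sg0 s)) : ∀ s < 3, (c111md φ inj).In ((c111md φ inj).gn sg0 2) (sg1 s) := in_of_chkW (seg0 h0) sW0
theorem stop1 (h0 : ∀ s < 2, (c111md φ inj).In ⊤ (sg0 s)) : ∀ s < 3, (c111md φ inj).In ⊤ (sg1 s) := fun s hs => (sin1 h0 s hs).top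
theorem sle0 (h0 : ∀ s < 2, (c111md φ inj).In ⊤ (sg0 s)) : ((c111md φ inj).gn sg1 3) ≤ ((c111md φ inj).gn sg0 2) := gn_le (sin1 h0)
theorem seg1 (h0 : ∀ s < 2, (c111md φ inj).In ⊤ (sg0 s)) : (c111md φ inj).El ((c111md φ inj).gn sg1 3) sg1 := el_gn (stop1 h0)
theorem sW1 : ∀ i < 2, (chkW c111.mul c111.one sg1 [[nat_lit 2, nat_lit 2, nat_lit 1, nat_lit 0, nat_lit 0, nat_lit 0, nat_lit 2, nat_lit 0, nat_lit 2],
  [nat_lit 2, nat_lit 2, nat_lit 2, nat_lit 2]] sg2) i = 0 :=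
  (rng_step (all0 _) sW1_0)
theorem sin2 (h0 : ∀ s < 2, (c111md φ inj).In ⊤ (sg0 s)) : ∀ s < 2, (c111md φ inj).In ((c111md φ inj).gn sg1 3) (sg2 s) := in_of_chkW (seg1 h0) sW1
theorem stop2 (h0 : ∀ s < 2, (c111md φ inj).In ⊤ (sg0 s)) : ∀ s < 2, (c111md φ inj).In ⊤ (sg2 s) := fun s hs => (sin2 h0 s hs).top
theorem sle1 (h0 : ∀ s < 2, (c111md φ inj).In ⊤ (sg0 s)) : ((c111md φ inj).gn sg2 2) ≤ ((c111md φ inj).gn sg1 3) := gn_le (sin2 h0)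
theorem seg2 (h0 : ∀ s < 2, (c111md φ inj).In ⊤ (sg0 s)) : (c111md φ inj).El ((c111md φ inj).gn sg2 2) sg2 := el_gn (stop2 h0)
theorem sW2 : ∀ i < 2, (chkW c111.mul c111.one sg2 [[nat_lit 1],
  [nat_lit 0, nat_lit 0, nat_lit 0, nat_lit 0]] sg3) i = 0 :=
  (rng_step (all0 _) sW2_0)
theorem sin3 (h0 : ∀ s < 2, (c111md φ inj).In ⊤ (sg0 s)) : ∀ s < 2, (c111md φ inj).In ((c111md φ inj).gn sg2 2) (sg3 s) := in_of_chkW (seg2 h0) sW2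
theorem stop3 (h0 : ∀ s < 2, (c111md φ inj).In ⊤ (sg0 s)) : ∀ s < 2, (c111md φ inj).In ⊤ (sg3 s) := fun s hs => (sin3 h0 s hs).top
theorem sle2 (h0 : ∀ s < 2, (c111md φ inj).In ⊤ (sg0 s)) : ((c111md φ inj).gn sg3 2) ≤ ((c111md φ inj).gn sg2 2) := gn_le (sin3 h0)
theorem seg3 (h0 : ∀ s < 2, (c111md φ inj).In ⊤ (sg0 s)) : (c111md φ inj).El ((c111md φ inj).gn sg3 2) sg3 := el_gn (stop3 h0)
theorem sle3 (h0 : ∀ s < 2, (c111md φ inj).In ⊤ (sg0 s)) : (⊥ : Subgroup G) ≤ ((c111md φ inj).gn sg3 2) := bot_le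
theorem sel4 (h0 : ∀ s < 2, (c111md φ inj).In ⊤ (sg0 s)) : (c111md φ inj).El ⊥ se4 := el_one _
theorem sub4 (h0 : ∀ s < 2, (c111md φ inj).In ⊤ (sg0 s)) : Nat.card (⊥ : Subgroup G) ≤ 1 := card_bot_le
theorem sS3 : ∀ i < 3, (chkS c111.mul sg3 (nat_lit 2) sT3 se4 sc3 (nat_lit 2) (nat_lit 3)) i = 0 :=
  (rng_step (all0 _) sS3_0)
theorem ssch3 (h0 : ∀ s < 2, (c111md φ inj).In ⊤ (sg0 s)) : (∀ g ∈ ((c111md φ inj).gn sg3 2), ∃ i < 3, (c111md φ inj).Cos (⊥ : Subgroup G) sT3 g i) ∧ (∀ i < 3, (c111md φ inj).In ((c111md φ inj).gn sg3 2) (sT3 i)) ∧ Nat.card ((c111md φ inj).gn sg3 2) ≤ 3 * Nat.card (⊥ : Subgroup G) :=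
  schreier (sel4 h0) (by decide) sT0_3 (stop3 h0) (sle3 h0) sS3
theorem sel3 (h0 : ∀ s < 2, (c111md φ inj).In ⊤ (sg0 s)) : (c111md φ inj).El ((c111md φ inj).gn sg3 2) se3 := (el_of_pad (ssch3 h0).2.1).cel0 _
theorem sub3 (h0 : ∀ s < 2, (c111md φ inj).In ⊤ (sg0 s)) : Nat.card ((c111md φ inj).gn sg3 2) ≤ 3 := (upper (ssch3 h0).2.2 (sub4 h0)).trans (by norm_num)
theorem sS2 : ∀ i < 4, (chkS c111.mul sg2 (nat_lit 2) sT2 se3 sc2 (nat_lit 2) (nat_lit 4)) i = 0 :=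
  (rng_step (all0 _) sS2_0)
theorem ssch2 (h0 : ∀ s < 2, (c111md φ inj).In ⊤ (sg0 s)) : (∀ g ∈ ((c111md φ inj).gn sg2 2), ∃ i < 4, (c111md φ inj).Cos ((c111md φ inj).gn sg3 2) sT2 g i) ∧ (∀ i < 4, (c111md φ inj).In ((c111md φ inj).gn sg2 2) (sT2 i)) ∧ Nat.card ((c111md φ inj).gn sg2 2) ≤ 4 * Nat.card ((c111md φ inj).gn sg3 2) :=
  schreier (sel3 h0) (by decide) sT0_2 (stop2 h0) (sle2 h0) sS2
theorem sel2 (h0 : ∀ s < 2, (c111md φ inj).In ⊤ (sg0 s)) : (c111md φ inj).El ((c111md φ inj).gn sg2 2) se2 := (el_of_pad (ssch2 h0).2.1).cel ((sel3 h0).mono (sle2 h0)) _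
theorem sub2 (h0 : ∀ s < 2, (c111md φ inj).In ⊤ (sg0 s)) : Nat.card ((c111md φ inj).gn sg2 2) ≤ 12 := (upper (ssch2 h0).2.2 (sub3 h0)).trans (by norm_num)
theorem sS1 : ∀ i < 125, (chkS c111.mul sg1 (nat_lit 3) sT1 se2 sc1 (nat_lit 7) (nat_lit 125)) i = 0 :=
  (rng_step (rng_step (rng_step (rng_step (rng_step (rng_step (rng_step (rng_step (rng_step (rng_step (rng_step (rng_step (rng_step (rng_step (rng_step (rng_step (rng_step (rng_step (rng_step (rng_step (rng_step (all0 _) sS1_0) sS1_1) sS1_2) sS1_3) sS1_4) sS1_5) sS1_6) sS1_7) sS1_8) sS1_9) sS1_10) sS1_11) sS1_12) sS1_13) sS1_14) sS1_15) sS1_16) sS1_17) sS1_18) sS1_19) sS1_20)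
theorem ssch1 (h0 : ∀ s < 2, (c111md φ inj).In ⊤ (sg0 s)) : (∀ g ∈ ((c111md φ inj).gn sg1 3), ∃ i < 125, (c111md φ inj).Cos ((c111md φ inj).gn sg2 2) sT1 g i) ∧ (∀ i < 125, (c111md φ inj).In ((c111md φ inj).gn sg1 3) (sT1 i)) ∧ Nat.card ((c111md φ inj).gn sg1 3) ≤ 125 * Nat.card ((c111md φ inj).gn sg2 2) :=
  schreier (sel2 h0) (by decide) sT0_1 (stop1 h0) (sle1 h0) sS1
theorem sel1 (h0 : ∀ s < 2, (c111md φ inj).In ⊤ (sg0 s)) : (c111md φ inj).El ((c111md φ inj).gn sg1 3) se1 := (el_of_pad (ssch1 h0).2.1).cel ((sel2 h0).mono (sle1 h0)) _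
theorem sub1 (h0 : ∀ s < 2, (c111md φ inj).In ⊤ (sg0 s)) : Nat.card ((c111md φ inj).gn sg1 3) ≤ 1500 := (upper (ssch1 h0).2.2 (sub2 h0)).trans (by norm_num)
theorem sS0 : ∀ i < 252, (chkS c111.mul sg0 (nat_lit 2) sT0 se1 sc0 (nat_lit 8) (nat_lit 252)) i = 0 :=
  (rng_step (rng_step (rng_step (rng_step (rng_step (rng_step (rng_step (rng_step (rng_step (rng_step (rng_step (rng_step (rng_step (rng_step (rng_step (rng_step (rng_step (rng_step (rng_step (rng_step (rng_step (rng_step (rng_step (rng_step (rng_step (rng_step (rng_step (rng_step (rng_step (rng_step (rng_step (rng_step (all0 _) sS0_0) sS0_1) sS0_2) sS0_3) sS0_4) sS0_5) sS0_6) sS0_7) sS0_8) sS0_9) sS0_10) sS0_11) sS0_12) sS0_13) sS0_14) sS0_15) sS0_16) sS0_17) sS0_18) sS0_19) sS0_20) sS0_21) sS0_22) sS0_23) sS0_24) sS0_25) sS0_26) sS0_27) sS0_28) sS0_29) sS0_30) sS0_31)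
theorem ssch0 (h0 : ∀ s < 2, (c111md φ inj).In ⊤ (sg0 s)) : (∀ g ∈ ((c111md φ inj).gn sg0 2), ∃ i < 252, (c111md φ inj).Cos ((c111md φ inj).gn sg1 3) sT0 g i) ∧ (∀ i < 252, (c111md φ inj).In ((c111md φ inj).gn sg0 2) (sT0 i)) ∧ Nat.card ((c111md φ inj).gn sg0 2) ≤ 252 * Nat.card ((c111md φ inj).gn sg1 3) :=
  schreier (sel1 h0) (by decide) sT0_0 (stop0 h0) (sle0 h0) sS0
theorem sel0 (h0 : ∀ s < 2, (c111md φ inj).In ⊤ (sg0 s)) : (c111md φ inj).El ((c111md φ inj).gn sg0 2) se0 := (el_of_pad (ssch0 h0).2.1).cel ((sel1 h0).mono (sle0 h0)) _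
theorem sub0 (h0 : ∀ s < 2, (c111md φ inj).In ⊤ (sg0 s)) : Nat.card ((c111md φ inj).gn sg0 2) ≤ 378000 := (upper (ssch0 h0).2.2 (sub1 h0)).trans (by norm_num)
theorem slb4 (h0 : ∀ s < 2, (c111md φ inj).In ⊤ (sg0 s)) : 1 ≤ Nat.card (⊥ : Subgroup G) := one_le_card _
theorem sy3Y : ∀ i < 3, (chkY c111b.canV c111b.row sy3 (nat_lit 3)) i = 0 :=
  allB (rngB_step (allB0 _ _) sy3Y_0) (by decide)
theorem sy3D : Dist (fun i => (fun x => (⟨c111b.vec (ZMod 5) 111 x⟩ : Vc φ)) (pt c111b.row sy3 i)) 3 :=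
  dist_of_chk (@Cfg.Ok.canT G _ _ _ _ c111b (ZMod.charP 5) c111b_ok rfl rfl φ) sy3Y
theorem sO3 : ∀ i < 3, (chkO (c111b.imgV sg3) c111b.row sy3 sO3a (nat_lit 3) [nat_lit 0]) i = 0 :=
  allB (rngB_step (allB0 _ _) sO3_0) (by decide)
theorem sR3 (h0 : ∀ s < 2, (c111md φ inj).In ⊤ (sg0 s)) : Reach ((c111md φ inj).gn sg3 2) (fun i => (fun x => (⟨c111b.vec (ZMod 5) 111 x⟩ : Vc φ)) (pt c111b.row sy3 i)) 3 [nat_lit 0] :=
  reach_of_chk (pv := (fun x => (⟨c111b.vec (ZMod 5) 111 x⟩ : Vc φ))) ((@Cfg.Ok.acts G _ _ _ _ c111b (ZMod.charP 5) c111b_ok rfl rfl (c111md φ inj) rfl sg3).ex (seg3 h0)) sO3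
theorem sfx3 : (⊥ : Subgroup G) ≤ MulAction.stabilizer G ((fun i => (fun x => (⟨c111b.vec (ZMod 5) 111 x⟩ : Vc φ)) (pt c111b.row sy3 i)) (nat_lit 0)) := bot_le
theorem slb3 (h0 : ∀ s < 2, (c111md φ inj).In ⊤ (sg0 s)) : 3 ≤ Nat.card ((c111md φ inj).gn sg3 2) :=
  le_of_eq_of_le (by norm_num) (lower sy3D (sR3 h0) (sle3 h0) sfx3 (slb4 h0))
theorem sex3 (h0 : ∀ s < 2, (c111md φ inj).In ⊤ (sg0 s)) : MulAction.orbit ((c111md φ inj).gn sg3 2) ((fun i => (fun x => (⟨c111b.vec (ZMod 5) 111 x⟩ : Vc φ)) (pt c111b.row sy3 i)) (nat_lit 0)) = (fun i => (fun x => (⟨c111b.vec (ZMod 5) 111 x⟩ : Vc φ)) (pt c111b.row sy3 i)) '' {i | i < 3} ∧ ((c111md φ inj).gn sg3 2) ⊓ MulAction.stabilizer G ((fun i => (fun x => (⟨c111b.vec (ZMod 5) 111 x⟩ : Vc φ)) (pt c111b.row sy3 i)) (nat_lit 0)) = (⊥ : Subgroup G) ∧ Nat.card ((c111md φ inj).gn sg3 2) = 3 * 1 ∧ Nat.card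 (⊥ : Subgroup G) = 1 :=
  exact sy3D (sR3 h0) (sle3 h0) sfx3 (slb4 h0) ((sub3 h0).trans (by norm_num))
theorem sy2Y : ∀ i < 4, (chkY c111b.canV c111b.row sy2 (nat_lit 4)) i = 0 :=
  allB (rngB_step (allB0 _ _) sy2Y_0) (by decide)
theorem sy2D : Dist (fun i => (fun x => (⟨c111b.vec (ZMod 5) 111 x⟩ : Vc φ)) (pt c111b.row sy2 i)) 4 :=
  dist_of_chk (@Cfg.Ok.canT G _ _ _ _ c111b (ZMod.charP 5) c111b_ok rfl rfl φ) sy2Y
theorem sO2 : ∀ i < 4, (chkO (c111b.imgV sg2) c111b.row sy2 sO2a (nat_lit 4) [nat_lit 3]) i = 0 :=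
  allB (rngB_step (allB0 _ _) sO2_0) (by decide)
theorem sR2 (h0 : ∀ s < 2, (c111md φ inj).In ⊤ (sg0 s)) : Reach ((c111md φ inj).gn sg2 2) (fun i => (fun x => (⟨c111b.vec (ZMod 5) 111 x⟩ : Vc φ)) (pt c111b.row sy2 i)) 4 [nat_lit 3] :=
  reach_of_chk (pv := (fun x => (⟨c111b.vec (ZMod 5) 111 x⟩ : Vc φ))) ((@Cfg.Ok.acts G _ _ _ _ c111b (ZMod.charP 5) c111b_ok rfl rfl (c111md φ inj) rfl sg2).ex (seg2 h0)) sO2
theorem sF2 : ∀ i < 2, (chkF (c111b.imgV sg3) c111b.row sy2 (nat_lit 3) [nat_lit 0, nat_lit 0]) i = 0 :=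
  (rng_step (all0 _) sF2_0)
theorem sfx2 : ((c111md φ inj).gn sg3 2) ≤ MulAction.stabilizer G ((fun i => (fun x => (⟨c111b.vec (ZMod 5) 111 x⟩ : Vc φ)) (pt c111b.row sy2 i)) (nat_lit 3)) :=
  gn_le_stab (@Cfg.Ok.acts G _ _ _ _ c111b (ZMod.charP 5) c111b_ok rfl rfl (c111md φ inj) rfl sg3) sF2
theorem slb2 (h0 : ∀ s < 2, (c111md φ inj).In ⊤ (sg0 s)) : 12 ≤ Nat.card ((c111md φ inj).gn sg2 2) :=
  le_of_eq_of_le (by norm_num) (lower sy2D (sR2 h0) (sle2 h0) sfx2 (slb3 h0))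
theorem sex2 (h0 : ∀ s < 2, (c111md φ inj).In ⊤ (sg0 s)) : MulAction.orbit ((c111md φ inj).gn sg2 2) ((fun i => (fun x => (⟨c111b.vec (ZMod 5) 111 x⟩ : Vc φ)) (pt c111b.row sy2 i)) (nat_lit 3)) = (fun i => (fun x => (⟨c111b.vec (ZMod 5) 111 x⟩ : Vc φ)) (pt c111b.row sy2 i)) '' {i | i < 4} ∧ ((c111md φ inj).gn sg2 2) ⊓ MulAction.stabilizer G ((fun i => (fun x => (⟨c111b.vec (ZMod 5) 111 x⟩ : Vc φ)) (pt c111b.row sy2 i)) (nat_lit 3)) = ((c111md φ inj).gn sg3 2) ∧ Nat.card ((c111md φ inj).gn sg2 2) = 4 * 3 ∧ Nat.card ((c111md φ inj).gn sg3 2) = 3 :=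
  exact sy2D (sR2 h0) (sle2 h0) sfx2 (slb3 h0) ((sub2 h0).trans (by norm_num))
theorem sy1Y : ∀ i < 125, (chkY c111b.canV c111b.row sy1 (nat_lit 125)) i = 0 :=
  allB (rngB_step (allB0 _ _) sy1Y_0) (by decide)
theorem sy1D : Dist (fun i => (fun x => (⟨c111b.vec (ZMod 5) 111 x⟩ : Vc φ)) (pt c111b.row sy1 i)) 125 :=
  dist_of_chk (@Cfg.Ok.canT G _ _ _ _ c111b (ZMod.charP 5) c111b_ok rfl rfl φ) sy1Y
theorem sO1 : ∀ i < 125, (chkO (c111b.imgV sg1) c111b.row sy1 sO1a (nat_lit 125) [nat_lit 62]) i = 0 :=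
  allB (rngB_step (allB0 _ _) sO1_0) (by decide)
theorem sR1 (h0 : ∀ s < 2, (c111md φ inj).In ⊤ (sg0 s)) : Reach ((c111md φ inj).gn sg1 3) (fun i => (fun x => (⟨c111b.vec (ZMod 5) 111 x⟩ : Vc φ)) (pt c111b.row sy1 i)) 125 [nat_lit 62] :=
  reach_of_chk (pv := (fun x => (⟨c111b.vec (ZMod 5) 111 x⟩ : Vc φ))) ((@Cfg.Ok.acts G _ _ _ _ c111b (ZMod.charP 5) c111b_ok rfl rfl (c111md φ inj) rfl sg1).ex (seg1 h0)) sO1
theorem sF1 : ∀ i < 2, (chkF (c111b.imgV sg2) c111b.row sy1 (nat_lit 62) [nat_lit 0, nat_lit 0]) i = 0 :=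
  (rng_step (all0 _) sF1_0)
theorem sfx1 : ((c111md φ inj).gn sg2 2) ≤ MulAction.stabilizer G ((fun i => (fun x => (⟨c111b.vec (ZMod 5) 111 x⟩ : Vc φ)) (pt c111b.row sy1 i)) (nat_lit 62)) :=
  gn_le_stab (@Cfg.Ok.acts G _ _ _ _ c111b (ZMod.charP 5) c111b_ok rfl rfl (c111md φ inj) rfl sg2) sF1
theorem slb1 (h0 : ∀ s < 2, (c111md φ inj).In ⊤ (sg0 s)) : 1500 ≤ Nat.card ((c111md φ inj).gn sg1 3) :=
  le_of_eq_of_le (by norm_num) (lower sy1D (sR1 h0) (sle1 h0) sfx1 (slb2 h0))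
theorem sex1 (h0 : ∀ s < 2, (c111md φ inj).In ⊤ (sg0 s)) : MulAction.orbit ((c111md φ inj).gn sg1 3) ((fun i => (fun x => (⟨c111b.vec (ZMod 5) 111 x⟩ : Vc φ)) (pt c111b.row sy1 i)) (nat_lit 62)) = (fun i => (fun x => (⟨c111b.vec (ZMod 5) 111 x⟩ : Vc φ)) (pt c111b.row sy1 i)) '' {i | i < 125} ∧ ((c111md φ inj).gn sg1 3) ⊓ MulAction.stabilizer G ((fun i => (fun x => (⟨c111b.vec (ZMod 5) 111 x⟩ : Vc φ)) (pt c111b.row sy1 i)) (nat_lit 62)) = ((c111md φ inj).gn sg2 2) ∧ Nat.card ((c111md φ inj).gn sg1 3) = 125 * 12 ∧ Nat.card ((c111md φ inj).gn sg2 2) = 12 :=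
  exact sy1D (sR1 h0) (sle1 h0) sfx1 (slb2 h0) ((sub1 h0).trans (by norm_num))
theorem sy0Y : ∀ i < 252, (chkY c111b.canV c111b.row sy0 (nat_lit 252)) i = 0 :=
  allB (rngB_step (allB0 _ _) sy0Y_0) (by decide)
theorem sy0D : Dist (fun i => (fun x => (⟨c111b.vec (ZMod 5) 111 x⟩ : Vc φ)) (pt c111b.row sy0 i)) 252 :=
  dist_of_chk (@Cfg.Ok.canT G _ _ _ _ c111b (ZMod.charP 5) c111b_ok rfl rfl φ) sy0Y
theorem sO0 : ∀ i < 252, (chkO (c111b.imgV sg0) c111b.row sy0 sO0a (nat_lit 252) [nat_lit 103]) i = 0 :=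
  allB (rngB_step (allB0 _ _) sO0_0) (by decide)
theorem sR0 (h0 : ∀ s < 2, (c111md φ inj).In ⊤ (sg0 s)) : Reach ((c111md φ inj).gn sg0 2) (fun i => (fun x => (⟨c111b.vec (ZMod 5) 111 x⟩ : Vc φ)) (pt c111b.row sy0 i)) 252 [nat_lit 103] :=
  reach_of_chk (pv := (fun x => (⟨c111b.vec (ZMod 5) 111 x⟩ : Vc φ))) ((@Cfg.Ok.acts G _ _ _ _ c111b (ZMod.charP 5) c111b_ok rfl rfl (c111md φ inj) rfl sg0).ex (seg0 h0)) sO0
theorem sF0 : ∀ i < 3, (chkF (c111b.imgV sg1) c111b.row sy0 (nat_lit 103) [nat_lit 0, nat_lit 0, nat_lit 0]) i = 0 :=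
  (rng_step (all0 _) sF0_0)
theorem sfx0 : ((c111md φ inj).gn sg1 3) ≤ MulAction.stabilizer G ((fun i => (fun x => (⟨c111b.vec (ZMod 5) 111 x⟩ : Vc φ)) (pt c111b.row sy0 i)) (nat_lit 103)) :=
  gn_le_stab (@Cfg.Ok.acts G _ _ _ _ c111b (ZMod.charP 5) c111b_ok rfl rfl (c111md φ inj) rfl sg1) sF0
theorem slb0 (h0 : ∀ s < 2, (c111md φ inj).In ⊤ (sg0 s)) : 378000 ≤ Nat.card ((c111md φ inj).gn sg0 2) :=
  le_of_eq_of_le (by norm_num) (lower sy0D (sR0 h0) (sle0 h0) sfx0 (slb1 h0))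
theorem sex0 (h0 : ∀ s < 2, (c111md φ inj).In ⊤ (sg0 s)) : MulAction.orbit ((c111md φ inj).gn sg0 2) ((fun i => (fun x => (⟨c111b.vec (ZMod 5) 111 x⟩ : Vc φ)) (pt c111b.row sy0 i)) (nat_lit 103)) = (fun i => (fun x => (⟨c111b.vec (ZMod 5) 111 x⟩ : Vc φ)) (pt c111b.row sy0 i)) '' {i | i < 252} ∧ ((c111md φ inj).gn sg0 2) ⊓ MulAction.stabilizer G ((fun i => (fun x => (⟨c111b.vec (ZMod 5) 111 x⟩ : Vc φ)) (pt c111b.row sy0 i)) (nat_lit 103)) = ((c111md φ inj).gn sg1 3) ∧ Nat.card ((c111md φ inj).gn sg0 2) = 252 * 1500 ∧ Nat.card ((c111md φ inj).gn sg1 3) = 1500 :=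
  exact sy0D (sR0 h0) (sle0 h0) sfx0 (slb1 h0) ((sub0 h0).trans (by norm_num))
theorem fT : ∀ i < 3, (chkT c111.mul fD se0 [[nat_lit 1, nat_lit 285946], [nat_lit 2, nat_lit 255308], [nat_lit 1, nat_lit 280844]]) i = 0 :=
  (rng_step (all0 _) fT_0)
theorem fle : ((c111md φ inj).gn sg0 2) ≤ ((c111md φ inj).gn fg 3) := le_gn_cons _ _ _
theorem felD (h0 : ∀ s < 2, (c111md φ inj).In ⊤ (sg0 s)) (h1 : (c111md φ inj).In ⊤ (fD 1)) : (c111md φ inj).El ((c111md φ inj).gn fg 3) fD :=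
  el_D (n := 3) ((sel0 h0).mono fle) fD0 (in_gn_cons h1 _ _) fT
theorem ftop (h0 : ∀ s < 2, (c111md φ inj).In ⊤ (sg0 s)) (h1 : (c111md φ inj).In ⊤ (fD 1)) : (c111md φ inj).El ⊤ fD := (felD h0 h1).mono le_top
theorem fel (h0 : ∀ s < 2, (c111md φ inj).In ⊤ (sg0 s)) (h1 : (c111md φ inj).In ⊤ (fD 1)) : (c111md φ inj).El ((c111md φ inj).gn fg 3) fe := (felD h0 h1).del ((sel0 h0).mono fle) _ _
theorem fl2top0 (h0 : ∀ s < 2, (c111md φ inj).In ⊤ (fl2g0 s)) : ∀ s < 2, (c111md φ inj).In ⊤ (fl2g0 s) := h0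
theorem fl2eg0 (h0 : ∀ s < 2, (c111md φ inj).In ⊤ (fl2g0 s)) : (c111md φ inj).El ((c111md φ inj).gn fl2g0 2) fl2g0 := el_gn (fl2top0 h0)
theorem fl2W0 : ∀ i < 2, (chkW c111.mul c111.one fl2g0 [[nat_lit 1, nat_lit 0, nat_lit 0, nat_lit 0, nat_lit 0, nat_lit 1],
  [nat_lit 1, nat_lit 1, nat_lit 1, nat_lit 1]] fl2g1) i = 0 :=
  (rng_step (all0 _) fl2W0_0)
theorem fl2in1 (h0 : ∀ s < 2, (c111md φ inj).In ⊤ (fl2g0 s)) : ∀ s < 2, (c111md φ inj).In ((c111md φ inj).gn fl2g0 2) (fl2g1 s) := in_of_chkW (fl2eg0 h0) fl2W0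
theorem fl2top1 (h0 : ∀ s < 2, (c111md φ inj).In ⊤ (fl2g0 s)) : ∀ s < 2, (c111md φ inj).In ⊤ (fl2g1 s) := fun s hs => (fl2in1 h0 s hs).top
theorem fl2le0 (h0 : ∀ s < 2, (c111md φ inj).In ⊤ (fl2g0 s)) : ((c111md φ inj).gn fl2g1 2) ≤ ((c111md φ inj).gn fl2g0 2) := gn_le (fl2in1 h0)
theorem fl2eg1 (h0 : ∀ s < 2, (c111md φ inj).In ⊤ (fl2g0 s)) : (c111md φ inj).El ((c111md φ inj).gn fl2g1 2) fl2g1 := el_gn (fl2top1 h0)
theorem fl2le1 (h0 : ∀ s < 2, (c111md φ inj).In ⊤ (fl2g0 s)) : (⊥ : Subgroup G) ≤ ((c111md φ inj).gn fl2g1 2) := bot_le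
theorem fl2lb2 (h0 : ∀ s < 2, (c111md φ inj).In ⊤ (fl2g0 s)) : 1 ≤ Nat.card (⊥ : Subgroup G) := one_le_card _
theorem fl2y1Y : ∀ i < 3, (chkY c111b.canV c111b.row fl2y1 (nat_lit 3)) i = 0 :=
  allB (rngB_step (allB0 _ _) fl2y1Y_0) (by decide)
theorem fl2y1D : Dist (fun i => (fun x => (⟨c111b.vec (ZMod 5) 111 x⟩ : Vc φ)) (pt c111b.row fl2y1 i)) 3 :=
  dist_of_chk (@Cfg.Ok.canT G _ _ _ _ c111b (ZMod.charP 5) c111b_ok rfl rfl φ) fl2y1Y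
theorem fl2O1 : ∀ i < 3, (chkO (c111b.imgV fl2g1) c111b.row fl2y1 fl2O1a (nat_lit 3) [nat_lit 0]) i = 0 :=
  allB (rngB_step (allB0 _ _) fl2O1_0) (by decide)
theorem fl2R1 (h0 : ∀ s < 2, (c111md φ inj).In ⊤ (fl2g0 s)) : Reach ((c111md φ inj).gn fl2g1 2) (fun i => (fun x => (⟨c111b.vec (ZMod 5) 111 x⟩ : Vc φ)) (pt c111b.row fl2y1 i)) 3 [nat_lit 0] :=
  reach_of_chk (pv := (fun x => (⟨c111b.vec (ZMod 5) 111 x⟩ : Vc φ))) ((@Cfg.Ok.acts G _ _ _ _ c111b (ZMod.charP 5) c111b_ok rfl rfl (c111md φ inj) rfl fl2g1).ex (fl2eg1 h0)) fl2O1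
theorem fl2fx1 : (⊥ : Subgroup G) ≤ MulAction.stabilizer G ((fun i => (fun x => (⟨c111b.vec (ZMod 5) 111 x⟩ : Vc φ)) (pt c111b.row fl2y1 i)) (nat_lit 0)) := bot_le
theorem fl2lb1 (h0 : ∀ s < 2, (c111md φ inj).In ⊤ (fl2g0 s)) : 3 ≤ Nat.card ((c111md φ inj).gn fl2g1 2) :=
  le_of_eq_of_le (by norm_num) (lower fl2y1D (fl2R1 h0) (fl2le1 h0) fl2fx1 (fl2lb2 h0))
theorem fl2y0Y : ∀ i < 36, (chkY c111b.canV c111b.row fl2y0 (nat_lit 36)) i = 0 :=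
  allB (rngB_step (allB0 _ _) fl2y0Y_0) (by decide)
theorem fl2y0D : Dist (fun i => (fun x => (⟨c111b.vec (ZMod 5) 111 x⟩ : Vc φ)) (pt c111b.row fl2y0 i)) 36 :=
  dist_of_chk (@Cfg.Ok.canT G _ _ _ _ c111b (ZMod.charP 5) c111b_ok rfl rfl φ) fl2y0Y
theorem fl2O0 : ∀ i < 36, (chkO (c111b.imgV fl2g0) c111b.row fl2y0 fl2O0a (nat_lit 36) [nat_lit 12]) i = 0 :=
  allB (rngB_step (allB0 _ _) fl2O0_0) (by decide)
theorem fl2R0 (h0 : ∀ s < 2, (c111md φ inj).In ⊤ (fl2g0 s)) : Reach ((c111md φ inj).gn fl2g0 2) (fun i => (fun x => (⟨c111b.vec (ZMod 5) 111 x⟩ : Vc φ)) (pt c111b.row fl2y0 i)) 36 [nat_lit 12] :=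
  reach_of_chk (pv := (fun x => (⟨c111b.vec (ZMod 5) 111 x⟩ : Vc φ))) ((@Cfg.Ok.acts G _ _ _ _ c111b (ZMod.charP 5) c111b_ok rfl rfl (c111md φ inj) rfl fl2g0).ex (fl2eg0 h0)) fl2O0
theorem fl2F0 : ∀ i < 2, (chkF (c111b.imgV fl2g1) c111b.row fl2y0 (nat_lit 12) [nat_lit 0, nat_lit 0]) i = 0 :=
  (rng_step (all0 _) fl2F0_0)
theorem fl2fx0 : ((c111md φ inj).gn fl2g1 2) ≤ MulAction.stabilizer G ((fun i => (fun x => (⟨c111b.vec (ZMod 5) 111 x⟩ : Vc φ)) (pt c111b.row fl2y0 i)) (nat_lit 12)) :=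
  gn_le_stab (@Cfg.Ok.acts G _ _ _ _ c111b (ZMod.charP 5) c111b_ok rfl rfl (c111md φ inj) rfl fl2g1) fl2F0
theorem fl2lb0 (h0 : ∀ s < 2, (c111md φ inj).In ⊤ (fl2g0 s)) : 108 ≤ Nat.card ((c111md φ inj).gn fl2g0 2) :=
  le_of_eq_of_le (by norm_num) (lower fl2y0D (fl2R0 h0) (fl2le0 h0) fl2fx0 (fl2lb1 h0))
theorem fl2E : ∀ i < 2, (chkE fl2g0 se0 [nat_lit 311296, nat_lit 369868]) i = 0 :=
  (rng_step (all0 _) fl2E_0)
theorem fl2in (h0 : ∀ s < 2, (c111md φ inj).In ⊤ (sg0 s)) : ∀ s < 2, (c111md φ inj).In ((c111md φ inj).gn sg0 2) (fl2g0 s) := in_of_chkE (sel0 h0) fl2E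
theorem fl3top0 (h0 : ∀ s < 2, (c111md φ inj).In ⊤ (fl3g0 s)) : ∀ s < 2, (c111md φ inj).In ⊤ (fl3g0 s) := h0
theorem fl3eg0 (h0 : ∀ s < 2, (c111md φ inj).In ⊤ (fl3g0 s)) : (c111md φ inj).El ((c111md φ inj).gn fl3g0 2) fl3g0 := el_gn (fl3top0 h0)
theorem fl3W0 : ∀ i < 2, (chkW c111.mul c111.one fl3g0 [[nat_lit 0, nat_lit 1, nat_lit 0, nat_lit 0, nat_lit 1, nat_lit 0],
  [nat_lit 0, nat_lit 1, nat_lit 1, nat_lit 0, nat_lit 1, nat_lit 1]] fl3g1) i = 0 :=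
  (rng_step (all0 _) fl3W0_0)
theorem fl3in1 (h0 : ∀ s < 2, (c111md φ inj).In ⊤ (fl3g0 s)) : ∀ s < 2, (c111md φ inj).In ((c111md φ inj).gn fl3g0 2) (fl3g1 s) := in_of_chkW (fl3eg0 h0) fl3W0
theorem fl3top1 (h0 : ∀ s < 2, (c111md φ inj).In ⊤ (fl3g0 s)) : ∀ s < 2, (c111md φ inj).In ⊤ (fl3g1 s) := fun s hs => (fl3in1 h0 s hs).top
theorem fl3le0 (h0 : ∀ s < 2, (c111md φ inj).In ⊤ (fl3g0 s)) : ((c111md φ inj).gn fl3g1 2) ≤ ((c111md φ inj).gn fl3g0 2) := gn_le (fl3in1 h0)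
theorem fl3eg1 (h0 : ∀ s < 2, (c111md φ inj).In ⊤ (fl3g0 s)) : (c111md φ inj).El ((c111md φ inj).gn fl3g1 2) fl3g1 := el_gn (fl3top1 h0)
theorem fl3le1 (h0 : ∀ s < 2, (c111md φ inj).In ⊤ (fl3g0 s)) : (⊥ : Subgroup G) ≤ ((c111md φ inj).gn fl3g1 2) := bot_le
theorem fl3lb2 (h0 : ∀ s < 2, (c111md φ inj).In ⊤ (fl3g0 s)) : 1 ≤ Nat.card (⊥ : Subgroup G) := one_le_card _
theorem fl3y1Y : ∀ i < 3, (chkY c111b.canV c111b.row fl3y1 (nat_lit 3)) i = 0 :=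
  allB (rngB_step (allB0 _ _) fl3y1Y_0) (by decide)
theorem fl3y1D : Dist (fun i => (fun x => (⟨c111b.vec (ZMod 5) 111 x⟩ : Vc φ)) (pt c111b.row fl3y1 i)) 3 :=
  dist_of_chk (@Cfg.Ok.canT G _ _ _ _ c111b (ZMod.charP 5) c111b_ok rfl rfl φ) fl3y1Y
theorem fl3O1 : ∀ i < 3, (chkO (c111b.imgV fl3g1) c111b.row fl3y1 fl3O1a (nat_lit 3) [nat_lit 0]) i = 0 :=
  allB (rngB_step (allB0 _ _) fl3O1_0) (by decide)
theorem fl3R1 (h0 : ∀ s < 2, (c111md φ inj).In ⊤ (fl3g0 s)) : Reach ((c111md φ inj).gn fl3g1 2) (fun i => (fun x => (⟨c111b.vec (ZMod 5) 111 x⟩ : Vc φ)) (pt c111b.row fl3y1 i)) 3 [nat_lit 0] :=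
  reach_of_chk (pv := (fun x => (⟨c111b.vec (ZMod 5) 111 x⟩ : Vc φ))) ((@Cfg.Ok.acts G _ _ _ _ c111b (ZMod.charP 5) c111b_ok rfl rfl (c111md φ inj) rfl fl3g1).ex (fl3eg1 h0)) fl3O1
theorem fl3fx1 : (⊥ : Subgroup G) ≤ MulAction.stabilizer G ((fun i => (fun x => (⟨c111b.vec (ZMod 5) 111 x⟩ : Vc φ)) (pt c111b.row fl3y1 i)) (nat_lit 0)) := bot_le
theorem fl3lb1 (h0 : ∀ s < 2, (c111md φ inj).In ⊤ (fl3g0 s)) : 3 ≤ Nat.card ((c111md φ inj).gn fl3g1 2) :=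
  le_of_eq_of_le (by norm_num) (lower fl3y1D (fl3R1 h0) (fl3le1 h0) fl3fx1 (fl3lb2 h0))
theorem fl3y0Y : ∀ i < 48, (chkY c111b.canV c111b.row fl3y0 (nat_lit 48)) i = 0 :=
  allB (rngB_step (allB0 _ _) fl3y0Y_0) (by decide)
theorem fl3y0D : Dist (fun i => (fun x => (⟨c111b.vec (ZMod 5) 111 x⟩ : Vc φ)) (pt c111b.row fl3y0 i)) 48 :=
  dist_of_chk (@Cfg.Ok.canT G _ _ _ _ c111b (ZMod.charP 5) c111b_ok rfl rfl φ) fl3y0Y
theorem fl3O0 : ∀ i < 48, (chkO (c111b.imgV fl3g0) c111b.row fl3y0 fl3O0a (nat_lit 48) [nat_lit 35]) i = 0 :=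
  allB (rngB_step (allB0 _ _) fl3O0_0) (by decide)
theorem fl3R0 (h0 : ∀ s < 2, (c111md φ inj).In ⊤ (fl3g0 s)) : Reach ((c111md φ inj).gn fl3g0 2) (fun i => (fun x => (⟨c111b.vec (ZMod 5) 111 x⟩ : Vc φ)) (pt c111b.row fl3y0 i)) 48 [nat_lit 35] :=
  reach_of_chk (pv := (fun x => (⟨c111b.vec (ZMod 5) 111 x⟩ : Vc φ))) ((@Cfg.Ok.acts G _ _ _ _ c111b (ZMod.charP 5) c111b_ok rfl rfl (c111md φ inj) rfl fl3g0).ex (fl3eg0 h0)) fl3O0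
theorem fl3F0 : ∀ i < 2, (chkF (c111b.imgV fl3g1) c111b.row fl3y0 (nat_lit 35) [nat_lit 0, nat_lit 0]) i = 0 :=
  (rng_step (all0 _) fl3F0_0)
theorem fl3fx0 : ((c111md φ inj).gn fl3g1 2) ≤ MulAction.stabilizer G ((fun i => (fun x => (⟨c111b.vec (ZMod 5) 111 x⟩ : Vc φ)) (pt c111b.row fl3y0 i)) (nat_lit 35)) :=
  gn_le_stab (@Cfg.Ok.acts G _ _ _ _ c111b (ZMod.charP 5) c111b_ok rfl rfl (c111md φ inj) rfl fl3g1) fl3F0
theorem fl3lb0 (h0 : ∀ s < 2, (c111md φ inj).In ⊤ (fl3g0 s)) : 144 ≤ Nat.card ((c111md φ inj).gn fl3g0 2) :=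
  le_of_eq_of_le (by norm_num) (lower fl3y0D (fl3R0 h0) (fl3le0 h0) fl3fx0 (fl3lb1 h0))
theorem fl3E : ∀ i < 2, (chkE fl3g0 se0 [nat_lit 391773, nat_lit 117747]) i = 0 :=
  (rng_step (all0 _) fl3E_0)
theorem fl3in (h0 : ∀ s < 2, (c111md φ inj).In ⊤ (sg0 s)) : ∀ s < 2, (c111md φ inj).In ((c111md φ inj).gn sg0 2) (fl3g0 s) := in_of_chkE (sel0 h0) fl3E
theorem fl4top0 (h0 : ∀ s < 2, (c111md φ inj).In ⊤ (fl4g0 s)) : ∀ s < 2, (c111md φ inj).In ⊤ (fl4g0 s) := h0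
theorem fl4eg0 (h0 : ∀ s < 2, (c111md φ inj).In ⊤ (fl4g0 s)) : (c111md φ inj).El ((c111md φ inj).gn fl4g0 2) fl4g0 := el_gn (fl4top0 h0)
theorem fl4W0 : ∀ i < 2, (chkW c111.mul c111.one fl4g0 [[nat_lit 0, nat_lit 0, nat_lit 0, nat_lit 0],
  [nat_lit 0, nat_lit 0, nat_lit 1, nat_lit 1, nat_lit 0, nat_lit 0, nat_lit 1, nat_lit 1]] fl4g1) i = 0 :=
  (rng_step (all0 _) fl4W0_0)
theorem fl4in1 (h0 : ∀ s < 2, (c111md φ inj).In ⊤ (fl4g0 s)) : ∀ s < 2, (c111md φ inj).In ((c111md φ inj).gn fl4g0 2) (fl4g1 s) := in_of_chkW (fl4eg0 h0) fl4W0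
theorem fl4top1 (h0 : ∀ s < 2, (c111md φ inj).In ⊤ (fl4g0 s)) : ∀ s < 2, (c111md φ inj).In ⊤ (fl4g1 s) := fun s hs => (fl4in1 h0 s hs).top
theorem fl4le0 (h0 : ∀ s < 2, (c111md φ inj).In ⊤ (fl4g0 s)) : ((c111md φ inj).gn fl4g1 2) ≤ ((c111md φ inj).gn fl4g0 2) := gn_le (fl4in1 h0)
theorem fl4eg1 (h0 : ∀ s < 2, (c111md φ inj).In ⊤ (fl4g0 s)) : (c111md φ inj).El ((c111md φ inj).gn fl4g1 2) fl4g1 := el_gn (fl4top1 h0)
theorem fl4W1 : ∀ i < 2, (chkW c111.mul c111.one fl4g1 [[nat_lit 1, nat_lit 1],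
  [nat_lit 0, nat_lit 0, nat_lit 0, nat_lit 0, nat_lit 0]] fl4g2) i = 0 :=
  (rng_step (all0 _) fl4W1_0)
theorem fl4in2 (h0 : ∀ s < 2, (c111md φ inj).In ⊤ (fl4g0 s)) : ∀ s < 2, (c111md φ inj).In ((c111md φ inj).gn fl4g1 2) (fl4g2 s) := in_of_chkW (fl4eg1 h0) fl4W1
theorem fl4top2 (h0 : ∀ s < 2, (c111md φ inj).In ⊤ (fl4g0 s)) : ∀ s < 2, (c111md φ inj).In ⊤ (fl4g2 s) := fun s hs => (fl4in2 h0 s hs).top
theorem fl4le1 (h0 : ∀ s < 2, (c111md φ inj).In ⊤ (fl4g0 s)) : ((c111md φ inj).gn fl4g2 2) ≤ ((c111md φ inj).gn fl4g1 2) := gn_le (fl4in2 h0)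
theorem fl4eg2 (h0 : ∀ s < 2, (c111md φ inj).In ⊤ (fl4g0 s)) : (c111md φ inj).El ((c111md φ inj).gn fl4g2 2) fl4g2 := el_gn (fl4top2 h0)
theorem fl4le2 (h0 : ∀ s < 2, (c111md φ inj).In ⊤ (fl4g0 s)) : (⊥ : Subgroup G) ≤ ((c111md φ inj).gn fl4g2 2) := bot_le
theorem fl4lb3 (h0 : ∀ s < 2, (c111md φ inj).In ⊤ (fl4g0 s)) : 1 ≤ Nat.card (⊥ : Subgroup G) := one_le_card _
theorem fl4y2Y : ∀ i < 3, (chkY c111b.canV c111b.row fl4y2 (nat_lit 3)) i = 0 :=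
  allB (rngB_step (allB0 _ _) fl4y2Y_0) (by decide)
theorem fl4y2D : Dist (fun i => (fun x => (⟨c111b.vec (ZMod 5) 111 x⟩ : Vc φ)) (pt c111b.row fl4y2 i)) 3 :=
  dist_of_chk (@Cfg.Ok.canT G _ _ _ _ c111b (ZMod.charP 5) c111b_ok rfl rfl φ) fl4y2Y
theorem fl4O2 : ∀ i < 3, (chkO (c111b.imgV fl4g2) c111b.row fl4y2 fl4O2a (nat_lit 3) [nat_lit 0]) i = 0 :=
  allB (rngB_step (allB0 _ _) fl4O2_0) (by decide)
theorem fl4R2 (h0 : ∀ s < 2, (c111md φ inj).In ⊤ (fl4g0 s)) : Reach ((c111md φ inj).gn fl4g2 2) (fun i => (fun x => (⟨c111b.vec (ZMod 5) 111 x⟩ : Vc φ)) (pt c111b.row fl4y2 i)) 3 [nat_lit 0] :=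
  reach_of_chk (pv := (fun x => (⟨c111b.vec (ZMod 5) 111 x⟩ : Vc φ))) ((@Cfg.Ok.acts G _ _ _ _ c111b (ZMod.charP 5) c111b_ok rfl rfl (c111md φ inj) rfl fl4g2).ex (fl4eg2 h0)) fl4O2
theorem fl4fx2 : (⊥ : Subgroup G) ≤ MulAction.stabilizer G ((fun i => (fun x => (⟨c111b.vec (ZMod 5) 111 x⟩ : Vc φ)) (pt c111b.row fl4y2 i)) (nat_lit 0)) := bot_le
theorem fl4lb2 (h0 : ∀ s < 2, (c111md φ inj).In ⊤ (fl4g0 s)) : 3 ≤ Nat.card ((c111md φ inj).gn fl4g2 2) :=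
  le_of_eq_of_le (by norm_num) (lower fl4y2D (fl4R2 h0) (fl4le2 h0) fl4fx2 (fl4lb3 h0))
theorem fl4y1Y : ∀ i < 2, (chkY c111b.canV c111b.row fl4y1 (nat_lit 2)) i = 0 :=
  allB (rngB_step (allB0 _ _) fl4y1Y_0) (by decide)
theorem fl4y1D : Dist (fun i => (fun x => (⟨c111b.vec (ZMod 5) 111 x⟩ : Vc φ)) (pt c111b.row fl4y1 i)) 2 :=
  dist_of_chk (@Cfg.Ok.canT G _ _ _ _ c111b (ZMod.charP 5) c111b_ok rfl rfl φ) fl4y1Y
theorem fl4O1 : ∀ i < 2, (chkO (c111b.imgV fl4g1) c111b.row fl4y1 fl4O1a (nat_lit 2) [nat_lit 1]) i = 0 :=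
  allB (rngB_step (allB0 _ _) fl4O1_0) (by decide)
theorem fl4R1 (h0 : ∀ s < 2, (c111md φ inj).In ⊤ (fl4g0 s)) : Reach ((c111md φ inj).gn fl4g1 2) (fun i => (fun x => (⟨c111b.vec (ZMod 5) 111 x⟩ : Vc φ)) (pt c111b.row fl4y1 i)) 2 [nat_lit 1] :=
  reach_of_chk (pv := (fun x => (⟨c111b.vec (ZMod 5) 111 x⟩ : Vc φ))) ((@Cfg.Ok.acts G _ _ _ _ c111b (ZMod.charP 5) c111b_ok rfl rfl (c111md φ inj) rfl fl4g1).ex (fl4eg1 h0)) fl4O1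
theorem fl4F1 : ∀ i < 2, (chkF (c111b.imgV fl4g2) c111b.row fl4y1 (nat_lit 1) [nat_lit 0, nat_lit 0]) i = 0 :=
  (rng_step (all0 _) fl4F1_0)
theorem fl4fx1 : ((c111md φ inj).gn fl4g2 2) ≤ MulAction.stabilizer G ((fun i => (fun x => (⟨c111b.vec (ZMod 5) 111 x⟩ : Vc φ)) (pt c111b.row fl4y1 i)) (nat_lit 1)) :=
  gn_le_stab (@Cfg.Ok.acts G _ _ _ _ c111b (ZMod.charP 5) c111b_ok rfl rfl (c111md φ inj) rfl fl4g2) fl4F1
theorem fl4lb1 (h0 : ∀ s < 2, (c111md φ inj).In ⊤ (fl4g0 s)) : 6 ≤ Nat.card ((c111md φ inj).gn fl4g1 2) :=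
  le_of_eq_of_le (by norm_num) (lower fl4y1D (fl4R1 h0) (fl4le1 h0) fl4fx1 (fl4lb2 h0))
theorem fl4y0Y : ∀ i < 84, (chkY c111b.canV c111b.row fl4y0 (nat_lit 84)) i = 0 :=
  allB (rngB_step (allB0 _ _) fl4y0Y_0) (by decide)
theorem fl4y0D : Dist (fun i => (fun x => (⟨c111b.vec (ZMod 5) 111 x⟩ : Vc φ)) (pt c111b.row fl4y0 i)) 84 :=
  dist_of_chk (@Cfg.Ok.canT G _ _ _ _ c111b (ZMod.charP 5) c111b_ok rfl rfl φ) fl4y0Y
theorem fl4O0 : ∀ i < 84, (chkO (c111b.imgV fl4g0) c111b.row fl4y0 fl4O0a (nat_lit 84) [nat_lit 57]) i = 0 :=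
  allB (rngB_step (allB0 _ _) fl4O0_0) (by decide)
theorem fl4R0 (h0 : ∀ s < 2, (c111md φ inj).In ⊤ (fl4g0 s)) : Reach ((c111md φ inj).gn fl4g0 2) (fun i => (fun x => (⟨c111b.vec (ZMod 5) 111 x⟩ : Vc φ)) (pt c111b.row fl4y0 i)) 84 [nat_lit 57] :=
  reach_of_chk (pv := (fun x => (⟨c111b.vec (ZMod 5) 111 x⟩ : Vc φ))) ((@Cfg.Ok.acts G _ _ _ _ c111b (ZMod.charP 5) c111b_ok rfl rfl (c111md φ inj) rfl fl4g0).ex (fl4eg0 h0)) fl4O0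
theorem fl4F0 : ∀ i < 2, (chkF (c111b.imgV fl4g1) c111b.row fl4y0 (nat_lit 57) [nat_lit 0, nat_lit 0]) i = 0 :=
  (rng_step (all0 _) fl4F0_0)
theorem fl4fx0 : ((c111md φ inj).gn fl4g1 2) ≤ MulAction.stabilizer G ((fun i => (fun x => (⟨c111b.vec (ZMod 5) 111 x⟩ : Vc φ)) (pt c111b.row fl4y0 i)) (nat_lit 57)) :=
  gn_le_stab (@Cfg.Ok.acts G _ _ _ _ c111b (ZMod.charP 5) c111b_ok rfl rfl (c111md φ inj) rfl fl4g1) fl4F0
theorem fl4lb0 (h0 : ∀ s < 2, (c111md φ inj).In ⊤ (fl4g0 s)) : 504 ≤ Nat.card ((c111md φ inj).gn fl4g0 2) :=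
  le_of_eq_of_le (by norm_num) (lower fl4y0D (fl4R0 h0) (fl4le0 h0) fl4fx0 (fl4lb1 h0))
theorem fl4E : ∀ i < 2, (chkE fl4g0 se0 [nat_lit 365844, nat_lit 151058]) i = 0 :=
  (rng_step (all0 _) fl4E_0)
theorem fl4in (h0 : ∀ s < 2, (c111md φ inj).In ⊤ (sg0 s)) : ∀ s < 2, (c111md φ inj).In ((c111md φ inj).gn sg0 2) (fl4g0 s) := in_of_chkE (sel0 h0) fl4E
theorem fK : ∀ i < 3, (chkK c111.mul (fD 1) sg1 se0 [nat_lit 189184, nat_lit 57600, nat_lit 46080]) i = 0 :=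
  (rng_step (all0 _) fK_0)
theorem fKL (h0 : ∀ s < 2, (c111md φ inj).In ⊤ (sg0 s)) (h1 : (c111md φ inj).In ⊤ (fD 1)) : ((c111md φ inj).gn sg1 3) ≤ Lc ((c111md φ inj).gn sg0 2) ((c111md φ inj).elt (fD 1))⁻¹ :=
  gn_le (in_of_chkK (sel0 h0) h1 (sin1 h0) fK)
theorem fL0 : ∀ i < 2, (chkL c111.mul (fD (nat_lit 0)) sg0 se0 [nat_lit 15, nat_lit 95]) i = 0 :=
  (rng_step (all0 _) fL0_0)
theorem fLL0 (h0 : ∀ s < 2, (c111md φ inj).In ⊤ (sg0 s)) (h1 : (c111md φ inj).In ⊤ (fD 1)) : ((c111md φ inj).gn sg0 2) ≤ Lc ((c111md φ inj).gn sg0 2) ((c111md φ inj).elt (fD (nat_lit 0))) :=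
  gn_le (in_of_chkL (sel0 h0) (ftop h0 h1 _) (fun s _ => seg0 h0 s) fL0)
theorem fM0 : ∀ i < 1, (chkM (c111b.imgV fm0) c111b.row sy0 (nat_lit 103) sy0 [nat_lit 103] [nat_lit 0]) i = 0 :=
  (rng_step (all0 _) fM0_0)
theorem fR0 : ∀ i < 1, (chkR c111.mul fD se0 fw0 (nat_lit 0) (nat_lit 5)) i = 0 :=
  (rng_step (all0 _) fR0_0)
theorem fst0 (h0 : ∀ s < 2, (c111md φ inj).In ⊤ (sg0 s)) (h1 : (c111md φ inj).In ⊤ (fD 1)) : ∀ h ∈ ((c111md φ inj).gn sg0 2), ∃ j < 5, DCos ((c111md φ inj).gn sg0 2) ((c111md φ inj).elt (fD j)) ((c111md φ inj).elt (fD (nat_lit 0)) * h * (c111md φ inj).elt (fD 1)) :=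
  dc_roots (pv := (fun x => (⟨c111b.vec (ZMod 5) 111 x⟩ : Vc φ))) (ftop h0 h1) (sel0 h0) ((sex0 h0).1) (((sex0 h0).2.1).le.trans (fKL h0 h1)) (fLL0 h0 h1)
    (sR0 h0) (@Cfg.Ok.acts G _ _ _ _ c111b (ZMod.charP 5) c111b_ok rfl rfl (c111md φ inj) rfl fm0) rfl fM0 fR0
theorem fL1 : ∀ i < 3, (chkL c111.mul (fD (nat_lit 1)) sg1 se0 [nat_lit 170752, nat_lit 276736, nat_lit 42752]) i = 0 :=
  (rng_step (all0 _) fL1_0)
theorem fLL1 (h0 : ∀ s < 2, (c111md φ inj).In ⊤ (sg0 s)) (h1 : (c111md φ inj).In ⊤ (fD 1)) : ((c111md φ inj).gn sg1 3) ≤ Lc ((c111md φ inj).gn sg0 2) ((c111md φ inj).elt (fD (nat_lit 1))) :=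
  gn_le (in_of_chkL (sel0 h0) (ftop h0 h1 _) (sin1 h0) fL1)
theorem fO1 : ∀ i < 252, (chkO (c111b.imgV sg1) c111b.row sy0 fO1a (nat_lit 252) [nat_lit 0, nat_lit 1, nat_lit 103, nat_lit 159]) i = 0 :=
  allB (rngB_step (allB0 _ _) fO1_0) (by decide)
theorem fM1 : ∀ i < 4, (chkM (c111b.imgV fm1) c111b.row sy0 (nat_lit 103) sy0 [nat_lit 0, nat_lit 1, nat_lit 103, nat_lit 159] [nat_lit 0, nat_lit 0, nat_lit 0, nat_lit 0]) i = 0 :=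
  (rng_step (all0 _) fM1_0)
theorem fR1 : ∀ i < 4, (chkR c111.mul fD se0 fw1 (nat_lit 1) (nat_lit 5)) i = 0 :=
  (rng_step (all0 _) fR1_0)
theorem fst1 (h0 : ∀ s < 2, (c111md φ inj).In ⊤ (sg0 s)) (h1 : (c111md φ inj).In ⊤ (fD 1)) : ∀ h ∈ ((c111md φ inj).gn sg0 2), ∃ j < 5, DCos ((c111md φ inj).gn sg0 2) ((c111md φ inj).elt (fD j)) ((c111md φ inj).elt (fD (nat_lit 1)) * h * (c111md φ inj).elt (fD 1)) :=
  dc_roots (pv := (fun x => (⟨c111b.vec (ZMod 5) 111 x⟩ : Vc φ))) (ftop h0 h1) (sel0 h0) ((sex0 h0).1) (((sex0 h0).2.1).le.trans (fKL h0 h1)) (fLL1 h0 h1)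
    (reach_of_chk (pv := (fun x => (⟨c111b.vec (ZMod 5) 111 x⟩ : Vc φ))) ((@Cfg.Ok.acts G _ _ _ _ c111b (ZMod.charP 5) c111b_ok rfl rfl (c111md φ inj) rfl sg1).ex (el_gn fun s hs => (sin1 h0 s hs).top)) fO1) (@Cfg.Ok.acts G _ _ _ _ c111b (ZMod.charP 5) c111b_ok rfl rfl (c111md φ inj) rfl fm1) rfl fM1 fR1
theorem fL2 : ∀ i < 2, (chkL c111.mul (fD (nat_lit 2)) fl2g0 se0 [nat_lit 150528, nat_lit 2968]) i = 0 :=
  (rng_step (all0 _) fL2_0)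
theorem fLL2 (h0 : ∀ s < 2, (c111md φ inj).In ⊤ (sg0 s)) (h1 : (c111md φ inj).In ⊤ (fD 1)) : ((c111md φ inj).gn fl2g0 2) ≤ Lc ((c111md φ inj).gn sg0 2) ((c111md φ inj).elt (fD (nat_lit 2))) :=
  gn_le (in_of_chkL (sel0 h0) (ftop h0 h1 _) (fl2in h0) fL2)
theorem fO2 : ∀ i < 252, (chkO (c111b.imgV fl2g0) c111b.row sy0 fO2a (nat_lit 252) [nat_lit 0, nat_lit 2, nat_lit 3, nat_lit 4, nat_lit 5, nat_lit 8, nat_lit 17, nat_lit 20, nat_lit 22, nat_lit 26, nat_lit 28, nat_lit 36]) i = 0 :=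
  allB (rngB_step (allB0 _ _) fO2_0) (by decide)
theorem fM2 : ∀ i < 12, (chkM (c111b.imgV fm2) c111b.row sy0 (nat_lit 103) sy0 [nat_lit 0, nat_lit 2, nat_lit 3, nat_lit 4, nat_lit 5, nat_lit 8, nat_lit 17, nat_lit 20, nat_lit 22, nat_lit 26, nat_lit 28, nat_lit 36] [nat_lit 0, nat_lit 0, nat_lit 0, nat_lit 0, nat_lit 0, nat_lit 0, nat_lit 0, nat_lit 0, nat_lit 0, nat_lit 0, nat_lit 0, nat_lit 0]) i = 0 :=
  (rng_step (all0 _) fM2_0)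
theorem fR2 : ∀ i < 12, (chkR c111.mul fD se0 fw2 (nat_lit 2) (nat_lit 5)) i = 0 :=
  (rng_step (rng_step (all0 _) fR2_0) fR2_1)
theorem fst2 (h0 : ∀ s < 2, (c111md φ inj).In ⊤ (sg0 s)) (h1 : (c111md φ inj).In ⊤ (fD 1)) : ∀ h ∈ ((c111md φ inj).gn sg0 2), ∃ j < 5, DCos ((c111md φ inj).gn sg0 2) ((c111md φ inj).elt (fD j)) ((c111md φ inj).elt (fD (nat_lit 2)) * h * (c111md φ inj).elt (fD 1)) :=
  dc_roots (pv := (fun x => (⟨c111b.vec (ZMod 5) 111 x⟩ : Vc φ))) (ftop h0 h1) (sel0 h0) ((sex0 h0).1) (((sex0 h0).2.1).le.trans (fKL h0 h1)) (fLL2 h0 h1)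
    (reach_of_chk (pv := (fun x => (⟨c111b.vec (ZMod 5) 111 x⟩ : Vc φ))) ((@Cfg.Ok.acts G _ _ _ _ c111b (ZMod.charP 5) c111b_ok rfl rfl (c111md φ inj) rfl fl2g0).ex (el_gn fun s hs => (fl2in h0 s hs).top)) fO2) (@Cfg.Ok.acts G _ _ _ _ c111b (ZMod.charP 5) c111b_ok rfl rfl (c111md φ inj) rfl fm2) rfl fM2 fR2
theorem fL3 : ∀ i < 2, (chkL c111.mul (fD (nat_lit 3)) fl3g0 se0 [nat_lit 342794, nat_lit 314096]) i = 0 :=
  (rng_step (all0 _) fL3_0)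
theorem fLL3 (h0 : ∀ s < 2, (c111md φ inj).In ⊤ (sg0 s)) (h1 : (c111md φ inj).In ⊤ (fD 1)) : ((c111md φ inj).gn fl3g0 2) ≤ Lc ((c111md φ inj).gn sg0 2) ((c111md φ inj).elt (fD (nat_lit 3))) :=
  gn_le (in_of_chkL (sel0 h0) (ftop h0 h1 _) (fl3in h0) fL3)
theorem fO3 : ∀ i < 252, (chkO (c111b.imgV fl3g0) c111b.row sy0 fO3a (nat_lit 252) [nat_lit 0, nat_lit 1, nat_lit 2, nat_lit 3, nat_lit 4, nat_lit 5, nat_lit 7, nat_lit 11, nat_lit 62]) i = 0 :=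
  allB (rngB_step (allB0 _ _) fO3_0) (by decide)
theorem fM3 : ∀ i < 9, (chkM (c111b.imgV fm3) c111b.row sy0 (nat_lit 103) sy0 [nat_lit 0, nat_lit 1, nat_lit 2, nat_lit 3, nat_lit 4, nat_lit 5, nat_lit 7, nat_lit 11, nat_lit 62] [nat_lit 0, nat_lit 0, nat_lit 0, nat_lit 0, nat_lit 0, nat_lit 0, nat_lit 0, nat_lit 0, nat_lit 0]) i = 0 :=
  (rng_step (all0 _) fM3_0)
theorem fR3 : ∀ i < 9, (chkR c111.mul fD se0 fw3 (nat_lit 3) (nat_lit 5)) i = 0 :=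
  (rng_step (rng_step (all0 _) fR3_0) fR3_1)
theorem fst3 (h0 : ∀ s < 2, (c111md φ inj).In ⊤ (sg0 s)) (h1 : (c111md φ inj).In ⊤ (fD 1)) : ∀ h ∈ ((c111md φ inj).gn sg0 2), ∃ j < 5, DCos ((c111md φ inj).gn sg0 2) ((c111md φ inj).elt (fD j)) ((c111md φ inj).elt (fD (nat_lit 3)) * h * (c111md φ inj).elt (fD 1)) :=
  dc_roots (pv := (fun x => (⟨c111b.vec (ZMod 5) 111 x⟩ : Vc φ))) (ftop h0 h1) (sel0 h0) ((sex0 h0).1) (((sex0 h0).2.1).le.trans (fKL h0 h1)) (fLL3 h0 h1)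
    (reach_of_chk (pv := (fun x => (⟨c111b.vec (ZMod 5) 111 x⟩ : Vc φ))) ((@Cfg.Ok.acts G _ _ _ _ c111b (ZMod.charP 5) c111b_ok rfl rfl (c111md φ inj) rfl fl3g0).ex (el_gn fun s hs => (fl3in h0 s hs).top)) fO3) (@Cfg.Ok.acts G _ _ _ _ c111b (ZMod.charP 5) c111b_ok rfl rfl (c111md φ inj) rfl fm3) rfl fM3 fR3
theorem fL4 : ∀ i < 2, (chkL c111.mul (fD (nat_lit 4)) fl4g0 se0 [nat_lit 352744, nat_lit 194913]) i = 0 :=
  (rng_step (all0 _) fL4_0)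
theorem fLL4 (h0 : ∀ s < 2, (c111md φ inj).In ⊤ (sg0 s)) (h1 : (c111md φ inj).In ⊤ (fD 1)) : ((c111md φ inj).gn fl4g0 2) ≤ Lc ((c111md φ inj).gn sg0 2) ((c111md φ inj).elt (fD (nat_lit 4))) :=
  gn_le (in_of_chkL (sel0 h0) (ftop h0 h1 _) (fl4in h0) fL4)
theorem fO4 : ∀ i < 252, (chkO (c111b.imgV fl4g0) c111b.row sy0 fO4a (nat_lit 252) [nat_lit 0, nat_lit 1, nat_lit 3, nat_lit 7]) i = 0 :=
  allB (rngB_step (allB0 _ _) fO4_0) (by decide)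
theorem fM4 : ∀ i < 4, (chkM (c111b.imgV fm4) c111b.row sy0 (nat_lit 103) sy0 [nat_lit 0, nat_lit 1, nat_lit 3, nat_lit 7] [nat_lit 0, nat_lit 0, nat_lit 0, nat_lit 0]) i = 0 :=
  (rng_step (all0 _) fM4_0)
theorem fR4 : ∀ i < 4, (chkR c111.mul fD se0 fw4 (nat_lit 4) (nat_lit 5)) i = 0 :=
  (rng_step (all0 _) fR4_0)
theorem fst4 (h0 : ∀ s < 2, (c111md φ inj).In ⊤ (sg0 s)) (h1 : (c111md φ inj).In ⊤ (fD 1)) : ∀ h ∈ ((c111md φ inj).gn sg0 2), ∃ j < 5, DCos ((c111md φ inj).gn sg0 2) ((c111md φ inj).elt (fD j)) ((c111md φ inj).elt (fD (nat_lit 4)) * h * (c111md φ inj).elt (fD 1)) :=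
  dc_roots (pv := (fun x => (⟨c111b.vec (ZMod 5) 111 x⟩ : Vc φ))) (ftop h0 h1) (sel0 h0) ((sex0 h0).1) (((sex0 h0).2.1).le.trans (fKL h0 h1)) (fLL4 h0 h1)
    (reach_of_chk (pv := (fun x => (⟨c111b.vec (ZMod 5) 111 x⟩ : Vc φ))) ((@Cfg.Ok.acts G _ _ _ _ c111b (ZMod.charP 5) c111b_ok rfl rfl (c111md φ inj) rfl fl4g0).ex (el_gn fun s hs => (fl4in h0 s hs).top)) fO4) (@Cfg.Ok.acts G _ _ _ _ c111b (ZMod.charP 5) c111b_ok rfl rfl (c111md φ inj) rfl fm4) rfl fM4 fR4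
theorem fcov (h0 : ∀ s < 2, (c111md φ inj).In ⊤ (sg0 s)) (h1 : (c111md φ inj).In ⊤ (fD 1)) : ∀ x ∈ ((c111md φ inj).gn fg 3), ∃ i < 5, DCos ((c111md φ inj).gn sg0 2) ((c111md φ inj).elt (fD i)) x :=
  dc_all (by decide) fD0 h1 fun i hi => by
    interval_cases i; exacts [fst0 h0 h1, fst1 h0 h1, fst2 h0 h1, fst3 h0 h1, fst4 h0 h1]
theorem fB (h0 : ∀ s < 2, (c111md φ inj).In ⊤ (sg0 s)) (h1 : (c111md φ inj).In ⊤ (fD 1)) : ∀ i < 5, getN [nat_lit 378000, nat_lit 1500, nat_lit 108, nat_lit 144, nat_lit 504] i ≤ Nat.card (Lc ((c111md φ inj).gn sg0 2) ((c111md φ inj).elt (fD i))) := fun i hi => by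
  interval_cases i
  exacts [(slb0 h0).trans (Subgroup.card_le_of_le (fLL0 h0 h1)),
    (slb1 h0).trans (Subgroup.card_le_of_le (fLL1 h0 h1)),
    (fl2lb0 fun s hs => (fl2in h0 s hs).top).trans (Subgroup.card_le_of_le (fLL2 h0 h1)),
    (fl3lb0 fun s hs => (fl3in h0 s hs).top).trans (Subgroup.card_le_of_le (fLL3 h0 h1)),
    (fl4lb0 fun s hs => (fl4in h0 s hs).top).trans (Subgroup.card_le_of_le (fLL4 h0 h1))]
theorem fBC : (∀ i < 5, 378000 = getN [nat_lit 378000, nat_lit 1500, nat_lit 108, nat_lit 144, nat_lit 504] i * getN [nat_lit 1, nat_lit 252, nat_lit 3500, nat_lit 2625, nat_lit 750] i) ∧ 378000 * ∑ i ∈ Finset.range 5, getN [nat_lit 1, nat_lit 252, nat_lit 3500, nat_lit 2625, nat_lit 750] i = 2694384000 := by decide +kernel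
theorem fub (h0 : ∀ s < 2, (c111md φ inj).In ⊤ (sg0 s)) (h1 : (c111md φ inj).In ⊤ (fD 1)) : Nat.card ((c111md φ inj).gn fg 3) ≤ 2694384000 :=
  (dc_card_le (fcov h0 h1) (sub0 h0) _ _ (fB h0 h1) fBC.1).trans fBC.2.le
theorem fex (h0 : ∀ s < 2, (c111md φ inj).In ⊤ (sg0 s)) (h1 : (c111md φ inj).In ⊤ (fD 1)) (hA : Nat.card ((c111md φ inj).gn sg0 2) = 378000) (hG : 2694384000 ≤ Nat.card ((c111md φ inj).gn fg 3)) : ∀ i < 5, Nat.card (Lc ((c111md φ inj).gn sg0 2) ((c111md φ inj).elt (fD i))) = getN [nat_lit 378000, nat_lit 1500, nat_lit 108, nat_lit 144, nat_lit 504] i :=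
  dc_exact (fcov h0 h1) hA _ _ (fB h0 h1) fBC.1 (fBC.2.le.trans hG)
theorem fx2 (h0 : ∀ s < 2, (c111md φ inj).In ⊤ (sg0 s)) (h1 : (c111md φ inj).In ⊤ (fD 1)) (M : Subgroup G) (h : ((c111md φ inj).gn sg0 2) ≤ M) (hi : (c111md φ inj).elt (fD (nat_lit 2)) ∈ M) : (c111md φ inj).elt (fD 1) ∈ M :=
  (mem_of_chkD (ftop h0 h1) (sel0 h0) fX2 h hi hi)
theorem fx3 (h0 : ∀ s < 2, (c111md φ inj).In ⊤ (sg0 s)) (h1 : (c111md φ inj).In ⊤ (fD 1)) (M : Subgroup G) (h : ((c111md φ inj).gn sg0 2) ≤ M) (hi : (c111md φ inj).elt (fD (nat_lit 3)) ∈ M) : (c111md φ inj).elt (fD 1) ∈ M :=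
  (mem_of_chkD (ftop h0 h1) (sel0 h0) fX3 h hi hi)
theorem fx4 (h0 : ∀ s < 2, (c111md φ inj).In ⊤ (sg0 s)) (h1 : (c111md φ inj).In ⊤ (fD 1)) (M : Subgroup G) (h : ((c111md φ inj).gn sg0 2) ≤ M) (hi : (c111md φ inj).elt (fD (nat_lit 4)) ∈ M) : (c111md φ inj).elt (fD 1) ∈ M :=
  fx3 h0 h1 M h (mem_of_chkD (ftop h0 h1) (sel0 h0) fX4 h hi hi)
theorem fmax (h0 : ∀ s < 2, (c111md φ inj).In ⊤ (sg0 s)) (h1 : (c111md φ inj).In ⊤ (fD 1)) : ∀ M : Subgroup G, ((c111md φ inj).gn sg0 2) ≤ M → M ≤ ((c111md φ inj).gn fg 3) → M = ((c111md φ inj).gn sg0 2) ∨ M = ((c111md φ inj).gn fg 3) :=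
  dc_max (d := fun i => (c111md φ inj).elt (fD i)) ((congrArg _ fD0).trans elt_one) (gn_cons_le h1) (fcov h0 h1) fun i hi h0' => by
    interval_cases i; exacts [fun _ _ h => h, fx2 h0 h1, fx3 h0 h1, fx4 h0 h1]
theorem Fel (h0 : ∀ s < 3, (c111md φ inj).In ⊤ (fg s)) : (c111md φ inj).El ((c111md φ inj).gn fg 3) fe := fel (top_cons h0) (h0 0 (by decide))
theorem Fub (h0 : ∀ s < 3, (c111md φ inj).In ⊤ (fg s)) : Nat.card ((c111md φ inj).gn fg 3) ≤ 2694384000 := fub (top_cons h0) (h0 0 (by decide))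
theorem sXF : ∀ i < 2, (chkF (c111b.imgV sg0) c111b.row sx0 (nat_lit 0) [nat_lit 0, nat_lit 0]) i = 0 :=
  (rng_step (all0 _) sXF_0)
theorem score0 (h0 : ∀ s < 2, (c111md φ inj).In ⊤ (sg0 s)) (he : (c111md φ inj).El ⊤ fe) (N : Subgroup G) (hN : N.Normal) (h : N ≤ ((c111md φ inj).gn sg0 2)) : N ≤ ((c111md φ inj).gn sg0 2) := h
theorem score1 (h0 : ∀ s < 2, (c111md φ inj).In ⊤ (sg0 s)) (he : (c111md φ inj).El ⊤ fe) (N : Subgroup G) (hN : N.Normal) (h : N ≤ ((c111md φ inj).gn sg0 2)) : N ≤ ((c111md φ inj).gn sg1 3) :=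
  (le_inf (score0 h0 he N hN h) (le_stab_of_chkM (pv := (fun x => (⟨c111b.vec (ZMod 5) 111 x⟩ : Vc φ))) (@Cfg.Ok.acts G _ _ _ _ c111b (ZMod.charP 5) c111b_ok rfl rfl (c111md φ inj) rfl sxm0) (he _) hN
    (h.trans (gn_le_stab (@Cfg.Ok.acts G _ _ _ _ c111b (ZMod.charP 5) c111b_ok rfl rfl (c111md φ inj) rfl sg0) sXF)) sxm0M)).trans (sex0 h0).2.1.le
theorem score2 (h0 : ∀ s < 2, (c111md φ inj).In ⊤ (sg0 s)) (he : (c111md φ inj).El ⊤ fe) (N : Subgroup G) (hN : N.Normal) (h : N ≤ ((c111md φ inj).gn sg0 2)) : N ≤ ((c111md φ inj).gn sg2 2) :=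
  (le_inf (score1 h0 he N hN h) (le_stab_of_chkM (pv := (fun x => (⟨c111b.vec (ZMod 5) 111 x⟩ : Vc φ))) (@Cfg.Ok.acts G _ _ _ _ c111b (ZMod.charP 5) c111b_ok rfl rfl (c111md φ inj) rfl sxm1) (he _) hN
    (h.trans (gn_le_stab (@Cfg.Ok.acts G _ _ _ _ c111b (ZMod.charP 5) c111b_ok rfl rfl (c111md φ inj) rfl sg0) sXF)) sxm1M)).trans (sex1 h0).2.1.le
theorem score3 (h0 : ∀ s < 2, (c111md φ inj).In ⊤ (sg0 s)) (he : (c111md φ inj).El ⊤ fe) (N : Subgroup G) (hN : N.Normal) (h : N ≤ ((c111md φ inj).gn sg0 2)) : N ≤ ((c111md φ inj).gn sg3 2) :=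
  (le_inf (score2 h0 he N hN h) (le_stab_of_chkM (pv := (fun x => (⟨c111b.vec (ZMod 5) 111 x⟩ : Vc φ))) (@Cfg.Ok.acts G _ _ _ _ c111b (ZMod.charP 5) c111b_ok rfl rfl (c111md φ inj) rfl sxm2) (he _) hN
    (h.trans (gn_le_stab (@Cfg.Ok.acts G _ _ _ _ c111b (ZMod.charP 5) c111b_ok rfl rfl (c111md φ inj) rfl sg0) sXF)) sxm2M)).trans (sex2 h0).2.1.le
theorem FyY : ∀ i < 7128, (chkY c111b.canV c111b.row Fy (nat_lit 7128)) i = 0 :=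
  allB (rngB_step (rngB_step (rngB_step (rngB_step (rngB_step (rngB_step (rngB_step (allB0 _ _) FyY_0) FyY_1) FyY_2) FyY_3) FyY_4) FyY_5) FyY_6) (by decide)
theorem FyD : Dist (fun i => (fun x => (⟨c111b.vec (ZMod 5) 111 x⟩ : Vc φ)) (pt c111b.row Fy i)) 7128 :=
  dist_of_chk (@Cfg.Ok.canT G _ _ _ _ c111b (ZMod.charP 5) c111b_ok rfl rfl φ) FyY
theorem FO : ∀ i < 7128, (chkO (c111b.imgV fg) c111b.row Fy FOa (nat_lit 7128) [nat_lit 0]) i = 0 :=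
  allB (rngB_step (rngB_step (rngB_step (rngB_step (rngB_step (rngB_step (rngB_step (allB0 _ _) FO_0) FO_1) FO_2) FO_3) FO_4) FO_5) FO_6) (by decide)
theorem FF : ∀ i < 2, (chkF (c111b.imgV sg0) c111b.row Fy (nat_lit 0) [nat_lit 0, nat_lit 0]) i = 0 :=
  (rng_step (all0 _) FF_0)
theorem FR (h0 : ∀ s < 3, (c111md φ inj).In ⊤ (fg s)) : Reach ((c111md φ inj).gn fg 3) (fun i => (fun x => (⟨c111b.vec (ZMod 5) 111 x⟩ : Vc φ)) (pt c111b.row Fy i)) 7128 [nat_lit 0] :=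
  reach_of_chk (pv := (fun x => (⟨c111b.vec (ZMod 5) 111 x⟩ : Vc φ))) ((@Cfg.Ok.acts G _ _ _ _ c111b (ZMod.charP 5) c111b_ok rfl rfl (c111md φ inj) rfl fg).ex (el_gn_cons h0)) FO
theorem Ffx : ((c111md φ inj).gn sg0 2) ≤ MulAction.stabilizer G ((fun i => (fun x => (⟨c111b.vec (ZMod 5) 111 x⟩ : Vc φ)) (pt c111b.row Fy i)) (nat_lit 0)) :=
  gn_le_stab (@Cfg.Ok.acts G _ _ _ _ c111b (ZMod.charP 5) c111b_ok rfl rfl (c111md φ inj) rfl sg0) FF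
theorem Flb (h0 : ∀ s < 3, (c111md φ inj).In ⊤ (fg s)) : 2694384000 ≤ Nat.card ((c111md φ inj).gn fg 3) :=
  le_of_eq_of_le (by norm_num) (lower FyD (FR h0) (le_gn_cons _ _ _) Ffx (slb0 (top_cons h0)))
theorem fP : ∀ i < 3, (chkP c111.mul c111.one fg fe [[nat_lit 284244023795, nat_lit 1335027503963],
  [nat_lit 286637675778, nat_lit 577550089250],
  [nat_lit 29185243066, nat_lit 1482083953690]] (nat_lit 11)) i = 0 :=
  (rng_step (rng_step (rng_step (all0 _) fP_0) fP_1) fP_2)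
theorem fZ0 : ∀ i < 3, (chkZ c111.mul (sg3 (nat_lit 0)) fg) i = 0 :=
  (rng_step (all0 _) fZ0_0)
theorem fZ1 : ∀ i < 3, (chkZ c111.mul (sg3 (nat_lit 1)) fg) i = 0 :=
  (rng_step (all0 _) fZ1_0)
theorem zE : ∀ i < 2, (chkE zt ee [nat_lit 7284660362911, nat_lit 16571335692559]) i = 0 :=
  (rng_step (all0 _) zE_0)
theorem xZ : ∀ i < 3, (chkZ c111.mul (zt 1) fg) i = 0 :=
  (rng_step (all0 _) xZ_0)
section
variable {A : Type*} [Group A] [Finite A] {ψ : A →* Matrix (Fin 11) (Fin 11) (ZMod 5)} {inj' : Function.Injective ψ}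

theorem ptop0 (h0 : ∀ s < 2, (c11md ψ inj').In ⊤ (pg0 s)) : ∀ s < 2, (c11md ψ inj').In ⊤ (pg0 s) := h0
theorem peg0 (h0 : ∀ s < 2, (c11md ψ inj').In ⊤ (pg0 s)) : (c11md ψ inj').El ((c11md ψ inj').gn pg0 2) pg0 := el_gn (ptop0 h0)
theorem pW0 : ∀ i < 2, (chkW c11.mul c11.one pg0 [[nat_lit 1, nat_lit 0, nat_lit 0, nat_lit 1, nat_lit 1, nat_lit 1, nat_lit 0, nat_lit 0, nat_lit 0, nat_lit 0, nat_lit 1, nat_lit 0, nat_lit 1],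
  [nat_lit 1, nat_lit 0, nat_lit 1, nat_lit 1, nat_lit 0, nat_lit 0, nat_lit 1, nat_lit 1]] pg1) i = 0 :=
  (rng_step (all0 _) pW0_0)
theorem pin1 (h0 : ∀ s < 2, (c11md ψ inj').In ⊤ (pg0 s)) : ∀ s < 2, (c11md ψ inj').In ((c11md ψ inj').gn pg0 2) (pg1 s) := in_of_chkW (peg0 h0) pW0
theorem ptop1 (h0 : ∀ s < 2, (c11md ψ inj').In ⊤ (pg0 s)) : ∀ s < 2, (c11md ψ inj').In ⊤ (pg1 s) := fun s hs => (pin1 h0 s hs).top
theorem ple0 (h0 : ∀ s < 2, (c11md ψ inj').In ⊤ (pg0 s)) : ((c11md ψ inj').gn pg1 2) ≤ ((c11md ψ inj').gn pg0 2) := gn_le (pin1 h0)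
theorem peg1 (h0 : ∀ s < 2, (c11md ψ inj').In ⊤ (pg0 s)) : (c11md ψ inj').El ((c11md ψ inj').gn pg1 2) pg1 := el_gn (ptop1 h0)
theorem pW1 : ∀ i < 2, (chkW c11.mul c11.one pg1 [[nat_lit 1, nat_lit 0, nat_lit 1, nat_lit 0, nat_lit 0, nat_lit 0, nat_lit 1, nat_lit 1, nat_lit 1, nat_lit 0, nat_lit 1],
  [nat_lit 1, nat_lit 0, nat_lit 1, nat_lit 1, nat_lit 1, nat_lit 1]] pg2) i = 0 :=
  (rng_step (all0 _) pW1_0)
theorem pin2 (h0 : ∀ s < 2, (c11md ψ inj').In ⊤ (pg0 s)) : ∀ s < 2, (c11md ψ inj').In ((c11md ψ inj').gn pg1 2) (pg2 s) := in_of_chkW (peg1 h0) pW1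
theorem ptop2 (h0 : ∀ s < 2, (c11md ψ inj').In ⊤ (pg0 s)) : ∀ s < 2, (c11md ψ inj').In ⊤ (pg2 s) := fun s hs => (pin2 h0 s hs).top
theorem ple1 (h0 : ∀ s < 2, (c11md ψ inj').In ⊤ (pg0 s)) : ((c11md ψ inj').gn pg2 2) ≤ ((c11md ψ inj').gn pg1 2) := gn_le (pin2 h0)
theorem peg2 (h0 : ∀ s < 2, (c11md ψ inj').In ⊤ (pg0 s)) : (c11md ψ inj').El ((c11md ψ inj').gn pg2 2) pg2 := el_gn (ptop2 h0)
theorem pW2 : ∀ i < 2, (chkW c11.mul c11.one pg2 [[nat_lit 1],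
  [nat_lit 0, nat_lit 0, nat_lit 0, nat_lit 1, nat_lit 0, nat_lit 1, nat_lit 1, nat_lit 0]] pg3) i = 0 :=
  (rng_step (all0 _) pW2_0)
theorem pin3 (h0 : ∀ s < 2, (c11md ψ inj').In ⊤ (pg0 s)) : ∀ s < 2, (c11md ψ inj').In ((c11md ψ inj').gn pg2 2) (pg3 s) := in_of_chkW (peg2 h0) pW2
theorem ptop3 (h0 : ∀ s < 2, (c11md ψ inj').In ⊤ (pg0 s)) : ∀ s < 2, (c11md ψ inj').In ⊤ (pg3 s) := fun s hs => (pin3 h0 s hs).top
theorem ple2 (h0 : ∀ s < 2, (c11md ψ inj').In ⊤ (pg0 s)) : ((c11md ψ inj').gn pg3 2) ≤ ((c11md ψ inj').gn pg2 2) := gn_le (pin3 h0)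
theorem peg3 (h0 : ∀ s < 2, (c11md ψ inj').In ⊤ (pg0 s)) : (c11md ψ inj').El ((c11md ψ inj').gn pg3 2) pg3 := el_gn (ptop3 h0)
theorem pW3 : ∀ i < 2, (chkW c11.mul c11.one pg3 [[nat_lit 0, nat_lit 1, nat_lit 0, nat_lit 0, nat_lit 1, nat_lit 1],
  [nat_lit 0, nat_lit 1, nat_lit 1, nat_lit 1, nat_lit 0, nat_lit 0, nat_lit 0, nat_lit 1, nat_lit 0]] pg4) i = 0 :=
  (rng_step (all0 _) pW3_0)
theorem pin4 (h0 : ∀ s < 2, (c11md ψ inj').In ⊤ (pg0 s)) : ∀ s < 2, (c11md ψ inj').In ((c11md ψ inj').gn pg3 2) (pg4 s) := in_of_chkW (peg3 h0) pW3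
theorem ptop4 (h0 : ∀ s < 2, (c11md ψ inj').In ⊤ (pg0 s)) : ∀ s < 2, (c11md ψ inj').In ⊤ (pg4 s) := fun s hs => (pin4 h0 s hs).top
theorem ple3 (h0 : ∀ s < 2, (c11md ψ inj').In ⊤ (pg0 s)) : ((c11md ψ inj').gn pg4 2) ≤ ((c11md ψ inj').gn pg3 2) := gn_le (pin4 h0)
theorem peg4 (h0 : ∀ s < 2, (c11md ψ inj').In ⊤ (pg0 s)) : (c11md ψ inj').El ((c11md ψ inj').gn pg4 2) pg4 := el_gn (ptop4 h0)
theorem pW4 : ∀ i < 2, (chkW c11.mul c11.one pg4 [[nat_lit 0, nat_lit 0, nat_lit 1, nat_lit 0, nat_lit 0, nat_lit 0, nat_lit 0, nat_lit 0, nat_lit 1, nat_lit 1, nat_lit 1],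
  [nat_lit 0, nat_lit 1, nat_lit 0, nat_lit 0, nat_lit 1, nat_lit 1, nat_lit 1, nat_lit 0, nat_lit 0, nat_lit 0, nat_lit 0]] pg5) i = 0 :=
  (rng_step (all0 _) pW4_0)
theorem pin5 (h0 : ∀ s < 2, (c11md ψ inj').In ⊤ (pg0 s)) : ∀ s < 2, (c11md ψ inj').In ((c11md ψ inj').gn pg4 2) (pg5 s) := in_of_chkW (peg4 h0) pW4
theorem ptop5 (h0 : ∀ s < 2, (c11md ψ inj').In ⊤ (pg0 s)) : ∀ s < 2, (c11md ψ inj').In ⊤ (pg5 s) := fun s hs => (pin5 h0 s hs).top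
theorem ple4 (h0 : ∀ s < 2, (c11md ψ inj').In ⊤ (pg0 s)) : ((c11md ψ inj').gn pg5 2) ≤ ((c11md ψ inj').gn pg4 2) := gn_le (pin5 h0)
theorem peg5 (h0 : ∀ s < 2, (c11md ψ inj').In ⊤ (pg0 s)) : (c11md ψ inj').El ((c11md ψ inj').gn pg5 2) pg5 := el_gn (ptop5 h0)
theorem pW5 : ∀ i < 2, (chkW c11.mul c11.one pg5 [[nat_lit 0, nat_lit 1, nat_lit 0, nat_lit 1, nat_lit 1, nat_lit 1, nat_lit 1, nat_lit 0, nat_lit 0, nat_lit 1, nat_lit 0],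
  [nat_lit 0, nat_lit 1, nat_lit 1, nat_lit 1, nat_lit 1, nat_lit 0, nat_lit 1, nat_lit 1, nat_lit 1, nat_lit 1, nat_lit 1, nat_lit 0]] pg6) i = 0 :=
  (rng_step (all0 _) pW5_0)
theorem pin6 (h0 : ∀ s < 2, (c11md ψ inj').In ⊤ (pg0 s)) : ∀ s < 2, (c11md ψ inj').In ((c11md ψ inj').gn pg5 2) (pg6 s) := in_of_chkW (peg5 h0) pW5
theorem ptop6 (h0 : ∀ s < 2, (c11md ψ inj').In ⊤ (pg0 s)) : ∀ s < 2, (c11md ψ inj').In ⊤ (pg6 s) := fun s hs => (pin6 h0 s hs).top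
theorem ple5 (h0 : ∀ s < 2, (c11md ψ inj').In ⊤ (pg0 s)) : ((c11md ψ inj').gn pg6 2) ≤ ((c11md ψ inj').gn pg5 2) := gn_le (pin6 h0)
theorem peg6 (h0 : ∀ s < 2, (c11md ψ inj').In ⊤ (pg0 s)) : (c11md ψ inj').El ((c11md ψ inj').gn pg6 2) pg6 := el_gn (ptop6 h0)
theorem pW6 : ∀ i < 2, (chkW c11.mul c11.one pg6 [[nat_lit 0, nat_lit 0, nat_lit 1, nat_lit 0, nat_lit 1, nat_lit 0],
  [nat_lit 0, nat_lit 0, nat_lit 0, nat_lit 1, nat_lit 1, nat_lit 1, nat_lit 1, nat_lit 0, nat_lit 1, nat_lit 0]] pg7) i = 0 :=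
  (rng_step (all0 _) pW6_0)
theorem pin7 (h0 : ∀ s < 2, (c11md ψ inj').In ⊤ (pg0 s)) : ∀ s < 2, (c11md ψ inj').In ((c11md ψ inj').gn pg6 2) (pg7 s) := in_of_chkW (peg6 h0) pW6
theorem ptop7 (h0 : ∀ s < 2, (c11md ψ inj').In ⊤ (pg0 s)) : ∀ s < 2, (c11md ψ inj').In ⊤ (pg7 s) := fun s hs => (pin7 h0 s hs).top
theorem ple6 (h0 : ∀ s < 2, (c11md ψ inj').In ⊤ (pg0 s)) : ((c11md ψ inj').gn pg7 2) ≤ ((c11md ψ inj').gn pg6 2) := gn_le (pin7 h0)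
theorem peg7 (h0 : ∀ s < 2, (c11md ψ inj').In ⊤ (pg0 s)) : (c11md ψ inj').El ((c11md ψ inj').gn pg7 2) pg7 := el_gn (ptop7 h0)
theorem pW7 : ∀ i < 2, (chkW c11.mul c11.one pg7 [[nat_lit 1, nat_lit 0, nat_lit 0, nat_lit 1, nat_lit 1, nat_lit 1],
  [nat_lit 1, nat_lit 1, nat_lit 1, nat_lit 0, nat_lit 1]] pg8) i = 0 :=
  (rng_step (all0 _) pW7_0)
theorem pin8 (h0 : ∀ s < 2, (c11md ψ inj').In ⊤ (pg0 s)) : ∀ s < 2, (c11md ψ inj').In ((c11md ψ inj').gn pg7 2) (pg8 s) := in_of_chkW (peg7 h0) pW7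
theorem ptop8 (h0 : ∀ s < 2, (c11md ψ inj').In ⊤ (pg0 s)) : ∀ s < 2, (c11md ψ inj').In ⊤ (pg8 s) := fun s hs => (pin8 h0 s hs).top
theorem ple7 (h0 : ∀ s < 2, (c11md ψ inj').In ⊤ (pg0 s)) : ((c11md ψ inj').gn pg8 2) ≤ ((c11md ψ inj').gn pg7 2) := gn_le (pin8 h0)
theorem peg8 (h0 : ∀ s < 2, (c11md ψ inj').In ⊤ (pg0 s)) : (c11md ψ inj').El ((c11md ψ inj').gn pg8 2) pg8 := el_gn (ptop8 h0)
theorem ple8 (h0 : ∀ s < 2, (c11md ψ inj').In ⊤ (pg0 s)) : (⊥ : Subgroup A) ≤ ((c11md ψ inj').gn pg8 2) := bot_le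
theorem plb9 (h0 : ∀ s < 2, (c11md ψ inj').In ⊤ (pg0 s)) : 1 ≤ Nat.card (⊥ : Subgroup A) := one_le_card _
theorem py8Y : ∀ i < 3, (chkY c11b.canV c11b.row py8 (nat_lit 3)) i = 0 :=
  allB (rngB_step (allB0 _ _) py8Y_0) (by decide)
theorem py8D : Dist (fun i => (fun x => (⟨c11b.vec (ZMod 5) 11 x⟩ : Vc ψ)) (pt c11b.row py8 i)) 3 :=
  dist_of_chk (@Cfg.Ok.canT A _ _ _ _ c11b (ZMod.charP 5) c11b_ok rfl rfl ψ) py8Y
theorem pO8 : ∀ i < 3, (chkO (c11b.imgV pg8) c11b.row py8 pO8a (nat_lit 3) [nat_lit 0]) i = 0 :=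
  allB (rngB_step (allB0 _ _) pO8_0) (by decide)
theorem pR8 (h0 : ∀ s < 2, (c11md ψ inj').In ⊤ (pg0 s)) : Reach ((c11md ψ inj').gn pg8 2) (fun i => (fun x => (⟨c11b.vec (ZMod 5) 11 x⟩ : Vc ψ)) (pt c11b.row py8 i)) 3 [nat_lit 0] :=
  reach_of_chk (pv := (fun x => (⟨c11b.vec (ZMod 5) 11 x⟩ : Vc ψ))) ((@Cfg.Ok.acts A _ _ _ _ c11b (ZMod.charP 5) c11b_ok rfl rfl (c11md ψ inj') rfl pg8).ex (peg8 h0)) pO8
theorem pfx8 : (⊥ : Subgroup A) ≤ MulAction.stabilizer A ((fun i => (fun x => (⟨c11b.vec (ZMod 5) 11 x⟩ : Vc ψ)) (pt c11b.row py8 i)) (nat_lit 0)) := bot_le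
theorem plb8 (h0 : ∀ s < 2, (c11md ψ inj').In ⊤ (pg0 s)) : 3 ≤ Nat.card ((c11md ψ inj').gn pg8 2) :=
  le_of_eq_of_le (by norm_num) (lower py8D (pR8 h0) (ple8 h0) pfx8 (plb9 h0))
theorem py7Y : ∀ i < 4, (chkY c11b.canV c11b.row py7 (nat_lit 4)) i = 0 :=
  allB (rngB_step (allB0 _ _) py7Y_0) (by decide)
theorem py7D : Dist (fun i => (fun x => (⟨c11b.vec (ZMod 5) 11 x⟩ : Vc ψ)) (pt c11b.row py7 i)) 4 :=
  dist_of_chk (@Cfg.Ok.canT A _ _ _ _ c11b (ZMod.charP 5) c11b_ok rfl rfl ψ) py7Y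
theorem pO7 : ∀ i < 4, (chkO (c11b.imgV pg7) c11b.row py7 pO7a (nat_lit 4) [nat_lit 0]) i = 0 :=
  allB (rngB_step (allB0 _ _) pO7_0) (by decide)
theorem pR7 (h0 : ∀ s < 2, (c11md ψ inj').In ⊤ (pg0 s)) : Reach ((c11md ψ inj').gn pg7 2) (fun i => (fun x => (⟨c11b.vec (ZMod 5) 11 x⟩ : Vc ψ)) (pt c11b.row py7 i)) 4 [nat_lit 0] :=
  reach_of_chk (pv := (fun x => (⟨c11b.vec (ZMod 5) 11 x⟩ : Vc ψ))) ((@Cfg.Ok.acts A _ _ _ _ c11b (ZMod.charP 5) c11b_ok rfl rfl (c11md ψ inj') rfl pg7).ex (peg7 h0)) pO7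
theorem pF7 : ∀ i < 2, (chkF (c11b.imgV pg8) c11b.row py7 (nat_lit 0) [nat_lit 0, nat_lit 0]) i = 0 :=
  (rng_step (all0 _) pF7_0)
theorem pfx7 : ((c11md ψ inj').gn pg8 2) ≤ MulAction.stabilizer A ((fun i => (fun x => (⟨c11b.vec (ZMod 5) 11 x⟩ : Vc ψ)) (pt c11b.row py7 i)) (nat_lit 0)) :=
  gn_le_stab (@Cfg.Ok.acts A _ _ _ _ c11b (ZMod.charP 5) c11b_ok rfl rfl (c11md ψ inj') rfl pg8) pF7
theorem plb7 (h0 : ∀ s < 2, (c11md ψ inj').In ⊤ (pg0 s)) : 12 ≤ Nat.card ((c11md ψ inj').gn pg7 2) :=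
  le_of_eq_of_le (by norm_num) (lower py7D (pR7 h0) (ple7 h0) pfx7 (plb8 h0))
theorem py6Y : ∀ i < 5, (chkY c11b.canV c11b.row py6 (nat_lit 5)) i = 0 :=
  allB (rngB_step (allB0 _ _) py6Y_0) (by decide)
theorem py6D : Dist (fun i => (fun x => (⟨c11b.vec (ZMod 5) 11 x⟩ : Vc ψ)) (pt c11b.row py6 i)) 5 :=
  dist_of_chk (@Cfg.Ok.canT A _ _ _ _ c11b (ZMod.charP 5) c11b_ok rfl rfl ψ) py6Y
theorem pO6 : ∀ i < 5, (chkO (c11b.imgV pg6) c11b.row py6 pO6a (nat_lit 5) [nat_lit 0]) i = 0 :=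
  allB (rngB_step (allB0 _ _) pO6_0) (by decide)
theorem pR6 (h0 : ∀ s < 2, (c11md ψ inj').In ⊤ (pg0 s)) : Reach ((c11md ψ inj').gn pg6 2) (fun i => (fun x => (⟨c11b.vec (ZMod 5) 11 x⟩ : Vc ψ)) (pt c11b.row py6 i)) 5 [nat_lit 0] :=
  reach_of_chk (pv := (fun x => (⟨c11b.vec (ZMod 5) 11 x⟩ : Vc ψ))) ((@Cfg.Ok.acts A _ _ _ _ c11b (ZMod.charP 5) c11b_ok rfl rfl (c11md ψ inj') rfl pg6).ex (peg6 h0)) pO6
theorem pF6 : ∀ i < 2, (chkF (c11b.imgV pg7) c11b.row py6 (nat_lit 0) [nat_lit 0, nat_lit 0]) i = 0 :=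
  (rng_step (all0 _) pF6_0)
theorem pfx6 : ((c11md ψ inj').gn pg7 2) ≤ MulAction.stabilizer A ((fun i => (fun x => (⟨c11b.vec (ZMod 5) 11 x⟩ : Vc ψ)) (pt c11b.row py6 i)) (nat_lit 0)) :=
  gn_le_stab (@Cfg.Ok.acts A _ _ _ _ c11b (ZMod.charP 5) c11b_ok rfl rfl (c11md ψ inj') rfl pg7) pF6
theorem plb6 (h0 : ∀ s < 2, (c11md ψ inj').In ⊤ (pg0 s)) : 60 ≤ Nat.card ((c11md ψ inj').gn pg6 2) :=
  le_of_eq_of_le (by norm_num) (lower py6D (pR6 h0) (ple6 h0) pfx6 (plb7 h0))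
theorem py5Y : ∀ i < 6, (chkY c11b.canV c11b.row py5 (nat_lit 6)) i = 0 :=
  allB (rngB_step (allB0 _ _) py5Y_0) (by decide)
theorem py5D : Dist (fun i => (fun x => (⟨c11b.vec (ZMod 5) 11 x⟩ : Vc ψ)) (pt c11b.row py5 i)) 6 :=
  dist_of_chk (@Cfg.Ok.canT A _ _ _ _ c11b (ZMod.charP 5) c11b_ok rfl rfl ψ) py5Y
theorem pO5 : ∀ i < 6, (chkO (c11b.imgV pg5) c11b.row py5 pO5a (nat_lit 6) [nat_lit 0]) i = 0 :=
  allB (rngB_step (allB0 _ _) pO5_0) (by decide)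
theorem pR5 (h0 : ∀ s < 2, (c11md ψ inj').In ⊤ (pg0 s)) : Reach ((c11md ψ inj').gn pg5 2) (fun i => (fun x => (⟨c11b.vec (ZMod 5) 11 x⟩ : Vc ψ)) (pt c11b.row py5 i)) 6 [nat_lit 0] :=
  reach_of_chk (pv := (fun x => (⟨c11b.vec (ZMod 5) 11 x⟩ : Vc ψ))) ((@Cfg.Ok.acts A _ _ _ _ c11b (ZMod.charP 5) c11b_ok rfl rfl (c11md ψ inj') rfl pg5).ex (peg5 h0)) pO5
theorem pF5 : ∀ i < 2, (chkF (c11b.imgV pg6) c11b.row py5 (nat_lit 0) [nat_lit 0, nat_lit 0]) i = 0 :=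
  (rng_step (all0 _) pF5_0)
theorem pfx5 : ((c11md ψ inj').gn pg6 2) ≤ MulAction.stabilizer A ((fun i => (fun x => (⟨c11b.vec (ZMod 5) 11 x⟩ : Vc ψ)) (pt c11b.row py5 i)) (nat_lit 0)) :=
  gn_le_stab (@Cfg.Ok.acts A _ _ _ _ c11b (ZMod.charP 5) c11b_ok rfl rfl (c11md ψ inj') rfl pg6) pF5
theorem plb5 (h0 : ∀ s < 2, (c11md ψ inj').In ⊤ (pg0 s)) : 360 ≤ Nat.card ((c11md ψ inj').gn pg5 2) :=
  le_of_eq_of_le (by norm_num) (lower py5D (pR5 h0) (ple5 h0) pfx5 (plb6 h0))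
theorem py4Y : ∀ i < 7, (chkY c11b.canV c11b.row py4 (nat_lit 7)) i = 0 :=
  allB (rngB_step (allB0 _ _) py4Y_0) (by decide)
theorem py4D : Dist (fun i => (fun x => (⟨c11b.vec (ZMod 5) 11 x⟩ : Vc ψ)) (pt c11b.row py4 i)) 7 :=
  dist_of_chk (@Cfg.Ok.canT A _ _ _ _ c11b (ZMod.charP 5) c11b_ok rfl rfl ψ) py4Y
theorem pO4 : ∀ i < 7, (chkO (c11b.imgV pg4) c11b.row py4 pO4a (nat_lit 7) [nat_lit 0]) i = 0 :=
  allB (rngB_step (allB0 _ _) pO4_0) (by decide)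
theorem pR4 (h0 : ∀ s < 2, (c11md ψ inj').In ⊤ (pg0 s)) : Reach ((c11md ψ inj').gn pg4 2) (fun i => (fun x => (⟨c11b.vec (ZMod 5) 11 x⟩ : Vc ψ)) (pt c11b.row py4 i)) 7 [nat_lit 0] :=
  reach_of_chk (pv := (fun x => (⟨c11b.vec (ZMod 5) 11 x⟩ : Vc ψ))) ((@Cfg.Ok.acts A _ _ _ _ c11b (ZMod.charP 5) c11b_ok rfl rfl (c11md ψ inj') rfl pg4).ex (peg4 h0)) pO4
theorem pF4 : ∀ i < 2, (chkF (c11b.imgV pg5) c11b.row py4 (nat_lit 0) [nat_lit 0, nat_lit 0]) i = 0 :=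
  (rng_step (all0 _) pF4_0)
theorem pfx4 : ((c11md ψ inj').gn pg5 2) ≤ MulAction.stabilizer A ((fun i => (fun x => (⟨c11b.vec (ZMod 5) 11 x⟩ : Vc ψ)) (pt c11b.row py4 i)) (nat_lit 0)) :=
  gn_le_stab (@Cfg.Ok.acts A _ _ _ _ c11b (ZMod.charP 5) c11b_ok rfl rfl (c11md ψ inj') rfl pg5) pF4
theorem plb4 (h0 : ∀ s < 2, (c11md ψ inj').In ⊤ (pg0 s)) : 2520 ≤ Nat.card ((c11md ψ inj').gn pg4 2) :=
  le_of_eq_of_le (by norm_num) (lower py4D (pR4 h0) (ple4 h0) pfx4 (plb5 h0))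
theorem py3Y : ∀ i < 8, (chkY c11b.canV c11b.row py3 (nat_lit 8)) i = 0 :=
  allB (rngB_step (allB0 _ _) py3Y_0) (by decide)
theorem py3D : Dist (fun i => (fun x => (⟨c11b.vec (ZMod 5) 11 x⟩ : Vc ψ)) (pt c11b.row py3 i)) 8 :=
  dist_of_chk (@Cfg.Ok.canT A _ _ _ _ c11b (ZMod.charP 5) c11b_ok rfl rfl ψ) py3Y
theorem pO3 : ∀ i < 8, (chkO (c11b.imgV pg3) c11b.row py3 pO3a (nat_lit 8) [nat_lit 0]) i = 0 :=
  allB (rngB_step (allB0 _ _) pO3_0) (by decide)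
theorem pR3 (h0 : ∀ s < 2, (c11md ψ inj').In ⊤ (pg0 s)) : Reach ((c11md ψ inj').gn pg3 2) (fun i => (fun x => (⟨c11b.vec (ZMod 5) 11 x⟩ : Vc ψ)) (pt c11b.row py3 i)) 8 [nat_lit 0] :=
  reach_of_chk (pv := (fun x => (⟨c11b.vec (ZMod 5) 11 x⟩ : Vc ψ))) ((@Cfg.Ok.acts A _ _ _ _ c11b (ZMod.charP 5) c11b_ok rfl rfl (c11md ψ inj') rfl pg3).ex (peg3 h0)) pO3
theorem pF3 : ∀ i < 2, (chkF (c11b.imgV pg4) c11b.row py3 (nat_lit 0) [nat_lit 0, nat_lit 0]) i = 0 :=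
  (rng_step (all0 _) pF3_0)
theorem pfx3 : ((c11md ψ inj').gn pg4 2) ≤ MulAction.stabilizer A ((fun i => (fun x => (⟨c11b.vec (ZMod 5) 11 x⟩ : Vc ψ)) (pt c11b.row py3 i)) (nat_lit 0)) :=
  gn_le_stab (@Cfg.Ok.acts A _ _ _ _ c11b (ZMod.charP 5) c11b_ok rfl rfl (c11md ψ inj') rfl pg4) pF3
theorem plb3 (h0 : ∀ s < 2, (c11md ψ inj').In ⊤ (pg0 s)) : 20160 ≤ Nat.card ((c11md ψ inj').gn pg3 2) :=
  le_of_eq_of_le (by norm_num) (lower py3D (pR3 h0) (ple3 h0) pfx3 (plb4 h0))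
theorem py2Y : ∀ i < 9, (chkY c11b.canV c11b.row py2 (nat_lit 9)) i = 0 :=
  allB (rngB_step (allB0 _ _) py2Y_0) (by decide)
theorem py2D : Dist (fun i => (fun x => (⟨c11b.vec (ZMod 5) 11 x⟩ : Vc ψ)) (pt c11b.row py2 i)) 9 :=
  dist_of_chk (@Cfg.Ok.canT A _ _ _ _ c11b (ZMod.charP 5) c11b_ok rfl rfl ψ) py2Y
theorem pO2 : ∀ i < 9, (chkO (c11b.imgV pg2) c11b.row py2 pO2a (nat_lit 9) [nat_lit 0]) i = 0 :=
  allB (rngB_step (allB0 _ _) pO2_0) (by decide)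
theorem pR2 (h0 : ∀ s < 2, (c11md ψ inj').In ⊤ (pg0 s)) : Reach ((c11md ψ inj').gn pg2 2) (fun i => (fun x => (⟨c11b.vec (ZMod 5) 11 x⟩ : Vc ψ)) (pt c11b.row py2 i)) 9 [nat_lit 0] :=
  reach_of_chk (pv := (fun x => (⟨c11b.vec (ZMod 5) 11 x⟩ : Vc ψ))) ((@Cfg.Ok.acts A _ _ _ _ c11b (ZMod.charP 5) c11b_ok rfl rfl (c11md ψ inj') rfl pg2).ex (peg2 h0)) pO2
theorem pF2 : ∀ i < 2, (chkF (c11b.imgV pg3) c11b.row py2 (nat_lit 0) [nat_lit 0, nat_lit 0]) i = 0 :=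
  (rng_step (all0 _) pF2_0)
theorem pfx2 : ((c11md ψ inj').gn pg3 2) ≤ MulAction.stabilizer A ((fun i => (fun x => (⟨c11b.vec (ZMod 5) 11 x⟩ : Vc ψ)) (pt c11b.row py2 i)) (nat_lit 0)) :=
  gn_le_stab (@Cfg.Ok.acts A _ _ _ _ c11b (ZMod.charP 5) c11b_ok rfl rfl (c11md ψ inj') rfl pg3) pF2
theorem plb2 (h0 : ∀ s < 2, (c11md ψ inj').In ⊤ (pg0 s)) : 181440 ≤ Nat.card ((c11md ψ inj').gn pg2 2) :=
  le_of_eq_of_le (by norm_num) (lower py2D (pR2 h0) (ple2 h0) pfx2 (plb3 h0))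
theorem py1Y : ∀ i < 10, (chkY c11b.canV c11b.row py1 (nat_lit 10)) i = 0 :=
  allB (rngB_step (allB0 _ _) py1Y_0) (by decide)
theorem py1D : Dist (fun i => (fun x => (⟨c11b.vec (ZMod 5) 11 x⟩ : Vc ψ)) (pt c11b.row py1 i)) 10 :=
  dist_of_chk (@Cfg.Ok.canT A _ _ _ _ c11b (ZMod.charP 5) c11b_ok rfl rfl ψ) py1Y
theorem pO1 : ∀ i < 10, (chkO (c11b.imgV pg1) c11b.row py1 pO1a (nat_lit 10) [nat_lit 0]) i = 0 :=
  allB (rngB_step (allB0 _ _) pO1_0) (by decide)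
theorem pR1 (h0 : ∀ s < 2, (c11md ψ inj').In ⊤ (pg0 s)) : Reach ((c11md ψ inj').gn pg1 2) (fun i => (fun x => (⟨c11b.vec (ZMod 5) 11 x⟩ : Vc ψ)) (pt c11b.row py1 i)) 10 [nat_lit 0] :=
  reach_of_chk (pv := (fun x => (⟨c11b.vec (ZMod 5) 11 x⟩ : Vc ψ))) ((@Cfg.Ok.acts A _ _ _ _ c11b (ZMod.charP 5) c11b_ok rfl rfl (c11md ψ inj') rfl pg1).ex (peg1 h0)) pO1
theorem pF1 : ∀ i < 2, (chkF (c11b.imgV pg2) c11b.row py1 (nat_lit 0) [nat_lit 0, nat_lit 0]) i = 0 :=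
  (rng_step (all0 _) pF1_0)
theorem pfx1 : ((c11md ψ inj').gn pg2 2) ≤ MulAction.stabilizer A ((fun i => (fun x => (⟨c11b.vec (ZMod 5) 11 x⟩ : Vc ψ)) (pt c11b.row py1 i)) (nat_lit 0)) :=
  gn_le_stab (@Cfg.Ok.acts A _ _ _ _ c11b (ZMod.charP 5) c11b_ok rfl rfl (c11md ψ inj') rfl pg2) pF1
theorem plb1 (h0 : ∀ s < 2, (c11md ψ inj').In ⊤ (pg0 s)) : 1814400 ≤ Nat.card ((c11md ψ inj').gn pg1 2) :=
  le_of_eq_of_le (by norm_num) (lower py1D (pR1 h0) (ple1 h0) pfx1 (plb2 h0))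
theorem py0Y : ∀ i < 11, (chkY c11b.canV c11b.row py0 (nat_lit 11)) i = 0 :=
  allB (rngB_step (allB0 _ _) py0Y_0) (by decide)
theorem py0D : Dist (fun i => (fun x => (⟨c11b.vec (ZMod 5) 11 x⟩ : Vc ψ)) (pt c11b.row py0 i)) 11 :=
  dist_of_chk (@Cfg.Ok.canT A _ _ _ _ c11b (ZMod.charP 5) c11b_ok rfl rfl ψ) py0Y
theorem pO0 : ∀ i < 11, (chkO (c11b.imgV pg0) c11b.row py0 pO0a (nat_lit 11) [nat_lit 0]) i = 0 :=
  allB (rngB_step (allB0 _ _) pO0_0) (by decide)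
theorem pR0 (h0 : ∀ s < 2, (c11md ψ inj').In ⊤ (pg0 s)) : Reach ((c11md ψ inj').gn pg0 2) (fun i => (fun x => (⟨c11b.vec (ZMod 5) 11 x⟩ : Vc ψ)) (pt c11b.row py0 i)) 11 [nat_lit 0] :=
  reach_of_chk (pv := (fun x => (⟨c11b.vec (ZMod 5) 11 x⟩ : Vc ψ))) ((@Cfg.Ok.acts A _ _ _ _ c11b (ZMod.charP 5) c11b_ok rfl rfl (c11md ψ inj') rfl pg0).ex (peg0 h0)) pO0
theorem pF0 : ∀ i < 2, (chkF (c11b.imgV pg1) c11b.row py0 (nat_lit 0) [nat_lit 0, nat_lit 0]) i = 0 :=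
  (rng_step (all0 _) pF0_0)
theorem pfx0 : ((c11md ψ inj').gn pg1 2) ≤ MulAction.stabilizer A ((fun i => (fun x => (⟨c11b.vec (ZMod 5) 11 x⟩ : Vc ψ)) (pt c11b.row py0 i)) (nat_lit 0)) :=
  gn_le_stab (@Cfg.Ok.acts A _ _ _ _ c11b (ZMod.charP 5) c11b_ok rfl rfl (c11md ψ inj') rfl pg1) pF0
theorem plb0 (h0 : ∀ s < 2, (c11md ψ inj').In ⊤ (pg0 s)) : 19958400 ≤ Nat.card ((c11md ψ inj').gn pg0 2) :=
  le_of_eq_of_le (by norm_num) (lower py0D (pR0 h0) (ple0 h0) pfx0 (plb1 h0))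
theorem qtop0 (h0 : ∀ s < 2, (Mdl.prod (c111md φ inj) (c11md ψ inj') (nat_lit 160173) pq_lt pq_lt1).In ⊤ (qg0 s)) : ∀ s < 2, (Mdl.prod (c111md φ inj) (c11md ψ inj') (nat_lit 160173) pq_lt pq_lt1).In ⊤ (qg0 s) := h0
theorem qeg0 (h0 : ∀ s < 2, (Mdl.prod (c111md φ inj) (c11md ψ inj') (nat_lit 160173) pq_lt pq_lt1).In ⊤ (qg0 s)) : (Mdl.prod (c111md φ inj) (c11md ψ inj') (nat_lit 160173) pq_lt pq_lt1).El ((Mdl.prod (c111md φ inj) (c11md ψ inj') (nat_lit 160173) pq_lt pq_lt1).gn qg0 2) qg0 := el_gn (qtop0 h0)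
theorem qW0 : ∀ i < 2, (chkW pqmul pqone qg0 [[nat_lit 0, nat_lit 1, nat_lit 0, nat_lit 1, nat_lit 0, nat_lit 0, nat_lit 0],
  [nat_lit 0, nat_lit 1, nat_lit 0, nat_lit 0, nat_lit 1, nat_lit 0, nat_lit 0]] qg1) i = 0 :=
  (rng_step (all0 _) qW0_0)
theorem qin1 (h0 : ∀ s < 2, (Mdl.prod (c111md φ inj) (c11md ψ inj') (nat_lit 160173) pq_lt pq_lt1).In ⊤ (qg0 s)) : ∀ s < 2, (Mdl.prod (c111md φ inj) (c11md ψ inj') (nat_lit 160173) pq_lt pq_lt1).In ((Mdl.prod (c111md φ inj) (c11md ψ inj') (nat_lit 160173) pq_lt pq_lt1).gn qg0 2) (qg1 s) := in_of_chkW (qeg0 h0) qW0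
theorem qtop1 (h0 : ∀ s < 2, (Mdl.prod (c111md φ inj) (c11md ψ inj') (nat_lit 160173) pq_lt pq_lt1).In ⊤ (qg0 s)) : ∀ s < 2, (Mdl.prod (c111md φ inj) (c11md ψ inj') (nat_lit 160173) pq_lt pq_lt1).In ⊤ (qg1 s) := fun s hs => (qin1 h0 s hs).top
theorem qle0 (h0 : ∀ s < 2, (Mdl.prod (c111md φ inj) (c11md ψ inj') (nat_lit 160173) pq_lt pq_lt1).In ⊤ (qg0 s)) : ((Mdl.prod (c111md φ inj) (c11md ψ inj') (nat_lit 160173) pq_lt pq_lt1).gn qg1 2) ≤ ((Mdl.prod (c111md φ inj) (c11md ψ inj') (nat_lit 160173) pq_lt pq_lt1).gn qg0 2) := gn_le (qin1 h0)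
theorem qeg1 (h0 : ∀ s < 2, (Mdl.prod (c111md φ inj) (c11md ψ inj') (nat_lit 160173) pq_lt pq_lt1).In ⊤ (qg0 s)) : (Mdl.prod (c111md φ inj) (c11md ψ inj') (nat_lit 160173) pq_lt pq_lt1).El ((Mdl.prod (c111md φ inj) (c11md ψ inj') (nat_lit 160173) pq_lt pq_lt1).gn qg1 2) qg1 := el_gn (qtop1 h0)
theorem qW1 : ∀ i < 2, (chkW pqmul pqone qg1 [[nat_lit 1, nat_lit 0, nat_lit 1, nat_lit 0, nat_lit 0, nat_lit 0, nat_lit 0, nat_lit 1, nat_lit 1, nat_lit 0, nat_lit 1],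
  [nat_lit 1, nat_lit 0, nat_lit 0, nat_lit 1, nat_lit 1, nat_lit 0, nat_lit 0, nat_lit 1, nat_lit 0]] qg2) i = 0 :=
  (rng_step (all0 _) qW1_0)
theorem qin2 (h0 : ∀ s < 2, (Mdl.prod (c111md φ inj) (c11md ψ inj') (nat_lit 160173) pq_lt pq_lt1).In ⊤ (qg0 s)) : ∀ s < 2, (Mdl.prod (c111md φ inj) (c11md ψ inj') (nat_lit 160173) pq_lt pq_lt1).In ((Mdl.prod (c111md φ inj) (c11md ψ inj') (nat_lit 160173) pq_lt pq_lt1).gn qg1 2) (qg2 s) := in_of_chkW (qeg1 h0) qW1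
theorem qtop2 (h0 : ∀ s < 2, (Mdl.prod (c111md φ inj) (c11md ψ inj') (nat_lit 160173) pq_lt pq_lt1).In ⊤ (qg0 s)) : ∀ s < 2, (Mdl.prod (c111md φ inj) (c11md ψ inj') (nat_lit 160173) pq_lt pq_lt1).In ⊤ (qg2 s) := fun s hs => (qin2 h0 s hs).top
theorem qle1 (h0 : ∀ s < 2, (Mdl.prod (c111md φ inj) (c11md ψ inj') (nat_lit 160173) pq_lt pq_lt1).In ⊤ (qg0 s)) : ((Mdl.prod (c111md φ inj) (c11md ψ inj') (nat_lit 160173) pq_lt pq_lt1).gn qg2 2) ≤ ((Mdl.prod (c111md φ inj) (c11md ψ inj') (nat_lit 160173) pq_lt pq_lt1).gn qg1 2) := gn_le (qin2 h0)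
theorem qeg2 (h0 : ∀ s < 2, (Mdl.prod (c111md φ inj) (c11md ψ inj') (nat_lit 160173) pq_lt pq_lt1).In ⊤ (qg0 s)) : (Mdl.prod (c111md φ inj) (c11md ψ inj') (nat_lit 160173) pq_lt pq_lt1).El ((Mdl.prod (c111md φ inj) (c11md ψ inj') (nat_lit 160173) pq_lt pq_lt1).gn qg2 2) qg2 := el_gn (qtop2 h0)
theorem qW2 : ∀ i < 2, (chkW pqmul pqone qg2 [[nat_lit 0, nat_lit 1, nat_lit 0, nat_lit 0, nat_lit 0, nat_lit 1, nat_lit 1, nat_lit 1, nat_lit 0],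
  [nat_lit 1, nat_lit 0, nat_lit 0, nat_lit 0, nat_lit 0, nat_lit 1, nat_lit 0, nat_lit 0, nat_lit 1, nat_lit 1, nat_lit 1, nat_lit 1, nat_lit 1]] qg3) i = 0 :=
  (rng_step (all0 _) qW2_0)
theorem qin3 (h0 : ∀ s < 2, (Mdl.prod (c111md φ inj) (c11md ψ inj') (nat_lit 160173) pq_lt pq_lt1).In ⊤ (qg0 s)) : ∀ s < 2, (Mdl.prod (c111md φ inj) (c11md ψ inj') (nat_lit 160173) pq_lt pq_lt1).In ((Mdl.prod (c111md φ inj) (c11md ψ inj') (nat_lit 160173) pq_lt pq_lt1).gn qg2 2) (qg3 s) := in_of_chkW (qeg2 h0) qW2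
theorem qtop3 (h0 : ∀ s < 2, (Mdl.prod (c111md φ inj) (c11md ψ inj') (nat_lit 160173) pq_lt pq_lt1).In ⊤ (qg0 s)) : ∀ s < 2, (Mdl.prod (c111md φ inj) (c11md ψ inj') (nat_lit 160173) pq_lt pq_lt1).In ⊤ (qg3 s) := fun s hs => (qin3 h0 s hs).top
theorem qle2 (h0 : ∀ s < 2, (Mdl.prod (c111md φ inj) (c11md ψ inj') (nat_lit 160173) pq_lt pq_lt1).In ⊤ (qg0 s)) : ((Mdl.prod (c111md φ inj) (c11md ψ inj') (nat_lit 160173) pq_lt pq_lt1).gn qg3 2) ≤ ((Mdl.prod (c111md φ inj) (c11md ψ inj') (nat_lit 160173) pq_lt pq_lt1).gn qg2 2) := gn_le (qin3 h0)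
theorem qeg3 (h0 : ∀ s < 2, (Mdl.prod (c111md φ inj) (c11md ψ inj') (nat_lit 160173) pq_lt pq_lt1).In ⊤ (qg0 s)) : (Mdl.prod (c111md φ inj) (c11md ψ inj') (nat_lit 160173) pq_lt pq_lt1).El ((Mdl.prod (c111md φ inj) (c11md ψ inj') (nat_lit 160173) pq_lt pq_lt1).gn qg3 2) qg3 := el_gn (qtop3 h0)
theorem qW3 : ∀ i < 2, (chkW pqmul pqone qg3 [[nat_lit 1, nat_lit 0, nat_lit 0, nat_lit 0, nat_lit 0, nat_lit 1, nat_lit 0, nat_lit 0, nat_lit 0, nat_lit 1, nat_lit 1, nat_lit 0],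
  [nat_lit 1, nat_lit 0, nat_lit 1, nat_lit 1, nat_lit 1, nat_lit 0, nat_lit 0, nat_lit 1, nat_lit 0, nat_lit 1, nat_lit 0, nat_lit 0, nat_lit 0, nat_lit 0]] qg4) i = 0 :=
  (rng_step (all0 _) qW3_0)
theorem qin4 (h0 : ∀ s < 2, (Mdl.prod (c111md φ inj) (c11md ψ inj') (nat_lit 160173) pq_lt pq_lt1).In ⊤ (qg0 s)) : ∀ s < 2, (Mdl.prod (c111md φ inj) (c11md ψ inj') (nat_lit 160173) pq_lt pq_lt1).In ((Mdl.prod (c111md φ inj) (c11md ψ inj') (nat_lit 160173) pq_lt pq_lt1).gn qg3 2) (qg4 s) := in_of_chkW (qeg3 h0) qW3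
theorem qtop4 (h0 : ∀ s < 2, (Mdl.prod (c111md φ inj) (c11md ψ inj') (nat_lit 160173) pq_lt pq_lt1).In ⊤ (qg0 s)) : ∀ s < 2, (Mdl.prod (c111md φ inj) (c11md ψ inj') (nat_lit 160173) pq_lt pq_lt1).In ⊤ (qg4 s) := fun s hs => (qin4 h0 s hs).top
theorem qle3 (h0 : ∀ s < 2, (Mdl.prod (c111md φ inj) (c11md ψ inj') (nat_lit 160173) pq_lt pq_lt1).In ⊤ (qg0 s)) : ((Mdl.prod (c111md φ inj) (c11md ψ inj') (nat_lit 160173) pq_lt pq_lt1).gn qg4 2) ≤ ((Mdl.prod (c111md φ inj) (c11md ψ inj') (nat_lit 160173) pq_lt pq_lt1).gn qg3 2) := gn_le (qin4 h0)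
theorem qeg4 (h0 : ∀ s < 2, (Mdl.prod (c111md φ inj) (c11md ψ inj') (nat_lit 160173) pq_lt pq_lt1).In ⊤ (qg0 s)) : (Mdl.prod (c111md φ inj) (c11md ψ inj') (nat_lit 160173) pq_lt pq_lt1).El ((Mdl.prod (c111md φ inj) (c11md ψ inj') (nat_lit 160173) pq_lt pq_lt1).gn qg4 2) qg4 := el_gn (qtop4 h0)
theorem qW4 : ∀ i < 2, (chkW pqmul pqone qg4 [[nat_lit 1, nat_lit 1, nat_lit 0, nat_lit 1, nat_lit 0, nat_lit 0, nat_lit 1, nat_lit 1, nat_lit 1, nat_lit 0, nat_lit 1, nat_lit 0, nat_lit 1, nat_lit 1],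
  [nat_lit 0, nat_lit 0, nat_lit 1, nat_lit 0, nat_lit 0, nat_lit 1, nat_lit 1, nat_lit 0, nat_lit 1, nat_lit 0, nat_lit 1]] qg5) i = 0 :=
  (rng_step (all0 _) qW4_0)
theorem qin5 (h0 : ∀ s < 2, (Mdl.prod (c111md φ inj) (c11md ψ inj') (nat_lit 160173) pq_lt pq_lt1).In ⊤ (qg0 s)) : ∀ s < 2, (Mdl.prod (c111md φ inj) (c11md ψ inj') (nat_lit 160173) pq_lt pq_lt1).In ((Mdl.prod (c111md φ inj) (c11md ψ inj') (nat_lit 160173) pq_lt pq_lt1).gn qg4 2) (qg5 s) := in_of_chkW (qeg4 h0) qW4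
theorem qtop5 (h0 : ∀ s < 2, (Mdl.prod (c111md φ inj) (c11md ψ inj') (nat_lit 160173) pq_lt pq_lt1).In ⊤ (qg0 s)) : ∀ s < 2, (Mdl.prod (c111md φ inj) (c11md ψ inj') (nat_lit 160173) pq_lt pq_lt1).In ⊤ (qg5 s) := fun s hs => (qin5 h0 s hs).top
theorem qle4 (h0 : ∀ s < 2, (Mdl.prod (c111md φ inj) (c11md ψ inj') (nat_lit 160173) pq_lt pq_lt1).In ⊤ (qg0 s)) : ((Mdl.prod (c111md φ inj) (c11md ψ inj') (nat_lit 160173) pq_lt pq_lt1).gn qg5 2) ≤ ((Mdl.prod (c111md φ inj) (c11md ψ inj') (nat_lit 160173) pq_lt pq_lt1).gn qg4 2) := gn_le (qin5 h0)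
theorem qeg5 (h0 : ∀ s < 2, (Mdl.prod (c111md φ inj) (c11md ψ inj') (nat_lit 160173) pq_lt pq_lt1).In ⊤ (qg0 s)) : (Mdl.prod (c111md φ inj) (c11md ψ inj') (nat_lit 160173) pq_lt pq_lt1).El ((Mdl.prod (c111md φ inj) (c11md ψ inj') (nat_lit 160173) pq_lt pq_lt1).gn qg5 2) qg5 := el_gn (qtop5 h0)
theorem qle5 (h0 : ∀ s < 2, (Mdl.prod (c111md φ inj) (c11md ψ inj') (nat_lit 160173) pq_lt pq_lt1).In ⊤ (qg0 s)) : (⊥ : Subgroup (G × A)) ≤ ((Mdl.prod (c111md φ inj) (c11md ψ inj') (nat_lit 160173) pq_lt pq_lt1).gn qg5 2) := bot_le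
theorem qel6 (h0 : ∀ s < 2, (Mdl.prod (c111md φ inj) (c11md ψ inj') (nat_lit 160173) pq_lt pq_lt1).In ⊤ (qg0 s)) : (Mdl.prod (c111md φ inj) (c11md ψ inj') (nat_lit 160173) pq_lt pq_lt1).El ⊥ qe6 := el_one _
theorem qub6 (h0 : ∀ s < 2, (Mdl.prod (c111md φ inj) (c11md ψ inj') (nat_lit 160173) pq_lt pq_lt1).In ⊤ (qg0 s)) : Nat.card (⊥ : Subgroup (G × A)) ≤ 1 := card_bot_le
theorem qS5 : ∀ i < 120, (chkS pqmul qg5 (nat_lit 2) qT5 qe6 qc5 (nat_lit 7) (nat_lit 120)) i = 0 :=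
  (rng_step (rng_step (rng_step (rng_step (rng_step (rng_step (all0 _) qS5_0) qS5_1) qS5_2) qS5_3) qS5_4) qS5_5)
theorem qsch5 (h0 : ∀ s < 2, (Mdl.prod (c111md φ inj) (c11md ψ inj') (nat_lit 160173) pq_lt pq_lt1).In ⊤ (qg0 s)) : (∀ g ∈ ((Mdl.prod (c111md φ inj) (c11md ψ inj') (nat_lit 160173) pq_lt pq_lt1).gn qg5 2), ∃ i < 120, (Mdl.prod (c111md φ inj) (c11md ψ inj') (nat_lit 160173) pq_lt pq_lt1).Cos (⊥ : Subgroup (G × A)) qT5 g i) ∧ (∀ i < 120, (Mdl.prod (c111md φ inj) (c11md ψ inj') (nat_lit 160173) pq_lt pq_lt1).In ((Mdl.prod (c111md φ inj) (c11md ψ inj') (nat_lit 160173) pq_lt pq_lt1).gn qg5 2) (qT5 i)) ∧ Nat.card ((Mdl.prod (c111md φ inj) (c11md ψ inj') (nat_lit 160173) pq_lt pq_lt1).gn qg5 2) ≤ 120 * Nat.card (⊥ : Subgroup (G × A)) :=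
  schreier (qel6 h0) (by decide) qT0_5 (qtop5 h0) (qle5 h0) qS5
theorem qel5 (h0 : ∀ s < 2, (Mdl.prod (c111md φ inj) (c11md ψ inj') (nat_lit 160173) pq_lt pq_lt1).In ⊤ (qg0 s)) : (Mdl.prod (c111md φ inj) (c11md ψ inj') (nat_lit 160173) pq_lt pq_lt1).El ((Mdl.prod (c111md φ inj) (c11md ψ inj') (nat_lit 160173) pq_lt pq_lt1).gn qg5 2) qe5 := (el_of_pad (qsch5 h0).2.1).cel0 _
theorem qub5 (h0 : ∀ s < 2, (Mdl.prod (c111md φ inj) (c11md ψ inj') (nat_lit 160173) pq_lt pq_lt1).In ⊤ (qg0 s)) : Nat.card ((Mdl.prod (c111md φ inj) (c11md ψ inj') (nat_lit 160173) pq_lt pq_lt1).gn qg5 2) ≤ 120 := (upper (qsch5 h0).2.2 (qub6 h0)).trans (by norm_num)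
theorem qS4 : ∀ i < 42, (chkS pqmul qg4 (nat_lit 2) qT4 qe5 qc4 (nat_lit 6) (nat_lit 42)) i = 0 :=
  (rng_step (rng_step (rng_step (rng_step (all0 _) qS4_0) qS4_1) qS4_2) qS4_3)
theorem qsch4 (h0 : ∀ s < 2, (Mdl.prod (c111md φ inj) (c11md ψ inj') (nat_lit 160173) pq_lt pq_lt1).In ⊤ (qg0 s)) : (∀ g ∈ ((Mdl.prod (c111md φ inj) (c11md ψ inj') (nat_lit 160173) pq_lt pq_lt1).gn qg4 2), ∃ i < 42, (Mdl.prod (c111md φ inj) (c11md ψ inj') (nat_lit 160173) pq_lt pq_lt1).Cos ((Mdl.prod (c111md φ inj) (c11md ψ inj') (nat_lit 160173) pq_lt pq_lt1).gn qg5 2) qT4 g i) ∧ (∀ i < 42, (Mdl.prod (c111md φ inj) (c11md ψ inj') (nat_lit 160173) pq_lt pq_lt1).In ((Mdl.prod (c111md φ inj) (c11md ψ inj') (nat_lit 160173) pq_lt pq_lt1).gn qg4 2) (qT4 i)) ∧ Nat.card ((Mdl.prod (c111md φ inj) (c11md ψ inj') (nat_lit 160173) pq_lt pq_lt1).gn qg4 2) ≤ 42 * Nat.card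 ((Mdl.prod (c111md φ inj) (c11md ψ inj') (nat_lit 160173) pq_lt pq_lt1).gn qg5 2) :=
  schreier (qel5 h0) (by decide) qT0_4 (qtop4 h0) (qle4 h0) qS4
theorem qel4 (h0 : ∀ s < 2, (Mdl.prod (c111md φ inj) (c11md ψ inj') (nat_lit 160173) pq_lt pq_lt1).In ⊤ (qg0 s)) : (Mdl.prod (c111md φ inj) (c11md ψ inj') (nat_lit 160173) pq_lt pq_lt1).El ((Mdl.prod (c111md φ inj) (c11md ψ inj') (nat_lit 160173) pq_lt pq_lt1).gn qg4 2) qe4 := (el_of_pad (qsch4 h0).2.1).cel ((qel5 h0).mono (qle4 h0)) _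
theorem qub4 (h0 : ∀ s < 2, (Mdl.prod (c111md φ inj) (c11md ψ inj') (nat_lit 160173) pq_lt pq_lt1).In ⊤ (qg0 s)) : Nat.card ((Mdl.prod (c111md φ inj) (c11md ψ inj') (nat_lit 160173) pq_lt pq_lt1).gn qg4 2) ≤ 5040 := (upper (qsch4 h0).2.2 (qub5 h0)).trans (by norm_num)
theorem qS3 : ∀ i < 8, (chkS pqmul qg3 (nat_lit 2) qT3 qe4 qc3 (nat_lit 3) (nat_lit 8)) i = 0 :=
  (rng_step (all0 _) qS3_0)
theorem qsch3 (h0 : ∀ s < 2, (Mdl.prod (c111md φ inj) (c11md ψ inj') (nat_lit 160173) pq_lt pq_lt1).In ⊤ (qg0 s)) : (∀ g ∈ ((Mdl.prod (c111md φ inj) (c11md ψ inj') (nat_lit 160173) pq_lt pq_lt1).gn qg3 2), ∃ i < 8, (Mdl.prod (c111md φ inj) (c11md ψ inj') (nat_lit 160173) pq_lt pq_lt1).Cos ((Mdl.prod (c111md φ inj) (c11md ψ inj') (nat_lit 160173) pq_lt pq_lt1).gn qg4 2) qT3 g i) ∧ (∀ i < 8, (Mdl.prod (c111md φ inj) (c11md ψ inj') (nat_lit 160173) pq_lt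 pq_lt1).In ((Mdl.prod (c111md φ inj) (c11md ψ inj') (nat_lit 160173) pq_lt pq_lt1).gn qg3 2) (qT3 i)) ∧ Nat.card ((Mdl.prod (c111md φ inj) (c11md ψ inj') (nat_lit 160173) pq_lt pq_lt1).gn qg3 2) ≤ 8 * Nat.card ((Mdl.prod (c111md φ inj) (c11md ψ inj') (nat_lit 160173) pq_lt pq_lt1).gn qg4 2) :=
  schreier (qel4 h0) (by decide) qT0_3 (qtop3 h0) (qle3 h0) qS3
theorem qel3 (h0 : ∀ s < 2, (Mdl.prod (c111md φ inj) (c11md ψ inj') (nat_lit 160173) pq_lt pq_lt1).In ⊤ (qg0 s)) : (Mdl.prod (c111md φ inj) (c11md ψ inj') (nat_lit 160173) pq_lt pq_lt1).El ((Mdl.prod (c111md φ inj) (c11md ψ inj') (nat_lit 160173) pq_lt pq_lt1).gn qg3 2) qe3 := (el_of_pad (qsch3 h0).2.1).cel ((qel4 h0).mono (qle3 h0)) _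
theorem qub3 (h0 : ∀ s < 2, (Mdl.prod (c111md φ inj) (c11md ψ inj') (nat_lit 160173) pq_lt pq_lt1).In ⊤ (qg0 s)) : Nat.card ((Mdl.prod (c111md φ inj) (c11md ψ inj') (nat_lit 160173) pq_lt pq_lt1).gn qg3 2) ≤ 40320 := (upper (qsch3 h0).2.2 (qub4 h0)).trans (by norm_num)
theorem qS2 : ∀ i < 9, (chkS pqmul qg2 (nat_lit 2) qT2 qe3 qc2 (nat_lit 4) (nat_lit 9)) i = 0 :=
  (rng_step (rng_step (all0 _) qS2_0) qS2_1)
theorem qsch2 (h0 : ∀ s < 2, (Mdl.prod (c111md φ inj) (c11md ψ inj') (nat_lit 160173) pq_lt pq_lt1).In ⊤ (qg0 s)) : (∀ g ∈ ((Mdl.prod (c111md φ inj) (c11md ψ inj') (nat_lit 160173) pq_lt pq_lt1).gn qg2 2), ∃ i < 9, (Mdl.prod (c111md φ inj) (c11md ψ inj') (nat_lit 160173) pq_lt pq_lt1).Cos ((Mdl.prod (c111md φ inj) (c11md ψ inj') (nat_lit 160173) pq_lt pq_lt1).gn qg3 2) qT2 g i) ∧ (∀ i < 9, (Mdl.prod (c111md φ inj) (c11md ψ inj') (nat_lit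 160173) pq_lt pq_lt1).In ((Mdl.prod (c111md φ inj) (c11md ψ inj') (nat_lit 160173) pq_lt pq_lt1).gn qg2 2) (qT2 i)) ∧ Nat.card ((Mdl.prod (c111md φ inj) (c11md ψ inj') (nat_lit 160173) pq_lt pq_lt1).gn qg2 2) ≤ 9 * Nat.card ((Mdl.prod (c111md φ inj) (c11md ψ inj') (nat_lit 160173) pq_lt pq_lt1).gn qg3 2) :=
  schreier (qel3 h0) (by decide) qT0_2 (qtop2 h0) (qle2 h0) qS2
theorem qel2 (h0 : ∀ s < 2, (Mdl.prod (c111md φ inj) (c11md ψ inj') (nat_lit 160173) pq_lt pq_lt1).In ⊤ (qg0 s)) : (Mdl.prod (c111md φ inj) (c11md ψ inj') (nat_lit 160173) pq_lt pq_lt1).El ((Mdl.prod (c111md φ inj) (c11md ψ inj') (nat_lit 160173) pq_lt pq_lt1).gn qg2 2) qe2 := (el_of_pad (qsch2 h0).2.1).cel ((qel3 h0).mono (qle2 h0)) _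
theorem qub2 (h0 : ∀ s < 2, (Mdl.prod (c111md φ inj) (c11md ψ inj') (nat_lit 160173) pq_lt pq_lt1).In ⊤ (qg0 s)) : Nat.card ((Mdl.prod (c111md φ inj) (c11md ψ inj') (nat_lit 160173) pq_lt pq_lt1).gn qg2 2) ≤ 362880 := (upper (qsch2 h0).2.2 (qub3 h0)).trans (by norm_num)
theorem qS1 : ∀ i < 10, (chkS pqmul qg1 (nat_lit 2) qT1 qe2 qc1 (nat_lit 4) (nat_lit 10)) i = 0 :=
  (rng_step (rng_step (all0 _) qS1_0) qS1_1)
theorem qsch1 (h0 : ∀ s < 2, (Mdl.prod (c111md φ inj) (c11md ψ inj') (nat_lit 160173) pq_lt pq_lt1).In ⊤ (qg0 s)) : (∀ g ∈ ((Mdl.prod (c111md φ inj) (c11md ψ inj') (nat_lit 160173) pq_lt pq_lt1).gn qg1 2), ∃ i < 10, (Mdl.prod (c111md φ inj) (c11md ψ inj') (nat_lit 160173) pq_lt pq_lt1).Cos ((Mdl.prod (c111md φ inj) (c11md ψ inj') (nat_lit 160173) pq_lt pq_lt1).gn qg2 2) qT1 g i) ∧ (∀ i < 10, (Mdl.prod (c111md φ inj) (c11md ψ inj')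 (nat_lit 160173) pq_lt pq_lt1).In ((Mdl.prod (c111md φ inj) (c11md ψ inj') (nat_lit 160173) pq_lt pq_lt1).gn qg1 2) (qT1 i)) ∧ Nat.card ((Mdl.prod (c111md φ inj) (c11md ψ inj') (nat_lit 160173) pq_lt pq_lt1).gn qg1 2) ≤ 10 * Nat.card ((Mdl.prod (c111md φ inj) (c11md ψ inj') (nat_lit 160173) pq_lt pq_lt1).gn qg2 2) :=
  schreier (qel2 h0) (by decide) qT0_1 (qtop1 h0) (qle1 h0) qS1
theorem qel1 (h0 : ∀ s < 2, (Mdl.prod (c111md φ inj) (c11md ψ inj') (nat_lit 160173) pq_lt pq_lt1).In ⊤ (qg0 s)) : (Mdl.prod (c111md φ inj) (c11md ψ inj') (nat_lit 160173) pq_lt pq_lt1).El ((Mdl.prod (c111md φ inj) (c11md ψ inj') (nat_lit 160173) pq_lt pq_lt1).gn qg1 2) qe1 := (el_of_pad (qsch1 h0).2.1).cel ((qel2 h0).mono (qle1 h0)) _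
theorem qub1 (h0 : ∀ s < 2, (Mdl.prod (c111md φ inj) (c11md ψ inj') (nat_lit 160173) pq_lt pq_lt1).In ⊤ (qg0 s)) : Nat.card ((Mdl.prod (c111md φ inj) (c11md ψ inj') (nat_lit 160173) pq_lt pq_lt1).gn qg1 2) ≤ 3628800 := (upper (qsch1 h0).2.2 (qub2 h0)).trans (by norm_num)
theorem qS0 : ∀ i < 11, (chkS pqmul qg0 (nat_lit 2) qT0 qe1 qc0 (nat_lit 4) (nat_lit 11)) i = 0 :=
  (rng_step (rng_step (rng_step (all0 _) qS0_0) qS0_1) qS0_2)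
theorem qsch0 (h0 : ∀ s < 2, (Mdl.prod (c111md φ inj) (c11md ψ inj') (nat_lit 160173) pq_lt pq_lt1).In ⊤ (qg0 s)) : (∀ g ∈ ((Mdl.prod (c111md φ inj) (c11md ψ inj') (nat_lit 160173) pq_lt pq_lt1).gn qg0 2), ∃ i < 11, (Mdl.prod (c111md φ inj) (c11md ψ inj') (nat_lit 160173) pq_lt pq_lt1).Cos ((Mdl.prod (c111md φ inj) (c11md ψ inj') (nat_lit 160173) pq_lt pq_lt1).gn qg1 2) qT0 g i) ∧ (∀ i < 11, (Mdl.prod (c111md φ inj) (c11md ψ inj') (nat_lit 160173) pq_lt pq_lt1).In ((Mdl.prod (c111md φ inj) (c11md ψ inj') (nat_lit 160173) pq_lt pq_lt1).gn qg0 2) (qT0 i)) ∧ Nat.card ((Mdl.prod (c111md φ inj) (c11md ψ inj') (nat_lit 160173) pq_lt pq_lt1).gn qg0 2) ≤ 11 * Nat.card ((Mdl.prod (c111md φ inj) (c11md ψ inj') (nat_lit 160173) pq_lt pq_lt1).gn qg1 2) :=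
  schreier (qel1 h0) (by decide) qT0_0 (qtop0 h0) (qle0 h0) qS0
theorem qel0 (h0 : ∀ s < 2, (Mdl.prod (c111md φ inj) (c11md ψ inj') (nat_lit 160173) pq_lt pq_lt1).In ⊤ (qg0 s)) : (Mdl.prod (c111md φ inj) (c11md ψ inj') (nat_lit 160173) pq_lt pq_lt1).El ((Mdl.prod (c111md φ inj) (c11md ψ inj') (nat_lit 160173) pq_lt pq_lt1).gn qg0 2) qe0 := (el_of_pad (qsch0 h0).2.1).cel ((qel1 h0).mono (qle0 h0)) _
theorem qub0 (h0 : ∀ s < 2, (Mdl.prod (c111md φ inj) (c11md ψ inj') (nat_lit 160173) pq_lt pq_lt1).In ⊤ (qg0 s)) : Nat.card ((Mdl.prod (c111md φ inj) (c11md ψ inj') (nat_lit 160173) pq_lt pq_lt1).gn qg0 2) ≤ 39916800 := (upper (qsch0 h0).2.2 (qub1 h0)).trans (by norm_num)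
theorem qP : ∀ i < 2, (chkPr (nat_lit 160173) qg0 kg pg0) i = 0 :=
  (rng_step (all0 _) qP_0)
theorem zpE : ∀ i < 1, (chkE zp qe0 [nat_lit 29360128]) i = 0 :=
  (rng_step (all0 _) zpE_0)
theorem zpP : ∀ i < 1, (chkPr (nat_lit 160173) zp zt (fun _ => c11.one)) i = 0 :=
  (rng_step (all0 _) zpP_0)
end
theorem kZ : ∀ i < 2, (chkZ c111.mul (zt 0) kg) i = 0 :=
  (rng_step (all0 _) kZ_0)
theorem kO : ∀ i < 2, (fun s => Nat.xor (pw c111.mul c111.one (kg s) 11) c111.one) i = 0 :=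
  (rng_step (all0 _) kO_0)
theorem zin (h0 : ∀ s < 3, (c111md φ inj).In ⊤ (eg s)) : ∀ s < 2, (c111md φ inj).In ((c111md φ inj).gn eg 3) (zt s) := in_of_chkE (Hel h0) zE
theorem ctop0 (h0 : ∀ s < 3, (c111md φ inj).In ⊤ (cg0 s)) : ∀ s < 3, (c111md φ inj).In ⊤ (cg0 s) := h0
theorem ceg0 (h0 : ∀ s < 3, (c111md φ inj).In ⊤ (cg0 s)) : (c111md φ inj).El ((c111md φ inj).gn cg0 3) cg0 := el_gn_cons (ctop0 h0)
theorem cW0 : ∀ i < 2, (chkW c111.mul c111.one cg0 [[nat_lit 0, nat_lit 1, nat_lit 0, nat_lit 0, nat_lit 1, nat_lit 1, nat_lit 0, nat_lit 1, nat_lit 0, nat_lit 0, nat_lit 1, nat_lit 0, nat_lit 2, nat_lit 2, nat_lit 1, nat_lit 0],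
  [nat_lit 0, nat_lit 0, nat_lit 2, nat_lit 0, nat_lit 0, nat_lit 2, nat_lit 1, nat_lit 1, nat_lit 2, nat_lit 2, nat_lit 1, nat_lit 2, nat_lit 2, nat_lit 1]] cg1) i = 0 :=
  (rng_step (all0 _) cW0_0)
theorem cin1 (h0 : ∀ s < 3, (c111md φ inj).In ⊤ (cg0 s)) : ∀ s < 2, (c111md φ inj).In ((c111md φ inj).gn cg0 3) (cg1 s) := in_of_chkW (ceg0 h0) cW0
theorem ctop1 (h0 : ∀ s < 3, (c111md φ inj).In ⊤ (cg0 s)) : ∀ s < 2, (c111md φ inj).In ⊤ (cg1 s) := fun s hs => (cin1 h0 s hs).top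
theorem cle0 (h0 : ∀ s < 3, (c111md φ inj).In ⊤ (cg0 s)) : ((c111md φ inj).gn cg1 2) ≤ ((c111md φ inj).gn cg0 3) := gn_le (cin1 h0)
theorem ceg1 (h0 : ∀ s < 3, (c111md φ inj).In ⊤ (cg0 s)) : (c111md φ inj).El ((c111md φ inj).gn cg1 2) cg1 := el_gn (ctop1 h0)
theorem cW1 : ∀ i < 2, (chkW c111.mul c111.one cg1 [[nat_lit 1, nat_lit 0, nat_lit 0, nat_lit 0, nat_lit 1, nat_lit 1, nat_lit 1],
  [nat_lit 1, nat_lit 1, nat_lit 1, nat_lit 0, nat_lit 1, nat_lit 0, nat_lit 0, nat_lit 1, nat_lit 1, nat_lit 0]] cg2) i = 0 :=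
  (rng_step (all0 _) cW1_0)
theorem cin2 (h0 : ∀ s < 3, (c111md φ inj).In ⊤ (cg0 s)) : ∀ s < 2, (c111md φ inj).In ((c111md φ inj).gn cg1 2) (cg2 s) := in_of_chkW (ceg1 h0) cW1
theorem ctop2 (h0 : ∀ s < 3, (c111md φ inj).In ⊤ (cg0 s)) : ∀ s < 2, (c111md φ inj).In ⊤ (cg2 s) := fun s hs => (cin2 h0 s hs).top
theorem cle1 (h0 : ∀ s < 3, (c111md φ inj).In ⊤ (cg0 s)) : ((c111md φ inj).gn cg2 2) ≤ ((c111md φ inj).gn cg1 2) := gn_le (cin2 h0)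
theorem ceg2 (h0 : ∀ s < 3, (c111md φ inj).In ⊤ (cg0 s)) : (c111md φ inj).El ((c111md φ inj).gn cg2 2) cg2 := el_gn (ctop2 h0)
theorem cW2 : ∀ i < 2, (chkW c111.mul c111.one cg2 [[nat_lit 0, nat_lit 1, nat_lit 1, nat_lit 0, nat_lit 1, nat_lit 1],
  [nat_lit 1, nat_lit 0, nat_lit 1, nat_lit 0]] cg3) i = 0 :=
  (rng_step (all0 _) cW2_0)
theorem cin3 (h0 : ∀ s < 3, (c111md φ inj).In ⊤ (cg0 s)) : ∀ s < 2, (c111md φ inj).In ((c111md φ inj).gn cg2 2) (cg3 s) := in_of_chkW (ceg2 h0) cW2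
theorem ctop3 (h0 : ∀ s < 3, (c111md φ inj).In ⊤ (cg0 s)) : ∀ s < 2, (c111md φ inj).In ⊤ (cg3 s) := fun s hs => (cin3 h0 s hs).top
theorem cle2 (h0 : ∀ s < 3, (c111md φ inj).In ⊤ (cg0 s)) : ((c111md φ inj).gn cg3 2) ≤ ((c111md φ inj).gn cg2 2) := gn_le (cin3 h0)
theorem ceg3 (h0 : ∀ s < 3, (c111md φ inj).In ⊤ (cg0 s)) : (c111md φ inj).El ((c111md φ inj).gn cg3 2) cg3 := el_gn (ctop3 h0)
theorem cle3 (h0 : ∀ s < 3, (c111md φ inj).In ⊤ (cg0 s)) : (⊥ : Subgroup G) ≤ ((c111md φ inj).gn cg3 2) := bot_le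
theorem clb4 (h0 : ∀ s < 3, (c111md φ inj).In ⊤ (cg0 s)) : 1 ≤ Nat.card (⊥ : Subgroup G) := one_le_card _
theorem cy3Y : ∀ i < 120, (chkY c111b.canV c111b.row cy3 (nat_lit 120)) i = 0 :=
  allB (rngB_step (allB0 _ _) cy3Y_0) (by decide)
theorem cy3D : Dist (fun i => (fun x => (⟨c111b.vec (ZMod 5) 111 x⟩ : Vc φ)) (pt c111b.row cy3 i)) 120 :=
  dist_of_chk (@Cfg.Ok.canT G _ _ _ _ c111b (ZMod.charP 5) c111b_ok rfl rfl φ) cy3Y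
theorem cO3 : ∀ i < 120, (chkO (c111b.imgV cg3) c111b.row cy3 cO3a (nat_lit 120) [nat_lit 13]) i = 0 :=
  allB (rngB_step (allB0 _ _) cO3_0) (by decide)
theorem cR3 (h0 : ∀ s < 3, (c111md φ inj).In ⊤ (cg0 s)) : Reach ((c111md φ inj).gn cg3 2) (fun i => (fun x => (⟨c111b.vec (ZMod 5) 111 x⟩ : Vc φ)) (pt c111b.row cy3 i)) 120 [nat_lit 13] :=
  reach_of_chk (pv := (fun x => (⟨c111b.vec (ZMod 5) 111 x⟩ : Vc φ))) ((@Cfg.Ok.acts G _ _ _ _ c111b (ZMod.charP 5) c111b_ok rfl rfl (c111md φ inj) rfl cg3).ex (ceg3 h0)) cO3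
theorem cfx3 : (⊥ : Subgroup G) ≤ MulAction.stabilizer G ((fun i => (fun x => (⟨c111b.vec (ZMod 5) 111 x⟩ : Vc φ)) (pt c111b.row cy3 i)) (nat_lit 13)) := bot_le
theorem clb3 (h0 : ∀ s < 3, (c111md φ inj).In ⊤ (cg0 s)) : 120 ≤ Nat.card ((c111md φ inj).gn cg3 2) :=
  le_of_eq_of_le (by norm_num) (lower cy3D (cR3 h0) (cle3 h0) cfx3 (clb4 h0))
theorem cy2Y : ∀ i < 25, (chkY c111b.canV c111b.row cy2 (nat_lit 25)) i = 0 :=
  allB (rngB_step (allB0 _ _) cy2Y_0) (by decide)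
theorem cy2D : Dist (fun i => (fun x => (⟨c111b.vec (ZMod 5) 111 x⟩ : Vc φ)) (pt c111b.row cy2 i)) 25 :=
  dist_of_chk (@Cfg.Ok.canT G _ _ _ _ c111b (ZMod.charP 5) c111b_ok rfl rfl φ) cy2Y
theorem cO2 : ∀ i < 25, (chkO (c111b.imgV cg2) c111b.row cy2 cO2a (nat_lit 25) [nat_lit 0]) i = 0 :=
  allB (rngB_step (allB0 _ _) cO2_0) (by decide)
theorem cR2 (h0 : ∀ s < 3, (c111md φ inj).In ⊤ (cg0 s)) : Reach ((c111md φ inj).gn cg2 2) (fun i => (fun x => (⟨c111b.vec (ZMod 5) 111 x⟩ : Vc φ)) (pt c111b.row cy2 i)) 25 [nat_lit 0] :=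
  reach_of_chk (pv := (fun x => (⟨c111b.vec (ZMod 5) 111 x⟩ : Vc φ))) ((@Cfg.Ok.acts G _ _ _ _ c111b (ZMod.charP 5) c111b_ok rfl rfl (c111md φ inj) rfl cg2).ex (ceg2 h0)) cO2
theorem cF2 : ∀ i < 2, (chkF (c111b.imgV cg3) c111b.row cy2 (nat_lit 0) [nat_lit 0, nat_lit 0]) i = 0 :=
  (rng_step (all0 _) cF2_0)
theorem cfx2 : ((c111md φ inj).gn cg3 2) ≤ MulAction.stabilizer G ((fun i => (fun x => (⟨c111b.vec (ZMod 5) 111 x⟩ : Vc φ)) (pt c111b.row cy2 i)) (nat_lit 0)) :=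
  gn_le_stab (@Cfg.Ok.acts G _ _ _ _ c111b (ZMod.charP 5) c111b_ok rfl rfl (c111md φ inj) rfl cg3) cF2
theorem clb2 (h0 : ∀ s < 3, (c111md φ inj).In ⊤ (cg0 s)) : 3000 ≤ Nat.card ((c111md φ inj).gn cg2 2) :=
  le_of_eq_of_le (by norm_num) (lower cy2D (cR2 h0) (cle2 h0) cfx2 (clb3 h0))
theorem cy1Y : ∀ i < 124, (chkY c111b.canV c111b.row cy1 (nat_lit 124)) i = 0 :=
  allB (rngB_step (allB0 _ _) cy1Y_0) (by decide)
theorem cy1D : Dist (fun i => (fun x => (⟨c111b.vec (ZMod 5) 111 x⟩ : Vc φ)) (pt c111b.row cy1 i)) 124 :=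
  dist_of_chk (@Cfg.Ok.canT G _ _ _ _ c111b (ZMod.charP 5) c111b_ok rfl rfl φ) cy1Y
theorem cO1 : ∀ i < 124, (chkO (c111b.imgV cg1) c111b.row cy1 cO1a (nat_lit 124) [nat_lit 5]) i = 0 :=
  allB (rngB_step (allB0 _ _) cO1_0) (by decide)
theorem cR1 (h0 : ∀ s < 3, (c111md φ inj).In ⊤ (cg0 s)) : Reach ((c111md φ inj).gn cg1 2) (fun i => (fun x => (⟨c111b.vec (ZMod 5) 111 x⟩ : Vc φ)) (pt c111b.row cy1 i)) 124 [nat_lit 5] :=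
  reach_of_chk (pv := (fun x => (⟨c111b.vec (ZMod 5) 111 x⟩ : Vc φ))) ((@Cfg.Ok.acts G _ _ _ _ c111b (ZMod.charP 5) c111b_ok rfl rfl (c111md φ inj) rfl cg1).ex (ceg1 h0)) cO1
theorem cF1 : ∀ i < 2, (chkF (c111b.imgV cg2) c111b.row cy1 (nat_lit 5) [nat_lit 0, nat_lit 0]) i = 0 :=
  (rng_step (all0 _) cF1_0)
theorem cfx1 : ((c111md φ inj).gn cg2 2) ≤ MulAction.stabilizer G ((fun i => (fun x => (⟨c111b.vec (ZMod 5) 111 x⟩ : Vc φ)) (pt c111b.row cy1 i)) (nat_lit 5)) :=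
  gn_le_stab (@Cfg.Ok.acts G _ _ _ _ c111b (ZMod.charP 5) c111b_ok rfl rfl (c111md φ inj) rfl cg2) cF1
theorem clb1 (h0 : ∀ s < 3, (c111md φ inj).In ⊤ (cg0 s)) : 372000 ≤ Nat.card ((c111md φ inj).gn cg1 2) :=
  le_of_eq_of_le (by norm_num) (lower cy1D (cR1 h0) (cle1 h0) cfx1 (clb2 h0))
theorem cy0Y : ∀ i < 15750, (chkY c111b.canV c111b.row cy0 (nat_lit 15750)) i = 0 :=
  allB (rngB_step (rngB_step (rngB_step (rngB_step (rngB_step (rngB_step (rngB_step (rngB_step (rngB_step (rngB_step (rngB_step (rngB_step (rngB_step (rngB_step (rngB_step (rngB_step (allB0 _ _) cy0Y_0) cy0Y_1) cy0Y_2) cy0Y_3) cy0Y_4) cy0Y_5) cy0Y_6) cy0Y_7) cy0Y_8) cy0Y_9) cy0Y_10) cy0Y_11) cy0Y_12) cy0Y_13) cy0Y_14) cy0Y_15) (by decide)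
theorem cy0D : Dist (fun i => (fun x => (⟨c111b.vec (ZMod 5) 111 x⟩ : Vc φ)) (pt c111b.row cy0 i)) 15750 :=
  dist_of_chk (@Cfg.Ok.canT G _ _ _ _ c111b (ZMod.charP 5) c111b_ok rfl rfl φ) cy0Y
theorem cO0 : ∀ i < 15750, (chkO (c111b.imgV cg0) c111b.row cy0 cO0a (nat_lit 15750) [nat_lit 8499]) i = 0 :=
  allB (rngB_step (rngB_step (rngB_step (rngB_step (rngB_step (rngB_step (rngB_step (rngB_step (rngB_step (rngB_step (rngB_step (rngB_step (rngB_step (rngB_step (rngB_step (rngB_step (allB0 _ _) cO0_0) cO0_1) cO0_2) cO0_3) cO0_4) cO0_5) cO0_6) cO0_7) cO0_8) cO0_9) cO0_10) cO0_11) cO0_12) cO0_13) cO0_14) cO0_15) (by decide)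
theorem cR0 (h0 : ∀ s < 3, (c111md φ inj).In ⊤ (cg0 s)) : Reach ((c111md φ inj).gn cg0 3) (fun i => (fun x => (⟨c111b.vec (ZMod 5) 111 x⟩ : Vc φ)) (pt c111b.row cy0 i)) 15750 [nat_lit 8499] :=
  reach_of_chk (pv := (fun x => (⟨c111b.vec (ZMod 5) 111 x⟩ : Vc φ))) ((@Cfg.Ok.acts G _ _ _ _ c111b (ZMod.charP 5) c111b_ok rfl rfl (c111md φ inj) rfl cg0).ex (ceg0 h0)) cO0
theorem cF0 : ∀ i < 2, (chkF (c111b.imgV cg1) c111b.row cy0 (nat_lit 8499) [nat_lit 0, nat_lit 0]) i = 0 :=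
  (rng_step (all0 _) cF0_0)
theorem cfx0 : ((c111md φ inj).gn cg1 2) ≤ MulAction.stabilizer G ((fun i => (fun x => (⟨c111b.vec (ZMod 5) 111 x⟩ : Vc φ)) (pt c111b.row cy0 i)) (nat_lit 8499)) :=
  gn_le_stab (@Cfg.Ok.acts G _ _ _ _ c111b (ZMod.charP 5) c111b_ok rfl rfl (c111md φ inj) rfl cg1) cF0
theorem clb0 (h0 : ∀ s < 3, (c111md φ inj).In ⊤ (cg0 s)) : 5859000000 ≤ Nat.card ((c111md φ inj).gn cg0 3) :=
  le_of_eq_of_le (by norm_num) (lower cy0D (cR0 h0) (cle0 h0) cfx0 (clb1 h0))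
theorem cex0 (h0 : ∀ s < 3, (c111md φ inj).In ⊤ (eg s)) : MulAction.orbit ((c111md φ inj).gn cg0 3) ((fun i => (fun x => (⟨c111b.vec (ZMod 5) 111 x⟩ : Vc φ)) (pt c111b.row cy0 i)) (nat_lit 8499)) = (fun i => (fun x => (⟨c111b.vec (ZMod 5) 111 x⟩ : Vc φ)) (pt c111b.row cy0 i)) '' {i | i < 15750} ∧ ((c111md φ inj).gn cg0 3) ⊓ MulAction.stabilizer G ((fun i => (fun x => (⟨c111b.vec (ZMod 5) 111 x⟩ : Vc φ)) (pt c111b.row cy0 i)) (nat_lit 8499)) = ((c111md φ inj).gn cg1 2) ∧ Nat.card ((c111md φ inj).gn cg0 3) = 15750 * 372000 ∧ Nat.card ((c111md φ inj).gn cg1 2) = 372000 :=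
  exact cy0D (cR0 h0) (cle0 h0) cfx0 (clb1 h0) ((Hub h0).trans (by norm_num))
theorem cex1 (h0 : ∀ s < 3, (c111md φ inj).In ⊤ (eg s)) : MulAction.orbit ((c111md φ inj).gn cg1 2) ((fun i => (fun x => (⟨c111b.vec (ZMod 5) 111 x⟩ : Vc φ)) (pt c111b.row cy1 i)) (nat_lit 5)) = (fun i => (fun x => (⟨c111b.vec (ZMod 5) 111 x⟩ : Vc φ)) (pt c111b.row cy1 i)) '' {i | i < 124} ∧ ((c111md φ inj).gn cg1 2) ⊓ MulAction.stabilizer G ((fun i => (fun x => (⟨c111b.vec (ZMod 5) 111 x⟩ : Vc φ)) (pt c111b.row cy1 i)) (nat_lit 5)) = ((c111md φ inj).gn cg2 2) ∧ Nat.card ((c111md φ inj).gn cg1 2) = 124 * 3000 ∧ Nat.card ((c111md φ inj).gn cg2 2) = 3000 :=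
  exact cy1D (cR1 h0) (cle1 h0) cfx1 (clb2 h0) (((cex0 h0).2.2.2.le).trans (by norm_num))
theorem cex2 (h0 : ∀ s < 3, (c111md φ inj).In ⊤ (eg s)) : MulAction.orbit ((c111md φ inj).gn cg2 2) ((fun i => (fun x => (⟨c111b.vec (ZMod 5) 111 x⟩ : Vc φ)) (pt c111b.row cy2 i)) (nat_lit 0)) = (fun i => (fun x => (⟨c111b.vec (ZMod 5) 111 x⟩ : Vc φ)) (pt c111b.row cy2 i)) '' {i | i < 25} ∧ ((c111md φ inj).gn cg2 2) ⊓ MulAction.stabilizer G ((fun i => (fun x => (⟨c111b.vec (ZMod 5) 111 x⟩ : Vc φ)) (pt c111b.row cy2 i)) (nat_lit 0)) = ((c111md φ inj).gn cg3 2) ∧ Nat.card ((c111md φ inj).gn cg2 2) = 25 * 120 ∧ Nat.card ((c111md φ inj).gn cg3 2) = 120 :=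
  exact cy2D (cR2 h0) (cle2 h0) cfx2 (clb3 h0) (((cex1 h0).2.2.2.le).trans (by norm_num))
theorem cex3 (h0 : ∀ s < 3, (c111md φ inj).In ⊤ (eg s)) : MulAction.orbit ((c111md φ inj).gn cg3 2) ((fun i => (fun x => (⟨c111b.vec (ZMod 5) 111 x⟩ : Vc φ)) (pt c111b.row cy3 i)) (nat_lit 13)) = (fun i => (fun x => (⟨c111b.vec (ZMod 5) 111 x⟩ : Vc φ)) (pt c111b.row cy3 i)) '' {i | i < 120} ∧ ((c111md φ inj).gn cg3 2) ⊓ MulAction.stabilizer G ((fun i => (fun x => (⟨c111b.vec (ZMod 5) 111 x⟩ : Vc φ)) (pt c111b.row cy3 i)) (nat_lit 13)) = (⊥ : Subgroup G) ∧ Nat.card ((c111md φ inj).gn cg3 2) = 120 * 1 ∧ Nat.card (⊥ : Subgroup G) = 1 :=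
  exact cy3D (cR3 h0) (cle3 h0) cfx3 (clb4 h0) (((cex2 h0).2.2.2.le).trans (by norm_num))
theorem i0E : ∀ i < 2, (chkE i0 ee [nat_lit 2462167900994, nat_lit 10367456895199]) i = 0 :=
  (rng_step (all0 _) i0E_0)
theorem i1E : ∀ i < 2, (chkE i1 ee [nat_lit 5912987771435, nat_lit 11259480916378]) i = 0 :=
  (rng_step (all0 _) i1E_0)
theorem i0K : ∀ i < 2, (chkE i0 kE [nat_lit 233874274, nat_lit 107827751]) i = 0 :=
  (rng_step (all0 _) i0K_0)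
theorem i1K : ∀ i < 2, (chkE i1 kE [nat_lit 113550178, nat_lit 2738308]) i = 0 :=
  (rng_step (all0 _) i1K_0)
theorem i1F : ∀ i < 2, (chkF (c111b.imgV i1) c111b.row cy0 (nat_lit 8499) [nat_lit 0, nat_lit 0]) i = 0 :=
  (rng_step (all0 _) i1F_0)
theorem c3K : ∀ i < 2, (chkE cg3 kE [nat_lit 19406848, nat_lit 151666688]) i = 0 :=
  (rng_step (all0 _) c3K_0)
theorem j0O : ∀ i < 30, (chkO (c111b.imgV i0) c111b.row j0p j0Oa (nat_lit 30) [nat_lit 15]) i = 0 :=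
  allB (rngB_step (allB0 _ _) j0O_0) (by decide)
theorem j0X : ∀ i < 15750, (chkX (c111b.imgV zt) c111b.row cy0 j0a (nat_lit 15750) (nat_lit 0) j0p (nat_lit 30)) i = 0 :=
  allB (rngB_step (rngB_step (rngB_step (rngB_step (rngB_step (rngB_step (rngB_step (rngB_step (rngB_step (rngB_step (rngB_step (rngB_step (rngB_step (rngB_step (rngB_step (rngB_step (allB0 _ _) j0X_0) j0X_1) j0X_2) j0X_3) j0X_4) j0X_5) j0X_6) j0X_7) j0X_8) j0X_9) j0X_10) j0X_11) j0X_12) j0X_13) j0X_14) j0X_15) (by decide)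
theorem j0cent (h0 : ∀ s < 3, (c111md φ inj).In ⊤ (eg s)) (hk : (c111md φ inj).El ((c111md φ inj).gn kg 2) kE) (hc : ((c111md φ inj).gn kg 2) ≤ Subgroup.centralizer {(c111md φ inj).elt (zt (nat_lit 0))}) (h : ((c111md φ inj).gn cg1 2) ⊓ (Subgroup.centralizer {(c111md φ inj).elt (zt (nat_lit 0))}) ≤ ((c111md φ inj).gn kg 2)) : ((c111md φ inj).gn cg0 3) ⊓ (Subgroup.centralizer {(c111md φ inj).elt (zt (nat_lit 0))}) ≤ ((c111md φ inj).gn kg 2) :=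
  cent_step' (F := (fun i => (fun x => (⟨c111b.vec (ZMod 5) 111 x⟩ : Vc φ)) (pt c111b.row j0p i))) (congrArg (fun x => (⟨c111b.vec (ZMod 5) 111 x⟩ : Vc φ)) j0cp) (cex0 h0).1 (cex0 h0).2.1
    (smul_of_chkM (pv := (fun x => (⟨c111b.vec (ZMod 5) 111 x⟩ : Vc φ))) (@Cfg.Ok.acts G _ _ _ _ c111b (ZMod.charP 5) c111b_ok rfl rfl (c111md φ inj) rfl j0z) (zin h0 0 (by decide)).elt j0M :) (hc)
    (fix_of_chkX (pv := (fun x => (⟨c111b.vec (ZMod 5) 111 x⟩ : Vc φ))) ((@Cfg.Ok.acts G _ _ _ _ c111b (ZMod.charP 5) c111b_ok rfl rfl (c111md φ inj) rfl zt) _ _ (zin h0 0 (by decide)).elt) cy0D j0X)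
    (reach_of_chk (pv := (fun x => (⟨c111b.vec (ZMod 5) 111 x⟩ : Vc φ))) ((@Cfg.Ok.acts G _ _ _ _ c111b (ZMod.charP 5) c111b_ok rfl rfl (c111md φ inj) rfl i0).ex (el_of_pad fun s hs => in_inf (in_of_chkE hk i0K s hs) (in_of_chkE (Hel h0) i0E s hs))) j0O) h
theorem j1O : ∀ i < 4, (chkO (c111b.imgV i1) c111b.row j1p j1Oa (nat_lit 4) [nat_lit 0]) i = 0 :=
  allB (rngB_step (allB0 _ _) j1O_0) (by decide)
theorem j1X : ∀ i < 124, (chkX (c111b.imgV zt) c111b.row cy1 j1a (nat_lit 124) (nat_lit 0) j1p (nat_lit 4)) i = 0 :=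
  allB (rngB_step (allB0 _ _) j1X_0) (by decide)
theorem j1cent (h0 : ∀ s < 3, (c111md φ inj).In ⊤ (eg s)) (hk : (c111md φ inj).El ((c111md φ inj).gn kg 2) kE) (hc : ((c111md φ inj).gn kg 2) ≤ Subgroup.centralizer {(c111md φ inj).elt (zt (nat_lit 0))}) (h : ((c111md φ inj).gn cg2 2) ⊓ (Subgroup.centralizer {(c111md φ inj).elt (zt (nat_lit 0))}) ≤ ((c111md φ inj).gn kg 2)) : ((c111md φ inj).gn cg1 2) ⊓ (Subgroup.centralizer {(c111md φ inj).elt (zt (nat_lit 0))}) ≤ ((c111md φ inj).gn kg 2) :=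
  cent_step' (F := (fun i => (fun x => (⟨c111b.vec (ZMod 5) 111 x⟩ : Vc φ)) (pt c111b.row j1p i))) (congrArg (fun x => (⟨c111b.vec (ZMod 5) 111 x⟩ : Vc φ)) j1cp) (cex1 h0).1 (cex1 h0).2.1
    (smul_of_chkM (pv := (fun x => (⟨c111b.vec (ZMod 5) 111 x⟩ : Vc φ))) (@Cfg.Ok.acts G _ _ _ _ c111b (ZMod.charP 5) c111b_ok rfl rfl (c111md φ inj) rfl j1z) (zin h0 0 (by decide)).elt j1M :) (hc)
    (fix_of_chkX (pv := (fun x => (⟨c111b.vec (ZMod 5) 111 x⟩ : Vc φ))) ((@Cfg.Ok.acts G _ _ _ _ c111b (ZMod.charP 5) c111b_ok rfl rfl (c111md φ inj) rfl zt) _ _ (zin h0 0 (by decide)).elt) cy1D j1X)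
    (reach_of_chk (pv := (fun x => (⟨c111b.vec (ZMod 5) 111 x⟩ : Vc φ))) ((@Cfg.Ok.acts G _ _ _ _ c111b (ZMod.charP 5) c111b_ok rfl rfl (c111md φ inj) rfl i1).ex (el_of_pad fun s hs => in_inf (in_of_chkE hk i1K s hs) ((in_inf (in_of_chkE (Hel h0) i1E s hs)
      ((in_gn (fun s hs => (in_of_chkE hk i1K s hs).top) s hs).mono (gn_le_stab (@Cfg.Ok.acts G _ _ _ _ c111b (ZMod.charP 5) c111b_ok rfl rfl (c111md φ inj) rfl i1) i1F))).mono (cex0 h0).2.1.le))) j1O) h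
theorem j2O : ∀ i < 1, (chkO (c111b.imgV (fun _ => c111.one)) c111b.row j2p j2Oa (nat_lit 1) [nat_lit 0]) i = 0 :=
  allB (rngB_step (allB0 _ _) j2O_0) (by decide)
theorem j2X : ∀ i < 25, (chkX (c111b.imgV zt) c111b.row cy2 j2a (nat_lit 25) (nat_lit 0) j2p (nat_lit 1)) i = 0 :=
  allB (rngB_step (allB0 _ _) j2X_0) (by decide)
theorem j2cent (h0 : ∀ s < 3, (c111md φ inj).In ⊤ (eg s)) (hk : (c111md φ inj).El ((c111md φ inj).gn kg 2) kE) (hc : ((c111md φ inj).gn kg 2) ≤ Subgroup.centralizer {(c111md φ inj).elt (zt (nat_lit 0))}) (h : ((c111md φ inj).gn cg3 2) ⊓ (Subgroup.centralizer {(c111md φ inj).elt (zt (nat_lit 0))}) ≤ ((c111md φ inj).gn kg 2)) : ((c111md φ inj).gn cg2 2) ⊓ (Subgroup.centralizer {(c111md φ inj).elt (zt (nat_lit 0))}) ≤ ((c111md φ inj).gn kg 2) :=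
  cent_step' (F := (fun i => (fun x => (⟨c111b.vec (ZMod 5) 111 x⟩ : Vc φ)) (pt c111b.row j2p i))) (congrArg (fun x => (⟨c111b.vec (ZMod 5) 111 x⟩ : Vc φ)) j2cp) (cex2 h0).1 (cex2 h0).2.1
    (smul_of_chkM (pv := (fun x => (⟨c111b.vec (ZMod 5) 111 x⟩ : Vc φ))) (@Cfg.Ok.acts G _ _ _ _ c111b (ZMod.charP 5) c111b_ok rfl rfl (c111md φ inj) rfl j2z) (zin h0 0 (by decide)).elt j2M :) (hc)
    (fix_of_chkX (pv := (fun x => (⟨c111b.vec (ZMod 5) 111 x⟩ : Vc φ))) ((@Cfg.Ok.acts G _ _ _ _ c111b (ZMod.charP 5) c111b_ok rfl rfl (c111md φ inj) rfl zt) _ _ (zin h0 0 (by decide)).elt) cy2D j2X)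
    (reach_of_chk (pv := (fun x => (⟨c111b.vec (ZMod 5) 111 x⟩ : Vc φ))) ((@Cfg.Ok.acts G _ _ _ _ c111b (ZMod.charP 5) c111b_ok rfl rfl (c111md φ inj) rfl (fun _ => c111.one)).ex (el_one _)) j2O) h
theorem centS (h0 : ∀ s < 3, (c111md φ inj).In ⊤ (eg s)) (hk : (c111md φ inj).El ((c111md φ inj).gn kg 2) kE) (hc : ((c111md φ inj).gn kg 2) ≤ Subgroup.centralizer {(c111md φ inj).elt (zt (nat_lit 0))}) : ((c111md φ inj).gn eg 3) ⊓ Subgroup.centralizer {(c111md φ inj).elt (zt (nat_lit 0))} ≤ ((c111md φ inj).gn kg 2) :=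
  j0cent h0 hk hc (j1cent h0 hk hc (j2cent h0 hk hc (inf_le_left.trans (gn_le (in_of_chkE hk c3K)))))
theorem uE : ∀ i < 3, (chkE ug ee [nat_lit 2564375880499, nat_lit 4785251332506, nat_lit 2907838812339]) i = 0 :=
  (rng_step (all0 _) uE_0)
theorem uin (h0 : ∀ s < 3, (c111md φ inj).In ⊤ (eg s)) : ∀ s < 3, (c111md φ inj).In ((c111md φ inj).gn eg 3) (ug s) := in_of_chkE (Hel h0) uE
theorem utop (h0 : ∀ s < 3, (c111md φ inj).In ⊤ (eg s)) : ∀ s < 3, (c111md φ inj).In ⊤ (ug s) := fun s hs => (uin h0 s hs).top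
theorem uyY : ∀ i < 2, (chkY c111b.canV c111b.row uy (nat_lit 2)) i = 0 :=
  allB (rngB_step (allB0 _ _) uyY_0) (by decide)
theorem uyD : Dist (fun i => (fun x => (⟨c111b.vec (ZMod 5) 111 x⟩ : Vc φ)) (pt c111b.row uy i)) 2 :=
  dist_of_chk (@Cfg.Ok.canT G _ _ _ _ c111b (ZMod.charP 5) c111b_ok rfl rfl φ) uyY
theorem uO : ∀ i < 2, (chkO (c111b.imgV ug) c111b.row uy uOa (nat_lit 2) [nat_lit 0]) i = 0 :=
  allB (rngB_step (allB0 _ _) uO_0) (by decide)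
theorem uF : ∀ i < 2, (chkF (c111b.imgV sg0) c111b.row uy (nat_lit 0) [nat_lit 0, nat_lit 0]) i = 0 :=
  (rng_step (all0 _) uF_0)
theorem uR (h0 : ∀ s < 3, (c111md φ inj).In ⊤ (eg s)) : Reach ((c111md φ inj).gn ug 3) (fun i => (fun x => (⟨c111b.vec (ZMod 5) 111 x⟩ : Vc φ)) (pt c111b.row uy i)) 2 [nat_lit 0] :=
  reach_of_chk (pv := (fun x => (⟨c111b.vec (ZMod 5) 111 x⟩ : Vc φ))) ((@Cfg.Ok.acts G _ _ _ _ c111b (ZMod.charP 5) c111b_ok rfl rfl (c111md φ inj) rfl ug).ex (el_gn_cons (utop h0))) uO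
theorem ufx : ((c111md φ inj).gn sg0 2) ≤ MulAction.stabilizer G ((fun i => (fun x => (⟨c111b.vec (ZMod 5) 111 x⟩ : Vc φ)) (pt c111b.row uy i)) (nat_lit 0)) :=
  gn_le_stab (@Cfg.Ok.acts G _ _ _ _ c111b (ZMod.charP 5) c111b_ok rfl rfl (c111md φ inj) rfl sg0) uF
theorem ulb (h0 : ∀ s < 3, (c111md φ inj).In ⊤ (eg s)) : 756000 ≤ Nat.card ((c111md φ inj).gn ug 3) :=
  le_of_eq_of_le (by norm_num) (lower uyD (uR h0) (le_gn_cons _ _ _) ufx (slb0 (top_cons (utop h0))))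
theorem vyY : ∀ i < 7750, (chkY c111b.canL c111b.row vy (nat_lit 7750)) i = 0 :=
  allB (rngB_step (rngB_step (rngB_step (rngB_step (rngB_step (rngB_step (rngB_step (rngB_step (allB0 _ _) vyY_0) vyY_1) vyY_2) vyY_3) vyY_4) vyY_5) vyY_6) vyY_7) (by decide)
theorem vyD : Dist (fun i => (fun x => ln φ (c111b.vec (ZMod 5) 111 x)) (pt c111b.row vy i)) 7750 :=
  dist_of_chk (Cfg.Ok.canTL c111b_ok rfl rfl φ) vyY
theorem vO : ∀ i < 7750, (chkO (c111b.imgL eg) c111b.row vy vOa (nat_lit 7750) [nat_lit 5659]) i = 0 :=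
  allB (rngB_step (rngB_step (rngB_step (rngB_step (rngB_step (rngB_step (rngB_step (rngB_step (allB0 _ _) vO_0) vO_1) vO_2) vO_3) vO_4) vO_5) vO_6) vO_7) (by decide)
theorem vF : ∀ i < 3, (chkF (c111b.imgL ug) c111b.row vy (nat_lit 5659) [nat_lit 3, nat_lit 0, nat_lit 0]) i = 0 :=
  (rng_step (all0 _) vF_0)
theorem vR (h0 : ∀ s < 3, (c111md φ inj).In ⊤ (eg s)) : Reach ((c111md φ inj).gn eg 3) (fun i => (fun x => ln φ (c111b.vec (ZMod 5) 111 x)) (pt c111b.row vy i)) 7750 [nat_lit 5659] :=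
  reach_of_chk (pv := (fun x => ln φ (c111b.vec (ZMod 5) 111 x))) ((Cfg.Ok.actsL c111b_ok (m := (c111md φ inj)) rfl rfl rfl eg).ex (el_gn_cons h0)) vO
theorem vfx : ((c111md φ inj).gn ug 3) ≤ MulAction.stabilizer G ((fun i => (fun x => ln φ (c111b.vec (ZMod 5) 111 x)) (pt c111b.row vy i)) (nat_lit 5659)) :=
  gn_le_stab (Cfg.Ok.actsL c111b_ok (m := (c111md φ inj)) rfl rfl rfl ug) vF
theorem vlb (h0 : ∀ s < 3, (c111md φ inj).In ⊤ (eg s)) : 5859000000 ≤ Nat.card ((c111md φ inj).gn eg 3) :=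
  le_of_eq_of_le (by norm_num) (lower vyD (vR h0) (gn_le (uin h0)) vfx (ulb h0))
theorem vex (h0 : ∀ s < 3, (c111md φ inj).In ⊤ (eg s)) : MulAction.orbit ((c111md φ inj).gn eg 3) ((fun i => (fun x => ln φ (c111b.vec (ZMod 5) 111 x)) (pt c111b.row vy i)) (nat_lit 5659)) = (fun i => (fun x => ln φ (c111b.vec (ZMod 5) 111 x)) (pt c111b.row vy i)) '' {i | i < 7750} ∧ ((c111md φ inj).gn eg 3) ⊓ MulAction.stabilizer G ((fun i => (fun x => ln φ (c111b.vec (ZMod 5) 111 x)) (pt c111b.row vy i)) (nat_lit 5659)) = ((c111md φ inj).gn ug 3) ∧ Nat.card ((c111md φ inj).gn eg 3) = 7750 * 756000 ∧ Nat.card ((c111md φ inj).gn ug 3) = 756000 :=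
  exact vyD (vR h0) (gn_le (uin h0)) vfx (ulb h0) ((Hub h0).trans (by norm_num))
theorem uS : ∀ i < 2, (chkS c111.mul ug (nat_lit 3) ut se0 uc (nat_lit 1) (nat_lit 2)) i = 0 :=
  (rng_step (all0 _) uS_0)
theorem uN : ∀ i < 2, (Mdl.chkN c111.mul (zt (nat_lit 1)) ut) i = 0 :=
  (rng_step (all0 _) uN_0)
theorem k0O : ∀ i < 1, (chkO (c111b.imgL (fun _ => c111.one)) c111b.row k0p k0Oa (nat_lit 1) [nat_lit 0]) i = 0 :=
  allB (rngB_step (allB0 _ _) k0O_0) (by decide)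
theorem k0X : ∀ i < 7750, (chkX (c111b.imgL zt) c111b.row vy k0a (nat_lit 7750) (nat_lit 1) k0p (nat_lit 1)) i = 0 :=
  allB (rngB_step (rngB_step (rngB_step (rngB_step (rngB_step (rngB_step (rngB_step (rngB_step (allB0 _ _) k0X_0) k0X_1) k0X_2) k0X_3) k0X_4) k0X_5) k0X_6) k0X_7) (by decide)
theorem k0cent (h0 : ∀ s < 3, (c111md φ inj).In ⊤ (eg s)) (hc : ((c111md φ inj).gn fg 3) ≤ Subgroup.centralizer {(c111md φ inj).elt (zt (nat_lit 1))}) (h : ((c111md φ inj).gn ug 3) ⊓ (Subgroup.centralizer {(c111md φ inj).elt (zt (nat_lit 1))}) ≤ ((c111md φ inj).gn fg 3)) : ((c111md φ inj).gn eg 3) ⊓ (Subgroup.centralizer {(c111md φ inj).elt (zt (nat_lit 1))}) ≤ ((c111md φ inj).gn fg 3) :=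
  cent_step' (F := (fun i => (fun x => ln φ (c111b.vec (ZMod 5) 111 x)) (pt c111b.row k0p i))) (congrArg (fun x => ln φ (c111b.vec (ZMod 5) 111 x)) k0cp) (vex h0).1 (vex h0).2.1
    (smul_of_chkM (pv := (fun x => ln φ (c111b.vec (ZMod 5) 111 x))) (Cfg.Ok.actsL c111b_ok (m := (c111md φ inj)) rfl rfl rfl k0z) (zin h0 1 (by decide)).elt k0M :) (hc)
    (fix_of_chkX (pv := (fun x => ln φ (c111b.vec (ZMod 5) 111 x))) ((Cfg.Ok.actsL c111b_ok (m := (c111md φ inj)) rfl rfl rfl zt) _ _ (zin h0 1 (by decide)).elt) vyD k0X)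
    (reach_of_chk (pv := (fun x => ln φ (c111b.vec (ZMod 5) 111 x))) ((Cfg.Ok.actsL c111b_ok (m := (c111md φ inj)) rfl rfl rfl (fun _ => c111.one)).ex (el_one _)) k0O) h
theorem centX (h0 : ∀ s < 3, (c111md φ inj).In ⊤ (eg s)) (hc : ((c111md φ inj).gn fg 3) ≤ Subgroup.centralizer {(c111md φ inj).elt (zt (nat_lit 1))}) : ((c111md φ inj).gn eg 3) ⊓ Subgroup.centralizer {(c111md φ inj).elt (zt (nat_lit 1))} ≤ ((c111md φ inj).gn fg 3) :=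
  k0cent h0 hc (cent_cos (m := (c111md φ inj)) (@Cfg.Ok.canon G _ c111 c111_ok _ _ (ZMod.charP 5) _ rfl rfl φ inj) (zin h0 1 (by decide)).top fle hc ut0
    (schreier (sel0 (top_cons (utop h0))) (by decide) ut0 (utop h0) (le_gn_cons _ _ _) uS).1 uN)
theorem atop0 (h0 : ∀ s < 3, (c111md φ inj).In ⊤ (ag0 s)) : ∀ s < 3, (c111md φ inj).In ⊤ (ag0 s) := h0
theorem aeg0 (h0 : ∀ s < 3, (c111md φ inj).In ⊤ (ag0 s)) : (c111md φ inj).El ((c111md φ inj).gn ag0 3) ag0 := el_gn_cons (atop0 h0)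
theorem aW0 : ∀ i < 3, (chkW c111.mul c111.one ag0 [[nat_lit 1, nat_lit 2, nat_lit 2, nat_lit 2, nat_lit 0, nat_lit 1, nat_lit 0, nat_lit 1, nat_lit 0, nat_lit 2, nat_lit 1],
  [nat_lit 2, nat_lit 1, nat_lit 2, nat_lit 1, nat_lit 2, nat_lit 2, nat_lit 1, nat_lit 0, nat_lit 1, nat_lit 1],
  [nat_lit 0, nat_lit 0]] ag1) i = 0 :=
  (rng_step (all0 _) aW0_0)
theorem ain1 (h0 : ∀ s < 3, (c111md φ inj).In ⊤ (ag0 s)) : ∀ s < 3, (c111md φ inj).In ((c111md φ inj).gn ag0 3) (ag1 s) := in_of_chkW (aeg0 h0) aW0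
theorem atop1 (h0 : ∀ s < 3, (c111md φ inj).In ⊤ (ag0 s)) : ∀ s < 3, (c111md φ inj).In ⊤ (ag1 s) := fun s hs => (ain1 h0 s hs).top
theorem ale0 (h0 : ∀ s < 3, (c111md φ inj).In ⊤ (ag0 s)) : ((c111md φ inj).gn ag1 3) ≤ ((c111md φ inj).gn ag0 3) := gn_le (ain1 h0)
theorem aeg1 (h0 : ∀ s < 3, (c111md φ inj).In ⊤ (ag0 s)) : (c111md φ inj).El ((c111md φ inj).gn ag1 3) ag1 := el_gn (atop1 h0)
theorem aW1 : ∀ i < 3, (chkW c111.mul c111.one ag1 [[nat_lit 1, nat_lit 1, nat_lit 0, nat_lit 1, nat_lit 2, nat_lit 2, nat_lit 1, nat_lit 0],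
  [nat_lit 0, nat_lit 1, nat_lit 2, nat_lit 1, nat_lit 2, nat_lit 2, nat_lit 2, nat_lit 0, nat_lit 2, nat_lit 1, nat_lit 1, nat_lit 0],
  [nat_lit 1, nat_lit 1, nat_lit 0, nat_lit 1, nat_lit 0, nat_lit 1, nat_lit 2, nat_lit 0, nat_lit 0]] ag2) i = 0 :=
  (rng_step (all0 _) aW1_0)
theorem ain2 (h0 : ∀ s < 3, (c111md φ inj).In ⊤ (ag0 s)) : ∀ s < 3, (c111md φ inj).In ((c111md φ inj).gn ag1 3) (ag2 s) := in_of_chkW (aeg1 h0) aW1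
theorem atop2 (h0 : ∀ s < 3, (c111md φ inj).In ⊤ (ag0 s)) : ∀ s < 3, (c111md φ inj).In ⊤ (ag2 s) := fun s hs => (ain2 h0 s hs).top
theorem ale1 (h0 : ∀ s < 3, (c111md φ inj).In ⊤ (ag0 s)) : ((c111md φ inj).gn ag2 3) ≤ ((c111md φ inj).gn ag1 3) := gn_le (ain2 h0)
theorem aeg2 (h0 : ∀ s < 3, (c111md φ inj).In ⊤ (ag0 s)) : (c111md φ inj).El ((c111md φ inj).gn ag2 3) ag2 := el_gn (atop2 h0)
theorem aW2 : ∀ i < 2, (chkW c111.mul c111.one ag2 [[nat_lit 0, nat_lit 2, nat_lit 0, nat_lit 0, nat_lit 1, nat_lit 0, nat_lit 1, nat_lit 2, nat_lit 0, nat_lit 1, nat_lit 2],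
  [nat_lit 0, nat_lit 0, nat_lit 0, nat_lit 2, nat_lit 0, nat_lit 0, nat_lit 0, nat_lit 2]] ag3) i = 0 :=
  (rng_step (all0 _) aW2_0)
theorem ain3 (h0 : ∀ s < 3, (c111md φ inj).In ⊤ (ag0 s)) : ∀ s < 2, (c111md φ inj).In ((c111md φ inj).gn ag2 3) (ag3 s) := in_of_chkW (aeg2 h0) aW2
theorem atop3 (h0 : ∀ s < 3, (c111md φ inj).In ⊤ (ag0 s)) : ∀ s < 2, (c111md φ inj).In ⊤ (ag3 s) := fun s hs => (ain3 h0 s hs).top
theorem ale2 (h0 : ∀ s < 3, (c111md φ inj).In ⊤ (ag0 s)) : ((c111md φ inj).gn ag3 2) ≤ ((c111md φ inj).gn ag2 3) := gn_le (ain3 h0)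
theorem aeg3 (h0 : ∀ s < 3, (c111md φ inj).In ⊤ (ag0 s)) : (c111md φ inj).El ((c111md φ inj).gn ag3 2) ag3 := el_gn (atop3 h0)
theorem ale3 (h0 : ∀ s < 3, (c111md φ inj).In ⊤ (ag0 s)) : (⊥ : Subgroup G) ≤ ((c111md φ inj).gn ag3 2) := bot_le
theorem alb4 (h0 : ∀ s < 3, (c111md φ inj).In ⊤ (ag0 s)) : 1 ≤ Nat.card (⊥ : Subgroup G) := one_le_card _
theorem ay3Y : ∀ i < 4, (chkY c111b.canL c111b.row ay3 (nat_lit 4)) i = 0 :=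
  allB (rngB_step (allB0 _ _) ay3Y_0) (by decide)
theorem ay3D : Dist (fun i => (fun x => ln φ (c111b.vec (ZMod 5) 111 x)) (pt c111b.row ay3 i)) 4 :=
  dist_of_chk (Cfg.Ok.canTL c111b_ok rfl rfl φ) ay3Y
theorem aO3 : ∀ i < 4, (chkO (c111b.imgL ag3) c111b.row ay3 aO3a (nat_lit 4) [nat_lit 0]) i = 0 :=
  allB (rngB_step (allB0 _ _) aO3_0) (by decide)
theorem aR3 (h0 : ∀ s < 3, (c111md φ inj).In ⊤ (ag0 s)) : Reach ((c111md φ inj).gn ag3 2) (fun i => (fun x => ln φ (c111b.vec (ZMod 5) 111 x)) (pt c111b.row ay3 i)) 4 [nat_lit 0] :=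
  reach_of_chk (pv := (fun x => ln φ (c111b.vec (ZMod 5) 111 x))) ((Cfg.Ok.actsL c111b_ok (m := (c111md φ inj)) rfl rfl rfl ag3).ex (aeg3 h0)) aO3
theorem afx3 : (⊥ : Subgroup G) ≤ MulAction.stabilizer G ((fun i => (fun x => ln φ (c111b.vec (ZMod 5) 111 x)) (pt c111b.row ay3 i)) (nat_lit 0)) := bot_le
theorem alb3 (h0 : ∀ s < 3, (c111md φ inj).In ⊤ (ag0 s)) : 4 ≤ Nat.card ((c111md φ inj).gn ag3 2) :=
  le_of_eq_of_le (by norm_num) (lower ay3D (aR3 h0) (ale3 h0) afx3 (alb4 h0))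
theorem ay2Y : ∀ i < 125, (chkY c111b.canL c111b.row ay2 (nat_lit 125)) i = 0 :=
  allB (rngB_step (allB0 _ _) ay2Y_0) (by decide)
theorem ay2D : Dist (fun i => (fun x => ln φ (c111b.vec (ZMod 5) 111 x)) (pt c111b.row ay2 i)) 125 :=
  dist_of_chk (Cfg.Ok.canTL c111b_ok rfl rfl φ) ay2Y
theorem aO2 : ∀ i < 125, (chkO (c111b.imgL ag2) c111b.row ay2 aO2a (nat_lit 125) [nat_lit 34]) i = 0 :=
  allB (rngB_step (allB0 _ _) aO2_0) (by decide)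
theorem aR2 (h0 : ∀ s < 3, (c111md φ inj).In ⊤ (ag0 s)) : Reach ((c111md φ inj).gn ag2 3) (fun i => (fun x => ln φ (c111b.vec (ZMod 5) 111 x)) (pt c111b.row ay2 i)) 125 [nat_lit 34] :=
  reach_of_chk (pv := (fun x => ln φ (c111b.vec (ZMod 5) 111 x))) ((Cfg.Ok.actsL c111b_ok (m := (c111md φ inj)) rfl rfl rfl ag2).ex (aeg2 h0)) aO2
theorem aF2 : ∀ i < 2, (chkF (c111b.imgL ag3) c111b.row ay2 (nat_lit 34) [nat_lit 1, nat_lit 3]) i = 0 :=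
  (rng_step (all0 _) aF2_0)
theorem afx2 : ((c111md φ inj).gn ag3 2) ≤ MulAction.stabilizer G ((fun i => (fun x => ln φ (c111b.vec (ZMod 5) 111 x)) (pt c111b.row ay2 i)) (nat_lit 34)) :=
  gn_le_stab (Cfg.Ok.actsL c111b_ok (m := (c111md φ inj)) rfl rfl rfl ag3) aF2
theorem alb2 (h0 : ∀ s < 3, (c111md φ inj).In ⊤ (ag0 s)) : 500 ≤ Nat.card ((c111md φ inj).gn ag2 3) :=
  le_of_eq_of_le (by norm_num) (lower ay2D (aR2 h0) (ale2 h0) afx2 (alb3 h0))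
theorem ay1Y : ∀ i < 100, (chkY c111b.canL c111b.row ay1 (nat_lit 100)) i = 0 :=
  allB (rngB_step (allB0 _ _) ay1Y_0) (by decide)
theorem ay1D : Dist (fun i => (fun x => ln φ (c111b.vec (ZMod 5) 111 x)) (pt c111b.row ay1 i)) 100 :=
  dist_of_chk (Cfg.Ok.canTL c111b_ok rfl rfl φ) ay1Y
theorem aO1 : ∀ i < 100, (chkO (c111b.imgL ag1) c111b.row ay1 aO1a (nat_lit 100) [nat_lit 31]) i = 0 :=
  allB (rngB_step (allB0 _ _) aO1_0) (by decide)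
theorem aR1 (h0 : ∀ s < 3, (c111md φ inj).In ⊤ (ag0 s)) : Reach ((c111md φ inj).gn ag1 3) (fun i => (fun x => ln φ (c111b.vec (ZMod 5) 111 x)) (pt c111b.row ay1 i)) 100 [nat_lit 31] :=
  reach_of_chk (pv := (fun x => ln φ (c111b.vec (ZMod 5) 111 x))) ((Cfg.Ok.actsL c111b_ok (m := (c111md φ inj)) rfl rfl rfl ag1).ex (aeg1 h0)) aO1
theorem aF1 : ∀ i < 3, (chkF (c111b.imgL ag2) c111b.row ay1 (nat_lit 31) [nat_lit 0, nat_lit 0, nat_lit 0]) i = 0 :=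
  (rng_step (all0 _) aF1_0)
theorem afx1 : ((c111md φ inj).gn ag2 3) ≤ MulAction.stabilizer G ((fun i => (fun x => ln φ (c111b.vec (ZMod 5) 111 x)) (pt c111b.row ay1 i)) (nat_lit 31)) :=
  gn_le_stab (Cfg.Ok.actsL c111b_ok (m := (c111md φ inj)) rfl rfl rfl ag2) aF1
theorem alb1 (h0 : ∀ s < 3, (c111md φ inj).In ⊤ (ag0 s)) : 50000 ≤ Nat.card ((c111md φ inj).gn ag1 3) :=
  le_of_eq_of_le (by norm_num) (lower ay1D (aR1 h0) (ale1 h0) afx1 (alb2 h0))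
theorem ay0Y : ∀ i < 117180, (chkY c111b.canL c111b.row ay0 (nat_lit 117180)) i = 0 :=
  allB (rngB_step (rngB_step (rngB_step (rngB_step (rngB_step (rngB_step (rngB_step (rngB_step (rngB_step (rngB_step (rngB_step (rngB_step (rngB_step (rngB_step (rngB_step (rngB_step (rngB_step (rngB_step (rngB_step (rngB_step (rngB_step (rngB_step (rngB_step (rngB_step (rngB_step (rngB_step (rngB_step (rngB_step (rngB_step (rngB_step (rngB_step (rngB_step (rngB_step (rngB_step (rngB_step (rngB_step (rngB_step (rngB_step (rngB_step (rngB_step (rngB_step (rngB_step (rngB_step (rngB_step (rngB_step (rngB_step (rngB_step (rngB_step (rngB_step (rngB_step (rngB_step (rngB_step (rngB_step (rngB_step (rngB_step (rngB_step (rngB_step (rngB_step (rngB_step (rngB_step (rngB_step (rngB_step (rngB_step (rngB_step (rngB_step (rngB_step (rngB_step (rngB_step (rngB_step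 (rngB_step (rngB_step (rngB_step (rngB_step (rngB_step (rngB_step (rngB_step (rngB_step (rngB_step (rngB_step (rngB_step (rngB_step (rngB_step (rngB_step (rngB_step (rngB_step (rngB_step (rngB_step (rngB_step (rngB_step (rngB_step (rngB_step (rngB_step (rngB_step (rngB_step (rngB_step (rngB_step (rngB_step (rngB_step (rngB_step (rngB_step (rngB_step (rngB_step (rngB_step (rngB_step (rngB_step (rngB_step (rngB_step (rngB_step (rngB_step (rngB_step (rngB_step (rngB_step (rngB_step (rngB_step (rngB_step (allB0 _ _) ay0Y_0) ay0Y_1) ay0Y_2) ay0Y_3) ay0Y_4) ay0Y_5) ay0Y_6) ay0Y_7) ay0Y_8) ay0Y_9) ay0Y_10) ay0Y_11) ay0Y_12) ay0Y_13) ay0Y_14) ay0Y_15) ay0Y_16) ay0Y_17) ay0Y_18) ay0Y_19) ay0Y_20) ay0Y_21) ay0Y_22) ay0Y_23) ay0Y_24) ay0Y_25) ay0Y_26) ay0Y_27) ay0Y_28) ay0Y_29) ay0Y_30) ay0Y_31) ay0Y_32) ay0Y_33) ay0Y_34) ay0Y_35) ay0Y_36) ay0Y_37)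 ay0Y_38) ay0Y_39) ay0Y_40) ay0Y_41) ay0Y_42) ay0Y_43) ay0Y_44) ay0Y_45) ay0Y_46) ay0Y_47) ay0Y_48) ay0Y_49) ay0Y_50) ay0Y_51) ay0Y_52) ay0Y_53) ay0Y_54) ay0Y_55) ay0Y_56) ay0Y_57) ay0Y_58) ay0Y_59) ay0Y_60) ay0Y_61) ay0Y_62) ay0Y_63) ay0Y_64) ay0Y_65) ay0Y_66) ay0Y_67) ay0Y_68) ay0Y_69) ay0Y_70) ay0Y_71) ay0Y_72) ay0Y_73) ay0Y_74) ay0Y_75) ay0Y_76) ay0Y_77) ay0Y_78) ay0Y_79) ay0Y_80) ay0Y_81) ay0Y_82) ay0Y_83) ay0Y_84) ay0Y_85) ay0Y_86) ay0Y_87) ay0Y_88) ay0Y_89) ay0Y_90) ay0Y_91) ay0Y_92) ay0Y_93) ay0Y_94) ay0Y_95) ay0Y_96) ay0Y_97) ay0Y_98) ay0Y_99) ay0Y_100) ay0Y_101) ay0Y_102) ay0Y_103) ay0Y_104) ay0Y_105) ay0Y_106) ay0Y_107) ay0Y_108) ay0Y_109) ay0Y_110) ay0Y_111) ay0Y_112) ay0Y_113) ay0Y_114) (by decide)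
theorem ay0D : Dist (fun i => (fun x => ln φ (c111b.vec (ZMod 5) 111 x)) (pt c111b.row ay0 i)) 117180 :=
  dist_of_chk (Cfg.Ok.canTL c111b_ok rfl rfl φ) ay0Y
theorem aO0 : ∀ i < 117180, (chkO (c111b.imgL ag0) c111b.row ay0 aO0a (nat_lit 117180) [nat_lit 8]) i = 0 :=
  allB (rngB_step (rngB_step (rngB_step (rngB_step (rngB_step (rngB_step (rngB_step (rngB_step (rngB_step (rngB_step (rngB_step (rngB_step (rngB_step (rngB_step (rngB_step (rngB_step (rngB_step (rngB_step (rngB_step (rngB_step (rngB_step (rngB_step (rngB_step (rngB_step (rngB_step (rngB_step (rngB_step (rngB_step (rngB_step (rngB_step (rngB_step (rngB_step (rngB_step (rngB_step (rngB_step (rngB_step (rngB_step (rngB_step (rngB_step (rngB_step (rngB_step (rngB_step (rngB_step (rngB_step (rngB_step (rngB_step (rngB_step (rngB_step (rngB_step (rngB_step (rngB_step (rngB_step (rngB_step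 (rngB_step (rngB_step (rngB_step (rngB_step (rngB_step (rngB_step (rngB_step (rngB_step (rngB_step (rngB_step (rngB_step (rngB_step (rngB_step (rngB_step (rngB_step (rngB_step (rngB_step (rngB_step (rngB_step (rngB_step (rngB_step (rngB_step (rngB_step (rngB_step (rngB_step (rngB_step (rngB_step (rngB_step (rngB_step (rngB_step (rngB_step (rngB_step (rngB_step (rngB_step (rngB_step (rngB_step (rngB_step (rngB_step (rngB_step (rngB_step (rngB_step (rngB_step (rngB_step (rngB_step (rngB_step (rngB_step (rngB_step (rngB_step (rngB_step (rngB_step (rngB_step (rngB_step (rngB_step (rngB_step (rngB_step (rngB_step (rngB_step (rngB_step (rngB_step (rngB_step (rngB_step (rngB_step (allB0 _ _) aO0_0) aO0_1) aO0_2) aO0_3) aO0_4) aO0_5) aO0_6) aO0_7) aO0_8) aO0_9) aO0_10) aO0_11) aO0_12) aO0_13) aO0_14) aO0_15) aO0_16) aO0_17) aO0_18) aO0_19) aO0_20)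 aO0_21) aO0_22) aO0_23) aO0_24) aO0_25) aO0_26) aO0_27) aO0_28) aO0_29) aO0_30) aO0_31) aO0_32) aO0_33) aO0_34) aO0_35) aO0_36) aO0_37) aO0_38) aO0_39) aO0_40) aO0_41) aO0_42) aO0_43) aO0_44) aO0_45) aO0_46) aO0_47) aO0_48) aO0_49) aO0_50) aO0_51) aO0_52) aO0_53) aO0_54) aO0_55) aO0_56) aO0_57) aO0_58) aO0_59) aO0_60) aO0_61) aO0_62) aO0_63) aO0_64) aO0_65) aO0_66) aO0_67) aO0_68) aO0_69) aO0_70) aO0_71) aO0_72) aO0_73) aO0_74) aO0_75) aO0_76) aO0_77) aO0_78) aO0_79) aO0_80) aO0_81) aO0_82) aO0_83) aO0_84) aO0_85) aO0_86) aO0_87) aO0_88) aO0_89) aO0_90) aO0_91) aO0_92) aO0_93) aO0_94) aO0_95) aO0_96) aO0_97) aO0_98) aO0_99) aO0_100) aO0_101) aO0_102) aO0_103) aO0_104) aO0_105) aO0_106) aO0_107) aO0_108) aO0_109) aO0_110) aO0_111) aO0_112) aO0_113) aO0_114) (by decide)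
theorem aR0 (h0 : ∀ s < 3, (c111md φ inj).In ⊤ (ag0 s)) : Reach ((c111md φ inj).gn ag0 3) (fun i => (fun x => ln φ (c111b.vec (ZMod 5) 111 x)) (pt c111b.row ay0 i)) 117180 [nat_lit 8] :=
  reach_of_chk (pv := (fun x => ln φ (c111b.vec (ZMod 5) 111 x))) ((Cfg.Ok.actsL c111b_ok (m := (c111md φ inj)) rfl rfl rfl ag0).ex (aeg0 h0)) aO0
theorem aF0 : ∀ i < 3, (chkF (c111b.imgL ag1) c111b.row ay0 (nat_lit 8) [nat_lit 1, nat_lit 0, nat_lit 1]) i = 0 :=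
  (rng_step (all0 _) aF0_0)
theorem afx0 : ((c111md φ inj).gn ag1 3) ≤ MulAction.stabilizer G ((fun i => (fun x => ln φ (c111b.vec (ZMod 5) 111 x)) (pt c111b.row ay0 i)) (nat_lit 8)) :=
  gn_le_stab (Cfg.Ok.actsL c111b_ok (m := (c111md φ inj)) rfl rfl rfl ag1) aF0
theorem alb0 (h0 : ∀ s < 3, (c111md φ inj).In ⊤ (ag0 s)) : 5859000000 ≤ Nat.card ((c111md φ inj).gn ag0 3) :=
  le_of_eq_of_le (by norm_num) (lower ay0D (aR0 h0) (ale0 h0) afx0 (alb1 h0))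
theorem aex0 (h0 : ∀ s < 3, (c111md φ inj).In ⊤ (eg s)) : MulAction.orbit ((c111md φ inj).gn ag0 3) ((fun i => (fun x => ln φ (c111b.vec (ZMod 5) 111 x)) (pt c111b.row ay0 i)) (nat_lit 8)) = (fun i => (fun x => ln φ (c111b.vec (ZMod 5) 111 x)) (pt c111b.row ay0 i)) '' {i | i < 117180} ∧ ((c111md φ inj).gn ag0 3) ⊓ MulAction.stabilizer G ((fun i => (fun x => ln φ (c111b.vec (ZMod 5) 111 x)) (pt c111b.row ay0 i)) (nat_lit 8)) = ((c111md φ inj).gn ag1 3) ∧ Nat.card ((c111md φ inj).gn ag0 3) = 117180 * 50000 ∧ Nat.card ((c111md φ inj).gn ag1 3) = 50000 :=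
  exact ay0D (aR0 h0) (ale0 h0) afx0 (alb1 h0) ((Hub h0).trans (by norm_num))
theorem aex1 (h0 : ∀ s < 3, (c111md φ inj).In ⊤ (eg s)) : MulAction.orbit ((c111md φ inj).gn ag1 3) ((fun i => (fun x => ln φ (c111b.vec (ZMod 5) 111 x)) (pt c111b.row ay1 i)) (nat_lit 31)) = (fun i => (fun x => ln φ (c111b.vec (ZMod 5) 111 x)) (pt c111b.row ay1 i)) '' {i | i < 100} ∧ ((c111md φ inj).gn ag1 3) ⊓ MulAction.stabilizer G ((fun i => (fun x => ln φ (c111b.vec (ZMod 5) 111 x)) (pt c111b.row ay1 i)) (nat_lit 31)) = ((c111md φ inj).gn ag2 3) ∧ Nat.card ((c111md φ inj).gn ag1 3) = 100 * 500 ∧ Nat.card ((c111md φ inj).gn ag2 3) = 500 :=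
  exact ay1D (aR1 h0) (ale1 h0) afx1 (alb2 h0) (((aex0 h0).2.2.2.le).trans (by norm_num))
theorem aex2 (h0 : ∀ s < 3, (c111md φ inj).In ⊤ (eg s)) : MulAction.orbit ((c111md φ inj).gn ag2 3) ((fun i => (fun x => ln φ (c111b.vec (ZMod 5) 111 x)) (pt c111b.row ay2 i)) (nat_lit 34)) = (fun i => (fun x => ln φ (c111b.vec (ZMod 5) 111 x)) (pt c111b.row ay2 i)) '' {i | i < 125} ∧ ((c111md φ inj).gn ag2 3) ⊓ MulAction.stabilizer G ((fun i => (fun x => ln φ (c111b.vec (ZMod 5) 111 x)) (pt c111b.row ay2 i)) (nat_lit 34)) = ((c111md φ inj).gn ag3 2) ∧ Nat.card ((c111md φ inj).gn ag2 3) = 125 * 4 ∧ Nat.card ((c111md φ inj).gn ag3 2) = 4 :=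
  exact ay2D (aR2 h0) (ale2 h0) afx2 (alb3 h0) (((aex1 h0).2.2.2.le).trans (by norm_num))
theorem aex3 (h0 : ∀ s < 3, (c111md φ inj).In ⊤ (eg s)) : MulAction.orbit ((c111md φ inj).gn ag3 2) ((fun i => (fun x => ln φ (c111b.vec (ZMod 5) 111 x)) (pt c111b.row ay3 i)) (nat_lit 0)) = (fun i => (fun x => ln φ (c111b.vec (ZMod 5) 111 x)) (pt c111b.row ay3 i)) '' {i | i < 4} ∧ ((c111md φ inj).gn ag3 2) ⊓ MulAction.stabilizer G ((fun i => (fun x => ln φ (c111b.vec (ZMod 5) 111 x)) (pt c111b.row ay3 i)) (nat_lit 0)) = (⊥ : Subgroup G) ∧ Nat.card ((c111md φ inj).gn ag3 2) = 4 * 1 ∧ Nat.card (⊥ : Subgroup G) = 1 :=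
  exact ay3D (aR3 h0) (ale3 h0) afx3 (alb4 h0) (((aex2 h0).2.2.2.le).trans (by norm_num))
theorem dT : ∀ i < 3, (chkT c111.mul dD ee [[nat_lit 1, nat_lit 12292489748463], [nat_lit 1, nat_lit 431820865735], [nat_lit 3, nat_lit 3370796926646]]) i = 0 :=
  (rng_step (all0 _) dT_0)
theorem dle : ((c111md φ inj).gn eg 3) ≤ ((c111md φ inj).gn dg 4) := le_gn_cons _ _ _
theorem delD (h0 : ∀ s < 3, (c111md φ inj).In ⊤ (eg s)) (h1 : (c111md φ inj).In ⊤ (dD 1)) : (c111md φ inj).El ((c111md φ inj).gn dg 4) dD :=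
  el_D (n := 3) ((Hel h0).mono dle) dD0 (in_gn_cons h1 _ _) dT
theorem dtop (h0 : ∀ s < 3, (c111md φ inj).In ⊤ (eg s)) (h1 : (c111md φ inj).In ⊤ (dD 1)) : (c111md φ inj).El ⊤ dD := (delD h0 h1).mono le_top
theorem del (h0 : ∀ s < 3, (c111md φ inj).In ⊤ (eg s)) (h1 : (c111md φ inj).In ⊤ (dD 1)) : (c111md φ inj).El ((c111md φ inj).gn dg 4) de := (delD h0 h1).del ((Hel h0).mono dle) _ _
theorem l1top0 (h0 : ∀ s < 2, (c111md φ inj).In ⊤ (l1g0 s)) : ∀ s < 2, (c111md φ inj).In ⊤ (l1g0 s) := h0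
theorem l1eg0 (h0 : ∀ s < 2, (c111md φ inj).In ⊤ (l1g0 s)) : (c111md φ inj).El ((c111md φ inj).gn l1g0 2) l1g0 := el_gn (l1top0 h0)
theorem l1W0 : ∀ i < 2, (chkW c111.mul c111.one l1g0 [[nat_lit 0, nat_lit 0, nat_lit 1],
  [nat_lit 0, nat_lit 0, nat_lit 1, nat_lit 1, nat_lit 0, nat_lit 0, nat_lit 1]] l1g1) i = 0 :=
  (rng_step (all0 _) l1W0_0)
theorem l1in1 (h0 : ∀ s < 2, (c111md φ inj).In ⊤ (l1g0 s)) : ∀ s < 2, (c111md φ inj).In ((c111md φ inj).gn l1g0 2) (l1g1 s) := in_of_chkW (l1eg0 h0) l1W0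
theorem l1top1 (h0 : ∀ s < 2, (c111md φ inj).In ⊤ (l1g0 s)) : ∀ s < 2, (c111md φ inj).In ⊤ (l1g1 s) := fun s hs => (l1in1 h0 s hs).top
theorem l1le0 (h0 : ∀ s < 2, (c111md φ inj).In ⊤ (l1g0 s)) : ((c111md φ inj).gn l1g1 2) ≤ ((c111md φ inj).gn l1g0 2) := gn_le (l1in1 h0)
theorem l1eg1 (h0 : ∀ s < 2, (c111md φ inj).In ⊤ (l1g0 s)) : (c111md φ inj).El ((c111md φ inj).gn l1g1 2) l1g1 := el_gn (l1top1 h0)
theorem l1W1 : ∀ i < 3, (chkW c111.mul c111.one l1g1 [[nat_lit 1, nat_lit 0, nat_lit 0, nat_lit 0, nat_lit 1, nat_lit 1],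
  [nat_lit 0, nat_lit 0, nat_lit 0, nat_lit 0, nat_lit 1, nat_lit 0, nat_lit 1, nat_lit 0],
  [nat_lit 1, nat_lit 1, nat_lit 0, nat_lit 0, nat_lit 0, nat_lit 1]] l1g2) i = 0 :=
  (rng_step (all0 _) l1W1_0)
theorem l1in2 (h0 : ∀ s < 2, (c111md φ inj).In ⊤ (l1g0 s)) : ∀ s < 3, (c111md φ inj).In ((c111md φ inj).gn l1g1 2) (l1g2 s) := in_of_chkW (l1eg1 h0) l1W1
theorem l1top2 (h0 : ∀ s < 2, (c111md φ inj).In ⊤ (l1g0 s)) : ∀ s < 3, (c111md φ inj).In ⊤ (l1g2 s) := fun s hs => (l1in2 h0 s hs).top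
theorem l1le1 (h0 : ∀ s < 2, (c111md φ inj).In ⊤ (l1g0 s)) : ((c111md φ inj).gn l1g2 3) ≤ ((c111md φ inj).gn l1g1 2) := gn_le (l1in2 h0)
theorem l1eg2 (h0 : ∀ s < 2, (c111md φ inj).In ⊤ (l1g0 s)) : (c111md φ inj).El ((c111md φ inj).gn l1g2 3) l1g2 := el_gn (l1top2 h0)
theorem l1W2 : ∀ i < 2, (chkW c111.mul c111.one l1g2 [[nat_lit 0, nat_lit 1, nat_lit 0, nat_lit 0, nat_lit 2, nat_lit 1, nat_lit 2, nat_lit 2],
  [nat_lit 0, nat_lit 1, nat_lit 1, nat_lit 1, nat_lit 2, nat_lit 2, nat_lit 1, nat_lit 1]] l1g3) i = 0 :=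
  (rng_step (all0 _) l1W2_0)
theorem l1in3 (h0 : ∀ s < 2, (c111md φ inj).In ⊤ (l1g0 s)) : ∀ s < 2, (c111md φ inj).In ((c111md φ inj).gn l1g2 3) (l1g3 s) := in_of_chkW (l1eg2 h0) l1W2
theorem l1top3 (h0 : ∀ s < 2, (c111md φ inj).In ⊤ (l1g0 s)) : ∀ s < 2, (c111md φ inj).In ⊤ (l1g3 s) := fun s hs => (l1in3 h0 s hs).top
theorem l1le2 (h0 : ∀ s < 2, (c111md φ inj).In ⊤ (l1g0 s)) : ((c111md φ inj).gn l1g3 2) ≤ ((c111md φ inj).gn l1g2 3) := gn_le (l1in3 h0)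
theorem l1eg3 (h0 : ∀ s < 2, (c111md φ inj).In ⊤ (l1g0 s)) : (c111md φ inj).El ((c111md φ inj).gn l1g3 2) l1g3 := el_gn (l1top3 h0)
theorem l1le3 (h0 : ∀ s < 2, (c111md φ inj).In ⊤ (l1g0 s)) : (⊥ : Subgroup G) ≤ ((c111md φ inj).gn l1g3 2) := bot_le
theorem l1lb4 (h0 : ∀ s < 2, (c111md φ inj).In ⊤ (l1g0 s)) : 1 ≤ Nat.card (⊥ : Subgroup G) := one_le_card _
theorem l1y3Y : ∀ i < 4, (chkY c111b.canL c111b.row l1y3 (nat_lit 4)) i = 0 :=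
  allB (rngB_step (allB0 _ _) l1y3Y_0) (by decide)
theorem l1y3D : Dist (fun i => (fun x => ln φ (c111b.vec (ZMod 5) 111 x)) (pt c111b.row l1y3 i)) 4 :=
  dist_of_chk (Cfg.Ok.canTL c111b_ok rfl rfl φ) l1y3Y
theorem l1O3 : ∀ i < 4, (chkO (c111b.imgL l1g3) c111b.row l1y3 l1O3a (nat_lit 4) [nat_lit 3]) i = 0 :=
  allB (rngB_step (allB0 _ _) l1O3_0) (by decide)
theorem l1R3 (h0 : ∀ s < 2, (c111md φ inj).In ⊤ (l1g0 s)) : Reach ((c111md φ inj).gn l1g3 2) (fun i => (fun x => ln φ (c111b.vec (ZMod 5) 111 x)) (pt c111b.row l1y3 i)) 4 [nat_lit 3] :=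
  reach_of_chk (pv := (fun x => ln φ (c111b.vec (ZMod 5) 111 x))) ((Cfg.Ok.actsL c111b_ok (m := (c111md φ inj)) rfl rfl rfl l1g3).ex (l1eg3 h0)) l1O3
theorem l1fx3 : (⊥ : Subgroup G) ≤ MulAction.stabilizer G ((fun i => (fun x => ln φ (c111b.vec (ZMod 5) 111 x)) (pt c111b.row l1y3 i)) (nat_lit 3)) := bot_le
theorem l1lb3 (h0 : ∀ s < 2, (c111md φ inj).In ⊤ (l1g0 s)) : 4 ≤ Nat.card ((c111md φ inj).gn l1g3 2) :=
  le_of_eq_of_le (by norm_num) (lower l1y3D (l1R3 h0) (l1le3 h0) l1fx3 (l1lb4 h0))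
theorem l1y2Y : ∀ i < 125, (chkY c111b.canL c111b.row l1y2 (nat_lit 125)) i = 0 :=
  allB (rngB_step (allB0 _ _) l1y2Y_0) (by decide)
theorem l1y2D : Dist (fun i => (fun x => ln φ (c111b.vec (ZMod 5) 111 x)) (pt c111b.row l1y2 i)) 125 :=
  dist_of_chk (Cfg.Ok.canTL c111b_ok rfl rfl φ) l1y2Y
theorem l1O2 : ∀ i < 125, (chkO (c111b.imgL l1g2) c111b.row l1y2 l1O2a (nat_lit 125) [nat_lit 72]) i = 0 :=
  allB (rngB_step (allB0 _ _) l1O2_0) (by decide)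
theorem l1R2 (h0 : ∀ s < 2, (c111md φ inj).In ⊤ (l1g0 s)) : Reach ((c111md φ inj).gn l1g2 3) (fun i => (fun x => ln φ (c111b.vec (ZMod 5) 111 x)) (pt c111b.row l1y2 i)) 125 [nat_lit 72] :=
  reach_of_chk (pv := (fun x => ln φ (c111b.vec (ZMod 5) 111 x))) ((Cfg.Ok.actsL c111b_ok (m := (c111md φ inj)) rfl rfl rfl l1g2).ex (l1eg2 h0)) l1O2
theorem l1F2 : ∀ i < 2, (chkF (c111b.imgL l1g3) c111b.row l1y2 (nat_lit 72) [nat_lit 3, nat_lit 2]) i = 0 :=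
  (rng_step (all0 _) l1F2_0)
theorem l1fx2 : ((c111md φ inj).gn l1g3 2) ≤ MulAction.stabilizer G ((fun i => (fun x => ln φ (c111b.vec (ZMod 5) 111 x)) (pt c111b.row l1y2 i)) (nat_lit 72)) :=
  gn_le_stab (Cfg.Ok.actsL c111b_ok (m := (c111md φ inj)) rfl rfl rfl l1g3) l1F2
theorem l1lb2 (h0 : ∀ s < 2, (c111md φ inj).In ⊤ (l1g0 s)) : 500 ≤ Nat.card ((c111md φ inj).gn l1g2 3) :=
  le_of_eq_of_le (by norm_num) (lower l1y2D (l1R2 h0) (l1le2 h0) l1fx2 (l1lb3 h0))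
theorem l1y1Y : ∀ i < 100, (chkY c111b.canL c111b.row l1y1 (nat_lit 100)) i = 0 :=
  allB (rngB_step (allB0 _ _) l1y1Y_0) (by decide)
theorem l1y1D : Dist (fun i => (fun x => ln φ (c111b.vec (ZMod 5) 111 x)) (pt c111b.row l1y1 i)) 100 :=
  dist_of_chk (Cfg.Ok.canTL c111b_ok rfl rfl φ) l1y1Y
theorem l1O1 : ∀ i < 100, (chkO (c111b.imgL l1g1) c111b.row l1y1 l1O1a (nat_lit 100) [nat_lit 21]) i = 0 :=
  allB (rngB_step (allB0 _ _) l1O1_0) (by decide)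
theorem l1R1 (h0 : ∀ s < 2, (c111md φ inj).In ⊤ (l1g0 s)) : Reach ((c111md φ inj).gn l1g1 2) (fun i => (fun x => ln φ (c111b.vec (ZMod 5) 111 x)) (pt c111b.row l1y1 i)) 100 [nat_lit 21] :=
  reach_of_chk (pv := (fun x => ln φ (c111b.vec (ZMod 5) 111 x))) ((Cfg.Ok.actsL c111b_ok (m := (c111md φ inj)) rfl rfl rfl l1g1).ex (l1eg1 h0)) l1O1
theorem l1F1 : ∀ i < 3, (chkF (c111b.imgL l1g2) c111b.row l1y1 (nat_lit 21) [nat_lit 0, nat_lit 0, nat_lit 0]) i = 0 :=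
  (rng_step (all0 _) l1F1_0)
theorem l1fx1 : ((c111md φ inj).gn l1g2 3) ≤ MulAction.stabilizer G ((fun i => (fun x => ln φ (c111b.vec (ZMod 5) 111 x)) (pt c111b.row l1y1 i)) (nat_lit 21)) :=
  gn_le_stab (Cfg.Ok.actsL c111b_ok (m := (c111md φ inj)) rfl rfl rfl l1g2) l1F1
theorem l1lb1 (h0 : ∀ s < 2, (c111md φ inj).In ⊤ (l1g0 s)) : 50000 ≤ Nat.card ((c111md φ inj).gn l1g1 2) :=
  le_of_eq_of_le (by norm_num) (lower l1y1D (l1R1 h0) (l1le1 h0) l1fx1 (l1lb2 h0))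
theorem l1y0Y : ∀ i < 6, (chkY c111b.canL c111b.row l1y0 (nat_lit 6)) i = 0 :=
  allB (rngB_step (allB0 _ _) l1y0Y_0) (by decide)
theorem l1y0D : Dist (fun i => (fun x => ln φ (c111b.vec (ZMod 5) 111 x)) (pt c111b.row l1y0 i)) 6 :=
  dist_of_chk (Cfg.Ok.canTL c111b_ok rfl rfl φ) l1y0Y
theorem l1O0 : ∀ i < 6, (chkO (c111b.imgL l1g0) c111b.row l1y0 l1O0a (nat_lit 6) [nat_lit 4]) i = 0 :=
  allB (rngB_step (allB0 _ _) l1O0_0) (by decide)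
theorem l1R0 (h0 : ∀ s < 2, (c111md φ inj).In ⊤ (l1g0 s)) : Reach ((c111md φ inj).gn l1g0 2) (fun i => (fun x => ln φ (c111b.vec (ZMod 5) 111 x)) (pt c111b.row l1y0 i)) 6 [nat_lit 4] :=
  reach_of_chk (pv := (fun x => ln φ (c111b.vec (ZMod 5) 111 x))) ((Cfg.Ok.actsL c111b_ok (m := (c111md φ inj)) rfl rfl rfl l1g0).ex (l1eg0 h0)) l1O0
theorem l1F0 : ∀ i < 2, (chkF (c111b.imgL l1g1) c111b.row l1y0 (nat_lit 4) [nat_lit 3, nat_lit 1]) i = 0 :=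
  (rng_step (all0 _) l1F0_0)
theorem l1fx0 : ((c111md φ inj).gn l1g1 2) ≤ MulAction.stabilizer G ((fun i => (fun x => ln φ (c111b.vec (ZMod 5) 111 x)) (pt c111b.row l1y0 i)) (nat_lit 4)) :=
  gn_le_stab (Cfg.Ok.actsL c111b_ok (m := (c111md φ inj)) rfl rfl rfl l1g1) l1F0
theorem l1lb0 (h0 : ∀ s < 2, (c111md φ inj).In ⊤ (l1g0 s)) : 300000 ≤ Nat.card ((c111md φ inj).gn l1g0 2) :=
  le_of_eq_of_le (by norm_num) (lower l1y0D (l1R0 h0) (l1le0 h0) l1fx0 (l1lb1 h0))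
theorem l1E : ∀ i < 2, (chkE l1g0 ee [nat_lit 3075712846965, nat_lit 15414159474689]) i = 0 :=
  (rng_step (all0 _) l1E_0)
theorem l1in (h0 : ∀ s < 3, (c111md φ inj).In ⊤ (eg s)) : ∀ s < 2, (c111md φ inj).In ((c111md φ inj).gn eg 3) (l1g0 s) := in_of_chkE (Hel h0) l1E
theorem l2top0 (h0 : ∀ s < 2, (c111md φ inj).In ⊤ (l2g0 s)) : ∀ s < 2, (c111md φ inj).In ⊤ (l2g0 s) := h0
theorem l2eg0 (h0 : ∀ s < 2, (c111md φ inj).In ⊤ (l2g0 s)) : (c111md φ inj).El ((c111md φ inj).gn l2g0 2) l2g0 := el_gn (l2top0 h0)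
theorem l2W0 : ∀ i < 2, (chkW c111.mul c111.one l2g0 [[nat_lit 0, nat_lit 0, nat_lit 0, nat_lit 0, nat_lit 0, nat_lit 1, nat_lit 0],
  [nat_lit 0, nat_lit 1, nat_lit 1, nat_lit 0, nat_lit 0, nat_lit 0, nat_lit 1, nat_lit 1, nat_lit 1]] l2g1) i = 0 :=
  (rng_step (all0 _) l2W0_0)
theorem l2in1 (h0 : ∀ s < 2, (c111md φ inj).In ⊤ (l2g0 s)) : ∀ s < 2, (c111md φ inj).In ((c111md φ inj).gn l2g0 2) (l2g1 s) := in_of_chkW (l2eg0 h0) l2W0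
theorem l2top1 (h0 : ∀ s < 2, (c111md φ inj).In ⊤ (l2g0 s)) : ∀ s < 2, (c111md φ inj).In ⊤ (l2g1 s) := fun s hs => (l2in1 h0 s hs).top
theorem l2le0 (h0 : ∀ s < 2, (c111md φ inj).In ⊤ (l2g0 s)) : ((c111md φ inj).gn l2g1 2) ≤ ((c111md φ inj).gn l2g0 2) := gn_le (l2in1 h0)
theorem l2eg1 (h0 : ∀ s < 2, (c111md φ inj).In ⊤ (l2g0 s)) : (c111md φ inj).El ((c111md φ inj).gn l2g1 2) l2g1 := el_gn (l2top1 h0)
theorem l2le1 (h0 : ∀ s < 2, (c111md φ inj).In ⊤ (l2g0 s)) : (⊥ : Subgroup G) ≤ ((c111md φ inj).gn l2g1 2) := bot_le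
theorem l2lb2 (h0 : ∀ s < 2, (c111md φ inj).In ⊤ (l2g0 s)) : 1 ≤ Nat.card (⊥ : Subgroup G) := one_le_card _
theorem l2y1Y : ∀ i < 80, (chkY c111b.canL c111b.row l2y1 (nat_lit 80)) i = 0 :=
  allB (rngB_step (allB0 _ _) l2y1Y_0) (by decide)
theorem l2y1D : Dist (fun i => (fun x => ln φ (c111b.vec (ZMod 5) 111 x)) (pt c111b.row l2y1 i)) 80 :=
  dist_of_chk (Cfg.Ok.canTL c111b_ok rfl rfl φ) l2y1Y
theorem l2O1 : ∀ i < 80, (chkO (c111b.imgL l2g1) c111b.row l2y1 l2O1a (nat_lit 80) [nat_lit 45]) i = 0 :=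
  allB (rngB_step (allB0 _ _) l2O1_0) (by decide)
theorem l2R1 (h0 : ∀ s < 2, (c111md φ inj).In ⊤ (l2g0 s)) : Reach ((c111md φ inj).gn l2g1 2) (fun i => (fun x => ln φ (c111b.vec (ZMod 5) 111 x)) (pt c111b.row l2y1 i)) 80 [nat_lit 45] :=
  reach_of_chk (pv := (fun x => ln φ (c111b.vec (ZMod 5) 111 x))) ((Cfg.Ok.actsL c111b_ok (m := (c111md φ inj)) rfl rfl rfl l2g1).ex (l2eg1 h0)) l2O1
theorem l2fx1 : (⊥ : Subgroup G) ≤ MulAction.stabilizer G ((fun i => (fun x => ln φ (c111b.vec (ZMod 5) 111 x)) (pt c111b.row l2y1 i)) (nat_lit 45)) := bot_le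
theorem l2lb1 (h0 : ∀ s < 2, (c111md φ inj).In ⊤ (l2g0 s)) : 80 ≤ Nat.card ((c111md φ inj).gn l2g1 2) :=
  le_of_eq_of_le (by norm_num) (lower l2y1D (l2R1 h0) (l2le1 h0) l2fx1 (l2lb2 h0))
theorem l2y0Y : ∀ i < 36, (chkY c111b.canL c111b.row l2y0 (nat_lit 36)) i = 0 :=
  allB (rngB_step (allB0 _ _) l2y0Y_0) (by decide)
theorem l2y0D : Dist (fun i => (fun x => ln φ (c111b.vec (ZMod 5) 111 x)) (pt c111b.row l2y0 i)) 36 :=
  dist_of_chk (Cfg.Ok.canTL c111b_ok rfl rfl φ) l2y0Y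
theorem l2O0 : ∀ i < 36, (chkO (c111b.imgL l2g0) c111b.row l2y0 l2O0a (nat_lit 36) [nat_lit 12]) i = 0 :=
  allB (rngB_step (allB0 _ _) l2O0_0) (by decide)
theorem l2R0 (h0 : ∀ s < 2, (c111md φ inj).In ⊤ (l2g0 s)) : Reach ((c111md φ inj).gn l2g0 2) (fun i => (fun x => ln φ (c111b.vec (ZMod 5) 111 x)) (pt c111b.row l2y0 i)) 36 [nat_lit 12] :=
  reach_of_chk (pv := (fun x => ln φ (c111b.vec (ZMod 5) 111 x))) ((Cfg.Ok.actsL c111b_ok (m := (c111md φ inj)) rfl rfl rfl l2g0).ex (l2eg0 h0)) l2O0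
theorem l2F0 : ∀ i < 2, (chkF (c111b.imgL l2g1) c111b.row l2y0 (nat_lit 12) [nat_lit 3, nat_lit 1]) i = 0 :=
  (rng_step (all0 _) l2F0_0)
theorem l2fx0 : ((c111md φ inj).gn l2g1 2) ≤ MulAction.stabilizer G ((fun i => (fun x => ln φ (c111b.vec (ZMod 5) 111 x)) (pt c111b.row l2y0 i)) (nat_lit 12)) :=
  gn_le_stab (Cfg.Ok.actsL c111b_ok (m := (c111md φ inj)) rfl rfl rfl l2g1) l2F0
theorem l2lb0 (h0 : ∀ s < 2, (c111md φ inj).In ⊤ (l2g0 s)) : 2880 ≤ Nat.card ((c111md φ inj).gn l2g0 2) :=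
  le_of_eq_of_le (by norm_num) (lower l2y0D (l2R0 h0) (l2le0 h0) l2fx0 (l2lb1 h0))
theorem l2E : ∀ i < 2, (chkE l2g0 ee [nat_lit 8890630030655, nat_lit 4405324277878]) i = 0 :=
  (rng_step (all0 _) l2E_0)
theorem l2in (h0 : ∀ s < 3, (c111md φ inj).In ⊤ (eg s)) : ∀ s < 2, (c111md φ inj).In ((c111md φ inj).gn eg 3) (l2g0 s) := in_of_chkE (Hel h0) l2E
theorem l3top0 (h0 : ∀ s < 2, (c111md φ inj).In ⊤ (l3g0 s)) : ∀ s < 2, (c111md φ inj).In ⊤ (l3g0 s) := h0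
theorem l3eg0 (h0 : ∀ s < 2, (c111md φ inj).In ⊤ (l3g0 s)) : (c111md φ inj).El ((c111md φ inj).gn l3g0 2) l3g0 := el_gn (l3top0 h0)
theorem l3W0 : ∀ i < 2, (chkW c111.mul c111.one l3g0 [[nat_lit 1, nat_lit 0, nat_lit 0, nat_lit 0, nat_lit 1, nat_lit 0, nat_lit 1, nat_lit 0, nat_lit 1, nat_lit 1],
  [nat_lit 0, nat_lit 0, nat_lit 0, nat_lit 0, nat_lit 1, nat_lit 0, nat_lit 0]] l3g1) i = 0 :=
  (rng_step (all0 _) l3W0_0)
theorem l3in1 (h0 : ∀ s < 2, (c111md φ inj).In ⊤ (l3g0 s)) : ∀ s < 2, (c111md φ inj).In ((c111md φ inj).gn l3g0 2) (l3g1 s) := in_of_chkW (l3eg0 h0) l3W0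
theorem l3top1 (h0 : ∀ s < 2, (c111md φ inj).In ⊤ (l3g0 s)) : ∀ s < 2, (c111md φ inj).In ⊤ (l3g1 s) := fun s hs => (l3in1 h0 s hs).top
theorem l3le0 (h0 : ∀ s < 2, (c111md φ inj).In ⊤ (l3g0 s)) : ((c111md φ inj).gn l3g1 2) ≤ ((c111md φ inj).gn l3g0 2) := gn_le (l3in1 h0)
theorem l3eg1 (h0 : ∀ s < 2, (c111md φ inj).In ⊤ (l3g0 s)) : (c111md φ inj).El ((c111md φ inj).gn l3g1 2) l3g1 := el_gn (l3top1 h0)
theorem l3le1 (h0 : ∀ s < 2, (c111md φ inj).In ⊤ (l3g0 s)) : (⊥ : Subgroup G) ≤ ((c111md φ inj).gn l3g1 2) := bot_le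
theorem l3lb2 (h0 : ∀ s < 2, (c111md φ inj).In ⊤ (l3g0 s)) : 1 ≤ Nat.card (⊥ : Subgroup G) := one_le_card _
theorem l3y1Y : ∀ i < 8, (chkY c111b.canL c111b.row l3y1 (nat_lit 8)) i = 0 :=
  allB (rngB_step (allB0 _ _) l3y1Y_0) (by decide)
theorem l3y1D : Dist (fun i => (fun x => ln φ (c111b.vec (ZMod 5) 111 x)) (pt c111b.row l3y1 i)) 8 :=
  dist_of_chk (Cfg.Ok.canTL c111b_ok rfl rfl φ) l3y1Y
theorem l3O1 : ∀ i < 8, (chkO (c111b.imgL l3g1) c111b.row l3y1 l3O1a (nat_lit 8) [nat_lit 4]) i = 0 :=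
  allB (rngB_step (allB0 _ _) l3O1_0) (by decide)
theorem l3R1 (h0 : ∀ s < 2, (c111md φ inj).In ⊤ (l3g0 s)) : Reach ((c111md φ inj).gn l3g1 2) (fun i => (fun x => ln φ (c111b.vec (ZMod 5) 111 x)) (pt c111b.row l3y1 i)) 8 [nat_lit 4] :=
  reach_of_chk (pv := (fun x => ln φ (c111b.vec (ZMod 5) 111 x))) ((Cfg.Ok.actsL c111b_ok (m := (c111md φ inj)) rfl rfl rfl l3g1).ex (l3eg1 h0)) l3O1
theorem l3fx1 : (⊥ : Subgroup G) ≤ MulAction.stabilizer G ((fun i => (fun x => ln φ (c111b.vec (ZMod 5) 111 x)) (pt c111b.row l3y1 i)) (nat_lit 4)) := bot_le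
theorem l3lb1 (h0 : ∀ s < 2, (c111md φ inj).In ⊤ (l3g0 s)) : 8 ≤ Nat.card ((c111md φ inj).gn l3g1 2) :=
  le_of_eq_of_le (by norm_num) (lower l3y1D (l3R1 h0) (l3le1 h0) l3fx1 (l3lb2 h0))
theorem l3y0Y : ∀ i < 126, (chkY c111b.canL c111b.row l3y0 (nat_lit 126)) i = 0 :=
  allB (rngB_step (allB0 _ _) l3y0Y_0) (by decide)
theorem l3y0D : Dist (fun i => (fun x => ln φ (c111b.vec (ZMod 5) 111 x)) (pt c111b.row l3y0 i)) 126 :=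
  dist_of_chk (Cfg.Ok.canTL c111b_ok rfl rfl φ) l3y0Y
theorem l3O0 : ∀ i < 126, (chkO (c111b.imgL l3g0) c111b.row l3y0 l3O0a (nat_lit 126) [nat_lit 108]) i = 0 :=
  allB (rngB_step (allB0 _ _) l3O0_0) (by decide)
theorem l3R0 (h0 : ∀ s < 2, (c111md φ inj).In ⊤ (l3g0 s)) : Reach ((c111md φ inj).gn l3g0 2) (fun i => (fun x => ln φ (c111b.vec (ZMod 5) 111 x)) (pt c111b.row l3y0 i)) 126 [nat_lit 108] :=
  reach_of_chk (pv := (fun x => ln φ (c111b.vec (ZMod 5) 111 x))) ((Cfg.Ok.actsL c111b_ok (m := (c111md φ inj)) rfl rfl rfl l3g0).ex (l3eg0 h0)) l3O0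
theorem l3F0 : ∀ i < 2, (chkF (c111b.imgL l3g1) c111b.row l3y0 (nat_lit 108) [nat_lit 0, nat_lit 3]) i = 0 :=
  (rng_step (all0 _) l3F0_0)
theorem l3fx0 : ((c111md φ inj).gn l3g1 2) ≤ MulAction.stabilizer G ((fun i => (fun x => ln φ (c111b.vec (ZMod 5) 111 x)) (pt c111b.row l3y0 i)) (nat_lit 108)) :=
  gn_le_stab (Cfg.Ok.actsL c111b_ok (m := (c111md φ inj)) rfl rfl rfl l3g1) l3F0
theorem l3lb0 (h0 : ∀ s < 2, (c111md φ inj).In ⊤ (l3g0 s)) : 1008 ≤ Nat.card ((c111md φ inj).gn l3g0 2) :=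
  le_of_eq_of_le (by norm_num) (lower l3y0D (l3R0 h0) (l3le0 h0) l3fx0 (l3lb1 h0))
theorem l3E : ∀ i < 2, (chkE l3g0 ee [nat_lit 12245863673843, nat_lit 2519856385503]) i = 0 :=
  (rng_step (all0 _) l3E_0)
theorem l3in (h0 : ∀ s < 3, (c111md φ inj).In ⊤ (eg s)) : ∀ s < 2, (c111md φ inj).In ((c111md φ inj).gn eg 3) (l3g0 s) := in_of_chkE (Hel h0) l3E
theorem l4top0 (h0 : ∀ s < 2, (c111md φ inj).In ⊤ (l4g0 s)) : ∀ s < 2, (c111md φ inj).In ⊤ (l4g0 s) := h0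
theorem l4eg0 (h0 : ∀ s < 2, (c111md φ inj).In ⊤ (l4g0 s)) : (c111md φ inj).El ((c111md φ inj).gn l4g0 2) l4g0 := el_gn (l4top0 h0)
theorem l4W0 : ∀ i < 2, (chkW c111.mul c111.one l4g0 [[nat_lit 1, nat_lit 0, nat_lit 1, nat_lit 1, nat_lit 1, nat_lit 1, nat_lit 0, nat_lit 0, nat_lit 0, nat_lit 0, nat_lit 0, nat_lit 0, nat_lit 1, nat_lit 1],
  [nat_lit 0, nat_lit 0, nat_lit 1, nat_lit 0, nat_lit 1, nat_lit 0, nat_lit 1, nat_lit 0, nat_lit 0]] l4g1) i = 0 :=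
  (rng_step (all0 _) l4W0_0)
theorem l4in1 (h0 : ∀ s < 2, (c111md φ inj).In ⊤ (l4g0 s)) : ∀ s < 2, (c111md φ inj).In ((c111md φ inj).gn l4g0 2) (l4g1 s) := in_of_chkW (l4eg0 h0) l4W0
theorem l4top1 (h0 : ∀ s < 2, (c111md φ inj).In ⊤ (l4g0 s)) : ∀ s < 2, (c111md φ inj).In ⊤ (l4g1 s) := fun s hs => (l4in1 h0 s hs).top
theorem l4le0 (h0 : ∀ s < 2, (c111md φ inj).In ⊤ (l4g0 s)) : ((c111md φ inj).gn l4g1 2) ≤ ((c111md φ inj).gn l4g0 2) := gn_le (l4in1 h0)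
theorem l4eg1 (h0 : ∀ s < 2, (c111md φ inj).In ⊤ (l4g0 s)) : (c111md φ inj).El ((c111md φ inj).gn l4g1 2) l4g1 := el_gn (l4top1 h0)
theorem l4le1 (h0 : ∀ s < 2, (c111md φ inj).In ⊤ (l4g0 s)) : (⊥ : Subgroup G) ≤ ((c111md φ inj).gn l4g1 2) := bot_le
theorem l4lb2 (h0 : ∀ s < 2, (c111md φ inj).In ⊤ (l4g0 s)) : 1 ≤ Nat.card (⊥ : Subgroup G) := one_le_card _
theorem l4y1Y : ∀ i < 16, (chkY c111b.canL c111b.row l4y1 (nat_lit 16)) i = 0 :=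
  allB (rngB_step (allB0 _ _) l4y1Y_0) (by decide)
theorem l4y1D : Dist (fun i => (fun x => ln φ (c111b.vec (ZMod 5) 111 x)) (pt c111b.row l4y1 i)) 16 :=
  dist_of_chk (Cfg.Ok.canTL c111b_ok rfl rfl φ) l4y1Y
theorem l4O1 : ∀ i < 16, (chkO (c111b.imgL l4g1) c111b.row l4y1 l4O1a (nat_lit 16) [nat_lit 13]) i = 0 :=
  allB (rngB_step (allB0 _ _) l4O1_0) (by decide)
theorem l4R1 (h0 : ∀ s < 2, (c111md φ inj).In ⊤ (l4g0 s)) : Reach ((c111md φ inj).gn l4g1 2) (fun i => (fun x => ln φ (c111b.vec (ZMod 5) 111 x)) (pt c111b.row l4y1 i)) 16 [nat_lit 13] :=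
  reach_of_chk (pv := (fun x => ln φ (c111b.vec (ZMod 5) 111 x))) ((Cfg.Ok.actsL c111b_ok (m := (c111md φ inj)) rfl rfl rfl l4g1).ex (l4eg1 h0)) l4O1
theorem l4fx1 : (⊥ : Subgroup G) ≤ MulAction.stabilizer G ((fun i => (fun x => ln φ (c111b.vec (ZMod 5) 111 x)) (pt c111b.row l4y1 i)) (nat_lit 13)) := bot_le
theorem l4lb1 (h0 : ∀ s < 2, (c111md φ inj).In ⊤ (l4g0 s)) : 16 ≤ Nat.card ((c111md φ inj).gn l4g1 2) :=
  le_of_eq_of_le (by norm_num) (lower l4y1D (l4R1 h0) (l4le1 h0) l4fx1 (l4lb2 h0))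
theorem l4y0Y : ∀ i < 378, (chkY c111b.canL c111b.row l4y0 (nat_lit 378)) i = 0 :=
  allB (rngB_step (allB0 _ _) l4y0Y_0) (by decide)
theorem l4y0D : Dist (fun i => (fun x => ln φ (c111b.vec (ZMod 5) 111 x)) (pt c111b.row l4y0 i)) 378 :=
  dist_of_chk (Cfg.Ok.canTL c111b_ok rfl rfl φ) l4y0Y
theorem l4O0 : ∀ i < 378, (chkO (c111b.imgL l4g0) c111b.row l4y0 l4O0a (nat_lit 378) [nat_lit 340]) i = 0 :=
  allB (rngB_step (allB0 _ _) l4O0_0) (by decide)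
theorem l4R0 (h0 : ∀ s < 2, (c111md φ inj).In ⊤ (l4g0 s)) : Reach ((c111md φ inj).gn l4g0 2) (fun i => (fun x => ln φ (c111b.vec (ZMod 5) 111 x)) (pt c111b.row l4y0 i)) 378 [nat_lit 340] :=
  reach_of_chk (pv := (fun x => ln φ (c111b.vec (ZMod 5) 111 x))) ((Cfg.Ok.actsL c111b_ok (m := (c111md φ inj)) rfl rfl rfl l4g0).ex (l4eg0 h0)) l4O0
theorem l4F0 : ∀ i < 2, (chkF (c111b.imgL l4g1) c111b.row l4y0 (nat_lit 340) [nat_lit 0, nat_lit 1]) i = 0 :=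
  (rng_step (all0 _) l4F0_0)
theorem l4fx0 : ((c111md φ inj).gn l4g1 2) ≤ MulAction.stabilizer G ((fun i => (fun x => ln φ (c111b.vec (ZMod 5) 111 x)) (pt c111b.row l4y0 i)) (nat_lit 340)) :=
  gn_le_stab (Cfg.Ok.actsL c111b_ok (m := (c111md φ inj)) rfl rfl rfl l4g1) l4F0
theorem l4lb0 (h0 : ∀ s < 2, (c111md φ inj).In ⊤ (l4g0 s)) : 6048 ≤ Nat.card ((c111md φ inj).gn l4g0 2) :=
  le_of_eq_of_le (by norm_num) (lower l4y0D (l4R0 h0) (l4le0 h0) l4fx0 (l4lb1 h0))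
theorem l4E : ∀ i < 2, (chkE l4g0 ee [nat_lit 6242085194347, nat_lit 5691269273695]) i = 0 :=
  (rng_step (all0 _) l4E_0)
theorem l4in (h0 : ∀ s < 3, (c111md φ inj).In ⊤ (eg s)) : ∀ s < 2, (c111md φ inj).In ((c111md φ inj).gn eg 3) (l4g0 s) := in_of_chkE (Hel h0) l4E
theorem dK : ∀ i < 3, (chkK c111.mul (dD 1) ag1 ee [nat_lit 8511551438848, nat_lit 4681577630837, nat_lit 6340445470720]) i = 0 :=
  (rng_step (all0 _) dK_0)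
theorem dKL (h0 : ∀ s < 3, (c111md φ inj).In ⊤ (eg s)) (h1 : (c111md φ inj).In ⊤ (dD 1)) : ((c111md φ inj).gn ag1 3) ≤ Lc ((c111md φ inj).gn eg 3) ((c111md φ inj).elt (dD 1))⁻¹ :=
  gn_le (in_of_chkK (Hel h0) h1 (ain1 h0) dK)
theorem dL0 : ∀ i < 3, (chkL c111.mul (dD (nat_lit 0)) eg ee [nat_lit 1, nat_lit 5360177905664, nat_lit 12679666204672]) i = 0 :=
  (rng_step (all0 _) dL0_0)
theorem dLL0 (h0 : ∀ s < 3, (c111md φ inj).In ⊤ (eg s)) (h1 : (c111md φ inj).In ⊤ (dD 1)) : ((c111md φ inj).gn eg 3) ≤ Lc ((c111md φ inj).gn eg 3) ((c111md φ inj).elt (dD (nat_lit 0))) :=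
  gn_le (in_of_chkL (Hel h0) (dtop h0 h1 _) (fun s _ => aeg0 h0 s) dL0)
theorem dM0 : ∀ i < 1, (chkM (c111b.imgL dm0) c111b.row ay0 (nat_lit 8) ay0 [nat_lit 8] [nat_lit 0]) i = 0 :=
  (rng_step (all0 _) dM0_0)
theorem dR0 : ∀ i < 1, (chkR c111.mul dD ee dw0 (nat_lit 0) (nat_lit 5)) i = 0 :=
  (rng_step (all0 _) dR0_0)
theorem dst0 (h0 : ∀ s < 3, (c111md φ inj).In ⊤ (eg s)) (h1 : (c111md φ inj).In ⊤ (dD 1)) : ∀ h ∈ ((c111md φ inj).gn eg 3), ∃ j < 5, DCos ((c111md φ inj).gn eg 3) ((c111md φ inj).elt (dD j)) ((c111md φ inj).elt (dD (nat_lit 0)) * h * (c111md φ inj).elt (dD 1)) :=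
  dc_roots (pv := (fun x => ln φ (c111b.vec (ZMod 5) 111 x))) (dtop h0 h1) (Hel h0) ((aex0 h0).1) (((aex0 h0).2.1).le.trans (dKL h0 h1)) (dLL0 h0 h1)
    (aR0 h0) (Cfg.Ok.actsL c111b_ok (m := (c111md φ inj)) rfl rfl rfl dm0) rfl dM0 dR0
theorem dL1 : ∀ i < 2, (chkL c111.mul (dD (nat_lit 1)) l1g0 ee [nat_lit 6066083826805, nat_lit 3042774614017]) i = 0 :=
  (rng_step (all0 _) dL1_0)
theorem dLL1 (h0 : ∀ s < 3, (c111md φ inj).In ⊤ (eg s)) (h1 : (c111md φ inj).In ⊤ (dD 1)) : ((c111md φ inj).gn l1g0 2) ≤ Lc ((c111md φ inj).gn eg 3) ((c111md φ inj).elt (dD (nat_lit 1))) :=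
  gn_le (in_of_chkL (Hel h0) (dtop h0 h1 _) (l1in h0) dL1)
theorem dO1 : ∀ i < 117180, (chkO (c111b.imgL l1g0) c111b.row ay0 dO1a (nat_lit 117180) [nat_lit 0, nat_lit 4, nat_lit 30, nat_lit 34, nat_lit 105, nat_lit 107, nat_lit 190, nat_lit 280, nat_lit 1095, nat_lit 1097]) i = 0 :=
  allB (rngB_step (rngB_step (rngB_step (rngB_step (rngB_step (rngB_step (rngB_step (rngB_step (rngB_step (rngB_step (rngB_step (rngB_step (rngB_step (rngB_step (rngB_step (rngB_step (rngB_step (rngB_step (rngB_step (rngB_step (rngB_step (rngB_step (rngB_step (rngB_step (rngB_step (rngB_step (rngB_step (rngB_step (rngB_step (rngB_step (rngB_step (rngB_step (rngB_step (rngB_step (rngB_step (rngB_step (rngB_step (rngB_step (rngB_step (rngB_step (rngB_step (rngB_step (rngB_step (rngB_step (rngB_step (rngB_step (rngB_step (rngB_step (rngB_step (rngB_step (rngB_step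 (rngB_step (rngB_step (rngB_step (rngB_step (rngB_step (rngB_step (rngB_step (rngB_step (rngB_step (rngB_step (rngB_step (rngB_step (rngB_step (rngB_step (rngB_step (rngB_step (rngB_step (rngB_step (rngB_step (rngB_step (rngB_step (rngB_step (rngB_step (rngB_step (rngB_step (rngB_step (rngB_step (rngB_step (rngB_step (rngB_step (rngB_step (rngB_step (rngB_step (rngB_step (rngB_step (rngB_step (rngB_step (rngB_step (rngB_step (rngB_step (rngB_step (rngB_step (rngB_step (rngB_step (rngB_step (rngB_step (rngB_step (rngB_step (rngB_step (rngB_step (rngB_step (rngB_step (rngB_step (rngB_step (rngB_step (rngB_step (rngB_step (rngB_step (rngB_step (rngB_step (rngB_step (rngB_step (rngB_step (rngB_step (allB0 _ _) dO1_0) dO1_1) dO1_2) dO1_3) dO1_4) dO1_5) dO1_6) dO1_7) dO1_8) dO1_9) dO1_10) dO1_11) dO1_12) dO1_13) dO1_14) dO1_15) dO1_16) dO1_17)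 dO1_18) dO1_19) dO1_20) dO1_21) dO1_22) dO1_23) dO1_24) dO1_25) dO1_26) dO1_27) dO1_28) dO1_29) dO1_30) dO1_31) dO1_32) dO1_33) dO1_34) dO1_35) dO1_36) dO1_37) dO1_38) dO1_39) dO1_40) dO1_41) dO1_42) dO1_43) dO1_44) dO1_45) dO1_46) dO1_47) dO1_48) dO1_49) dO1_50) dO1_51) dO1_52) dO1_53) dO1_54) dO1_55) dO1_56) dO1_57) dO1_58) dO1_59) dO1_60) dO1_61) dO1_62) dO1_63) dO1_64) dO1_65) dO1_66) dO1_67) dO1_68) dO1_69) dO1_70) dO1_71) dO1_72) dO1_73) dO1_74) dO1_75) dO1_76) dO1_77) dO1_78) dO1_79) dO1_80) dO1_81) dO1_82) dO1_83) dO1_84) dO1_85) dO1_86) dO1_87) dO1_88) dO1_89) dO1_90) dO1_91) dO1_92) dO1_93) dO1_94) dO1_95) dO1_96) dO1_97) dO1_98) dO1_99) dO1_100) dO1_101) dO1_102) dO1_103) dO1_104) dO1_105) dO1_106) dO1_107) dO1_108) dO1_109) dO1_110) dO1_111) dO1_112) dO1_113) dO1_114) (by decide)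
theorem dM1 : ∀ i < 10, (chkM (c111b.imgL dm1) c111b.row ay0 (nat_lit 8) ay0 [nat_lit 0, nat_lit 4, nat_lit 30, nat_lit 34, nat_lit 105, nat_lit 107, nat_lit 190, nat_lit 280, nat_lit 1095, nat_lit 1097] [nat_lit 2, nat_lit 2, nat_lit 3, nat_lit 2, nat_lit 1, nat_lit 0, nat_lit 1, nat_lit 0, nat_lit 3, nat_lit 3]) i = 0 :=
  (rng_step (rng_step (all0 _) dM1_0) dM1_1)
theorem dR1 : ∀ i < 10, (chkR c111.mul dD ee dw1 (nat_lit 1) (nat_lit 5)) i = 0 :=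
  (rng_step (rng_step (rng_step (rng_step (rng_step (all0 _) dR1_0) dR1_1) dR1_2) dR1_3) dR1_4)
theorem dst1 (h0 : ∀ s < 3, (c111md φ inj).In ⊤ (eg s)) (h1 : (c111md φ inj).In ⊤ (dD 1)) : ∀ h ∈ ((c111md φ inj).gn eg 3), ∃ j < 5, DCos ((c111md φ inj).gn eg 3) ((c111md φ inj).elt (dD j)) ((c111md φ inj).elt (dD (nat_lit 1)) * h * (c111md φ inj).elt (dD 1)) :=
  dc_roots (pv := (fun x => ln φ (c111b.vec (ZMod 5) 111 x))) (dtop h0 h1) (Hel h0) ((aex0 h0).1) (((aex0 h0).2.1).le.trans (dKL h0 h1)) (dLL1 h0 h1)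
    (reach_of_chk (pv := (fun x => ln φ (c111b.vec (ZMod 5) 111 x))) ((Cfg.Ok.actsL c111b_ok (m := (c111md φ inj)) rfl rfl rfl l1g0).ex (el_gn fun s hs => (l1in h0 s hs).top)) dO1) (Cfg.Ok.actsL c111b_ok (m := (c111md φ inj)) rfl rfl rfl dm1) rfl dM1 dR1
theorem dL2 : ∀ i < 2, (chkL c111.mul (dD (nat_lit 2)) l2g0 ee [nat_lit 16254451787579, nat_lit 16237674578974]) i = 0 :=
  (rng_step (all0 _) dL2_0)
theorem dLL2 (h0 : ∀ s < 3, (c111md φ inj).In ⊤ (eg s)) (h1 : (c111md φ inj).In ⊤ (dD 1)) : ((c111md φ inj).gn l2g0 2) ≤ Lc ((c111md φ inj).gn eg 3) ((c111md φ inj).elt (dD (nat_lit 2))) :=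
  gn_le (in_of_chkL (Hel h0) (dtop h0 h1 _) (l2in h0) dL2)
theorem dO2 : ∀ i < 117180, (chkO (c111b.imgL l2g0) c111b.row ay0 dO2a (nat_lit 117180) [nat_lit 0, nat_lit 1, nat_lit 2, nat_lit 3, nat_lit 4, nat_lit 20, nat_lit 21, nat_lit 25, nat_lit 29, nat_lit 30, nat_lit 31, nat_lit 32, nat_lit 33, nat_lit 34, nat_lit 35, nat_lit 36, nat_lit 39, nat_lit 40, nat_lit 41, nat_lit 42, nat_lit 43, nat_lit 44, nat_lit 50, nat_lit 51, nat_lit 54, nat_lit 60, nat_lit 62, nat_lit 63, nat_lit 65, nat_lit 66, nat_lit 67, nat_lit 90, nat_lit 91, nat_lit 92, nat_lit 95, nat_lit 96, nat_lit 97, nat_lit 98, nat_lit 99, nat_lit 105, nat_lit 106, nat_lit 107, nat_lit 108, nat_lit 109, nat_lit 120, nat_lit 121, nat_lit 123, nat_lit 140, nat_lit 141, nat_lit 142, nat_lit 143, nat_lit 144, nat_lit 185, nat_lit 189, nat_lit 190, nat_lit 191, nat_lit 235, nat_lit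 236, nat_lit 238, nat_lit 275, nat_lit 276, nat_lit 278, nat_lit 410, nat_lit 411, nat_lit 412, nat_lit 660, nat_lit 662, nat_lit 1015, nat_lit 6695]) i = 0 :=
  allB (rngB_step (rngB_step (rngB_step (rngB_step (rngB_step (rngB_step (rngB_step (rngB_step (rngB_step (rngB_step (rngB_step (rngB_step (rngB_step (rngB_step (rngB_step (rngB_step (rngB_step (rngB_step (rngB_step (rngB_step (rngB_step (rngB_step (rngB_step (rngB_step (rngB_step (rngB_step (rngB_step (rngB_step (rngB_step (rngB_step (rngB_step (rngB_step (rngB_step (rngB_step (rngB_step (rngB_step (rngB_step (rngB_step (rngB_step (rngB_step (rngB_step (rngB_step (rngB_step (rngB_step (rngB_step (rngB_step (rngB_step (rngB_step (rngB_step (rngB_step (rngB_step (rngB_step (rngB_step (rngB_step (rngB_step (rngB_step (rngB_step (rngB_step (rngB_step (rngB_step (rngB_step (rngB_step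 (rngB_step (rngB_step (rngB_step (rngB_step (rngB_step (rngB_step (rngB_step (rngB_step (rngB_step (rngB_step (rngB_step (rngB_step (rngB_step (rngB_step (rngB_step (rngB_step (rngB_step (rngB_step (rngB_step (rngB_step (rngB_step (rngB_step (rngB_step (rngB_step (rngB_step (rngB_step (rngB_step (rngB_step (rngB_step (rngB_step (rngB_step (rngB_step (rngB_step (rngB_step (rngB_step (rngB_step (rngB_step (rngB_step (rngB_step (rngB_step (rngB_step (rngB_step (rngB_step (rngB_step (rngB_step (rngB_step (rngB_step (rngB_step (rngB_step (rngB_step (rngB_step (rngB_step (rngB_step (allB0 _ _) dO2_0) dO2_1) dO2_2) dO2_3) dO2_4) dO2_5) dO2_6) dO2_7) dO2_8) dO2_9) dO2_10) dO2_11) dO2_12) dO2_13) dO2_14) dO2_15) dO2_16) dO2_17) dO2_18) dO2_19) dO2_20) dO2_21) dO2_22) dO2_23) dO2_24) dO2_25) dO2_26) dO2_27) dO2_28) dO2_29) dO2_30) dO2_31) dO2_32)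 dO2_33) dO2_34) dO2_35) dO2_36) dO2_37) dO2_38) dO2_39) dO2_40) dO2_41) dO2_42) dO2_43) dO2_44) dO2_45) dO2_46) dO2_47) dO2_48) dO2_49) dO2_50) dO2_51) dO2_52) dO2_53) dO2_54) dO2_55) dO2_56) dO2_57) dO2_58) dO2_59) dO2_60) dO2_61) dO2_62) dO2_63) dO2_64) dO2_65) dO2_66) dO2_67) dO2_68) dO2_69) dO2_70) dO2_71) dO2_72) dO2_73) dO2_74) dO2_75) dO2_76) dO2_77) dO2_78) dO2_79) dO2_80) dO2_81) dO2_82) dO2_83) dO2_84) dO2_85) dO2_86) dO2_87) dO2_88) dO2_89) dO2_90) dO2_91) dO2_92) dO2_93) dO2_94) dO2_95) dO2_96) dO2_97) dO2_98) dO2_99) dO2_100) dO2_101) dO2_102) dO2_103) dO2_104) dO2_105) dO2_106) dO2_107) dO2_108) dO2_109) dO2_110) dO2_111) dO2_112) dO2_113) dO2_114) (by decide)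
theorem dM2 : ∀ i < 69, (chkM (c111b.imgL dm2) c111b.row ay0 (nat_lit 8) ay0 [nat_lit 0, nat_lit 1, nat_lit 2, nat_lit 3, nat_lit 4, nat_lit 20, nat_lit 21, nat_lit 25, nat_lit 29, nat_lit 30, nat_lit 31, nat_lit 32, nat_lit 33, nat_lit 34, nat_lit 35, nat_lit 36, nat_lit 39, nat_lit 40, nat_lit 41, nat_lit 42, nat_lit 43, nat_lit 44, nat_lit 50, nat_lit 51, nat_lit 54, nat_lit 60, nat_lit 62, nat_lit 63, nat_lit 65, nat_lit 66, nat_lit 67, nat_lit 90, nat_lit 91, nat_lit 92, nat_lit 95, nat_lit 96, nat_lit 97, nat_lit 98, nat_lit 99, nat_lit 105, nat_lit 106, nat_lit 107, nat_lit 108, nat_lit 109, nat_lit 120, nat_lit 121, nat_lit 123, nat_lit 140, nat_lit 141, nat_lit 142, nat_lit 143, nat_lit 144, nat_lit 185, nat_lit 189, nat_lit 190, nat_lit 191, nat_lit 235, nat_lit 236, nat_lit 238, nat_lit 275, nat_lit 276, nat_lit 278, nat_lit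 410, nat_lit 411, nat_lit 412, nat_lit 660, nat_lit 662, nat_lit 1015, nat_lit 6695] [nat_lit 2, nat_lit 2, nat_lit 2, nat_lit 1, nat_lit 2, nat_lit 1, nat_lit 1, nat_lit 3, nat_lit 3, nat_lit 3, nat_lit 2, nat_lit 3, nat_lit 1, nat_lit 2, nat_lit 0, nat_lit 0, nat_lit 2, nat_lit 0, nat_lit 0, nat_lit 2, nat_lit 0, nat_lit 0, nat_lit 2, nat_lit 0, nat_lit 1, nat_lit 2, nat_lit 3, nat_lit 3, nat_lit 1, nat_lit 0, nat_lit 0, nat_lit 2, nat_lit 3, nat_lit 2, nat_lit 3, nat_lit 1, nat_lit 2, nat_lit 1, nat_lit 3, nat_lit 1, nat_lit 1, nat_lit 0, nat_lit 1, nat_lit 3, nat_lit 0, nat_lit 3, nat_lit 3, nat_lit 1, nat_lit 2, nat_lit 1, nat_lit 0, nat_lit 3, nat_lit 0, nat_lit 3, nat_lit 1, nat_lit 2, nat_lit 2, nat_lit 2, nat_lit 3, nat_lit 0, nat_lit 1, nat_lit 3, nat_lit 3, nat_lit 0, nat_lit 1, nat_lit 0, nat_lit 0, nat_lit 2, nat_lit 1]) i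 = 0 :=
  (rng_step (rng_step (rng_step (rng_step (rng_step (rng_step (rng_step (rng_step (rng_step (all0 _) dM2_0) dM2_1) dM2_2) dM2_3) dM2_4) dM2_5) dM2_6) dM2_7) dM2_8)
theorem dR2 : ∀ i < 69, (chkR c111.mul dD ee dw2 (nat_lit 2) (nat_lit 5)) i = 0 :=
  (rng_step (rng_step (rng_step (rng_step (rng_step (rng_step (rng_step (rng_step (rng_step (rng_step (rng_step (rng_step (rng_step (rng_step (rng_step (rng_step (rng_step (rng_step (rng_step (rng_step (rng_step (rng_step (rng_step (rng_step (rng_step (rng_step (rng_step (rng_step (rng_step (rng_step (rng_step (rng_step (rng_step (rng_step (rng_step (all0 _) dR2_0) dR2_1) dR2_2) dR2_3) dR2_4) dR2_5) dR2_6) dR2_7) dR2_8) dR2_9) dR2_10) dR2_11) dR2_12) dR2_13) dR2_14) dR2_15) dR2_16) dR2_17) dR2_18) dR2_19) dR2_20) dR2_21) dR2_22) dR2_23) dR2_24) dR2_25) dR2_26) dR2_27) dR2_28) dR2_29) dR2_30)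 dR2_31) dR2_32) dR2_33) dR2_34)
theorem dst2 (h0 : ∀ s < 3, (c111md φ inj).In ⊤ (eg s)) (h1 : (c111md φ inj).In ⊤ (dD 1)) : ∀ h ∈ ((c111md φ inj).gn eg 3), ∃ j < 5, DCos ((c111md φ inj).gn eg 3) ((c111md φ inj).elt (dD j)) ((c111md φ inj).elt (dD (nat_lit 2)) * h * (c111md φ inj).elt (dD 1)) :=
  dc_roots (pv := (fun x => ln φ (c111b.vec (ZMod 5) 111 x))) (dtop h0 h1) (Hel h0) ((aex0 h0).1) (((aex0 h0).2.1).le.trans (dKL h0 h1)) (dLL2 h0 h1)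
    (reach_of_chk (pv := (fun x => ln φ (c111b.vec (ZMod 5) 111 x))) ((Cfg.Ok.actsL c111b_ok (m := (c111md φ inj)) rfl rfl rfl l2g0).ex (el_gn fun s hs => (l2in h0 s hs).top)) dO2) (Cfg.Ok.actsL c111b_ok (m := (c111md φ inj)) rfl rfl rfl dm2) rfl dM2 dR2
theorem dL3 : ∀ i < 2, (chkL c111.mul (dD (nat_lit 3)) l3g0 ee [nat_lit 3491105741907, nat_lit 11759259650346]) i = 0 :=
  (rng_step (all0 _) dL3_0)
theorem dLL3 (h0 : ∀ s < 3, (c111md φ inj).In ⊤ (eg s)) (h1 : (c111md φ inj).In ⊤ (dD 1)) : ((c111md φ inj).gn l3g0 2) ≤ Lc ((c111md φ inj).gn eg 3) ((c111md φ inj).elt (dD (nat_lit 3))) :=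
  gn_le (in_of_chkL (Hel h0) (dtop h0 h1 _) (l3in h0) dL3)
theorem dO3 : ∀ i < 117180, (chkO (c111b.imgL l3g0) c111b.row ay0 dO3a (nat_lit 117180) [nat_lit 0, nat_lit 1, nat_lit 2, nat_lit 3, nat_lit 4, nat_lit 30, nat_lit 31, nat_lit 32, nat_lit 33, nat_lit 34, nat_lit 35, nat_lit 36, nat_lit 37, nat_lit 38, nat_lit 39, nat_lit 40, nat_lit 41, nat_lit 42, nat_lit 43, nat_lit 44, nat_lit 45, nat_lit 46, nat_lit 47, nat_lit 48, nat_lit 49, nat_lit 50, nat_lit 51, nat_lit 52, nat_lit 53, nat_lit 54, nat_lit 55, nat_lit 56, nat_lit 57, nat_lit 58, nat_lit 59, nat_lit 60, nat_lit 61, nat_lit 62, nat_lit 63, nat_lit 64, nat_lit 65, nat_lit 66, nat_lit 67, nat_lit 70, nat_lit 71, nat_lit 72, nat_lit 75, nat_lit 76, nat_lit 77, nat_lit 78, nat_lit 79, nat_lit 90, nat_lit 91, nat_lit 92, nat_lit 93, nat_lit 94, nat_lit 95, nat_lit 96, nat_lit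 97, nat_lit 100, nat_lit 101, nat_lit 102, nat_lit 103, nat_lit 104, nat_lit 105, nat_lit 106, nat_lit 109, nat_lit 110, nat_lit 111, nat_lit 112, nat_lit 113, nat_lit 114, nat_lit 125, nat_lit 126, nat_lit 127, nat_lit 135, nat_lit 136, nat_lit 137, nat_lit 138, nat_lit 139, nat_lit 140, nat_lit 141, nat_lit 142, nat_lit 143, nat_lit 144, nat_lit 145, nat_lit 147, nat_lit 148, nat_lit 165, nat_lit 166, nat_lit 167, nat_lit 168, nat_lit 169, nat_lit 170, nat_lit 171, nat_lit 172, nat_lit 175, nat_lit 176, nat_lit 178, nat_lit 255, nat_lit 256, nat_lit 257, nat_lit 258, nat_lit 259, nat_lit 270, nat_lit 271, nat_lit 272, nat_lit 515, nat_lit 519, nat_lit 530, nat_lit 531, nat_lit 585, nat_lit 586, nat_lit 589, nat_lit 590, nat_lit 591, nat_lit 592, nat_lit 593, nat_lit 594, nat_lit 595, nat_lit 596, nat_lit 597, nat_lit 598, nat_lit 599,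 nat_lit 635, nat_lit 636, nat_lit 637, nat_lit 638, nat_lit 639, nat_lit 745, nat_lit 746, nat_lit 747, nat_lit 810, nat_lit 811, nat_lit 812, nat_lit 870, nat_lit 871, nat_lit 872, nat_lit 873, nat_lit 874, nat_lit 1235, nat_lit 1237, nat_lit 1239, nat_lit 1900, nat_lit 1902, nat_lit 1903]) i = 0 :=
  allB (rngB_step (rngB_step (rngB_step (rngB_step (rngB_step (rngB_step (rngB_step (rngB_step (rngB_step (rngB_step (rngB_step (rngB_step (rngB_step (rngB_step (rngB_step (rngB_step (rngB_step (rngB_step (rngB_step (rngB_step (rngB_step (rngB_step (rngB_step (rngB_step (rngB_step (rngB_step (rngB_step (rngB_step (rngB_step (rngB_step (rngB_step (rngB_step (rngB_step (rngB_step (rngB_step (rngB_step (rngB_step (rngB_step (rngB_step (rngB_step (rngB_step (rngB_step (rngB_step (rngB_step (rngB_step (rngB_step (rngB_step (rngB_step (rngB_step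 (rngB_step (rngB_step (rngB_step (rngB_step (rngB_step (rngB_step (rngB_step (rngB_step (rngB_step (rngB_step (rngB_step (rngB_step (rngB_step (rngB_step (rngB_step (rngB_step (rngB_step (rngB_step (rngB_step (rngB_step (rngB_step (rngB_step (rngB_step (rngB_step (rngB_step (rngB_step (rngB_step (rngB_step (rngB_step (rngB_step (rngB_step (rngB_step (rngB_step (rngB_step (rngB_step (rngB_step (rngB_step (rngB_step (rngB_step (rngB_step (rngB_step (rngB_step (rngB_step (rngB_step (rngB_step (rngB_step (rngB_step (rngB_step (rngB_step (rngB_step (rngB_step (rngB_step (rngB_step (rngB_step (rngB_step (rngB_step (rngB_step (rngB_step (rngB_step (rngB_step (rngB_step (rngB_step (rngB_step (rngB_step (rngB_step (rngB_step (allB0 _ _) dO3_0) dO3_1) dO3_2) dO3_3) dO3_4) dO3_5) dO3_6) dO3_7) dO3_8) dO3_9) dO3_10) dO3_11) dO3_12) dO3_13) dO3_14)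 dO3_15) dO3_16) dO3_17) dO3_18) dO3_19) dO3_20) dO3_21) dO3_22) dO3_23) dO3_24) dO3_25) dO3_26) dO3_27) dO3_28) dO3_29) dO3_30) dO3_31) dO3_32) dO3_33) dO3_34) dO3_35) dO3_36) dO3_37) dO3_38) dO3_39) dO3_40) dO3_41) dO3_42) dO3_43) dO3_44) dO3_45) dO3_46) dO3_47) dO3_48) dO3_49) dO3_50) dO3_51) dO3_52) dO3_53) dO3_54) dO3_55) dO3_56) dO3_57) dO3_58) dO3_59) dO3_60) dO3_61) dO3_62) dO3_63) dO3_64) dO3_65) dO3_66) dO3_67) dO3_68) dO3_69) dO3_70) dO3_71) dO3_72) dO3_73) dO3_74) dO3_75) dO3_76) dO3_77) dO3_78) dO3_79) dO3_80) dO3_81) dO3_82) dO3_83) dO3_84) dO3_85) dO3_86) dO3_87) dO3_88) dO3_89) dO3_90) dO3_91) dO3_92) dO3_93) dO3_94) dO3_95) dO3_96) dO3_97) dO3_98) dO3_99) dO3_100) dO3_101) dO3_102) dO3_103) dO3_104) dO3_105) dO3_106) dO3_107) dO3_108) dO3_109) dO3_110) dO3_111) dO3_112) dO3_113) dO3_114) (by decide)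
theorem dM3 : ∀ i < 146, (chkM (c111b.imgL dm3) c111b.row ay0 (nat_lit 8) ay0 [nat_lit 0, nat_lit 1, nat_lit 2, nat_lit 3, nat_lit 4, nat_lit 30, nat_lit 31, nat_lit 32, nat_lit 33, nat_lit 34, nat_lit 35, nat_lit 36, nat_lit 37, nat_lit 38, nat_lit 39, nat_lit 40, nat_lit 41, nat_lit 42, nat_lit 43, nat_lit 44, nat_lit 45, nat_lit 46, nat_lit 47, nat_lit 48, nat_lit 49, nat_lit 50, nat_lit 51, nat_lit 52, nat_lit 53, nat_lit 54, nat_lit 55, nat_lit 56, nat_lit 57, nat_lit 58, nat_lit 59, nat_lit 60, nat_lit 61, nat_lit 62, nat_lit 63, nat_lit 64, nat_lit 65, nat_lit 66, nat_lit 67, nat_lit 70, nat_lit 71, nat_lit 72, nat_lit 75, nat_lit 76, nat_lit 77, nat_lit 78, nat_lit 79, nat_lit 90, nat_lit 91, nat_lit 92, nat_lit 93, nat_lit 94, nat_lit 95, nat_lit 96, nat_lit 97, nat_lit 100, nat_lit 101, nat_lit 102, nat_lit 103, nat_lit 104,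 nat_lit 105, nat_lit 106, nat_lit 109, nat_lit 110, nat_lit 111, nat_lit 112, nat_lit 113, nat_lit 114, nat_lit 125, nat_lit 126, nat_lit 127, nat_lit 135, nat_lit 136, nat_lit 137, nat_lit 138, nat_lit 139, nat_lit 140, nat_lit 141, nat_lit 142, nat_lit 143, nat_lit 144, nat_lit 145, nat_lit 147, nat_lit 148, nat_lit 165, nat_lit 166, nat_lit 167, nat_lit 168, nat_lit 169, nat_lit 170, nat_lit 171, nat_lit 172, nat_lit 175, nat_lit 176, nat_lit 178, nat_lit 255, nat_lit 256, nat_lit 257, nat_lit 258, nat_lit 259, nat_lit 270, nat_lit 271, nat_lit 272, nat_lit 515, nat_lit 519, nat_lit 530, nat_lit 531, nat_lit 585, nat_lit 586, nat_lit 589, nat_lit 590, nat_lit 591, nat_lit 592, nat_lit 593, nat_lit 594, nat_lit 595, nat_lit 596, nat_lit 597, nat_lit 598, nat_lit 599, nat_lit 635, nat_lit 636, nat_lit 637, nat_lit 638, nat_lit 639, nat_lit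 745, nat_lit 746, nat_lit 747, nat_lit 810, nat_lit 811, nat_lit 812, nat_lit 870, nat_lit 871, nat_lit 872, nat_lit 873, nat_lit 874, nat_lit 1235, nat_lit 1237, nat_lit 1239, nat_lit 1900, nat_lit 1902, nat_lit 1903] [nat_lit 2, nat_lit 2, nat_lit 2, nat_lit 1, nat_lit 2, nat_lit 3, nat_lit 2, nat_lit 3, nat_lit 1, nat_lit 2, nat_lit 0, nat_lit 0, nat_lit 1, nat_lit 3, nat_lit 2, nat_lit 0, nat_lit 0, nat_lit 2, nat_lit 0, nat_lit 0, nat_lit 3, nat_lit 1, nat_lit 2, nat_lit 2, nat_lit 3, nat_lit 2, nat_lit 0, nat_lit 0, nat_lit 0, nat_lit 1, nat_lit 1, nat_lit 1, nat_lit 2, nat_lit 0, nat_lit 2, nat_lit 2, nat_lit 3, nat_lit 3, nat_lit 3, nat_lit 2, nat_lit 1, nat_lit 0, nat_lit 0, nat_lit 1, nat_lit 3, nat_lit 0, nat_lit 0, nat_lit 0, nat_lit 1, nat_lit 3, nat_lit 1, nat_lit 2, nat_lit 3, nat_lit 2, nat_lit 3, nat_lit 3, nat_lit 3,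 nat_lit 1, nat_lit 2, nat_lit 0, nat_lit 0, nat_lit 1, nat_lit 1, nat_lit 0, nat_lit 1, nat_lit 1, nat_lit 3, nat_lit 3, nat_lit 3, nat_lit 0, nat_lit 3, nat_lit 1, nat_lit 0, nat_lit 0, nat_lit 2, nat_lit 1, nat_lit 1, nat_lit 0, nat_lit 3, nat_lit 2, nat_lit 1, nat_lit 2, nat_lit 1, nat_lit 0, nat_lit 3, nat_lit 1, nat_lit 1, nat_lit 0, nat_lit 3, nat_lit 1, nat_lit 1, nat_lit 1, nat_lit 2, nat_lit 1, nat_lit 2, nat_lit 0, nat_lit 1, nat_lit 0, nat_lit 3, nat_lit 1, nat_lit 1, nat_lit 1, nat_lit 3, nat_lit 2, nat_lit 2, nat_lit 2, nat_lit 0, nat_lit 2, nat_lit 2, nat_lit 0, nat_lit 0, nat_lit 0, nat_lit 2, nat_lit 1, nat_lit 2, nat_lit 0, nat_lit 2, nat_lit 2, nat_lit 2, nat_lit 3, nat_lit 1, nat_lit 0, nat_lit 3, nat_lit 1, nat_lit 1, nat_lit 3, nat_lit 3, nat_lit 2, nat_lit 3, nat_lit 3, nat_lit 0, nat_lit 0, nat_lit 2, nat_lit 0,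 nat_lit 1, nat_lit 1, nat_lit 3, nat_lit 0, nat_lit 0, nat_lit 2, nat_lit 1, nat_lit 0, nat_lit 3, nat_lit 3, nat_lit 3, nat_lit 3]) i = 0 :=
  (rng_step (rng_step (rng_step (rng_step (rng_step (rng_step (rng_step (rng_step (rng_step (rng_step (rng_step (rng_step (rng_step (rng_step (rng_step (rng_step (rng_step (rng_step (rng_step (all0 _) dM3_0) dM3_1) dM3_2) dM3_3) dM3_4) dM3_5) dM3_6) dM3_7) dM3_8) dM3_9) dM3_10) dM3_11) dM3_12) dM3_13) dM3_14) dM3_15) dM3_16) dM3_17) dM3_18)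
theorem dR3 : ∀ i < 146, (chkR c111.mul dD ee dw3 (nat_lit 3) (nat_lit 5)) i = 0 :=
  (rng_step (rng_step (rng_step (rng_step (rng_step (rng_step (rng_step (rng_step (rng_step (rng_step (rng_step (rng_step (rng_step (rng_step (rng_step (rng_step (rng_step (rng_step (rng_step (rng_step (rng_step (rng_step (rng_step (rng_step (rng_step (rng_step (rng_step (rng_step (rng_step (rng_step (rng_step (rng_step (rng_step (rng_step (rng_step (rng_step (rng_step (rng_step (rng_step (rng_step (rng_step (rng_step (rng_step (rng_step (rng_step (rng_step (rng_step (rng_step (rng_step (rng_step (rng_step (rng_step (rng_step (rng_step (rng_step (rng_step (rng_step (rng_step (rng_step (rng_step (rng_step (rng_step (rng_step (rng_step (rng_step (rng_step (rng_step (rng_step (rng_step (rng_step (rng_step (rng_step (rng_step (all0 _) dR3_0) dR3_1) dR3_2) dR3_3)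 dR3_4) dR3_5) dR3_6) dR3_7) dR3_8) dR3_9) dR3_10) dR3_11) dR3_12) dR3_13) dR3_14) dR3_15) dR3_16) dR3_17) dR3_18) dR3_19) dR3_20) dR3_21) dR3_22) dR3_23) dR3_24) dR3_25) dR3_26) dR3_27) dR3_28) dR3_29) dR3_30) dR3_31) dR3_32) dR3_33) dR3_34) dR3_35) dR3_36) dR3_37) dR3_38) dR3_39) dR3_40) dR3_41) dR3_42) dR3_43) dR3_44) dR3_45) dR3_46) dR3_47) dR3_48) dR3_49) dR3_50) dR3_51) dR3_52) dR3_53) dR3_54) dR3_55) dR3_56) dR3_57) dR3_58) dR3_59) dR3_60) dR3_61) dR3_62) dR3_63) dR3_64) dR3_65) dR3_66) dR3_67) dR3_68) dR3_69) dR3_70) dR3_71) dR3_72)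
theorem dst3 (h0 : ∀ s < 3, (c111md φ inj).In ⊤ (eg s)) (h1 : (c111md φ inj).In ⊤ (dD 1)) : ∀ h ∈ ((c111md φ inj).gn eg 3), ∃ j < 5, DCos ((c111md φ inj).gn eg 3) ((c111md φ inj).elt (dD j)) ((c111md φ inj).elt (dD (nat_lit 3)) * h * (c111md φ inj).elt (dD 1)) :=
  dc_roots (pv := (fun x => ln φ (c111b.vec (ZMod 5) 111 x))) (dtop h0 h1) (Hel h0) ((aex0 h0).1) (((aex0 h0).2.1).le.trans (dKL h0 h1)) (dLL3 h0 h1)
    (reach_of_chk (pv := (fun x => ln φ (c111b.vec (ZMod 5) 111 x))) ((Cfg.Ok.actsL c111b_ok (m := (c111md φ inj)) rfl rfl rfl l3g0).ex (el_gn fun s hs => (l3in h0 s hs).top)) dO3) (Cfg.Ok.actsL c111b_ok (m := (c111md φ inj)) rfl rfl rfl dm3) rfl dM3 dR3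
theorem dL4 : ∀ i < 2, (chkL c111.mul (dD (nat_lit 4)) l4g0 ee [nat_lit 5439011701146, nat_lit 17159064036443]) i = 0 :=
  (rng_step (all0 _) dL4_0)
theorem dLL4 (h0 : ∀ s < 3, (c111md φ inj).In ⊤ (eg s)) (h1 : (c111md φ inj).In ⊤ (dD 1)) : ((c111md φ inj).gn l4g0 2) ≤ Lc ((c111md φ inj).gn eg 3) ((c111md φ inj).elt (dD (nat_lit 4))) :=
  gn_le (in_of_chkL (Hel h0) (dtop h0 h1 _) (l4in h0) dL4)
theorem dO4 : ∀ i < 117180, (chkO (c111b.imgL l4g0) c111b.row ay0 dO4a (nat_lit 117180) [nat_lit 0, nat_lit 1, nat_lit 2, nat_lit 3, nat_lit 4, nat_lit 5, nat_lit 6, nat_lit 7, nat_lit 8, nat_lit 9, nat_lit 60, nat_lit 61, nat_lit 62, nat_lit 63, nat_lit 64, nat_lit 65, nat_lit 68, nat_lit 80, nat_lit 81, nat_lit 675, nat_lit 677, nat_lit 679, nat_lit 750, nat_lit 751, nat_lit 845, nat_lit 846]) i = 0 :=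
  allB (rngB_step (rngB_step (rngB_step (rngB_step (rngB_step (rngB_step (rngB_step (rngB_step (rngB_step (rngB_step (rngB_step (rngB_step (rngB_step (rngB_step (rngB_step (rngB_step (rngB_step (rngB_step (rngB_step (rngB_step (rngB_step (rngB_step (rngB_step (rngB_step (rngB_step (rngB_step (rngB_step (rngB_step (rngB_step (rngB_step (rngB_step (rngB_step (rngB_step (rngB_step (rngB_step (rngB_step (rngB_step (rngB_step (rngB_step (rngB_step (rngB_step (rngB_step (rngB_step (rngB_step (rngB_step (rngB_step (rngB_step (rngB_step (rngB_step (rngB_step (rngB_step (rngB_step (rngB_step (rngB_step (rngB_step (rngB_step (rngB_step (rngB_step (rngB_step (rngB_step (rngB_step (rngB_step (rngB_step (rngB_step (rngB_step (rngB_step (rngB_step (rngB_step (rngB_step (rngB_step (rngB_step (rngB_step (rngB_step (rngB_step (rngB_step (rngB_step (rngB_step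 (rngB_step (rngB_step (rngB_step (rngB_step (rngB_step (rngB_step (rngB_step (rngB_step (rngB_step (rngB_step (rngB_step (rngB_step (rngB_step (rngB_step (rngB_step (rngB_step (rngB_step (rngB_step (rngB_step (rngB_step (rngB_step (rngB_step (rngB_step (rngB_step (rngB_step (rngB_step (rngB_step (rngB_step (rngB_step (rngB_step (rngB_step (rngB_step (rngB_step (rngB_step (rngB_step (rngB_step (rngB_step (rngB_step (allB0 _ _) dO4_0) dO4_1) dO4_2) dO4_3) dO4_4) dO4_5) dO4_6) dO4_7) dO4_8) dO4_9) dO4_10) dO4_11) dO4_12) dO4_13) dO4_14) dO4_15) dO4_16) dO4_17) dO4_18) dO4_19) dO4_20) dO4_21) dO4_22) dO4_23) dO4_24) dO4_25) dO4_26) dO4_27) dO4_28) dO4_29) dO4_30) dO4_31) dO4_32) dO4_33) dO4_34) dO4_35) dO4_36) dO4_37) dO4_38) dO4_39) dO4_40) dO4_41) dO4_42) dO4_43) dO4_44) dO4_45) dO4_46) dO4_47) dO4_48) dO4_49) dO4_50) dO4_51) dO4_52) dO4_53)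 dO4_54) dO4_55) dO4_56) dO4_57) dO4_58) dO4_59) dO4_60) dO4_61) dO4_62) dO4_63) dO4_64) dO4_65) dO4_66) dO4_67) dO4_68) dO4_69) dO4_70) dO4_71) dO4_72) dO4_73) dO4_74) dO4_75) dO4_76) dO4_77) dO4_78) dO4_79) dO4_80) dO4_81) dO4_82) dO4_83) dO4_84) dO4_85) dO4_86) dO4_87) dO4_88) dO4_89) dO4_90) dO4_91) dO4_92) dO4_93) dO4_94) dO4_95) dO4_96) dO4_97) dO4_98) dO4_99) dO4_100) dO4_101) dO4_102) dO4_103) dO4_104) dO4_105) dO4_106) dO4_107) dO4_108) dO4_109) dO4_110) dO4_111) dO4_112) dO4_113) dO4_114) (by decide)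
theorem dM4 : ∀ i < 26, (chkM (c111b.imgL dm4) c111b.row ay0 (nat_lit 8) ay0 [nat_lit 0, nat_lit 1, nat_lit 2, nat_lit 3, nat_lit 4, nat_lit 5, nat_lit 6, nat_lit 7, nat_lit 8, nat_lit 9, nat_lit 60, nat_lit 61, nat_lit 62, nat_lit 63, nat_lit 64, nat_lit 65, nat_lit 68, nat_lit 80, nat_lit 81, nat_lit 675, nat_lit 677, nat_lit 679, nat_lit 750, nat_lit 751, nat_lit 845, nat_lit 846] [nat_lit 2, nat_lit 2, nat_lit 2, nat_lit 1, nat_lit 2, nat_lit 2, nat_lit 2, nat_lit 3, nat_lit 0, nat_lit 0, nat_lit 2, nat_lit 3, nat_lit 3, nat_lit 3, nat_lit 2, nat_lit 1, nat_lit 1, nat_lit 0, nat_lit 0, nat_lit 0, nat_lit 3, nat_lit 0, nat_lit 3, nat_lit 1, nat_lit 2, nat_lit 2]) i = 0 :=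
  (rng_step (rng_step (rng_step (rng_step (all0 _) dM4_0) dM4_1) dM4_2) dM4_3)
theorem dR4 : ∀ i < 26, (chkR c111.mul dD ee dw4 (nat_lit 4) (nat_lit 5)) i = 0 :=
  (rng_step (rng_step (rng_step (rng_step (rng_step (rng_step (rng_step (rng_step (rng_step (rng_step (rng_step (rng_step (rng_step (all0 _) dR4_0) dR4_1) dR4_2) dR4_3) dR4_4) dR4_5) dR4_6) dR4_7) dR4_8) dR4_9) dR4_10) dR4_11) dR4_12)
theorem dst4 (h0 : ∀ s < 3, (c111md φ inj).In ⊤ (eg s)) (h1 : (c111md φ inj).In ⊤ (dD 1)) : ∀ h ∈ ((c111md φ inj).gn eg 3), ∃ j < 5, DCos ((c111md φ inj).gn eg 3) ((c111md φ inj).elt (dD j)) ((c111md φ inj).elt (dD (nat_lit 4)) * h * (c111md φ inj).elt (dD 1)) :=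
  dc_roots (pv := (fun x => ln φ (c111b.vec (ZMod 5) 111 x))) (dtop h0 h1) (Hel h0) ((aex0 h0).1) (((aex0 h0).2.1).le.trans (dKL h0 h1)) (dLL4 h0 h1)
    (reach_of_chk (pv := (fun x => ln φ (c111b.vec (ZMod 5) 111 x))) ((Cfg.Ok.actsL c111b_ok (m := (c111md φ inj)) rfl rfl rfl l4g0).ex (el_gn fun s hs => (l4in h0 s hs).top)) dO4) (Cfg.Ok.actsL c111b_ok (m := (c111md φ inj)) rfl rfl rfl dm4) rfl dM4 dR4
theorem dcov (h0 : ∀ s < 3, (c111md φ inj).In ⊤ (eg s)) (h1 : (c111md φ inj).In ⊤ (dD 1)) : ∀ x ∈ ((c111md φ inj).gn dg 4), ∃ i < 5, DCos ((c111md φ inj).gn eg 3) ((c111md φ inj).elt (dD i)) x :=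
  dc_all (by decide) dD0 h1 fun i hi => by
    interval_cases i; exacts [dst0 h0 h1, dst1 h0 h1, dst2 h0 h1, dst3 h0 h1, dst4 h0 h1]
theorem dB (h0 : ∀ s < 3, (c111md φ inj).In ⊤ (eg s)) (h1 : (c111md φ inj).In ⊤ (dD 1)) : ∀ i < 5, getN [nat_lit 5859000000, nat_lit 300000, nat_lit 2880, nat_lit 1008, nat_lit 6048] i ≤ Nat.card (Lc ((c111md φ inj).gn eg 3) ((c111md φ inj).elt (dD i))) := fun i hi => by
  interval_cases i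
  exacts [(alb0 h0).trans (Subgroup.card_le_of_le (dLL0 h0 h1)),
    (l1lb0 fun s hs => (l1in h0 s hs).top).trans (Subgroup.card_le_of_le (dLL1 h0 h1)),
    (l2lb0 fun s hs => (l2in h0 s hs).top).trans (Subgroup.card_le_of_le (dLL2 h0 h1)),
    (l3lb0 fun s hs => (l3in h0 s hs).top).trans (Subgroup.card_le_of_le (dLL3 h0 h1)),
    (l4lb0 fun s hs => (l4in h0 s hs).top).trans (Subgroup.card_le_of_le (dLL4 h0 h1))]
theorem dBC : (∀ i < 5, 5859000000 = getN [nat_lit 5859000000, nat_lit 300000, nat_lit 2880, nat_lit 1008, nat_lit 6048] i * getN [nat_lit 1, nat_lit 19530, nat_lit 2034375, nat_lit 5812500, nat_lit 968750] i) ∧ 5859000000 * ∑ i ∈ Finset.range 5, getN [nat_lit 1, nat_lit 19530, nat_lit 2034375, nat_lit 5812500, nat_lit 968750] i = 51765179004000000 := by decide +kernel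
theorem dub (h0 : ∀ s < 3, (c111md φ inj).In ⊤ (eg s)) (h1 : (c111md φ inj).In ⊤ (dD 1)) : Nat.card ((c111md φ inj).gn dg 4) ≤ 51765179004000000 :=
  (dc_card_le (dcov h0 h1) (Hub h0) _ _ (dB h0 h1) dBC.1).trans dBC.2.le
theorem dex (h0 : ∀ s < 3, (c111md φ inj).In ⊤ (eg s)) (h1 : (c111md φ inj).In ⊤ (dD 1)) (hA : Nat.card ((c111md φ inj).gn eg 3) = 5859000000) (hG : 51765179004000000 ≤ Nat.card ((c111md φ inj).gn dg 4)) : ∀ i < 5, Nat.card (Lc ((c111md φ inj).gn eg 3) ((c111md φ inj).elt (dD i))) = getN [nat_lit 5859000000, nat_lit 300000, nat_lit 2880, nat_lit 1008, nat_lit 6048] i :=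
  dc_exact (dcov h0 h1) hA _ _ (dB h0 h1) dBC.1 (dBC.2.le.trans hG)
theorem dx2 (h0 : ∀ s < 3, (c111md φ inj).In ⊤ (eg s)) (h1 : (c111md φ inj).In ⊤ (dD 1)) (M : Subgroup G) (h : ((c111md φ inj).gn eg 3) ≤ M) (hi : (c111md φ inj).elt (dD (nat_lit 2)) ∈ M) : (c111md φ inj).elt (dD 1) ∈ M :=
  (mem_of_chkD (dtop h0 h1) (Hel h0) dX2 h hi hi)
theorem dx3 (h0 : ∀ s < 3, (c111md φ inj).In ⊤ (eg s)) (h1 : (c111md φ inj).In ⊤ (dD 1)) (M : Subgroup G) (h : ((c111md φ inj).gn eg 3) ≤ M) (hi : (c111md φ inj).elt (dD (nat_lit 3)) ∈ M) : (c111md φ inj).elt (dD 1) ∈ M :=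
  dx2 h0 h1 M h (mem_of_chkD (dtop h0 h1) (Hel h0) dX3 h hi hi)
theorem dx4 (h0 : ∀ s < 3, (c111md φ inj).In ⊤ (eg s)) (h1 : (c111md φ inj).In ⊤ (dD 1)) (M : Subgroup G) (h : ((c111md φ inj).gn eg 3) ≤ M) (hi : (c111md φ inj).elt (dD (nat_lit 4)) ∈ M) : (c111md φ inj).elt (dD 1) ∈ M :=
  dx2 h0 h1 M h (mem_of_chkD (dtop h0 h1) (Hel h0) dX4 h hi hi)
theorem dmax (h0 : ∀ s < 3, (c111md φ inj).In ⊤ (eg s)) (h1 : (c111md φ inj).In ⊤ (dD 1)) : ∀ M : Subgroup G, ((c111md φ inj).gn eg 3) ≤ M → M ≤ ((c111md φ inj).gn dg 4) → M = ((c111md φ inj).gn eg 3) ∨ M = ((c111md φ inj).gn dg 4) :=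
  dc_max (d := fun i => (c111md φ inj).elt (dD i)) ((congrArg _ dD0).trans elt_one) (gn_cons_le h1) (dcov h0 h1) fun i hi h0' => by
    interval_cases i; exacts [fun _ _ h => h, dx2 h0 h1, dx3 h0 h1, dx4 h0 h1]
theorem dI : ∀ i < 4, (chkI c111.mul c111.one dg dgi) i = 0 :=
  (rng_step (all0 _) dI_0)
theorem dP : ∀ i < 4, (chkP c111.mul c111.one dg de [[nat_lit 1819033208420527350014464019, nat_lit 1776316301397647721571351666],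
  [nat_lit 481808856626421633272306459, nat_lit 2384948581376621919934119739],
  [nat_lit 1986228992703966178764716691, nat_lit 436174380023433078925613979],
  [nat_lit 2038713472364913800646581435, nat_lit 2041800854902717589400397939]] (nat_lit 11)) i = 0 :=
  (rng_step (rng_step (rng_step (rng_step (all0 _) dP_0) dP_1) dP_2) dP_3)
theorem etE : ∀ i < 5, (chkE et de [nat_lit 819796073562765698980181371, nat_lit 363128283514484082628978074, nat_lit 458020922222836880976858001, nat_lit 1536021367411080260727273843, nat_lit 1631120505103076432008222811]) i = 0 :=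
  (rng_step (rng_step (all0 _) etE_0) etE_1)
theorem t1top0 (h0 : ∀ s < 2, (c111md φ inj).In ⊤ (t1g0 s)) : ∀ s < 2, (c111md φ inj).In ⊤ (t1g0 s) := h0
theorem t1eg0 (h0 : ∀ s < 2, (c111md φ inj).In ⊤ (t1g0 s)) : (c111md φ inj).El ((c111md φ inj).gn t1g0 2) t1g0 := el_gn (t1top0 h0)
theorem t1le0 (h0 : ∀ s < 2, (c111md φ inj).In ⊤ (t1g0 s)) : (⊥ : Subgroup G) ≤ ((c111md φ inj).gn t1g0 2) := bot_le
theorem t1el1 (h0 : ∀ s < 2, (c111md φ inj).In ⊤ (t1g0 s)) : (c111md φ inj).El ⊥ t1e1 := el_one _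
theorem t1ub1 (h0 : ∀ s < 2, (c111md φ inj).In ⊤ (t1g0 s)) : Nat.card (⊥ : Subgroup G) ≤ 1 := card_bot_le
theorem t1S0 : ∀ i < 32, (chkS c111.mul t1g0 (nat_lit 2) t1T0 t1e1 t1c0 (nat_lit 5) (nat_lit 32)) i = 0 :=
  (rng_step (rng_step (all0 _) t1S0_0) t1S0_1)
theorem t1sch0 (h0 : ∀ s < 2, (c111md φ inj).In ⊤ (t1g0 s)) : (∀ g ∈ ((c111md φ inj).gn t1g0 2), ∃ i < 32, (c111md φ inj).Cos (⊥ : Subgroup G) t1T0 g i) ∧ (∀ i < 32, (c111md φ inj).In ((c111md φ inj).gn t1g0 2) (t1T0 i)) ∧ Nat.card ((c111md φ inj).gn t1g0 2) ≤ 32 * Nat.card (⊥ : Subgroup G) :=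
  schreier (t1el1 h0) (by decide) t1T0_0 (t1top0 h0) (t1le0 h0) t1S0
theorem t1el0 (h0 : ∀ s < 2, (c111md φ inj).In ⊤ (t1g0 s)) : (c111md φ inj).El ((c111md φ inj).gn t1g0 2) t1e0 := (el_of_pad (t1sch0 h0).2.1).cel0 _
theorem t1ub0 (h0 : ∀ s < 2, (c111md φ inj).In ⊤ (t1g0 s)) : Nat.card ((c111md φ inj).gn t1g0 2) ≤ 32 := (upper (t1sch0 h0).2.2 (t1ub1 h0)).trans (by norm_num)
theorem t1lb1 (h0 : ∀ s < 2, (c111md φ inj).In ⊤ (t1g0 s)) : 1 ≤ Nat.card (⊥ : Subgroup G) := one_le_card _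
theorem t1y0Y : ∀ i < 32, (chkY c111b.canV c111b.row t1y0 (nat_lit 32)) i = 0 :=
  allB (rngB_step (allB0 _ _) t1y0Y_0) (by decide)
theorem t1y0D : Dist (fun i => (fun x => (⟨c111b.vec (ZMod 5) 111 x⟩ : Vc φ)) (pt c111b.row t1y0 i)) 32 :=
  dist_of_chk (@Cfg.Ok.canT G _ _ _ _ c111b (ZMod.charP 5) c111b_ok rfl rfl φ) t1y0Y
theorem t1O0 : ∀ i < 32, (chkO (c111b.imgV t1g0) c111b.row t1y0 t1O0a (nat_lit 32) [nat_lit 22]) i = 0 :=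
  allB (rngB_step (allB0 _ _) t1O0_0) (by decide)
theorem t1R0 (h0 : ∀ s < 2, (c111md φ inj).In ⊤ (t1g0 s)) : Reach ((c111md φ inj).gn t1g0 2) (fun i => (fun x => (⟨c111b.vec (ZMod 5) 111 x⟩ : Vc φ)) (pt c111b.row t1y0 i)) 32 [nat_lit 22] :=
  reach_of_chk (pv := (fun x => (⟨c111b.vec (ZMod 5) 111 x⟩ : Vc φ))) ((@Cfg.Ok.acts G _ _ _ _ c111b (ZMod.charP 5) c111b_ok rfl rfl (c111md φ inj) rfl t1g0).ex (t1eg0 h0)) t1O0
theorem t1fx0 : (⊥ : Subgroup G) ≤ MulAction.stabilizer G ((fun i => (fun x => (⟨c111b.vec (ZMod 5) 111 x⟩ : Vc φ)) (pt c111b.row t1y0 i)) (nat_lit 22)) := bot_le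
theorem t1lb0 (h0 : ∀ s < 2, (c111md φ inj).In ⊤ (t1g0 s)) : 32 ≤ Nat.card ((c111md φ inj).gn t1g0 2) :=
  le_of_eq_of_le (by norm_num) (lower t1y0D (t1R0 h0) (t1le0 h0) t1fx0 (t1lb1 h0))
theorem t1ex0 (h0 : ∀ s < 2, (c111md φ inj).In ⊤ (t1g0 s)) : MulAction.orbit ((c111md φ inj).gn t1g0 2) ((fun i => (fun x => (⟨c111b.vec (ZMod 5) 111 x⟩ : Vc φ)) (pt c111b.row t1y0 i)) (nat_lit 22)) = (fun i => (fun x => (⟨c111b.vec (ZMod 5) 111 x⟩ : Vc φ)) (pt c111b.row t1y0 i)) '' {i | i < 32} ∧ ((c111md φ inj).gn t1g0 2) ⊓ MulAction.stabilizer G ((fun i => (fun x => (⟨c111b.vec (ZMod 5) 111 x⟩ : Vc φ)) (pt c111b.row t1y0 i)) (nat_lit 22)) = (⊥ : Subgroup G) ∧ Nat.card ((c111md φ inj).gn t1g0 2) = 32 * 1 ∧ Nat.card (⊥ : Subgroup G) = 1 :=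
  exact t1y0D (t1R0 h0) (t1le0 h0) t1fx0 (t1lb1 h0) ((t1ub0 h0).trans (by norm_num))
theorem t1E : ∀ i < 2, (chkE t1g0 ee [nat_lit 15397250596877, nat_lit 2997327691789]) i = 0 :=
  (rng_step (all0 _) t1E_0)
theorem t1L : ∀ i < 2, (chkL c111.mul (dD (nat_lit 1)) t1g0 ee [nat_lit 9388591349773, nat_lit 11183266922509]) i = 0 :=
  (rng_step (all0 _) t1L_0)
theorem t1Q : ∀ i < 32, (chkQ c111.mul c111.one c111.trc (zt (nat_lit 0)) (nat_lit 1) (dD (nat_lit 1)) t1T0 ee kE [[nat_lit 0, nat_lit 0, nat_lit 0, nat_lit 0],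
  [nat_lit 0, nat_lit 0, nat_lit 0, nat_lit 0],
  [nat_lit 0, nat_lit 0, nat_lit 0, nat_lit 0],
  [nat_lit 0, nat_lit 0, nat_lit 0, nat_lit 0],
  [nat_lit 1, nat_lit 15793086022235, nat_lit 369660416959, nat_lit 36208689],
  [nat_lit 1, nat_lit 17165444460323, nat_lit 7805789956195, nat_lit 111203946],
  [nat_lit 1, nat_lit 14831920934071, nat_lit 16394137420919, nat_lit 204052373],
  [nat_lit 0, nat_lit 0, nat_lit 0, nat_lit 0],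
  [nat_lit 0, nat_lit 0, nat_lit 0, nat_lit 0],
  [nat_lit 0, nat_lit 0, nat_lit 0, nat_lit 0],
  [nat_lit 0, nat_lit 0, nat_lit 0, nat_lit 0],
  [nat_lit 0, nat_lit 0, nat_lit 0, nat_lit 0],
  [nat_lit 0, nat_lit 0, nat_lit 0, nat_lit 0],
  [nat_lit 1, nat_lit 4109907745511, nat_lit 10867381830551, nat_lit 241755681],
  [nat_lit 0, nat_lit 0, nat_lit 0, nat_lit 0],
  [nat_lit 0, nat_lit 0, nat_lit 0, nat_lit 0],
  [nat_lit 0, nat_lit 0, nat_lit 0, nat_lit 0],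
  [nat_lit 0, nat_lit 0, nat_lit 0, nat_lit 0],
  [nat_lit 0, nat_lit 0, nat_lit 0, nat_lit 0],
  [nat_lit 0, nat_lit 0, nat_lit 0, nat_lit 0],
  [nat_lit 0, nat_lit 0, nat_lit 0, nat_lit 0],
  [nat_lit 0, nat_lit 0, nat_lit 0, nat_lit 0],
  [nat_lit 0, nat_lit 0, nat_lit 0, nat_lit 0],
  [nat_lit 0, nat_lit 0, nat_lit 0, nat_lit 0],
  [nat_lit 0, nat_lit 0, nat_lit 0, nat_lit 0],
  [nat_lit 0, nat_lit 0, nat_lit 0, nat_lit 0],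
  [nat_lit 0, nat_lit 0, nat_lit 0, nat_lit 0],
  [nat_lit 1, nat_lit 9200762547599, nat_lit 6136187702055, nat_lit 220219449],
  [nat_lit 1, nat_lit 2454347812083, nat_lit 16787300246174, nat_lit 111998569],
  [nat_lit 1, nat_lit 17473638870899, nat_lit 4864875404523, nat_lit 177124899],
  [nat_lit 0, nat_lit 0, nat_lit 0, nat_lit 0],
  [nat_lit 0, nat_lit 0, nat_lit 0, nat_lit 0]]) i = 0 :=
  (rng_step (rng_step (rng_step (rng_step (rng_step (rng_step (rng_step (rng_step (all0 _) t1Q_0) t1Q_1) t1Q_2) t1Q_3) t1Q_4) t1Q_5) t1Q_6) t1Q_7)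
theorem t1root (h0 : ∀ s < 3, (c111md φ inj).In ⊤ (eg s)) (h1 : (c111md φ inj).In ⊤ (dD 1)) (hx : ∀ i < 5, Nat.card (Lc ((c111md φ inj).gn eg 3) ((c111md φ inj).elt (dD i))) = getN [nat_lit 5859000000, nat_lit 300000, nat_lit 2880, nat_lit 1008, nat_lit 6048] i) (ho : orderOf ((c111md φ inj).elt (zt (nat_lit 0))) = 2) (hk : (c111md φ inj).El ((c111md φ inj).gn kg 2) kE) : ∀ u ∈ Lc ((c111md φ inj).gn eg 3) ((c111md φ inj).elt (dD (nat_lit 1))), IsConj ((c111md φ inj).elt (zt (nat_lit 0))) u → ∃ l ∈ Lc ((c111md φ inj).gn eg 3) ((c111md φ inj).elt (dD (nat_lit 1))), ∃ a ∈ ((c111md φ inj).gn eg 3), ∃ b ∈ ((c111md φ inj).gn eg 3), ∃ c ∈ ((c111md φ inj).gn kg 2), a * (l⁻¹ * u * l) = (c111md φ inj).elt (zt (nat_lit 0)) * a ∧ (c111md φ inj).elt (dD (nat_lit 1)) = b * (c * a) :=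
  cent_root (m := (c111md φ inj)) (k := 5) (r := 9375) (@Cfg.Ok.canon G _ c111 c111_ok _ _ (ZMod.charP 5) _ rfl rfl φ inj) (@Cfg.Ok.cls _ _ c111 c111_ok _ _ (ZMod.charP 5) _ rfl rfl φ inj) (zin h0 _ (by decide)).top (dtop h0 h1 _) (by decide) ho (Hel h0) hk
    (gn_le (in_of_chkL (Hel h0) (dtop h0 h1 _) (in_of_chkE (Hel h0) t1E) t1L)) (t1ex0 fun s hs => (in_of_chkE (Hel h0) t1E s hs).top).2.2.1 (hx 1 (by decide)) (by decide)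
    (t1sch0 fun s hs => (in_of_chkE (Hel h0) t1E s hs).top).1 t1Q
theorem t2top0 (h0 : ∀ s < 3, (c111md φ inj).In ⊤ (t2g0 s)) : ∀ s < 3, (c111md φ inj).In ⊤ (t2g0 s) := h0
theorem t2eg0 (h0 : ∀ s < 3, (c111md φ inj).In ⊤ (t2g0 s)) : (c111md φ inj).El ((c111md φ inj).gn t2g0 3) t2g0 := el_gn (t2top0 h0)
theorem t2le0 (h0 : ∀ s < 3, (c111md φ inj).In ⊤ (t2g0 s)) : (⊥ : Subgroup G) ≤ ((c111md φ inj).gn t2g0 3) := bot_le
theorem t2el1 (h0 : ∀ s < 3, (c111md φ inj).In ⊤ (t2g0 s)) : (c111md φ inj).El ⊥ t2e1 := el_one _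
theorem t2ub1 (h0 : ∀ s < 3, (c111md φ inj).In ⊤ (t2g0 s)) : Nat.card (⊥ : Subgroup G) ≤ 1 := card_bot_le
theorem t2S0 : ∀ i < 64, (chkS c111.mul t2g0 (nat_lit 3) t2T0 t2e1 t2c0 (nat_lit 6) (nat_lit 64)) i = 0 :=
  (rng_step (rng_step (rng_step (rng_step (rng_step (all0 _) t2S0_0) t2S0_1) t2S0_2) t2S0_3) t2S0_4)
theorem t2sch0 (h0 : ∀ s < 3, (c111md φ inj).In ⊤ (t2g0 s)) : (∀ g ∈ ((c111md φ inj).gn t2g0 3), ∃ i < 64, (c111md φ inj).Cos (⊥ : Subgroup G) t2T0 g i) ∧ (∀ i < 64, (c111md φ inj).In ((c111md φ inj).gn t2g0 3) (t2T0 i)) ∧ Nat.card ((c111md φ inj).gn t2g0 3) ≤ 64 * Nat.card (⊥ : Subgroup G) :=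
  schreier (t2el1 h0) (by decide) t2T0_0 (t2top0 h0) (t2le0 h0) t2S0
theorem t2el0 (h0 : ∀ s < 3, (c111md φ inj).In ⊤ (t2g0 s)) : (c111md φ inj).El ((c111md φ inj).gn t2g0 3) t2e0 := (el_of_pad (t2sch0 h0).2.1).cel0 _
theorem t2ub0 (h0 : ∀ s < 3, (c111md φ inj).In ⊤ (t2g0 s)) : Nat.card ((c111md φ inj).gn t2g0 3) ≤ 64 := (upper (t2sch0 h0).2.2 (t2ub1 h0)).trans (by norm_num)
theorem t2lb1 (h0 : ∀ s < 3, (c111md φ inj).In ⊤ (t2g0 s)) : 1 ≤ Nat.card (⊥ : Subgroup G) := one_le_card _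
theorem t2y0Y : ∀ i < 64, (chkY c111b.canV c111b.row t2y0 (nat_lit 64)) i = 0 :=
  allB (rngB_step (allB0 _ _) t2y0Y_0) (by decide)
theorem t2y0D : Dist (fun i => (fun x => (⟨c111b.vec (ZMod 5) 111 x⟩ : Vc φ)) (pt c111b.row t2y0 i)) 64 :=
  dist_of_chk (@Cfg.Ok.canT G _ _ _ _ c111b (ZMod.charP 5) c111b_ok rfl rfl φ) t2y0Y
theorem t2O0 : ∀ i < 64, (chkO (c111b.imgV t2g0) c111b.row t2y0 t2O0a (nat_lit 64) [nat_lit 43]) i = 0 :=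
  allB (rngB_step (allB0 _ _) t2O0_0) (by decide)
theorem t2R0 (h0 : ∀ s < 3, (c111md φ inj).In ⊤ (t2g0 s)) : Reach ((c111md φ inj).gn t2g0 3) (fun i => (fun x => (⟨c111b.vec (ZMod 5) 111 x⟩ : Vc φ)) (pt c111b.row t2y0 i)) 64 [nat_lit 43] :=
  reach_of_chk (pv := (fun x => (⟨c111b.vec (ZMod 5) 111 x⟩ : Vc φ))) ((@Cfg.Ok.acts G _ _ _ _ c111b (ZMod.charP 5) c111b_ok rfl rfl (c111md φ inj) rfl t2g0).ex (t2eg0 h0)) t2O0
theorem t2fx0 : (⊥ : Subgroup G) ≤ MulAction.stabilizer G ((fun i => (fun x => (⟨c111b.vec (ZMod 5) 111 x⟩ : Vc φ)) (pt c111b.row t2y0 i)) (nat_lit 43)) := bot_le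
theorem t2lb0 (h0 : ∀ s < 3, (c111md φ inj).In ⊤ (t2g0 s)) : 64 ≤ Nat.card ((c111md φ inj).gn t2g0 3) :=
  le_of_eq_of_le (by norm_num) (lower t2y0D (t2R0 h0) (t2le0 h0) t2fx0 (t2lb1 h0))
theorem t2ex0 (h0 : ∀ s < 3, (c111md φ inj).In ⊤ (t2g0 s)) : MulAction.orbit ((c111md φ inj).gn t2g0 3) ((fun i => (fun x => (⟨c111b.vec (ZMod 5) 111 x⟩ : Vc φ)) (pt c111b.row t2y0 i)) (nat_lit 43)) = (fun i => (fun x => (⟨c111b.vec (ZMod 5) 111 x⟩ : Vc φ)) (pt c111b.row t2y0 i)) '' {i | i < 64} ∧ ((c111md φ inj).gn t2g0 3) ⊓ MulAction.stabilizer G ((fun i => (fun x => (⟨c111b.vec (ZMod 5) 111 x⟩ : Vc φ)) (pt c111b.row t2y0 i)) (nat_lit 43)) = (⊥ : Subgroup G) ∧ Nat.card ((c111md φ inj).gn t2g0 3) = 64 * 1 ∧ Nat.card (⊥ : Subgroup G) = 1 :=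
  exact t2y0D (t2R0 h0) (t2le0 h0) t2fx0 (t2lb1 h0) ((t2ub0 h0).trans (by norm_num))
theorem t2E : ∀ i < 3, (chkE t2g0 ee [nat_lit 7431617062902, nat_lit 2451003968171, nat_lit 11756434493171]) i = 0 :=
  (rng_step (all0 _) t2E_0)
theorem t2L : ∀ i < 3, (chkL c111.mul (dD (nat_lit 2)) t2g0 ee [nat_lit 16929159249950, nat_lit 8993059725919, nat_lit 15221972526123]) i = 0 :=
  (rng_step (all0 _) t2L_0)
theorem t2Q : ∀ i < 64, (chkQ c111.mul c111.one c111.trc (zt (nat_lit 0)) (nat_lit 1) (dD (nat_lit 2)) t2T0 ee kE [[nat_lit 0, nat_lit 0, nat_lit 0, nat_lit 0],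
  [nat_lit 0, nat_lit 0, nat_lit 0, nat_lit 0],
  [nat_lit 1, nat_lit 16204325444919, nat_lit 14309515554463, nat_lit 144744452],
  [nat_lit 0, nat_lit 0, nat_lit 0, nat_lit 0],
  [nat_lit 1, nat_lit 15087149276443, nat_lit 10571305668027, nat_lit 225109015],
  [nat_lit 0, nat_lit 0, nat_lit 0, nat_lit 0],
  [nat_lit 0, nat_lit 0, nat_lit 0, nat_lit 0],
  [nat_lit 0, nat_lit 0, nat_lit 0, nat_lit 0],
  [nat_lit 1, nat_lit 2721582649950, nat_lit 15843106508455, nat_lit 208744723],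
  [nat_lit 0, nat_lit 0, nat_lit 0, nat_lit 0],
  [nat_lit 1, nat_lit 15914625418935, nat_lit 4746518176543, nat_lit 103056502],
  [nat_lit 1, nat_lit 5304077599315, nat_lit 5052015773943, nat_lit 53175914],
  [nat_lit 0, nat_lit 0, nat_lit 0, nat_lit 0],
  [nat_lit 1, nat_lit 5377348899635, nat_lit 8248921936931, nat_lit 132667154],
  [nat_lit 0, nat_lit 0, nat_lit 0, nat_lit 0],
  [nat_lit 1, nat_lit 9009889518470, nat_lit 17133530788207, nat_lit 178434129],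
  [nat_lit 1, nat_lit 9981856940199, nat_lit 10414341671007, nat_lit 237408553],
  [nat_lit 0, nat_lit 0, nat_lit 0, nat_lit 0],
  [nat_lit 0, nat_lit 0, nat_lit 0, nat_lit 0],
  [nat_lit 1, nat_lit 902625183371, nat_lit 7565461079183, nat_lit 59258202],
  [nat_lit 0, nat_lit 0, nat_lit 0, nat_lit 0],
  [nat_lit 0, nat_lit 0, nat_lit 0, nat_lit 0],
  [nat_lit 1, nat_lit 17027516876470, nat_lit 6066452809375, nat_lit 187388723],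
  [nat_lit 0, nat_lit 0, nat_lit 0, nat_lit 0],
  [nat_lit 1, nat_lit 5659401249447, nat_lit 7294275112331, nat_lit 212321094],
  [nat_lit 1, nat_lit 17227233543014, nat_lit 3058327679451, nat_lit 11006322],
  [nat_lit 1, nat_lit 2240712229279, nat_lit 55342617459, nat_lit 25839120],
  [nat_lit 1, nat_lit 11838831739321, nat_lit 6816572098159, nat_lit 248701283],
  [nat_lit 0, nat_lit 0, nat_lit 0, nat_lit 0],
  [nat_lit 0, nat_lit 0, nat_lit 0, nat_lit 0],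
  [nat_lit 0, nat_lit 0, nat_lit 0, nat_lit 0],
  [nat_lit 1, nat_lit 14132194787791, nat_lit 8455089711954, nat_lit 51495450],
  [nat_lit 0, nat_lit 0, nat_lit 0, nat_lit 0],
  [nat_lit 1, nat_lit 1597441786299, nat_lit 8628957105467, nat_lit 36749587],
  [nat_lit 1, nat_lit 4213154104458, nat_lit 1653923960591, nat_lit 176273218],
  [nat_lit 0, nat_lit 0, nat_lit 0, nat_lit 0],
  [nat_lit 1, nat_lit 12104222085075, nat_lit 11895996680859, nat_lit 145237654],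
  [nat_lit 0, nat_lit 0, nat_lit 0, nat_lit 0],
  [nat_lit 0, nat_lit 0, nat_lit 0, nat_lit 0],
  [nat_lit 1, nat_lit 9847868458787, nat_lit 5546502345655, nat_lit 82011525],
  [nat_lit 0, nat_lit 0, nat_lit 0, nat_lit 0],
  [nat_lit 0, nat_lit 0, nat_lit 0, nat_lit 0],
  [nat_lit 0, nat_lit 0, nat_lit 0, nat_lit 0],
  [nat_lit 0, nat_lit 0, nat_lit 0, nat_lit 0],
  [nat_lit 0, nat_lit 0, nat_lit 0, nat_lit 0],
  [nat_lit 0, nat_lit 0, nat_lit 0, nat_lit 0],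
  [nat_lit 0, nat_lit 0, nat_lit 0, nat_lit 0],
  [nat_lit 1, nat_lit 11358587935719, nat_lit 9353328437670, nat_lit 94376226],
  [nat_lit 0, nat_lit 0, nat_lit 0, nat_lit 0],
  [nat_lit 1, nat_lit 1045133787471, nat_lit 7837325074755, nat_lit 145961858],
  [nat_lit 0, nat_lit 0, nat_lit 0, nat_lit 0],
  [nat_lit 0, nat_lit 0, nat_lit 0, nat_lit 0],
  [nat_lit 0, nat_lit 0, nat_lit 0, nat_lit 0],
  [nat_lit 0, nat_lit 0, nat_lit 0, nat_lit 0],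
  [nat_lit 0, nat_lit 0, nat_lit 0, nat_lit 0],
  [nat_lit 1, nat_lit 7809360698603, nat_lit 7808026355738, nat_lit 164464256],
  [nat_lit 1, nat_lit 15841892844499, nat_lit 6229528828486, nat_lit 194279496],
  [nat_lit 1, nat_lit 6893562817299, nat_lit 12967904349290, nat_lit 199923347],
  [nat_lit 0, nat_lit 0, nat_lit 0, nat_lit 0],
  [nat_lit 1, nat_lit 16121239101003, nat_lit 14405405110607, nat_lit 241607971],
  [nat_lit 1, nat_lit 12235939130567, nat_lit 10127184797319, nat_lit 244467542],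
  [nat_lit 0, nat_lit 0, nat_lit 0, nat_lit 0],
  [nat_lit 1, nat_lit 16779282800238, nat_lit 1173470547179, nat_lit 156398394],
  [nat_lit 0, nat_lit 0, nat_lit 0, nat_lit 0]]) i = 0 :=
  (rng_step (rng_step (rng_step (rng_step (rng_step (rng_step (rng_step (rng_step (rng_step (rng_step (rng_step (rng_step (rng_step (rng_step (rng_step (rng_step (all0 _) t2Q_0) t2Q_1) t2Q_2) t2Q_3) t2Q_4) t2Q_5) t2Q_6) t2Q_7) t2Q_8) t2Q_9) t2Q_10) t2Q_11) t2Q_12) t2Q_13) t2Q_14) t2Q_15)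
theorem t2root (h0 : ∀ s < 3, (c111md φ inj).In ⊤ (eg s)) (h1 : (c111md φ inj).In ⊤ (dD 1)) (hx : ∀ i < 5, Nat.card (Lc ((c111md φ inj).gn eg 3) ((c111md φ inj).elt (dD i))) = getN [nat_lit 5859000000, nat_lit 300000, nat_lit 2880, nat_lit 1008, nat_lit 6048] i) (ho : orderOf ((c111md φ inj).elt (zt (nat_lit 0))) = 2) (hk : (c111md φ inj).El ((c111md φ inj).gn kg 2) kE) : ∀ u ∈ Lc ((c111md φ inj).gn eg 3) ((c111md φ inj).elt (dD (nat_lit 2))), IsConj ((c111md φ inj).elt (zt (nat_lit 0))) u → ∃ l ∈ Lc ((c111md φ inj).gn eg 3) ((c111md φ inj).elt (dD (nat_lit 2))), ∃ a ∈ ((c111md φ inj).gn eg 3), ∃ b ∈ ((c111md φ inj).gn eg 3), ∃ c ∈ ((c111md φ inj).gn kg 2), a * (l⁻¹ * u * l) = (c111md φ inj).elt (zt (nat_lit 0)) * a ∧ (c111md φ inj).elt (dD (nat_lit 2)) = b * (c * a) :=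
  cent_root (m := (c111md φ inj)) (k := 6) (r := 45) (@Cfg.Ok.canon G _ c111 c111_ok _ _ (ZMod.charP 5) _ rfl rfl φ inj) (@Cfg.Ok.cls _ _ c111 c111_ok _ _ (ZMod.charP 5) _ rfl rfl φ inj) (zin h0 _ (by decide)).top (dtop h0 h1 _) (by decide) ho (Hel h0) hk
    (gn_le (in_of_chkL (Hel h0) (dtop h0 h1 _) (in_of_chkE (Hel h0) t2E) t2L)) (t2ex0 fun s hs => (in_of_chkE (Hel h0) t2E s hs).top).2.2.1 (hx 2 (by decide)) (by decide)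
    (t2sch0 fun s hs => (in_of_chkE (Hel h0) t2E s hs).top).1 t2Q
theorem t3top0 (h0 : ∀ s < 2, (c111md φ inj).In ⊤ (t3g0 s)) : ∀ s < 2, (c111md φ inj).In ⊤ (t3g0 s) := h0
theorem t3eg0 (h0 : ∀ s < 2, (c111md φ inj).In ⊤ (t3g0 s)) : (c111md φ inj).El ((c111md φ inj).gn t3g0 2) t3g0 := el_gn (t3top0 h0)
theorem t3le0 (h0 : ∀ s < 2, (c111md φ inj).In ⊤ (t3g0 s)) : (⊥ : Subgroup G) ≤ ((c111md φ inj).gn t3g0 2) := bot_le
theorem t3el1 (h0 : ∀ s < 2, (c111md φ inj).In ⊤ (t3g0 s)) : (c111md φ inj).El ⊥ t3e1 := el_one _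
theorem t3ub1 (h0 : ∀ s < 2, (c111md φ inj).In ⊤ (t3g0 s)) : Nat.card (⊥ : Subgroup G) ≤ 1 := card_bot_le
theorem t3S0 : ∀ i < 16, (chkS c111.mul t3g0 (nat_lit 2) t3T0 t3e1 t3c0 (nat_lit 4) (nat_lit 16)) i = 0 :=
  (rng_step (all0 _) t3S0_0)
theorem t3sch0 (h0 : ∀ s < 2, (c111md φ inj).In ⊤ (t3g0 s)) : (∀ g ∈ ((c111md φ inj).gn t3g0 2), ∃ i < 16, (c111md φ inj).Cos (⊥ : Subgroup G) t3T0 g i) ∧ (∀ i < 16, (c111md φ inj).In ((c111md φ inj).gn t3g0 2) (t3T0 i)) ∧ Nat.card ((c111md φ inj).gn t3g0 2) ≤ 16 * Nat.card (⊥ : Subgroup G) :=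
  schreier (t3el1 h0) (by decide) t3T0_0 (t3top0 h0) (t3le0 h0) t3S0
theorem t3el0 (h0 : ∀ s < 2, (c111md φ inj).In ⊤ (t3g0 s)) : (c111md φ inj).El ((c111md φ inj).gn t3g0 2) t3e0 := (el_of_pad (t3sch0 h0).2.1).cel0 _
theorem t3ub0 (h0 : ∀ s < 2, (c111md φ inj).In ⊤ (t3g0 s)) : Nat.card ((c111md φ inj).gn t3g0 2) ≤ 16 := (upper (t3sch0 h0).2.2 (t3ub1 h0)).trans (by norm_num)
theorem t3lb1 (h0 : ∀ s < 2, (c111md φ inj).In ⊤ (t3g0 s)) : 1 ≤ Nat.card (⊥ : Subgroup G) := one_le_card _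
theorem t3y0Y : ∀ i < 16, (chkY c111b.canV c111b.row t3y0 (nat_lit 16)) i = 0 :=
  allB (rngB_step (allB0 _ _) t3y0Y_0) (by decide)
theorem t3y0D : Dist (fun i => (fun x => (⟨c111b.vec (ZMod 5) 111 x⟩ : Vc φ)) (pt c111b.row t3y0 i)) 16 :=
  dist_of_chk (@Cfg.Ok.canT G _ _ _ _ c111b (ZMod.charP 5) c111b_ok rfl rfl φ) t3y0Y
theorem t3O0 : ∀ i < 16, (chkO (c111b.imgV t3g0) c111b.row t3y0 t3O0a (nat_lit 16) [nat_lit 12]) i = 0 :=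
  allB (rngB_step (allB0 _ _) t3O0_0) (by decide)
theorem t3R0 (h0 : ∀ s < 2, (c111md φ inj).In ⊤ (t3g0 s)) : Reach ((c111md φ inj).gn t3g0 2) (fun i => (fun x => (⟨c111b.vec (ZMod 5) 111 x⟩ : Vc φ)) (pt c111b.row t3y0 i)) 16 [nat_lit 12] :=
  reach_of_chk (pv := (fun x => (⟨c111b.vec (ZMod 5) 111 x⟩ : Vc φ))) ((@Cfg.Ok.acts G _ _ _ _ c111b (ZMod.charP 5) c111b_ok rfl rfl (c111md φ inj) rfl t3g0).ex (t3eg0 h0)) t3O0
theorem t3fx0 : (⊥ : Subgroup G) ≤ MulAction.stabilizer G ((fun i => (fun x => (⟨c111b.vec (ZMod 5) 111 x⟩ : Vc φ)) (pt c111b.row t3y0 i)) (nat_lit 12)) := bot_le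
theorem t3lb0 (h0 : ∀ s < 2, (c111md φ inj).In ⊤ (t3g0 s)) : 16 ≤ Nat.card ((c111md φ inj).gn t3g0 2) :=
  le_of_eq_of_le (by norm_num) (lower t3y0D (t3R0 h0) (t3le0 h0) t3fx0 (t3lb1 h0))
theorem t3ex0 (h0 : ∀ s < 2, (c111md φ inj).In ⊤ (t3g0 s)) : MulAction.orbit ((c111md φ inj).gn t3g0 2) ((fun i => (fun x => (⟨c111b.vec (ZMod 5) 111 x⟩ : Vc φ)) (pt c111b.row t3y0 i)) (nat_lit 12)) = (fun i => (fun x => (⟨c111b.vec (ZMod 5) 111 x⟩ : Vc φ)) (pt c111b.row t3y0 i)) '' {i | i < 16} ∧ ((c111md φ inj).gn t3g0 2) ⊓ MulAction.stabilizer G ((fun i => (fun x => (⟨c111b.vec (ZMod 5) 111 x⟩ : Vc φ)) (pt c111b.row t3y0 i)) (nat_lit 12)) = (⊥ : Subgroup G) ∧ Nat.card ((c111md φ inj).gn t3g0 2) = 16 * 1 ∧ Nat.card (⊥ : Subgroup G) = 1 :=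
  exact t3y0D (t3R0 h0) (t3le0 h0) t3fx0 (t3lb1 h0) ((t3ub0 h0).trans (by norm_num))
theorem t3E : ∀ i < 2, (chkE t3g0 ee [nat_lit 1359147215163, nat_lit 5179293918775]) i = 0 :=
  (rng_step (all0 _) t3E_0)
theorem t3L : ∀ i < 2, (chkL c111.mul (dD (nat_lit 3)) t3g0 ee [nat_lit 2551280766782, nat_lit 8339061460031]) i = 0 :=
  (rng_step (all0 _) t3L_0)
theorem t3Q : ∀ i < 16, (chkQ c111.mul c111.one c111.trc (zt (nat_lit 0)) (nat_lit 1) (dD (nat_lit 3)) t3T0 ee kE [[nat_lit 0, nat_lit 0, nat_lit 0, nat_lit 0],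
  [nat_lit 0, nat_lit 0, nat_lit 0, nat_lit 0],
  [nat_lit 1, nat_lit 2925815770795, nat_lit 14586090131471, nat_lit 153876598],
  [nat_lit 0, nat_lit 0, nat_lit 0, nat_lit 0],
  [nat_lit 1, nat_lit 8523807892183, nat_lit 10933812643026, nat_lit 154051898],
  [nat_lit 1, nat_lit 3232047779254, nat_lit 15108156152787, nat_lit 216712070],
  [nat_lit 0, nat_lit 0, nat_lit 0, nat_lit 0],
  [nat_lit 1, nat_lit 7445412243463, nat_lit 7712849797131, nat_lit 107877478],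
  [nat_lit 1, nat_lit 9531622578931, nat_lit 6745972713159, nat_lit 174523777],
  [nat_lit 0, nat_lit 0, nat_lit 0, nat_lit 0],
  [nat_lit 1, nat_lit 8579289738887, nat_lit 10082502668087, nat_lit 23134833],
  [nat_lit 1, nat_lit 2974619672050, nat_lit 12215430357015, nat_lit 153531473],
  [nat_lit 1, nat_lit 8524872214843, nat_lit 2216144923103, nat_lit 72431219],
  [nat_lit 0, nat_lit 0, nat_lit 0, nat_lit 0],
  [nat_lit 0, nat_lit 0, nat_lit 0, nat_lit 0],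
  [nat_lit 1, nat_lit 5953051355575, nat_lit 2649039216363, nat_lit 16799537]]) i = 0 :=
  (rng_step (rng_step (rng_step (rng_step (all0 _) t3Q_0) t3Q_1) t3Q_2) t3Q_3)
theorem t3root (h0 : ∀ s < 3, (c111md φ inj).In ⊤ (eg s)) (h1 : (c111md φ inj).In ⊤ (dD 1)) (hx : ∀ i < 5, Nat.card (Lc ((c111md φ inj).gn eg 3) ((c111md φ inj).elt (dD i))) = getN [nat_lit 5859000000, nat_lit 300000, nat_lit 2880, nat_lit 1008, nat_lit 6048] i) (ho : orderOf ((c111md φ inj).elt (zt (nat_lit 0))) = 2) (hk : (c111md φ inj).El ((c111md φ inj).gn kg 2) kE) : ∀ u ∈ Lc ((c111md φ inj).gn eg 3) ((c111md φ inj).elt (dD (nat_lit 3))), IsConj ((c111md φ inj).elt (zt (nat_lit 0))) u → ∃ l ∈ Lc ((c111md φ inj).gn eg 3) ((c111md φ inj).elt (dD (nat_lit 3))), ∃ a ∈ ((c111md φ inj).gn eg 3), ∃ b ∈ ((c111md φ inj).gn eg 3), ∃ c ∈ ((c111md φ inj).gn kg 2), a * (l⁻¹ * u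 * l) = (c111md φ inj).elt (zt (nat_lit 0)) * a ∧ (c111md φ inj).elt (dD (nat_lit 3)) = b * (c * a) :=
  cent_root (m := (c111md φ inj)) (k := 4) (r := 63) (@Cfg.Ok.canon G _ c111 c111_ok _ _ (ZMod.charP 5) _ rfl rfl φ inj) (@Cfg.Ok.cls _ _ c111 c111_ok _ _ (ZMod.charP 5) _ rfl rfl φ inj) (zin h0 _ (by decide)).top (dtop h0 h1 _) (by decide) ho (Hel h0) hk
    (gn_le (in_of_chkL (Hel h0) (dtop h0 h1 _) (in_of_chkE (Hel h0) t3E) t3L)) (t3ex0 fun s hs => (in_of_chkE (Hel h0) t3E s hs).top).2.2.1 (hx 3 (by decide)) (by decide)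
    (t3sch0 fun s hs => (in_of_chkE (Hel h0) t3E s hs).top).1 t3Q
theorem t4top0 (h0 : ∀ s < 2, (c111md φ inj).In ⊤ (t4g0 s)) : ∀ s < 2, (c111md φ inj).In ⊤ (t4g0 s) := h0
theorem t4eg0 (h0 : ∀ s < 2, (c111md φ inj).In ⊤ (t4g0 s)) : (c111md φ inj).El ((c111md φ inj).gn t4g0 2) t4g0 := el_gn (t4top0 h0)
theorem t4le0 (h0 : ∀ s < 2, (c111md φ inj).In ⊤ (t4g0 s)) : (⊥ : Subgroup G) ≤ ((c111md φ inj).gn t4g0 2) := bot_le
theorem t4el1 (h0 : ∀ s < 2, (c111md φ inj).In ⊤ (t4g0 s)) : (c111md φ inj).El ⊥ t4e1 := el_one _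
theorem t4ub1 (h0 : ∀ s < 2, (c111md φ inj).In ⊤ (t4g0 s)) : Nat.card (⊥ : Subgroup G) ≤ 1 := card_bot_le
theorem t4S0 : ∀ i < 32, (chkS c111.mul t4g0 (nat_lit 2) t4T0 t4e1 t4c0 (nat_lit 5) (nat_lit 32)) i = 0 :=
  (rng_step (rng_step (all0 _) t4S0_0) t4S0_1)
theorem t4sch0 (h0 : ∀ s < 2, (c111md φ inj).In ⊤ (t4g0 s)) : (∀ g ∈ ((c111md φ inj).gn t4g0 2), ∃ i < 32, (c111md φ inj).Cos (⊥ : Subgroup G) t4T0 g i) ∧ (∀ i < 32, (c111md φ inj).In ((c111md φ inj).gn t4g0 2) (t4T0 i)) ∧ Nat.card ((c111md φ inj).gn t4g0 2) ≤ 32 * Nat.card (⊥ : Subgroup G) :=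
  schreier (t4el1 h0) (by decide) t4T0_0 (t4top0 h0) (t4le0 h0) t4S0
theorem t4el0 (h0 : ∀ s < 2, (c111md φ inj).In ⊤ (t4g0 s)) : (c111md φ inj).El ((c111md φ inj).gn t4g0 2) t4e0 := (el_of_pad (t4sch0 h0).2.1).cel0 _
theorem t4ub0 (h0 : ∀ s < 2, (c111md φ inj).In ⊤ (t4g0 s)) : Nat.card ((c111md φ inj).gn t4g0 2) ≤ 32 := (upper (t4sch0 h0).2.2 (t4ub1 h0)).trans (by norm_num)
theorem t4lb1 (h0 : ∀ s < 2, (c111md φ inj).In ⊤ (t4g0 s)) : 1 ≤ Nat.card (⊥ : Subgroup G) := one_le_card _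
theorem t4y0Y : ∀ i < 32, (chkY c111b.canV c111b.row t4y0 (nat_lit 32)) i = 0 :=
  allB (rngB_step (allB0 _ _) t4y0Y_0) (by decide)
theorem t4y0D : Dist (fun i => (fun x => (⟨c111b.vec (ZMod 5) 111 x⟩ : Vc φ)) (pt c111b.row t4y0 i)) 32 :=
  dist_of_chk (@Cfg.Ok.canT G _ _ _ _ c111b (ZMod.charP 5) c111b_ok rfl rfl φ) t4y0Y
theorem t4O0 : ∀ i < 32, (chkO (c111b.imgV t4g0) c111b.row t4y0 t4O0a (nat_lit 32) [nat_lit 23]) i = 0 :=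
  allB (rngB_step (allB0 _ _) t4O0_0) (by decide)
theorem t4R0 (h0 : ∀ s < 2, (c111md φ inj).In ⊤ (t4g0 s)) : Reach ((c111md φ inj).gn t4g0 2) (fun i => (fun x => (⟨c111b.vec (ZMod 5) 111 x⟩ : Vc φ)) (pt c111b.row t4y0 i)) 32 [nat_lit 23] :=
  reach_of_chk (pv := (fun x => (⟨c111b.vec (ZMod 5) 111 x⟩ : Vc φ))) ((@Cfg.Ok.acts G _ _ _ _ c111b (ZMod.charP 5) c111b_ok rfl rfl (c111md φ inj) rfl t4g0).ex (t4eg0 h0)) t4O0
theorem t4fx0 : (⊥ : Subgroup G) ≤ MulAction.stabilizer G ((fun i => (fun x => (⟨c111b.vec (ZMod 5) 111 x⟩ : Vc φ)) (pt c111b.row t4y0 i)) (nat_lit 23)) := bot_le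
theorem t4lb0 (h0 : ∀ s < 2, (c111md φ inj).In ⊤ (t4g0 s)) : 32 ≤ Nat.card ((c111md φ inj).gn t4g0 2) :=
  le_of_eq_of_le (by norm_num) (lower t4y0D (t4R0 h0) (t4le0 h0) t4fx0 (t4lb1 h0))
theorem t4ex0 (h0 : ∀ s < 2, (c111md φ inj).In ⊤ (t4g0 s)) : MulAction.orbit ((c111md φ inj).gn t4g0 2) ((fun i => (fun x => (⟨c111b.vec (ZMod 5) 111 x⟩ : Vc φ)) (pt c111b.row t4y0 i)) (nat_lit 23)) = (fun i => (fun x => (⟨c111b.vec (ZMod 5) 111 x⟩ : Vc φ)) (pt c111b.row t4y0 i)) '' {i | i < 32} ∧ ((c111md φ inj).gn t4g0 2) ⊓ MulAction.stabilizer G ((fun i => (fun x => (⟨c111b.vec (ZMod 5) 111 x⟩ : Vc φ)) (pt c111b.row t4y0 i)) (nat_lit 23)) = (⊥ : Subgroup G) ∧ Nat.card ((c111md φ inj).gn t4g0 2) = 32 * 1 ∧ Nat.card (⊥ : Subgroup G) = 1 :=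
  exact t4y0D (t4R0 h0) (t4le0 h0) t4fx0 (t4lb1 h0) ((t4ub0 h0).trans (by norm_num))
theorem t4E : ∀ i < 2, (chkE t4g0 ee [nat_lit 414622042414, nat_lit 9740348494271]) i = 0 :=
  (rng_step (all0 _) t4E_0)
theorem t4L : ∀ i < 2, (chkL c111.mul (dD (nat_lit 4)) t4g0 ee [nat_lit 4743959773331, nat_lit 9162257503002]) i = 0 :=
  (rng_step (all0 _) t4L_0)
theorem t4Q : ∀ i < 32, (chkQ c111.mul c111.one c111.trc (zt (nat_lit 0)) (nat_lit 1) (dD (nat_lit 4)) t4T0 ee kE [[nat_lit 0, nat_lit 0, nat_lit 0, nat_lit 0],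
  [nat_lit 0, nat_lit 0, nat_lit 0, nat_lit 0],
  [nat_lit 1, nat_lit 1467570801295, nat_lit 16399685197403, nat_lit 180917833],
  [nat_lit 1, nat_lit 11870951572567, nat_lit 14228649058823, nat_lit 9470503],
  [nat_lit 0, nat_lit 0, nat_lit 0, nat_lit 0],
  [nat_lit 0, nat_lit 0, nat_lit 0, nat_lit 0],
  [nat_lit 0, nat_lit 0, nat_lit 0, nat_lit 0],
  [nat_lit 0, nat_lit 0, nat_lit 0, nat_lit 0],
  [nat_lit 0, nat_lit 0, nat_lit 0, nat_lit 0],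
  [nat_lit 0, nat_lit 0, nat_lit 0, nat_lit 0],
  [nat_lit 0, nat_lit 0, nat_lit 0, nat_lit 0],
  [nat_lit 0, nat_lit 0, nat_lit 0, nat_lit 0],
  [nat_lit 0, nat_lit 0, nat_lit 0, nat_lit 0],
  [nat_lit 0, nat_lit 0, nat_lit 0, nat_lit 0],
  [nat_lit 0, nat_lit 0, nat_lit 0, nat_lit 0],
  [nat_lit 0, nat_lit 0, nat_lit 0, nat_lit 0],
  [nat_lit 1, nat_lit 5452443779574, nat_lit 9475011325731, nat_lit 189846626],
  [nat_lit 1, nat_lit 15585053367143, nat_lit 2686280618935, nat_lit 132281362],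
  [nat_lit 1, nat_lit 9501021210958, nat_lit 1321653243367, nat_lit 211821107],
  [nat_lit 0, nat_lit 0, nat_lit 0, nat_lit 0],
  [nat_lit 1, nat_lit 14606387998671, nat_lit 8949513622067, nat_lit 85009734],
  [nat_lit 0, nat_lit 0, nat_lit 0, nat_lit 0],
  [nat_lit 0, nat_lit 0, nat_lit 0, nat_lit 0],
  [nat_lit 0, nat_lit 0, nat_lit 0, nat_lit 0],
  [nat_lit 0, nat_lit 0, nat_lit 0, nat_lit 0],
  [nat_lit 0, nat_lit 0, nat_lit 0, nat_lit 0],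
  [nat_lit 1, nat_lit 740539966486, nat_lit 9643738710074, nat_lit 182468946],
  [nat_lit 0, nat_lit 0, nat_lit 0, nat_lit 0],
  [nat_lit 0, nat_lit 0, nat_lit 0, nat_lit 0],
  [nat_lit 0, nat_lit 0, nat_lit 0, nat_lit 0],
  [nat_lit 0, nat_lit 0, nat_lit 0, nat_lit 0],
  [nat_lit 0, nat_lit 0, nat_lit 0, nat_lit 0]]) i = 0 :=
  (rng_step (rng_step (rng_step (rng_step (rng_step (rng_step (rng_step (rng_step (all0 _) t4Q_0) t4Q_1) t4Q_2) t4Q_3) t4Q_4) t4Q_5) t4Q_6) t4Q_7)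
theorem t4root (h0 : ∀ s < 3, (c111md φ inj).In ⊤ (eg s)) (h1 : (c111md φ inj).In ⊤ (dD 1)) (hx : ∀ i < 5, Nat.card (Lc ((c111md φ inj).gn eg 3) ((c111md φ inj).elt (dD i))) = getN [nat_lit 5859000000, nat_lit 300000, nat_lit 2880, nat_lit 1008, nat_lit 6048] i) (ho : orderOf ((c111md φ inj).elt (zt (nat_lit 0))) = 2) (hk : (c111md φ inj).El ((c111md φ inj).gn kg 2) kE) : ∀ u ∈ Lc ((c111md φ inj).gn eg 3) ((c111md φ inj).elt (dD (nat_lit 4))), IsConj ((c111md φ inj).elt (zt (nat_lit 0))) u → ∃ l ∈ Lc ((c111md φ inj).gn eg 3) ((c111md φ inj).elt (dD (nat_lit 4))), ∃ a ∈ ((c111md φ inj).gn eg 3), ∃ b ∈ ((c111md φ inj).gn eg 3), ∃ c ∈ ((c111md φ inj).gn kg 2), a * (l⁻¹ * u * l) = (c111md φ inj).elt (zt (nat_lit 0)) * a ∧ (c111md φ inj).elt (dD (nat_lit 4)) = b * (c * a) :=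
  cent_root (m := (c111md φ inj)) (k := 5) (r := 189) (@Cfg.Ok.canon G _ c111 c111_ok _ _ (ZMod.charP 5) _ rfl rfl φ inj) (@Cfg.Ok.cls _ _ c111 c111_ok _ _ (ZMod.charP 5) _ rfl rfl φ inj) (zin h0 _ (by decide)).top (dtop h0 h1 _) (by decide) ho (Hel h0) hk
    (gn_le (in_of_chkL (Hel h0) (dtop h0 h1 _) (in_of_chkE (Hel h0) t4E) t4L)) (t4ex0 fun s hs => (in_of_chkE (Hel h0) t4E s hs).top).2.2.1 (hx 4 (by decide)) (by decide)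
    (t4sch0 fun s hs => (in_of_chkE (Hel h0) t4E s hs).top).1 t4Q
theorem centG2 (h0 : ∀ s < 3, (c111md φ inj).In ⊤ (eg s)) (h1 : (c111md φ inj).In ⊤ (dD 1)) (hx : ∀ i < 5, Nat.card (Lc ((c111md φ inj).gn eg 3) ((c111md φ inj).elt (dD i))) = getN [nat_lit 5859000000, nat_lit 300000, nat_lit 2880, nat_lit 1008, nat_lit 6048] i) (ho : orderOf ((c111md φ inj).elt (zt (nat_lit 0))) = 2) (hk : (c111md φ inj).El ((c111md φ inj).gn kg 2) kE) (hc : ((c111md φ inj).gn kg 2) ≤ Subgroup.centralizer {(c111md φ inj).elt (zt (nat_lit 0))}) : ((c111md φ inj).gn dg 4) ⊓ Subgroup.centralizer {(c111md φ inj).elt (zt (nat_lit 0))} ≤ ((c111md φ inj).gn kg 2) :=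
  cent_dc (d := fun i => (c111md φ inj).elt (dD i)) ((congrArg _ dD0).trans elt_one) (dcov h0 h1) (zin h0 _ (by decide)).elt_mem hc (centS h0 hk hc) fun i hi h0' => by
    interval_cases i; exacts [t1root h0 h1 hx ho hk, t2root h0 h1 hx ho hk, t3root h0 h1 hx ho hk, t4root h0 h1 hx ho hk]
theorem u1top0 (h0 : ∀ s < 1, (c111md φ inj).In ⊤ (u1g0 s)) : ∀ s < 1, (c111md φ inj).In ⊤ (u1g0 s) := h0
theorem u1eg0 (h0 : ∀ s < 1, (c111md φ inj).In ⊤ (u1g0 s)) : (c111md φ inj).El ((c111md φ inj).gn u1g0 1) u1g0 := el_gn (u1top0 h0)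
theorem u1le0 (h0 : ∀ s < 1, (c111md φ inj).In ⊤ (u1g0 s)) : (⊥ : Subgroup G) ≤ ((c111md φ inj).gn u1g0 1) := bot_le
theorem u1el1 (h0 : ∀ s < 1, (c111md φ inj).In ⊤ (u1g0 s)) : (c111md φ inj).El ⊥ u1e1 := el_one _
theorem u1ub1 (h0 : ∀ s < 1, (c111md φ inj).In ⊤ (u1g0 s)) : Nat.card (⊥ : Subgroup G) ≤ 1 := card_bot_le
theorem u1S0 : ∀ i < 3, (chkS c111.mul u1g0 (nat_lit 1) u1T0 u1e1 u1c0 (nat_lit 2) (nat_lit 3)) i = 0 :=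
  (rng_step (all0 _) u1S0_0)
theorem u1sch0 (h0 : ∀ s < 1, (c111md φ inj).In ⊤ (u1g0 s)) : (∀ g ∈ ((c111md φ inj).gn u1g0 1), ∃ i < 3, (c111md φ inj).Cos (⊥ : Subgroup G) u1T0 g i) ∧ (∀ i < 3, (c111md φ inj).In ((c111md φ inj).gn u1g0 1) (u1T0 i)) ∧ Nat.card ((c111md φ inj).gn u1g0 1) ≤ 3 * Nat.card (⊥ : Subgroup G) :=
  schreier (u1el1 h0) (by decide) u1T0_0 (u1top0 h0) (u1le0 h0) u1S0
theorem u1el0 (h0 : ∀ s < 1, (c111md φ inj).In ⊤ (u1g0 s)) : (c111md φ inj).El ((c111md φ inj).gn u1g0 1) u1e0 := (el_of_pad (u1sch0 h0).2.1).cel0 _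
theorem u1ub0 (h0 : ∀ s < 1, (c111md φ inj).In ⊤ (u1g0 s)) : Nat.card ((c111md φ inj).gn u1g0 1) ≤ 3 := (upper (u1sch0 h0).2.2 (u1ub1 h0)).trans (by norm_num)
theorem u1lb1 (h0 : ∀ s < 1, (c111md φ inj).In ⊤ (u1g0 s)) : 1 ≤ Nat.card (⊥ : Subgroup G) := one_le_card _
theorem u1y0Y : ∀ i < 3, (chkY c111b.canV c111b.row u1y0 (nat_lit 3)) i = 0 :=
  allB (rngB_step (allB0 _ _) u1y0Y_0) (by decide)
theorem u1y0D : Dist (fun i => (fun x => (⟨c111b.vec (ZMod 5) 111 x⟩ : Vc φ)) (pt c111b.row u1y0 i)) 3 :=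
  dist_of_chk (@Cfg.Ok.canT G _ _ _ _ c111b (ZMod.charP 5) c111b_ok rfl rfl φ) u1y0Y
theorem u1O0 : ∀ i < 3, (chkO (c111b.imgV u1g0) c111b.row u1y0 u1O0a (nat_lit 3) [nat_lit 2]) i = 0 :=
  allB (rngB_step (allB0 _ _) u1O0_0) (by decide)
theorem u1R0 (h0 : ∀ s < 1, (c111md φ inj).In ⊤ (u1g0 s)) : Reach ((c111md φ inj).gn u1g0 1) (fun i => (fun x => (⟨c111b.vec (ZMod 5) 111 x⟩ : Vc φ)) (pt c111b.row u1y0 i)) 3 [nat_lit 2] :=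
  reach_of_chk (pv := (fun x => (⟨c111b.vec (ZMod 5) 111 x⟩ : Vc φ))) ((@Cfg.Ok.acts G _ _ _ _ c111b (ZMod.charP 5) c111b_ok rfl rfl (c111md φ inj) rfl u1g0).ex (u1eg0 h0)) u1O0
theorem u1fx0 : (⊥ : Subgroup G) ≤ MulAction.stabilizer G ((fun i => (fun x => (⟨c111b.vec (ZMod 5) 111 x⟩ : Vc φ)) (pt c111b.row u1y0 i)) (nat_lit 2)) := bot_le
theorem u1lb0 (h0 : ∀ s < 1, (c111md φ inj).In ⊤ (u1g0 s)) : 3 ≤ Nat.card ((c111md φ inj).gn u1g0 1) :=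
  le_of_eq_of_le (by norm_num) (lower u1y0D (u1R0 h0) (u1le0 h0) u1fx0 (u1lb1 h0))
theorem u1ex0 (h0 : ∀ s < 1, (c111md φ inj).In ⊤ (u1g0 s)) : MulAction.orbit ((c111md φ inj).gn u1g0 1) ((fun i => (fun x => (⟨c111b.vec (ZMod 5) 111 x⟩ : Vc φ)) (pt c111b.row u1y0 i)) (nat_lit 2)) = (fun i => (fun x => (⟨c111b.vec (ZMod 5) 111 x⟩ : Vc φ)) (pt c111b.row u1y0 i)) '' {i | i < 3} ∧ ((c111md φ inj).gn u1g0 1) ⊓ MulAction.stabilizer G ((fun i => (fun x => (⟨c111b.vec (ZMod 5) 111 x⟩ : Vc φ)) (pt c111b.row u1y0 i)) (nat_lit 2)) = (⊥ : Subgroup G) ∧ Nat.card ((c111md φ inj).gn u1g0 1) = 3 * 1 ∧ Nat.card (⊥ : Subgroup G) = 1 :=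
  exact u1y0D (u1R0 h0) (u1le0 h0) u1fx0 (u1lb1 h0) ((u1ub0 h0).trans (by norm_num))
theorem u1E : ∀ i < 1, (chkE u1g0 ee [nat_lit 15859177685005]) i = 0 :=
  (rng_step (all0 _) u1E_0)
theorem u1L : ∀ i < 1, (chkL c111.mul (dD (nat_lit 1)) u1g0 ee [nat_lit 5326038827021]) i = 0 :=
  (rng_step (all0 _) u1L_0)
theorem u1Q : ∀ i < 3, (chkQ c111.mul c111.one c111.trc (zt (nat_lit 1)) (nat_lit 2) (dD (nat_lit 1)) u1T0 ee fe [[nat_lit 0, nat_lit 0, nat_lit 0, nat_lit 0],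
  [nat_lit 1, nat_lit 13384370515311, nat_lit 14946513086703, nat_lit 857517064193],
  [nat_lit 1, nat_lit 3006383752387, nat_lit 1633599688031, nat_lit 803704143873]]) i = 0 :=
  (rng_step (all0 _) u1Q_0)
theorem u1root (h0 : ∀ s < 3, (c111md φ inj).In ⊤ (eg s)) (h1 : (c111md φ inj).In ⊤ (dD 1)) (hx : ∀ i < 5, Nat.card (Lc ((c111md φ inj).gn eg 3) ((c111md φ inj).elt (dD i))) = getN [nat_lit 5859000000, nat_lit 300000, nat_lit 2880, nat_lit 1008, nat_lit 6048] i) (ho : orderOf ((c111md φ inj).elt (zt (nat_lit 1))) = 3) (hk : (c111md φ inj).El ((c111md φ inj).gn fg 3) fe) : ∀ u ∈ Lc ((c111md φ inj).gn eg 3) ((c111md φ inj).elt (dD (nat_lit 1))), IsConj ((c111md φ inj).elt (zt (nat_lit 1))) u → ∃ l ∈ Lc ((c111md φ inj).gn eg 3) ((c111md φ inj).elt (dD (nat_lit 1))), ∃ a ∈ ((c111md φ inj).gn eg 3), ∃ b ∈ ((c111md φ inj).gn eg 3), ∃ c ∈ ((c111md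 φ inj).gn fg 3), a * (l⁻¹ * u * l) = (c111md φ inj).elt (zt (nat_lit 1)) * a ∧ (c111md φ inj).elt (dD (nat_lit 1)) = b * (c * a) :=
  cent_root (m := (c111md φ inj)) (k := 1) (r := 100000) (@Cfg.Ok.canon G _ c111 c111_ok _ _ (ZMod.charP 5) _ rfl rfl φ inj) (@Cfg.Ok.cls _ _ c111 c111_ok _ _ (ZMod.charP 5) _ rfl rfl φ inj) (zin h0 _ (by decide)).top (dtop h0 h1 _) (by decide) ho (Hel h0) hk
    (gn_le (in_of_chkL (Hel h0) (dtop h0 h1 _) (in_of_chkE (Hel h0) u1E) u1L)) (u1ex0 fun s hs => (in_of_chkE (Hel h0) u1E s hs).top).2.2.1 (hx 1 (by decide)) (by decide)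
    (u1sch0 fun s hs => (in_of_chkE (Hel h0) u1E s hs).top).1 u1Q
theorem u2top0 (h0 : ∀ s < 2, (c111md φ inj).In ⊤ (u2g0 s)) : ∀ s < 2, (c111md φ inj).In ⊤ (u2g0 s) := h0
theorem u2eg0 (h0 : ∀ s < 2, (c111md φ inj).In ⊤ (u2g0 s)) : (c111md φ inj).El ((c111md φ inj).gn u2g0 2) u2g0 := el_gn (u2top0 h0)
theorem u2le0 (h0 : ∀ s < 2, (c111md φ inj).In ⊤ (u2g0 s)) : (⊥ : Subgroup G) ≤ ((c111md φ inj).gn u2g0 2) := bot_le
theorem u2el1 (h0 : ∀ s < 2, (c111md φ inj).In ⊤ (u2g0 s)) : (c111md φ inj).El ⊥ u2e1 := el_one _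
theorem u2ub1 (h0 : ∀ s < 2, (c111md φ inj).In ⊤ (u2g0 s)) : Nat.card (⊥ : Subgroup G) ≤ 1 := card_bot_le
theorem u2S0 : ∀ i < 9, (chkS c111.mul u2g0 (nat_lit 2) u2T0 u2e1 u2c0 (nat_lit 4) (nat_lit 9)) i = 0 :=
  (rng_step (all0 _) u2S0_0)
theorem u2sch0 (h0 : ∀ s < 2, (c111md φ inj).In ⊤ (u2g0 s)) : (∀ g ∈ ((c111md φ inj).gn u2g0 2), ∃ i < 9, (c111md φ inj).Cos (⊥ : Subgroup G) u2T0 g i) ∧ (∀ i < 9, (c111md φ inj).In ((c111md φ inj).gn u2g0 2) (u2T0 i)) ∧ Nat.card ((c111md φ inj).gn u2g0 2) ≤ 9 * Nat.card (⊥ : Subgroup G) :=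
  schreier (u2el1 h0) (by decide) u2T0_0 (u2top0 h0) (u2le0 h0) u2S0
theorem u2el0 (h0 : ∀ s < 2, (c111md φ inj).In ⊤ (u2g0 s)) : (c111md φ inj).El ((c111md φ inj).gn u2g0 2) u2e0 := (el_of_pad (u2sch0 h0).2.1).cel0 _
theorem u2ub0 (h0 : ∀ s < 2, (c111md φ inj).In ⊤ (u2g0 s)) : Nat.card ((c111md φ inj).gn u2g0 2) ≤ 9 := (upper (u2sch0 h0).2.2 (u2ub1 h0)).trans (by norm_num)
theorem u2lb1 (h0 : ∀ s < 2, (c111md φ inj).In ⊤ (u2g0 s)) : 1 ≤ Nat.card (⊥ : Subgroup G) := one_le_card _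
theorem u2y0Y : ∀ i < 9, (chkY c111b.canV c111b.row u2y0 (nat_lit 9)) i = 0 :=
  allB (rngB_step (allB0 _ _) u2y0Y_0) (by decide)
theorem u2y0D : Dist (fun i => (fun x => (⟨c111b.vec (ZMod 5) 111 x⟩ : Vc φ)) (pt c111b.row u2y0 i)) 9 :=
  dist_of_chk (@Cfg.Ok.canT G _ _ _ _ c111b (ZMod.charP 5) c111b_ok rfl rfl φ) u2y0Y
theorem u2O0 : ∀ i < 9, (chkO (c111b.imgV u2g0) c111b.row u2y0 u2O0a (nat_lit 9) [nat_lit 7]) i = 0 :=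
  allB (rngB_step (allB0 _ _) u2O0_0) (by decide)
theorem u2R0 (h0 : ∀ s < 2, (c111md φ inj).In ⊤ (u2g0 s)) : Reach ((c111md φ inj).gn u2g0 2) (fun i => (fun x => (⟨c111b.vec (ZMod 5) 111 x⟩ : Vc φ)) (pt c111b.row u2y0 i)) 9 [nat_lit 7] :=
  reach_of_chk (pv := (fun x => (⟨c111b.vec (ZMod 5) 111 x⟩ : Vc φ))) ((@Cfg.Ok.acts G _ _ _ _ c111b (ZMod.charP 5) c111b_ok rfl rfl (c111md φ inj) rfl u2g0).ex (u2eg0 h0)) u2O0
theorem u2fx0 : (⊥ : Subgroup G) ≤ MulAction.stabilizer G ((fun i => (fun x => (⟨c111b.vec (ZMod 5) 111 x⟩ : Vc φ)) (pt c111b.row u2y0 i)) (nat_lit 7)) := bot_le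
theorem u2lb0 (h0 : ∀ s < 2, (c111md φ inj).In ⊤ (u2g0 s)) : 9 ≤ Nat.card ((c111md φ inj).gn u2g0 2) :=
  le_of_eq_of_le (by norm_num) (lower u2y0D (u2R0 h0) (u2le0 h0) u2fx0 (u2lb1 h0))
theorem u2ex0 (h0 : ∀ s < 2, (c111md φ inj).In ⊤ (u2g0 s)) : MulAction.orbit ((c111md φ inj).gn u2g0 2) ((fun i => (fun x => (⟨c111b.vec (ZMod 5) 111 x⟩ : Vc φ)) (pt c111b.row u2y0 i)) (nat_lit 7)) = (fun i => (fun x => (⟨c111b.vec (ZMod 5) 111 x⟩ : Vc φ)) (pt c111b.row u2y0 i)) '' {i | i < 9} ∧ ((c111md φ inj).gn u2g0 2) ⊓ MulAction.stabilizer G ((fun i => (fun x => (⟨c111b.vec (ZMod 5) 111 x⟩ : Vc φ)) (pt c111b.row u2y0 i)) (nat_lit 7)) = (⊥ : Subgroup G) ∧ Nat.card ((c111md φ inj).gn u2g0 2) = 9 * 1 ∧ Nat.card (⊥ : Subgroup G) = 1 :=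
  exact u2y0D (u2R0 h0) (u2le0 h0) u2fx0 (u2lb1 h0) ((u2ub0 h0).trans (by norm_num))
theorem u2E : ∀ i < 2, (chkE u2g0 ee [nat_lit 7834534483515, nat_lit 5202076799094]) i = 0 :=
  (rng_step (all0 _) u2E_0)
theorem u2L : ∀ i < 2, (chkL c111.mul (dD (nat_lit 2)) u2g0 ee [nat_lit 17131659856103, nat_lit 1521553059614]) i = 0 :=
  (rng_step (all0 _) u2L_0)
theorem u2Q : ∀ i < 9, (chkQ c111.mul c111.one c111.trc (zt (nat_lit 1)) (nat_lit 2) (dD (nat_lit 2)) u2T0 ee fe [[nat_lit 0, nat_lit 0, nat_lit 0, nat_lit 0],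
  [nat_lit 0, nat_lit 0, nat_lit 0, nat_lit 0],
  [nat_lit 0, nat_lit 0, nat_lit 0, nat_lit 0],
  [nat_lit 0, nat_lit 0, nat_lit 0, nat_lit 0],
  [nat_lit 1, nat_lit 11275862379637, nat_lit 14077697880559, nat_lit 723782998787],
  [nat_lit 0, nat_lit 0, nat_lit 0, nat_lit 0],
  [nat_lit 0, nat_lit 0, nat_lit 0, nat_lit 0],
  [nat_lit 0, nat_lit 0, nat_lit 0, nat_lit 0],
  [nat_lit 1, nat_lit 2138660426546, nat_lit 13346371989207, nat_lit 713884890483]]) i = 0 :=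
  (rng_step (rng_step (rng_step (all0 _) u2Q_0) u2Q_1) u2Q_2)
theorem u2root (h0 : ∀ s < 3, (c111md φ inj).In ⊤ (eg s)) (h1 : (c111md φ inj).In ⊤ (dD 1)) (hx : ∀ i < 5, Nat.card (Lc ((c111md φ inj).gn eg 3) ((c111md φ inj).elt (dD i))) = getN [nat_lit 5859000000, nat_lit 300000, nat_lit 2880, nat_lit 1008, nat_lit 6048] i) (ho : orderOf ((c111md φ inj).elt (zt (nat_lit 1))) = 3) (hk : (c111md φ inj).El ((c111md φ inj).gn fg 3) fe) : ∀ u ∈ Lc ((c111md φ inj).gn eg 3) ((c111md φ inj).elt (dD (nat_lit 2))), IsConj ((c111md φ inj).elt (zt (nat_lit 1))) u → ∃ l ∈ Lc ((c111md φ inj).gn eg 3) ((c111md φ inj).elt (dD (nat_lit 2))), ∃ a ∈ ((c111md φ inj).gn eg 3), ∃ b ∈ ((c111md φ inj).gn eg 3), ∃ c ∈ ((c111md φ inj).gn fg 3), a * (l⁻¹ * u * l) = (c111md φ inj).elt (zt (nat_lit 1)) * a ∧ (c111md φ inj).elt (dD (nat_lit 2)) = b * (c * a) :=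
  cent_root (m := (c111md φ inj)) (k := 2) (r := 320) (@Cfg.Ok.canon G _ c111 c111_ok _ _ (ZMod.charP 5) _ rfl rfl φ inj) (@Cfg.Ok.cls _ _ c111 c111_ok _ _ (ZMod.charP 5) _ rfl rfl φ inj) (zin h0 _ (by decide)).top (dtop h0 h1 _) (by decide) ho (Hel h0) hk
    (gn_le (in_of_chkL (Hel h0) (dtop h0 h1 _) (in_of_chkE (Hel h0) u2E) u2L)) (u2ex0 fun s hs => (in_of_chkE (Hel h0) u2E s hs).top).2.2.1 (hx 2 (by decide)) (by decide)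
    (u2sch0 fun s hs => (in_of_chkE (Hel h0) u2E s hs).top).1 u2Q
theorem u3top0 (h0 : ∀ s < 2, (c111md φ inj).In ⊤ (u3g0 s)) : ∀ s < 2, (c111md φ inj).In ⊤ (u3g0 s) := h0
theorem u3eg0 (h0 : ∀ s < 2, (c111md φ inj).In ⊤ (u3g0 s)) : (c111md φ inj).El ((c111md φ inj).gn u3g0 2) u3g0 := el_gn (u3top0 h0)
theorem u3le0 (h0 : ∀ s < 2, (c111md φ inj).In ⊤ (u3g0 s)) : (⊥ : Subgroup G) ≤ ((c111md φ inj).gn u3g0 2) := bot_le
theorem u3el1 (h0 : ∀ s < 2, (c111md φ inj).In ⊤ (u3g0 s)) : (c111md φ inj).El ⊥ u3e1 := el_one _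
theorem u3ub1 (h0 : ∀ s < 2, (c111md φ inj).In ⊤ (u3g0 s)) : Nat.card (⊥ : Subgroup G) ≤ 1 := card_bot_le
theorem u3S0 : ∀ i < 9, (chkS c111.mul u3g0 (nat_lit 2) u3T0 u3e1 u3c0 (nat_lit 4) (nat_lit 9)) i = 0 :=
  (rng_step (all0 _) u3S0_0)
theorem u3sch0 (h0 : ∀ s < 2, (c111md φ inj).In ⊤ (u3g0 s)) : (∀ g ∈ ((c111md φ inj).gn u3g0 2), ∃ i < 9, (c111md φ inj).Cos (⊥ : Subgroup G) u3T0 g i) ∧ (∀ i < 9, (c111md φ inj).In ((c111md φ inj).gn u3g0 2) (u3T0 i)) ∧ Nat.card ((c111md φ inj).gn u3g0 2) ≤ 9 * Nat.card (⊥ : Subgroup G) :=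
  schreier (u3el1 h0) (by decide) u3T0_0 (u3top0 h0) (u3le0 h0) u3S0
theorem u3el0 (h0 : ∀ s < 2, (c111md φ inj).In ⊤ (u3g0 s)) : (c111md φ inj).El ((c111md φ inj).gn u3g0 2) u3e0 := (el_of_pad (u3sch0 h0).2.1).cel0 _
theorem u3ub0 (h0 : ∀ s < 2, (c111md φ inj).In ⊤ (u3g0 s)) : Nat.card ((c111md φ inj).gn u3g0 2) ≤ 9 := (upper (u3sch0 h0).2.2 (u3ub1 h0)).trans (by norm_num)
theorem u3lb1 (h0 : ∀ s < 2, (c111md φ inj).In ⊤ (u3g0 s)) : 1 ≤ Nat.card (⊥ : Subgroup G) := one_le_card _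
theorem u3y0Y : ∀ i < 9, (chkY c111b.canV c111b.row u3y0 (nat_lit 9)) i = 0 :=
  allB (rngB_step (allB0 _ _) u3y0Y_0) (by decide)
theorem u3y0D : Dist (fun i => (fun x => (⟨c111b.vec (ZMod 5) 111 x⟩ : Vc φ)) (pt c111b.row u3y0 i)) 9 :=
  dist_of_chk (@Cfg.Ok.canT G _ _ _ _ c111b (ZMod.charP 5) c111b_ok rfl rfl φ) u3y0Y
theorem u3O0 : ∀ i < 9, (chkO (c111b.imgV u3g0) c111b.row u3y0 u3O0a (nat_lit 9) [nat_lit 7]) i = 0 :=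
  allB (rngB_step (allB0 _ _) u3O0_0) (by decide)
theorem u3R0 (h0 : ∀ s < 2, (c111md φ inj).In ⊤ (u3g0 s)) : Reach ((c111md φ inj).gn u3g0 2) (fun i => (fun x => (⟨c111b.vec (ZMod 5) 111 x⟩ : Vc φ)) (pt c111b.row u3y0 i)) 9 [nat_lit 7] :=
  reach_of_chk (pv := (fun x => (⟨c111b.vec (ZMod 5) 111 x⟩ : Vc φ))) ((@Cfg.Ok.acts G _ _ _ _ c111b (ZMod.charP 5) c111b_ok rfl rfl (c111md φ inj) rfl u3g0).ex (u3eg0 h0)) u3O0
theorem u3fx0 : (⊥ : Subgroup G) ≤ MulAction.stabilizer G ((fun i => (fun x => (⟨c111b.vec (ZMod 5) 111 x⟩ : Vc φ)) (pt c111b.row u3y0 i)) (nat_lit 7)) := bot_le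
theorem u3lb0 (h0 : ∀ s < 2, (c111md φ inj).In ⊤ (u3g0 s)) : 9 ≤ Nat.card ((c111md φ inj).gn u3g0 2) :=
  le_of_eq_of_le (by norm_num) (lower u3y0D (u3R0 h0) (u3le0 h0) u3fx0 (u3lb1 h0))
theorem u3ex0 (h0 : ∀ s < 2, (c111md φ inj).In ⊤ (u3g0 s)) : MulAction.orbit ((c111md φ inj).gn u3g0 2) ((fun i => (fun x => (⟨c111b.vec (ZMod 5) 111 x⟩ : Vc φ)) (pt c111b.row u3y0 i)) (nat_lit 7)) = (fun i => (fun x => (⟨c111b.vec (ZMod 5) 111 x⟩ : Vc φ)) (pt c111b.row u3y0 i)) '' {i | i < 9} ∧ ((c111md φ inj).gn u3g0 2) ⊓ MulAction.stabilizer G ((fun i => (fun x => (⟨c111b.vec (ZMod 5) 111 x⟩ : Vc φ)) (pt c111b.row u3y0 i)) (nat_lit 7)) = (⊥ : Subgroup G) ∧ Nat.card ((c111md φ inj).gn u3g0 2) = 9 * 1 ∧ Nat.card (⊥ : Subgroup G) = 1 :=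
  exact u3y0D (u3R0 h0) (u3le0 h0) u3fx0 (u3lb1 h0) ((u3ub0 h0).trans (by norm_num))
theorem u3E : ∀ i < 2, (chkE u3g0 ee [nat_lit 15453515946151, nat_lit 9739081613313]) i = 0 :=
  (rng_step (all0 _) u3E_0)
theorem u3L : ∀ i < 2, (chkL c111.mul (dD (nat_lit 3)) u3g0 ee [nat_lit 7987473941863, nat_lit 4793724931189]) i = 0 :=
  (rng_step (all0 _) u3L_0)
theorem u3Q : ∀ i < 9, (chkQ c111.mul c111.one c111.trc (zt (nat_lit 1)) (nat_lit 2) (dD (nat_lit 3)) u3T0 ee fe [[nat_lit 0, nat_lit 0, nat_lit 0, nat_lit 0],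
  [nat_lit 0, nat_lit 0, nat_lit 0, nat_lit 0],
  [nat_lit 1, nat_lit 13963243225094, nat_lit 4779411924343, nat_lit 1309864673444],
  [nat_lit 0, nat_lit 0, nat_lit 0, nat_lit 0],
  [nat_lit 0, nat_lit 0, nat_lit 0, nat_lit 0],
  [nat_lit 1, nat_lit 12391337088347, nat_lit 13896054655691, nat_lit 689792606540],
  [nat_lit 0, nat_lit 0, nat_lit 0, nat_lit 0],
  [nat_lit 0, nat_lit 0, nat_lit 0, nat_lit 0],
  [nat_lit 0, nat_lit 0, nat_lit 0, nat_lit 0]]) i = 0 :=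
  (rng_step (rng_step (rng_step (all0 _) u3Q_0) u3Q_1) u3Q_2)
theorem u3root (h0 : ∀ s < 3, (c111md φ inj).In ⊤ (eg s)) (h1 : (c111md φ inj).In ⊤ (dD 1)) (hx : ∀ i < 5, Nat.card (Lc ((c111md φ inj).gn eg 3) ((c111md φ inj).elt (dD i))) = getN [nat_lit 5859000000, nat_lit 300000, nat_lit 2880, nat_lit 1008, nat_lit 6048] i) (ho : orderOf ((c111md φ inj).elt (zt (nat_lit 1))) = 3) (hk : (c111md φ inj).El ((c111md φ inj).gn fg 3) fe) : ∀ u ∈ Lc ((c111md φ inj).gn eg 3) ((c111md φ inj).elt (dD (nat_lit 3))), IsConj ((c111md φ inj).elt (zt (nat_lit 1))) u → ∃ l ∈ Lc ((c111md φ inj).gn eg 3) ((c111md φ inj).elt (dD (nat_lit 3))), ∃ a ∈ ((c111md φ inj).gn eg 3), ∃ b ∈ ((c111md φ inj).gn eg 3), ∃ c ∈ ((c111md φ inj).gn fg 3), a * (l⁻¹ * u * l) = (c111md φ inj).elt (zt (nat_lit 1)) * a ∧ (c111md φ inj).elt (dD (nat_lit 3)) = b * (c * a) :=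
  cent_root (m := (c111md φ inj)) (k := 2) (r := 112) (@Cfg.Ok.canon G _ c111 c111_ok _ _ (ZMod.charP 5) _ rfl rfl φ inj) (@Cfg.Ok.cls _ _ c111 c111_ok _ _ (ZMod.charP 5) _ rfl rfl φ inj) (zin h0 _ (by decide)).top (dtop h0 h1 _) (by decide) ho (Hel h0) hk
    (gn_le (in_of_chkL (Hel h0) (dtop h0 h1 _) (in_of_chkE (Hel h0) u3E) u3L)) (u3ex0 fun s hs => (in_of_chkE (Hel h0) u3E s hs).top).2.2.1 (hx 3 (by decide)) (by decide)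
    (u3sch0 fun s hs => (in_of_chkE (Hel h0) u3E s hs).top).1 u3Q
theorem u4top0 (h0 : ∀ s < 2, (c111md φ inj).In ⊤ (u4g0 s)) : ∀ s < 2, (c111md φ inj).In ⊤ (u4g0 s) := h0
theorem u4eg0 (h0 : ∀ s < 2, (c111md φ inj).In ⊤ (u4g0 s)) : (c111md φ inj).El ((c111md φ inj).gn u4g0 2) u4g0 := el_gn (u4top0 h0)
theorem u4le0 (h0 : ∀ s < 2, (c111md φ inj).In ⊤ (u4g0 s)) : (⊥ : Subgroup G) ≤ ((c111md φ inj).gn u4g0 2) := bot_le
theorem u4el1 (h0 : ∀ s < 2, (c111md φ inj).In ⊤ (u4g0 s)) : (c111md φ inj).El ⊥ u4e1 := el_one _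
theorem u4ub1 (h0 : ∀ s < 2, (c111md φ inj).In ⊤ (u4g0 s)) : Nat.card (⊥ : Subgroup G) ≤ 1 := card_bot_le
theorem u4S0 : ∀ i < 27, (chkS c111.mul u4g0 (nat_lit 2) u4T0 u4e1 u4c0 (nat_lit 5) (nat_lit 27)) i = 0 :=
  (rng_step (rng_step (all0 _) u4S0_0) u4S0_1)
theorem u4sch0 (h0 : ∀ s < 2, (c111md φ inj).In ⊤ (u4g0 s)) : (∀ g ∈ ((c111md φ inj).gn u4g0 2), ∃ i < 27, (c111md φ inj).Cos (⊥ : Subgroup G) u4T0 g i) ∧ (∀ i < 27, (c111md φ inj).In ((c111md φ inj).gn u4g0 2) (u4T0 i)) ∧ Nat.card ((c111md φ inj).gn u4g0 2) ≤ 27 * Nat.card (⊥ : Subgroup G) :=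
  schreier (u4el1 h0) (by decide) u4T0_0 (u4top0 h0) (u4le0 h0) u4S0
theorem u4el0 (h0 : ∀ s < 2, (c111md φ inj).In ⊤ (u4g0 s)) : (c111md φ inj).El ((c111md φ inj).gn u4g0 2) u4e0 := (el_of_pad (u4sch0 h0).2.1).cel0 _
theorem u4ub0 (h0 : ∀ s < 2, (c111md φ inj).In ⊤ (u4g0 s)) : Nat.card ((c111md φ inj).gn u4g0 2) ≤ 27 := (upper (u4sch0 h0).2.2 (u4ub1 h0)).trans (by norm_num)
theorem u4lb1 (h0 : ∀ s < 2, (c111md φ inj).In ⊤ (u4g0 s)) : 1 ≤ Nat.card (⊥ : Subgroup G) := one_le_card _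
theorem u4y0Y : ∀ i < 27, (chkY c111b.canV c111b.row u4y0 (nat_lit 27)) i = 0 :=
  allB (rngB_step (allB0 _ _) u4y0Y_0) (by decide)
theorem u4y0D : Dist (fun i => (fun x => (⟨c111b.vec (ZMod 5) 111 x⟩ : Vc φ)) (pt c111b.row u4y0 i)) 27 :=
  dist_of_chk (@Cfg.Ok.canT G _ _ _ _ c111b (ZMod.charP 5) c111b_ok rfl rfl φ) u4y0Y
theorem u4O0 : ∀ i < 27, (chkO (c111b.imgV u4g0) c111b.row u4y0 u4O0a (nat_lit 27) [nat_lit 22]) i = 0 :=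
  allB (rngB_step (allB0 _ _) u4O0_0) (by decide)
theorem u4R0 (h0 : ∀ s < 2, (c111md φ inj).In ⊤ (u4g0 s)) : Reach ((c111md φ inj).gn u4g0 2) (fun i => (fun x => (⟨c111b.vec (ZMod 5) 111 x⟩ : Vc φ)) (pt c111b.row u4y0 i)) 27 [nat_lit 22] :=
  reach_of_chk (pv := (fun x => (⟨c111b.vec (ZMod 5) 111 x⟩ : Vc φ))) ((@Cfg.Ok.acts G _ _ _ _ c111b (ZMod.charP 5) c111b_ok rfl rfl (c111md φ inj) rfl u4g0).ex (u4eg0 h0)) u4O0
theorem u4fx0 : (⊥ : Subgroup G) ≤ MulAction.stabilizer G ((fun i => (fun x => (⟨c111b.vec (ZMod 5) 111 x⟩ : Vc φ)) (pt c111b.row u4y0 i)) (nat_lit 22)) := bot_le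
theorem u4lb0 (h0 : ∀ s < 2, (c111md φ inj).In ⊤ (u4g0 s)) : 27 ≤ Nat.card ((c111md φ inj).gn u4g0 2) :=
  le_of_eq_of_le (by norm_num) (lower u4y0D (u4R0 h0) (u4le0 h0) u4fx0 (u4lb1 h0))
theorem u4ex0 (h0 : ∀ s < 2, (c111md φ inj).In ⊤ (u4g0 s)) : MulAction.orbit ((c111md φ inj).gn u4g0 2) ((fun i => (fun x => (⟨c111b.vec (ZMod 5) 111 x⟩ : Vc φ)) (pt c111b.row u4y0 i)) (nat_lit 22)) = (fun i => (fun x => (⟨c111b.vec (ZMod 5) 111 x⟩ : Vc φ)) (pt c111b.row u4y0 i)) '' {i | i < 27} ∧ ((c111md φ inj).gn u4g0 2) ⊓ MulAction.stabilizer G ((fun i => (fun x => (⟨c111b.vec (ZMod 5) 111 x⟩ : Vc φ)) (pt c111b.row u4y0 i)) (nat_lit 22)) = (⊥ : Subgroup G) ∧ Nat.card ((c111md φ inj).gn u4g0 2) = 27 * 1 ∧ Nat.card (⊥ : Subgroup G) = 1 :=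
  exact u4y0D (u4R0 h0) (u4le0 h0) u4fx0 (u4lb1 h0) ((u4ub0 h0).trans (by norm_num))
theorem u4E : ∀ i < 2, (chkE u4g0 ee [nat_lit 16020276680626, nat_lit 16478799145838]) i = 0 :=
  (rng_step (all0 _) u4E_0)
theorem u4L : ∀ i < 2, (chkL c111.mul (dD (nat_lit 4)) u4g0 ee [nat_lit 12276462478339, nat_lit 7166899559923]) i = 0 :=
  (rng_step (all0 _) u4L_0)
theorem u4Q : ∀ i < 27, (chkQ c111.mul c111.one c111.trc (zt (nat_lit 1)) (nat_lit 2) (dD (nat_lit 4)) u4T0 ee fe [[nat_lit 0, nat_lit 0, nat_lit 0, nat_lit 0],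
  [nat_lit 0, nat_lit 0, nat_lit 0, nat_lit 0],
  [nat_lit 0, nat_lit 0, nat_lit 0, nat_lit 0],
  [nat_lit 0, nat_lit 0, nat_lit 0, nat_lit 0],
  [nat_lit 0, nat_lit 0, nat_lit 0, nat_lit 0],
  [nat_lit 0, nat_lit 0, nat_lit 0, nat_lit 0],
  [nat_lit 0, nat_lit 0, nat_lit 0, nat_lit 0],
  [nat_lit 0, nat_lit 0, nat_lit 0, nat_lit 0],
  [nat_lit 0, nat_lit 0, nat_lit 0, nat_lit 0],
  [nat_lit 0, nat_lit 0, nat_lit 0, nat_lit 0],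
  [nat_lit 0, nat_lit 0, nat_lit 0, nat_lit 0],
  [nat_lit 0, nat_lit 0, nat_lit 0, nat_lit 0],
  [nat_lit 0, nat_lit 0, nat_lit 0, nat_lit 0],
  [nat_lit 0, nat_lit 0, nat_lit 0, nat_lit 0],
  [nat_lit 0, nat_lit 0, nat_lit 0, nat_lit 0],
  [nat_lit 0, nat_lit 0, nat_lit 0, nat_lit 0],
  [nat_lit 0, nat_lit 0, nat_lit 0, nat_lit 0],
  [nat_lit 0, nat_lit 0, nat_lit 0, nat_lit 0],
  [nat_lit 0, nat_lit 0, nat_lit 0, nat_lit 0],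
  [nat_lit 0, nat_lit 0, nat_lit 0, nat_lit 0],
  [nat_lit 0, nat_lit 0, nat_lit 0, nat_lit 0],
  [nat_lit 0, nat_lit 0, nat_lit 0, nat_lit 0],
  [nat_lit 0, nat_lit 0, nat_lit 0, nat_lit 0],
  [nat_lit 0, nat_lit 0, nat_lit 0, nat_lit 0],
  [nat_lit 0, nat_lit 0, nat_lit 0, nat_lit 0],
  [nat_lit 1, nat_lit 9180533379315, nat_lit 3990839727247, nat_lit 69098177554],
  [nat_lit 1, nat_lit 14625168949249, nat_lit 5483663858183, nat_lit 129366302754]]) i = 0 :=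
  (rng_step (rng_step (rng_step (rng_step (rng_step (rng_step (rng_step (all0 _) u4Q_0) u4Q_1) u4Q_2) u4Q_3) u4Q_4) u4Q_5) u4Q_6)
theorem u4root (h0 : ∀ s < 3, (c111md φ inj).In ⊤ (eg s)) (h1 : (c111md φ inj).In ⊤ (dD 1)) (hx : ∀ i < 5, Nat.card (Lc ((c111md φ inj).gn eg 3) ((c111md φ inj).elt (dD i))) = getN [nat_lit 5859000000, nat_lit 300000, nat_lit 2880, nat_lit 1008, nat_lit 6048] i) (ho : orderOf ((c111md φ inj).elt (zt (nat_lit 1))) = 3) (hk : (c111md φ inj).El ((c111md φ inj).gn fg 3) fe) : ∀ u ∈ Lc ((c111md φ inj).gn eg 3) ((c111md φ inj).elt (dD (nat_lit 4))), IsConj ((c111md φ inj).elt (zt (nat_lit 1))) u → ∃ l ∈ Lc ((c111md φ inj).gn eg 3) ((c111md φ inj).elt (dD (nat_lit 4))), ∃ a ∈ ((c111md φ inj).gn eg 3), ∃ b ∈ ((c111md φ inj).gn eg 3), ∃ c ∈ ((c111md φ inj).gn fg 3), a * (l⁻¹ * u * l) = (c111md φ inj).elt (zt (nat_lit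 1)) * a ∧ (c111md φ inj).elt (dD (nat_lit 4)) = b * (c * a) :=
  cent_root (m := (c111md φ inj)) (k := 3) (r := 224) (@Cfg.Ok.canon G _ c111 c111_ok _ _ (ZMod.charP 5) _ rfl rfl φ inj) (@Cfg.Ok.cls _ _ c111 c111_ok _ _ (ZMod.charP 5) _ rfl rfl φ inj) (zin h0 _ (by decide)).top (dtop h0 h1 _) (by decide) ho (Hel h0) hk
    (gn_le (in_of_chkL (Hel h0) (dtop h0 h1 _) (in_of_chkE (Hel h0) u4E) u4L)) (u4ex0 fun s hs => (in_of_chkE (Hel h0) u4E s hs).top).2.2.1 (hx 4 (by decide)) (by decide)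
    (u4sch0 fun s hs => (in_of_chkE (Hel h0) u4E s hs).top).1 u4Q
theorem centG3 (h0 : ∀ s < 3, (c111md φ inj).In ⊤ (eg s)) (h1 : (c111md φ inj).In ⊤ (dD 1)) (hx : ∀ i < 5, Nat.card (Lc ((c111md φ inj).gn eg 3) ((c111md φ inj).elt (dD i))) = getN [nat_lit 5859000000, nat_lit 300000, nat_lit 2880, nat_lit 1008, nat_lit 6048] i) (ho : orderOf ((c111md φ inj).elt (zt (nat_lit 1))) = 3) (hk : (c111md φ inj).El ((c111md φ inj).gn fg 3) fe) (hc : ((c111md φ inj).gn fg 3) ≤ Subgroup.centralizer {(c111md φ inj).elt (zt (nat_lit 1))}) : ((c111md φ inj).gn dg 4) ⊓ Subgroup.centralizer {(c111md φ inj).elt (zt (nat_lit 1))} ≤ ((c111md φ inj).gn fg 3) :=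
  cent_dc (d := fun i => (c111md φ inj).elt (dD i)) ((congrArg _ dD0).trans elt_one) (dcov h0 h1) (zin h0 _ (by decide)).elt_mem hc (centX h0 hc) fun i hi h0' => by
    interval_cases i; exacts [u1root h0 h1 hx ho hk, u2root h0 h1 hx ho hk, u3root h0 h1 hx ho hk, u4root h0 h1 hx ho hk]

end Cfsg.Agent.H5.Ly
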