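import Cfsg.Agent.H5.OnxD0

set_option autoImplicit false
set_option maxRecDepth 100000

namespace Cfsg.Agent.H5.On

theorem bW0_0 : rng bW0f (nat_lit 0) (nat_lit 3) = 0 := by decide +kernel
theorem bW1_0 : rng bW1f (nat_lit 0) (nat_lit 3) = 0 := by decide +kernel
theorem bW2_0 : rng bW2f (nat_lit 0) (nat_lit 2) = 0 := by decide +kernel
theorem bS3_0 : rng bS3f (nat_lit 0) (nat_lit 3) = 0 := by decide +kernel
theorem bT0_3 : bT3 0 = c45.one := by decide +kernel
theorem bS2_0 : rng bS2f (nat_lit 0) (nat_lit 84) = 0 := by decide +kernel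
theorem bT0_2 : bT2 0 = c45.one := by decide +kernel
theorem bS1_0 : rng bS1f (nat_lit 0) (nat_lit 98) = 0 := by decide +kernel
theorem bT0_1 : bT1 0 = c45.one := by decide +kernel
theorem bS0_0 : rng bS0f (nat_lit 0) (nat_lit 150) = 0 := by decide +kernel
theorem bS0_1 : rng bS0f (nat_lit 150) (nat_lit 150) = 0 := by decide +kernel
theorem bS0_2 : rng bS0f (nat_lit 300) (nat_lit 150) = 0 := by decide +kernel
theorem bS0_3 : rng bS0f (nat_lit 450) (nat_lit 6) = 0 := by decide +kernel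
theorem bT0_0 : bT0 0 = c45.one := by decide +kernel
theorem aW0_0 : rng aW0f (nat_lit 0) (nat_lit 2) = 0 := by decide +kernel
theorem aW1_0 : rng aW1f (nat_lit 0) (nat_lit 2) = 0 := by decide +kernel
theorem ay2Y_0 : rngB ay2Yf (nat_lit 3) (nat_lit 0) (nat_lit 1) = 0 := by decide +kernel
theorem aO2_0 : rngB aO2f (nat_lit 3) (nat_lit 0) (nat_lit 1) = 0 := by decide +kernel
theorem ay1Y_0 : rngB ay1Yf (nat_lit 672) (nat_lit 0) (nat_lit 11) = 0 := by decide +kernel
theorem aO1_0 : rngB aO1f (nat_lit 672) (nat_lit 0) (nat_lit 11) = 0 := by decide +kernel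
theorem aF1_0 : rng aF1f (nat_lit 0) (nat_lit 2) = 0 := by decide +kernel
theorem ay0Y_0 : rngB ay0Yf (nat_lit 5586) (nat_lit 0) (nat_lit 16) = 0 := by decide +kernel
theorem ay0Y_1 : rngB ay0Yf (nat_lit 5586) (nat_lit 16) (nat_lit 16) = 0 := by decide +kernel
theorem ay0Y_2 : rngB ay0Yf (nat_lit 5586) (nat_lit 32) (nat_lit 16) = 0 := by decide +kernel
theorem ay0Y_3 : rngB ay0Yf (nat_lit 5586) (nat_lit 48) (nat_lit 16) = 0 := by decide +kernel
theorem ay0Y_4 : rngB ay0Yf (nat_lit 5586) (nat_lit 64) (nat_lit 16) = 0 := by decide +kernel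
theorem ay0Y_5 : rngB ay0Yf (nat_lit 5586) (nat_lit 80) (nat_lit 8) = 0 := by decide +kernel
theorem aO0_0 : rngB aO0f (nat_lit 5586) (nat_lit 0) (nat_lit 16) = 0 := by decide +kernel
theorem aO0_1 : rngB aO0f (nat_lit 5586) (nat_lit 16) (nat_lit 16) = 0 := by decide +kernel
theorem aO0_2 : rngB aO0f (nat_lit 5586) (nat_lit 32) (nat_lit 16) = 0 := by decide +kernel
theorem aO0_3 : rngB aO0f (nat_lit 5586) (nat_lit 48) (nat_lit 16) = 0 := by decide +kernel
theorem aO0_4 : rngB aO0f (nat_lit 5586) (nat_lit 64) (nat_lit 16) = 0 := by decide +kernel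
theorem aO0_5 : rngB aO0f (nat_lit 5586) (nat_lit 80) (nat_lit 8) = 0 := by decide +kernel
theorem aF0_0 : rng aF0f (nat_lit 0) (nat_lit 2) = 0 := by decide +kernel
theorem acp1 : pt c45b.row ay1 (nat_lit 633) = pt c45b.row ay0 (nat_lit 5465) := by decide +kernel
theorem dD0 : dD 0 = c45.one := by decide +kernel
theorem dT_0 : rng dTf (nat_lit 0) (nat_lit 3) = 0 := by decide +kernel
theorem l2W0_0 : rng l2W0f (nat_lit 0) (nat_lit 2) = 0 := by decide +kernel
theorem l2y1Y_0 : rngB l2y1Yf (nat_lit 3) (nat_lit 0) (nat_lit 1) = 0 := by decide +kernel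
theorem l2O1_0 : rngB l2O1f (nat_lit 3) (nat_lit 0) (nat_lit 1) = 0 := by decide +kernel
theorem l2y0Y_0 : rngB l2y0Yf (nat_lit 72) (nat_lit 0) (nat_lit 2) = 0 := by decide +kernel
theorem l2O0_0 : rngB l2O0f (nat_lit 72) (nat_lit 0) (nat_lit 2) = 0 := by decide +kernel
theorem l2F0_0 : rng l2F0f (nat_lit 0) (nat_lit 2) = 0 := by decide +kernel
theorem l2E_0 : rng l2Ef (nat_lit 0) (nat_lit 3) = 0 := by decide +kernel
theorem l3W0_0 : rng l3W0f (nat_lit 0) (nat_lit 2) = 0 := by decide +kernel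
theorem l3W1_0 : rng l3W1f (nat_lit 0) (nat_lit 2) = 0 := by decide +kernel
theorem l3y2Y_0 : rngB l3y2Yf (nat_lit 3) (nat_lit 0) (nat_lit 1) = 0 := by decide +kernel
theorem l3O2_0 : rngB l3O2f (nat_lit 3) (nat_lit 0) (nat_lit 1) = 0 := by decide +kernel
theorem l3y1Y_0 : rngB l3y1Yf (nat_lit 2) (nat_lit 0) (nat_lit 1) = 0 := by decide +kernel
theorem l3O1_0 : rngB l3O1f (nat_lit 2) (nat_lit 0) (nat_lit 1) = 0 := by decide +kernel
theorem l3F1_0 : rng l3F1f (nat_lit 0) (nat_lit 2) = 0 := by decide +kernel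
theorem l3y0Y_0 : rngB l3y0Yf (nat_lit 32) (nat_lit 0) (nat_lit 1) = 0 := by decide +kernel
theorem l3O0_0 : rngB l3O0f (nat_lit 32) (nat_lit 0) (nat_lit 1) = 0 := by decide +kernel
theorem l3F0_0 : rng l3F0f (nat_lit 0) (nat_lit 2) = 0 := by decide +kernel
theorem l3E_0 : rng l3Ef (nat_lit 0) (nat_lit 3) = 0 := by decide +kernel
theorem l4W0_0 : rng l4W0f (nat_lit 0) (nat_lit 2) = 0 := by decide +kernel
theorem l4y1Y_0 : rngB l4y1Yf (nat_lit 3) (nat_lit 0) (nat_lit 1) = 0 := by decide +kernel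
theorem l4O1_0 : rngB l4O1f (nat_lit 3) (nat_lit 0) (nat_lit 1) = 0 := by decide +kernel
theorem l4y0Y_0 : rngB l4y0Yf (nat_lit 588) (nat_lit 0) (nat_lit 10) = 0 := by decide +kernel
theorem l4O0_0 : rngB l4O0f (nat_lit 588) (nat_lit 0) (nat_lit 10) = 0 := by decide +kernel
theorem l4F0_0 : rng l4F0f (nat_lit 0) (nat_lit 2) = 0 := by decide +kernel
theorem l4E_0 : rng l4Ef (nat_lit 0) (nat_lit 2) = 0 := by decide +kernel
theorem dK_0 : rng dKf (nat_lit 0) (nat_lit 2) = 0 := by decide +kernel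
theorem dL0_0 : rng dL0f (nat_lit 0) (nat_lit 2) = 0 := by decide +kernel
theorem dM0_0 : rng dM0f (nat_lit 0) (nat_lit 1) = 0 := by decide +kernel
theorem dR0_0 : rng dR0f (nat_lit 0) (nat_lit 1) = 0 := by decide +kernel
theorem dL1_0 : rng dL1f (nat_lit 0) (nat_lit 2) = 0 := by decide +kernel
theorem dO1_0 : rngB dO1f (nat_lit 5586) (nat_lit 0) (nat_lit 16) = 0 := by decide +kernel
theorem dO1_1 : rngB dO1f (nat_lit 5586) (nat_lit 16) (nat_lit 16) = 0 := by decide +kernel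
theorem dO1_2 : rngB dO1f (nat_lit 5586) (nat_lit 32) (nat_lit 16) = 0 := by decide +kernel
theorem dO1_3 : rngB dO1f (nat_lit 5586) (nat_lit 48) (nat_lit 16) = 0 := by decide +kernel
theorem dO1_4 : rngB dO1f (nat_lit 5586) (nat_lit 64) (nat_lit 16) = 0 := by decide +kernel
theorem dO1_5 : rngB dO1f (nat_lit 5586) (nat_lit 80) (nat_lit 8) = 0 := by decide +kernel
theorem dM1_0 : rng dM1f (nat_lit 0) (nat_lit 24) = 0 := by decide +kernel
theorem dR1_0 : rng dR1f (nat_lit 0) (nat_lit 24) = 0 := by decide +kernel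
theorem dL2_0 : rng dL2f (nat_lit 0) (nat_lit 3) = 0 := by decide +kernel
theorem dO2_0 : rngB dO2f (nat_lit 5586) (nat_lit 0) (nat_lit 16) = 0 := by decide +kernel
theorem dO2_1 : rngB dO2f (nat_lit 5586) (nat_lit 16) (nat_lit 16) = 0 := by decide +kernel
theorem dO2_2 : rngB dO2f (nat_lit 5586) (nat_lit 32) (nat_lit 16) = 0 := by decide +kernel
theorem dO2_3 : rngB dO2f (nat_lit 5586) (nat_lit 48) (nat_lit 16) = 0 := by decide +kernel
theorem dO2_4 : rngB dO2f (nat_lit 5586) (nat_lit 64) (nat_lit 16) = 0 := by decide +kernel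
theorem dO2_5 : rngB dO2f (nat_lit 5586) (nat_lit 80) (nat_lit 8) = 0 := by decide +kernel
theorem dM2_0 : rng dM2f (nat_lit 0) (nat_lit 92) = 0 := by decide +kernel
theorem dR2_0 : rng dR2f (nat_lit 0) (nat_lit 92) = 0 := by decide +kernel
theorem dL3_0 : rng dL3f (nat_lit 0) (nat_lit 3) = 0 := by decide +kernel
theorem dO3_0 : rngB dO3f (nat_lit 5586) (nat_lit 0) (nat_lit 16) = 0 := by decide +kernel
theorem dO3_1 : rngB dO3f (nat_lit 5586) (nat_lit 16) (nat_lit 16) = 0 := by decide +kernel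
theorem dO3_2 : rngB dO3f (nat_lit 5586) (nat_lit 32) (nat_lit 16) = 0 := by decide +kernel
theorem dO3_3 : rngB dO3f (nat_lit 5586) (nat_lit 48) (nat_lit 16) = 0 := by decide +kernel
theorem dO3_4 : rngB dO3f (nat_lit 5586) (nat_lit 64) (nat_lit 16) = 0 := by decide +kernel
theorem dO3_5 : rngB dO3f (nat_lit 5586) (nat_lit 80) (nat_lit 8) = 0 := by decide +kernel
theorem dM3_0 : rng dM3f (nat_lit 0) (nat_lit 117) = 0 := by decide +kernel
theorem dR3_0 : rng dR3f (nat_lit 0) (nat_lit 115) = 0 := by decide +kernel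
theorem dR3_1 : rng dR3f (nat_lit 115) (nat_lit 2) = 0 := by decide +kernel
theorem dL4_0 : rng dL4f (nat_lit 0) (nat_lit 2) = 0 := by decide +kernel
theorem dO4_0 : rngB dO4f (nat_lit 5586) (nat_lit 0) (nat_lit 16) = 0 := by decide +kernel
theorem dO4_1 : rngB dO4f (nat_lit 5586) (nat_lit 16) (nat_lit 16) = 0 := by decide +kernel
theorem dO4_2 : rngB dO4f (nat_lit 5586) (nat_lit 32) (nat_lit 16) = 0 := by decide +kernel
theorem dO4_3 : rngB dO4f (nat_lit 5586) (nat_lit 48) (nat_lit 16) = 0 := by decide +kernel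
theorem dO4_4 : rngB dO4f (nat_lit 5586) (nat_lit 64) (nat_lit 16) = 0 := by decide +kernel
theorem dO4_5 : rngB dO4f (nat_lit 5586) (nat_lit 80) (nat_lit 8) = 0 := by decide +kernel
theorem dM4_0 : rng dM4f (nat_lit 0) (nat_lit 18) = 0 := by decide +kernel
theorem dR4_0 : rng dR4f (nat_lit 0) (nat_lit 18) = 0 := by decide +kernel
theorem dX2 : chkD c45.mul dD be0 [[nat_lit 2, nat_lit 8624288, nat_lit 2, nat_lit 12621611, nat_lit 1, nat_lit 18757886]] 0 = 0 := by decide +kernel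
theorem dX3 : chkD c45.mul dD be0 [[nat_lit 3, nat_lit 3387155, nat_lit 3, nat_lit 20161821, nat_lit 2, nat_lit 17071530]] 0 = 0 := by decide +kernel
theorem dX4 : chkD c45.mul dD be0 [[nat_lit 4, nat_lit 11372034, nat_lit 4, nat_lit 21508018, nat_lit 3, nat_lit 10034324]] 0 = 0 := by decide +kernel
theorem dI_0 : rng dIf (nat_lit 0) (nat_lit 3) = 0 := by decide +kernel
theorem dP_0 : rng dPf (nat_lit 0) (nat_lit 3) = 0 := by decide +kernel
theorem dZ0_0 : rng dZ0f (nat_lit 0) (nat_lit 3) = 0 := by decide +kernel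
theorem dZ1_0 : rng dZ1f (nat_lit 0) (nat_lit 3) = 0 := by decide +kernel
theorem nc : c45.mul (bg0 0) (bg0 1) ≠ c45.mul (bg0 1) (bg0 0) := by decide +kernel
theorem s2y0Y_0 : rngB s2y0Yf (nat_lit 512) (nat_lit 0) (nat_lit 8) = 0 := by decide +kernel
theorem s2O0_0 : rngB s2O0f (nat_lit 512) (nat_lit 0) (nat_lit 8) = 0 := by decide +kernel
theorem s2C0_0_0 : rngB s2C0_0f (nat_lit 512) (nat_lit 0) (nat_lit 8) = 0 := by decide +kernel
theorem s2C0_1_0 : rngB s2C0_1f (nat_lit 512) (nat_lit 0) (nat_lit 8) = 0 := by decide +kernel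
theorem s2C0_2_0 : rngB s2C0_2f (nat_lit 512) (nat_lit 0) (nat_lit 8) = 0 := by decide +kernel
theorem s2E_0 : rng s2Ef (nat_lit 0) (nat_lit 3) = 0 := by decide +kernel
theorem s3y0Y_0 : rngB s3y0Yf (nat_lit 243) (nat_lit 0) (nat_lit 4) = 0 := by decide +kernel
theorem s3O0_0 : rngB s3O0f (nat_lit 243) (nat_lit 0) (nat_lit 4) = 0 := by decide +kernel
theorem s3C0_0_0 : rngB s3C0_0f (nat_lit 243) (nat_lit 0) (nat_lit 4) = 0 := by decide +kernel
theorem s3C0_1_0 : rngB s3C0_1f (nat_lit 243) (nat_lit 0) (nat_lit 4) = 0 := by decide +kernel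
theorem s3C0_2_0 : rngB s3C0_2f (nat_lit 243) (nat_lit 0) (nat_lit 4) = 0 := by decide +kernel
theorem s3C0_3_0 : rngB s3C0_3f (nat_lit 243) (nat_lit 0) (nat_lit 4) = 0 := by decide +kernel
theorem s3E_0 : rng s3Ef (nat_lit 0) (nat_lit 4) = 0 := by decide +kernel
theorem e31y0Y_0 : rngB e31y0Yf (nat_lit 31) (nat_lit 0) (nat_lit 1) = 0 := by decide +kernel
theorem e31O0_0 : rngB e31O0f (nat_lit 31) (nat_lit 0) (nat_lit 1) = 0 := by decide +kernel
theorem e31C0_0_0 : rngB e31C0_0f (nat_lit 31) (nat_lit 0) (nat_lit 1) = 0 := by decide +kernel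
theorem e31E_0 : rng e31Ef (nat_lit 0) (nat_lit 1) = 0 := by decide +kernel
theorem jW0_0 : rng jW0f (nat_lit 0) (nat_lit 2) = 0 := by decide +kernel
theorem jS1_0 : rng jS1f (nat_lit 0) (nat_lit 114) = 0 := by decide +kernel
theorem jT0_1 : jT1 0 = c45.one := by decide +kernel
theorem jS0_0 : rng jS0f (nat_lit 0) (nat_lit 200) = 0 := by decide +kernel
theorem jS0_1 : rng jS0f (nat_lit 200) (nat_lit 200) = 0 := by decide +kernel
theorem jS0_2 : rng jS0f (nat_lit 400) (nat_lit 200) = 0 := by decide +kernel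
theorem jS0_3 : rng jS0f (nat_lit 600) (nat_lit 200) = 0 := by decide +kernel
theorem jS0_4 : rng jS0f (nat_lit 800) (nat_lit 200) = 0 := by decide +kernel
theorem jS0_5 : rng jS0f (nat_lit 1000) (nat_lit 200) = 0 := by decide +kernel
theorem jS0_6 : rng jS0f (nat_lit 1200) (nat_lit 200) = 0 := by decide +kernel
theorem jS0_7 : rng jS0f (nat_lit 1400) (nat_lit 140) = 0 := by decide +kernel
theorem jT0_0 : jT0 0 = c45.one := by decide +kernel
theorem jy1Y_0 : rngB jy1Yf (nat_lit 114) (nat_lit 0) (nat_lit 2) = 0 := by decide +kernel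
theorem jO1_0 : rngB jO1f (nat_lit 114) (nat_lit 0) (nat_lit 2) = 0 := by decide +kernel
theorem jy0Y_0 : rngB jy0Yf (nat_lit 1540) (nat_lit 0) (nat_lit 16) = 0 := by decide +kernel
theorem jy0Y_1 : rngB jy0Yf (nat_lit 1540) (nat_lit 16) (nat_lit 9) = 0 := by decide +kernel
theorem jO0_0 : rngB jO0f (nat_lit 1540) (nat_lit 0) (nat_lit 16) = 0 := by decide +kernel
theorem jO0_1 : rngB jO0f (nat_lit 1540) (nat_lit 16) (nat_lit 9) = 0 := by decide +kernel
theorem jF0_0 : rng jF0f (nat_lit 0) (nat_lit 2) = 0 := by decide +kernel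
theorem jK_0 : rngB jKf (nat_lit 1540) (nat_lit 0) (nat_lit 16) = 0 := by decide +kernel
theorem jK_1 : rngB jKf (nat_lit 1540) (nat_lit 16) (nat_lit 9) = 0 := by decide +kernel
theorem jm86M : chkM (c45b.imgL jm86) c45b.row jy0 (nat_lit 0) jy0 [nat_lit 86] [nat_lit 5] 0 = 0 := by decide +kernel
theorem jm86O_0 : rngB jm86Of (nat_lit 1540) (nat_lit 0) (nat_lit 16) = 0 := by decide +kernel
theorem jm86O_1 : rngB jm86Of (nat_lit 1540) (nat_lit 16) (nat_lit 9) = 0 := by decide +kernel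
theorem jm65M : chkM (c45b.imgL jm65) c45b.row jy0 (nat_lit 0) jy0 [nat_lit 65] [nat_lit 4] 0 = 0 := by decide +kernel
theorem jm65O_0 : rngB jm65Of (nat_lit 1540) (nat_lit 0) (nat_lit 16) = 0 := by decide +kernel
theorem jm65O_1 : rngB jm65Of (nat_lit 1540) (nat_lit 16) (nat_lit 9) = 0 := by decide +kernel
theorem jm55M : chkM (c45b.imgL jm55) c45b.row jy0 (nat_lit 0) jy0 [nat_lit 55] [nat_lit 1] 0 = 0 := by decide +kernel
theorem jm55O_0 : rngB jm55Of (nat_lit 1540) (nat_lit 0) (nat_lit 16) = 0 := by decide +kernel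
theorem jm55O_1 : rngB jm55Of (nat_lit 1540) (nat_lit 16) (nat_lit 9) = 0 := by decide +kernel
theorem jm38M : chkM (c45b.imgL jm38) c45b.row jy0 (nat_lit 0) jy0 [nat_lit 38] [nat_lit 1] 0 = 0 := by decide +kernel
theorem jm38O_0 : rngB jm38Of (nat_lit 1540) (nat_lit 0) (nat_lit 16) = 0 := by decide +kernel
theorem jm38O_1 : rngB jm38Of (nat_lit 1540) (nat_lit 16) (nat_lit 9) = 0 := by decide +kernel
theorem jm34M : chkM (c45b.imgL jm34) c45b.row jy0 (nat_lit 0) jy0 [nat_lit 34] [nat_lit 1] 0 = 0 := by decide +kernel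
theorem jm34O_0 : rngB jm34Of (nat_lit 1540) (nat_lit 0) (nat_lit 16) = 0 := by decide +kernel
theorem jm34O_1 : rngB jm34Of (nat_lit 1540) (nat_lit 16) (nat_lit 9) = 0 := by decide +kernel
theorem jm30M : chkM (c45b.imgL jm30) c45b.row jy0 (nat_lit 0) jy0 [nat_lit 30] [nat_lit 0] 0 = 0 := by decide +kernel
theorem jm30O_0 : rngB jm30Of (nat_lit 1540) (nat_lit 0) (nat_lit 16) = 0 := by decide +kernel
theorem jm30O_1 : rngB jm30Of (nat_lit 1540) (nat_lit 16) (nat_lit 9) = 0 := by decide +kernel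
theorem jm27M : chkM (c45b.imgL jm27) c45b.row jy0 (nat_lit 0) jy0 [nat_lit 27] [nat_lit 2] 0 = 0 := by decide +kernel
theorem jm27O_0 : rngB jm27Of (nat_lit 1540) (nat_lit 0) (nat_lit 16) = 0 := by decide +kernel
theorem jm27O_1 : rngB jm27Of (nat_lit 1540) (nat_lit 16) (nat_lit 9) = 0 := by decide +kernel
theorem jm24M : chkM (c45b.imgL jm24) c45b.row jy0 (nat_lit 0) jy0 [nat_lit 24] [nat_lit 2] 0 = 0 := by decide +kernel
theorem jm24O_0 : rngB jm24Of (nat_lit 1540) (nat_lit 0) (nat_lit 16) = 0 := by decide +kernel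
theorem jm24O_1 : rngB jm24Of (nat_lit 1540) (nat_lit 16) (nat_lit 9) = 0 := by decide +kernel
theorem jm21M : chkM (c45b.imgL jm21) c45b.row jy0 (nat_lit 0) jy0 [nat_lit 21] [nat_lit 0] 0 = 0 := by decide +kernel
theorem jm21O_0 : rngB jm21Of (nat_lit 1540) (nat_lit 0) (nat_lit 16) = 0 := by decide +kernel
theorem jm21O_1 : rngB jm21Of (nat_lit 1540) (nat_lit 16) (nat_lit 9) = 0 := by decide +kernel
theorem jm18M : chkM (c45b.imgL jm18) c45b.row jy0 (nat_lit 0) jy0 [nat_lit 18] [nat_lit 0] 0 = 0 := by decide +kernel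
theorem jm18O_0 : rngB jm18Of (nat_lit 1540) (nat_lit 0) (nat_lit 16) = 0 := by decide +kernel
theorem jm18O_1 : rngB jm18Of (nat_lit 1540) (nat_lit 16) (nat_lit 9) = 0 := by decide +kernel
theorem jm15M : chkM (c45b.imgL jm15) c45b.row jy0 (nat_lit 0) jy0 [nat_lit 15] [nat_lit 2] 0 = 0 := by decide +kernel
theorem jm15O_0 : rngB jm15Of (nat_lit 1540) (nat_lit 0) (nat_lit 16) = 0 := by decide +kernel
theorem jm15O_1 : rngB jm15Of (nat_lit 1540) (nat_lit 16) (nat_lit 9) = 0 := by decide +kernel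
theorem jm14M : chkM (c45b.imgL jm14) c45b.row jy0 (nat_lit 0) jy0 [nat_lit 14] [nat_lit 2] 0 = 0 := by decide +kernel
theorem jm14O_0 : rngB jm14Of (nat_lit 1540) (nat_lit 0) (nat_lit 16) = 0 := by decide +kernel
theorem jm14O_1 : rngB jm14Of (nat_lit 1540) (nat_lit 16) (nat_lit 9) = 0 := by decide +kernel
theorem jm13M : chkM (c45b.imgL jm13) c45b.row jy0 (nat_lit 0) jy0 [nat_lit 13] [nat_lit 1] 0 = 0 := by decide +kernel
theorem jm13O_0 : rngB jm13Of (nat_lit 1540) (nat_lit 0) (nat_lit 16) = 0 := by decide +kernel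
theorem jm13O_1 : rngB jm13Of (nat_lit 1540) (nat_lit 16) (nat_lit 9) = 0 := by decide +kernel
theorem jm11M : chkM (c45b.imgL jm11) c45b.row jy0 (nat_lit 0) jy0 [nat_lit 11] [nat_lit 0] 0 = 0 := by decide +kernel
theorem jm11O_0 : rngB jm11Of (nat_lit 1540) (nat_lit 0) (nat_lit 16) = 0 := by decide +kernel
theorem jm11O_1 : rngB jm11Of (nat_lit 1540) (nat_lit 16) (nat_lit 9) = 0 := by decide +kernel
theorem jm10M : chkM (c45b.imgL jm10) c45b.row jy0 (nat_lit 0) jy0 [nat_lit 10] [nat_lit 0] 0 = 0 := by decide +kernel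
theorem jm10O_0 : rngB jm10Of (nat_lit 1540) (nat_lit 0) (nat_lit 16) = 0 := by decide +kernel
theorem jm10O_1 : rngB jm10Of (nat_lit 1540) (nat_lit 16) (nat_lit 9) = 0 := by decide +kernel
theorem jm6M : chkM (c45b.imgL jm6) c45b.row jy0 (nat_lit 0) jy0 [nat_lit 6] [nat_lit 4] 0 = 0 := by decide +kernel
theorem jm6O_0 : rngB jm6Of (nat_lit 1540) (nat_lit 0) (nat_lit 16) = 0 := by decide +kernel
theorem jm6O_1 : rngB jm6Of (nat_lit 1540) (nat_lit 16) (nat_lit 9) = 0 := by decide +kernel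
theorem jm4M : chkM (c45b.imgL jm4) c45b.row jy0 (nat_lit 0) jy0 [nat_lit 4] [nat_lit 2] 0 = 0 := by decide +kernel
theorem jm4O_0 : rngB jm4Of (nat_lit 1540) (nat_lit 0) (nat_lit 16) = 0 := by decide +kernel
theorem jm4O_1 : rngB jm4Of (nat_lit 1540) (nat_lit 16) (nat_lit 9) = 0 := by decide +kernel
theorem jm3M : chkM (c45b.imgL jm3) c45b.row jy0 (nat_lit 0) jy0 [nat_lit 3] [nat_lit 0] 0 = 0 := by decide +kernel
theorem jm3O_0 : rngB jm3Of (nat_lit 1540) (nat_lit 0) (nat_lit 16) = 0 := by decide +kernel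
theorem jm3O_1 : rngB jm3Of (nat_lit 1540) (nat_lit 16) (nat_lit 9) = 0 := by decide +kernel
theorem jm2M : chkM (c45b.imgL jm2) c45b.row jy0 (nat_lit 0) jy0 [nat_lit 2] [nat_lit 2] 0 = 0 := by decide +kernel
theorem jm2O_0 : rngB jm2Of (nat_lit 1540) (nat_lit 0) (nat_lit 16) = 0 := by decide +kernel
theorem jm2O_1 : rngB jm2Of (nat_lit 1540) (nat_lit 16) (nat_lit 9) = 0 := by decide +kernel
theorem jm1M : chkM (c45b.imgL jm1) c45b.row jy0 (nat_lit 0) jy0 [nat_lit 1] [nat_lit 5] 0 = 0 := by decide +kernel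
theorem jm1O_0 : rngB jm1Of (nat_lit 1540) (nat_lit 0) (nat_lit 16) = 0 := by decide +kernel
theorem jm1O_1 : rngB jm1Of (nat_lit 1540) (nat_lit 16) (nat_lit 9) = 0 := by decide +kernel
theorem jcp1 : pt c45b.row jy1 (nat_lit 0) = pt c45b.row jy0 (nat_lit 3) := by decide +kernel
theorem jP_0 : rng jPf (nat_lit 0) (nat_lit 2) = 0 := by decide +kernel
theorem jE_0 : rng jEf (nat_lit 0) (nat_lit 2) = 0 := by decide +kernel
theorem mg0I0_0 : rng mg0I0f (nat_lit 0) (nat_lit 2) = 0 := by decide +kernel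
theorem mg1I0_0 : rng mg1I0f (nat_lit 0) (nat_lit 2) = 0 := by decide +kernel
theorem mW0_0 : rng mW0f (nat_lit 0) (nat_lit 2) = 0 := by decide +kernel
theorem mS1_0 : rng mS1f (nat_lit 0) (nat_lit 48) = 0 := by decide +kernel
theorem mT0_1 : mT1 0 = c45.one := by decide +kernel
theorem mS0_0 : rng mS0f (nat_lit 0) (nat_lit 165) = 0 := by decide +kernel
theorem mT0_0 : mT0 0 = c45.one := by decide +kernel
theorem my1Y_0 : rngB my1Yf (nat_lit 48) (nat_lit 0) (nat_lit 1) = 0 := by decide +kernel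
theorem mO1_0 : rngB mO1f (nat_lit 48) (nat_lit 0) (nat_lit 1) = 0 := by decide +kernel
theorem my0Y_0 : rngB my0Yf (nat_lit 165) (nat_lit 0) (nat_lit 3) = 0 := by decide +kernel
theorem mO0_0 : rngB mO0f (nat_lit 165) (nat_lit 0) (nat_lit 3) = 0 := by decide +kernel
theorem mF0_0 : rng mF0f (nat_lit 0) (nat_lit 2) = 0 := by decide +kernel
theorem mK_0 : rngB mKf (nat_lit 165) (nat_lit 0) (nat_lit 3) = 0 := by decide +kernel
theorem mm27J : c45.mul (mT0 (nat_lit 52)) (mm27t 0) = c45.one := by decide +kernel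
theorem mm27M : chkM (imgC c45.mul mm27 mm27i my0) (rowC my0) id (nat_lit 21) id [nat_lit 27] [nat_lit 0] 0 = 0 := by decide +kernel
theorem mm27O_0 : rngB mm27Of (nat_lit 165) (nat_lit 0) (nat_lit 3) = 0 := by decide +kernel
theorem mm11J : c45.mul (mT0 (nat_lit 106)) (mm11t 0) = c45.one := by decide +kernel
theorem mm11M : chkM (imgC c45.mul mm11 mm11i my0) (rowC my0) id (nat_lit 21) id [nat_lit 11] [nat_lit 0] 0 = 0 := by decide +kernel
theorem mm11O_0 : rngB mm11Of (nat_lit 165) (nat_lit 0) (nat_lit 3) = 0 := by decide +kernel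
theorem mm7J : c45.mul (mT0 (nat_lit 101)) (mm7t 0) = c45.one := by decide +kernel
theorem mm7M : chkM (imgC c45.mul mm7 mm7i my0) (rowC my0) id (nat_lit 21) id [nat_lit 7] [nat_lit 0] 0 = 0 := by decide +kernel
theorem mm7O_0 : rngB mm7Of (nat_lit 165) (nat_lit 0) (nat_lit 3) = 0 := by decide +kernel
theorem mm4J : c45.mul (mT0 (nat_lit 16)) (mm4t 0) = c45.one := by decide +kernel
theorem mm4M : chkM (imgC c45.mul mm4 mm4i my0) (rowC my0) id (nat_lit 21) id [nat_lit 4] [nat_lit 0] 0 = 0 := by decide +kernel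
theorem mm4O_0 : rngB mm4Of (nat_lit 165) (nat_lit 0) (nat_lit 3) = 0 := by decide +kernel
theorem mm2J : c45.mul (mT0 (nat_lit 21)) (mm2t 0) = c45.one := by decide +kernel
theorem mm2M : chkM (imgC c45.mul mm2 mm2i my0) (rowC my0) id (nat_lit 21) id [nat_lit 2] [nat_lit 0] 0 = 0 := by decide +kernel
theorem mm2O_0 : rngB mm2Of (nat_lit 165) (nat_lit 0) (nat_lit 3) = 0 := by decide +kernel
theorem mm1J : c45.mul (mT0 (nat_lit 120)) (mm1t 0) = c45.one := by decide +kernel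
theorem mm1M : chkM (imgC c45.mul mm1 mm1i my0) (rowC my0) id (nat_lit 21) id [nat_lit 1] [nat_lit 0] 0 = 0 := by decide +kernel
theorem mm1O_0 : rngB mm1Of (nat_lit 165) (nat_lit 0) (nat_lit 3) = 0 := by decide +kernel
theorem mm0J : c45.mul (mT0 (nat_lit 31)) (mm0t 0) = c45.one := by decide +kernel
theorem mm0M : chkM (imgC c45.mul mm0 mm0i my0) (rowC my0) id (nat_lit 21) id [nat_lit 0] [nat_lit 0] 0 = 0 := by decide +kernel
theorem mm0O_0 : rngB mm0Of (nat_lit 165) (nat_lit 0) (nat_lit 3) = 0 := by decide +kernel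
theorem mcp1 : pt (rowC my1) id (nat_lit 20) = pt (rowC my0) id (nat_lit 81) := by decide +kernel
theorem mP_0 : rng mPf (nat_lit 0) (nat_lit 2) = 0 := by decide +kernel
theorem mE_0 : rng mEf (nat_lit 0) (nat_lit 2) = 0 := by decide +kernel

end Cfsg.Agent.H5.On
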