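import Cfsg.Agent.H5.OnxC0

set_option autoImplicit false
set_option maxRecDepth 100000

namespace Cfsg.Agent.H5.On

open Mdl

set_option linter.unusedSectionVars false
set_option linter.unusedVariables false
attribute [local irreducible] look Tr.get

variable {G : Type*} [Group G] [Finite G] {φ : G →* Matrix (Fin 45) (Fin 45) (ZMod 7)} {inj : Function.Injective φ}

theorem btop0 (h0 : ∀ s < 2, (c45md φ inj).In ⊤ (bg0 s)) : ∀ s < 2, (c45md φ inj).In ⊤ (bg0 s) := h0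
theorem beg0 (h0 : ∀ s < 2, (c45md φ inj).In ⊤ (bg0 s)) : (c45md φ inj).El ((c45md φ inj).gn bg0 2) bg0 := el_gn (btop0 h0)
theorem bW0 : ∀ i < 3, (chkW c45.mul c45.one bg0 [[nat_lit 0, nat_lit 0, nat_lit 1, nat_lit 0, nat_lit 1, nat_lit 0, nat_lit 1, nat_lit 1, nat_lit 0, nat_lit 0, nat_lit 0, nat_lit 1, nat_lit 0],
  [nat_lit 0, nat_lit 0, nat_lit 0, nat_lit 1, nat_lit 1, nat_lit 0, nat_lit 0, nat_lit 0, nat_lit 1, nat_lit 0, nat_lit 1, nat_lit 0, nat_lit 0, nat_lit 0],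
  [nat_lit 1, nat_lit 0, nat_lit 0, nat_lit 1, nat_lit 0, nat_lit 1, nat_lit 0, nat_lit 0, nat_lit 0, nat_lit 0, nat_lit 1, nat_lit 1, nat_lit 1]] bg1) i = 0 :=
  (rng_step (all0 _) bW0_0)
theorem bin1 (h0 : ∀ s < 2, (c45md φ inj).In ⊤ (bg0 s)) : ∀ s < 3, (c45md φ inj).In ((c45md φ inj).gn bg0 2) (bg1 s) := in_of_chkW (beg0 h0) bW0
theorem btop1 (h0 : ∀ s < 2, (c45md φ inj).In ⊤ (bg0 s)) : ∀ s < 3, (c45md φ inj).In ⊤ (bg1 s) := fun s hs => (bin1 h0 s hs).top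
theorem ble0 (h0 : ∀ s < 2, (c45md φ inj).In ⊤ (bg0 s)) : ((c45md φ inj).gn bg1 3) ≤ ((c45md φ inj).gn bg0 2) := gn_le (bin1 h0)
theorem beg1 (h0 : ∀ s < 2, (c45md φ inj).In ⊤ (bg0 s)) : (c45md φ inj).El ((c45md φ inj).gn bg1 3) bg1 := el_gn (btop1 h0)
theorem bW1 : ∀ i < 3, (chkW c45.mul c45.one bg1 [[nat_lit 1, nat_lit 1, nat_lit 1, nat_lit 0, nat_lit 2, nat_lit 2, nat_lit 0],
  [nat_lit 0, nat_lit 0, nat_lit 0, nat_lit 2, nat_lit 0, nat_lit 2, nat_lit 2, nat_lit 1, nat_lit 0, nat_lit 0, nat_lit 1, nat_lit 2, nat_lit 0, nat_lit 2, nat_lit 0],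
  [nat_lit 0, nat_lit 0, nat_lit 0, nat_lit 1, nat_lit 1, nat_lit 1, nat_lit 0, nat_lit 1, nat_lit 0, nat_lit 2, nat_lit 1, nat_lit 0]] bg2) i = 0 :=
  (rng_step (all0 _) bW1_0)
theorem bin2 (h0 : ∀ s < 2, (c45md φ inj).In ⊤ (bg0 s)) : ∀ s < 3, (c45md φ inj).In ((c45md φ inj).gn bg1 3) (bg2 s) := in_of_chkW (beg1 h0) bW1
theorem btop2 (h0 : ∀ s < 2, (c45md φ inj).In ⊤ (bg0 s)) : ∀ s < 3, (c45md φ inj).In ⊤ (bg2 s) := fun s hs => (bin2 h0 s hs).top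
theorem ble1 (h0 : ∀ s < 2, (c45md φ inj).In ⊤ (bg0 s)) : ((c45md φ inj).gn bg2 3) ≤ ((c45md φ inj).gn bg1 3) := gn_le (bin2 h0)
theorem beg2 (h0 : ∀ s < 2, (c45md φ inj).In ⊤ (bg0 s)) : (c45md φ inj).El ((c45md φ inj).gn bg2 3) bg2 := el_gn (btop2 h0)
theorem bW2 : ∀ i < 2, (chkW c45.mul c45.one bg2 [[nat_lit 1, nat_lit 0, nat_lit 2, nat_lit 2, nat_lit 1, nat_lit 2, nat_lit 2, nat_lit 1, nat_lit 1, nat_lit 0, nat_lit 0, nat_lit 0, nat_lit 2, nat_lit 1],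
  [nat_lit 2, nat_lit 2, nat_lit 2, nat_lit 0, nat_lit 1, nat_lit 0]] bg3) i = 0 :=
  (rng_step (all0 _) bW2_0)
theorem bin3 (h0 : ∀ s < 2, (c45md φ inj).In ⊤ (bg0 s)) : ∀ s < 2, (c45md φ inj).In ((c45md φ inj).gn bg2 3) (bg3 s) := in_of_chkW (beg2 h0) bW2
theorem btop3 (h0 : ∀ s < 2, (c45md φ inj).In ⊤ (bg0 s)) : ∀ s < 2, (c45md φ inj).In ⊤ (bg3 s) := fun s hs => (bin3 h0 s hs).top
theorem ble2 (h0 : ∀ s < 2, (c45md φ inj).In ⊤ (bg0 s)) : ((c45md φ inj).gn bg3 2) ≤ ((c45md φ inj).gn bg2 3) := gn_le (bin3 h0)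
theorem beg3 (h0 : ∀ s < 2, (c45md φ inj).In ⊤ (bg0 s)) : (c45md φ inj).El ((c45md φ inj).gn bg3 2) bg3 := el_gn (btop3 h0)
theorem ble3 (h0 : ∀ s < 2, (c45md φ inj).In ⊤ (bg0 s)) : (⊥ : Subgroup G) ≤ ((c45md φ inj).gn bg3 2) := bot_le
theorem bel4 (h0 : ∀ s < 2, (c45md φ inj).In ⊤ (bg0 s)) : (c45md φ inj).El ⊥ be4 := el_one _
theorem bub4 (h0 : ∀ s < 2, (c45md φ inj).In ⊤ (bg0 s)) : Nat.card (⊥ : Subgroup G) ≤ 1 := card_bot_le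
theorem bS3 : ∀ i < 3, (chkS c45.mul bg3 (nat_lit 2) bT3 be4 bc3 (nat_lit 2) (nat_lit 3)) i = 0 :=
  (rng_step (all0 _) bS3_0)
theorem bsch3 (h0 : ∀ s < 2, (c45md φ inj).In ⊤ (bg0 s)) : (∀ g ∈ ((c45md φ inj).gn bg3 2), ∃ i < 3, (c45md φ inj).Cos (⊥ : Subgroup G) bT3 g i) ∧ (∀ i < 3, (c45md φ inj).In ((c45md φ inj).gn bg3 2) (bT3 i)) ∧ Nat.card ((c45md φ inj).gn bg3 2) ≤ 3 * Nat.card (⊥ : Subgroup G) :=
  schreier (bel4 h0) (by decide) bT0_3 (btop3 h0) (ble3 h0) bS3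
theorem bel3 (h0 : ∀ s < 2, (c45md φ inj).In ⊤ (bg0 s)) : (c45md φ inj).El ((c45md φ inj).gn bg3 2) be3 := (el_of_pad (bsch3 h0).2.1).cel0 _
theorem bub3 (h0 : ∀ s < 2, (c45md φ inj).In ⊤ (bg0 s)) : Nat.card ((c45md φ inj).gn bg3 2) ≤ 3 := (upper (bsch3 h0).2.2 (bub4 h0)).trans (by norm_num)
theorem bS2 : ∀ i < 84, (chkS c45.mul bg2 (nat_lit 3) bT2 be3 bc2 (nat_lit 7) (nat_lit 84)) i = 0 :=
  (rng_step (all0 _) bS2_0)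
theorem bsch2 (h0 : ∀ s < 2, (c45md φ inj).In ⊤ (bg0 s)) : (∀ g ∈ ((c45md φ inj).gn bg2 3), ∃ i < 84, (c45md φ inj).Cos ((c45md φ inj).gn bg3 2) bT2 g i) ∧ (∀ i < 84, (c45md φ inj).In ((c45md φ inj).gn bg2 3) (bT2 i)) ∧ Nat.card ((c45md φ inj).gn bg2 3) ≤ 84 * Nat.card ((c45md φ inj).gn bg3 2) :=
  schreier (bel3 h0) (by decide) bT0_2 (btop2 h0) (ble2 h0) bS2
theorem bel2 (h0 : ∀ s < 2, (c45md φ inj).In ⊤ (bg0 s)) : (c45md φ inj).El ((c45md φ inj).gn bg2 3) be2 := (el_of_pad (bsch2 h0).2.1).cel ((bel3 h0).mono (ble2 h0)) _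
theorem bub2 (h0 : ∀ s < 2, (c45md φ inj).In ⊤ (bg0 s)) : Nat.card ((c45md φ inj).gn bg2 3) ≤ 252 := (upper (bsch2 h0).2.2 (bub3 h0)).trans (by norm_num)
theorem bS1 : ∀ i < 98, (chkS c45.mul bg1 (nat_lit 3) bT1 be2 bc1 (nat_lit 7) (nat_lit 98)) i = 0 :=
  (rng_step (all0 _) bS1_0)
theorem bsch1 (h0 : ∀ s < 2, (c45md φ inj).In ⊤ (bg0 s)) : (∀ g ∈ ((c45md φ inj).gn bg1 3), ∃ i < 98, (c45md φ inj).Cos ((c45md φ inj).gn bg2 3) bT1 g i) ∧ (∀ i < 98, (c45md φ inj).In ((c45md φ inj).gn bg1 3) (bT1 i)) ∧ Nat.card ((c45md φ inj).gn bg1 3) ≤ 98 * Nat.card ((c45md φ inj).gn bg2 3) :=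
  schreier (bel2 h0) (by decide) bT0_1 (btop1 h0) (ble1 h0) bS1
theorem bel1 (h0 : ∀ s < 2, (c45md φ inj).In ⊤ (bg0 s)) : (c45md φ inj).El ((c45md φ inj).gn bg1 3) be1 := (el_of_pad (bsch1 h0).2.1).cel ((bel2 h0).mono (ble1 h0)) _
theorem bub1 (h0 : ∀ s < 2, (c45md φ inj).In ⊤ (bg0 s)) : Nat.card ((c45md φ inj).gn bg1 3) ≤ 24696 := (upper (bsch1 h0).2.2 (bub2 h0)).trans (by norm_num)
theorem bS0 : ∀ i < 456, (chkS c45.mul bg0 (nat_lit 2) bT0 be1 bc0 (nat_lit 9) (nat_lit 456)) i = 0 :=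
  (rng_step (rng_step (rng_step (rng_step (all0 _) bS0_0) bS0_1) bS0_2) bS0_3)
theorem bsch0 (h0 : ∀ s < 2, (c45md φ inj).In ⊤ (bg0 s)) : (∀ g ∈ ((c45md φ inj).gn bg0 2), ∃ i < 456, (c45md φ inj).Cos ((c45md φ inj).gn bg1 3) bT0 g i) ∧ (∀ i < 456, (c45md φ inj).In ((c45md φ inj).gn bg0 2) (bT0 i)) ∧ Nat.card ((c45md φ inj).gn bg0 2) ≤ 456 * Nat.card ((c45md φ inj).gn bg1 3) :=
  schreier (bel1 h0) (by decide) bT0_0 (btop0 h0) (ble0 h0) bS0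
theorem bel0 (h0 : ∀ s < 2, (c45md φ inj).In ⊤ (bg0 s)) : (c45md φ inj).El ((c45md φ inj).gn bg0 2) be0 := (el_of_pad (bsch0 h0).2.1).cel ((bel1 h0).mono (ble0 h0)) _
theorem bub0 (h0 : ∀ s < 2, (c45md φ inj).In ⊤ (bg0 s)) : Nat.card ((c45md φ inj).gn bg0 2) ≤ 11261376 := (upper (bsch0 h0).2.2 (bub1 h0)).trans (by norm_num)
theorem atop0 (h0 : ∀ s < 2, (c45md φ inj).In ⊤ (ag0 s)) : ∀ s < 2, (c45md φ inj).In ⊤ (ag0 s) := h0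
theorem aeg0 (h0 : ∀ s < 2, (c45md φ inj).In ⊤ (ag0 s)) : (c45md φ inj).El ((c45md φ inj).gn ag0 2) ag0 := el_gn (atop0 h0)
theorem aW0 : ∀ i < 2, (chkW c45.mul c45.one ag0 [[nat_lit 0, nat_lit 0, nat_lit 1, nat_lit 0, nat_lit 0, nat_lit 1, nat_lit 0, nat_lit 0, nat_lit 1, nat_lit 1, nat_lit 1, nat_lit 0, nat_lit 1, nat_lit 0, nat_lit 1, nat_lit 1, nat_lit 1, nat_lit 1, nat_lit 0, nat_lit 1],
  [nat_lit 1, nat_lit 0, nat_lit 0, nat_lit 0, nat_lit 0, nat_lit 0, nat_lit 1, nat_lit 1, nat_lit 1, nat_lit 1, nat_lit 0, nat_lit 0, nat_lit 0, nat_lit 0, nat_lit 1, nat_lit 0, nat_lit 1]] ag1) i = 0 :=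
  (rng_step (all0 _) aW0_0)
theorem ain1 (h0 : ∀ s < 2, (c45md φ inj).In ⊤ (ag0 s)) : ∀ s < 2, (c45md φ inj).In ((c45md φ inj).gn ag0 2) (ag1 s) := in_of_chkW (aeg0 h0) aW0
theorem atop1 (h0 : ∀ s < 2, (c45md φ inj).In ⊤ (ag0 s)) : ∀ s < 2, (c45md φ inj).In ⊤ (ag1 s) := fun s hs => (ain1 h0 s hs).top
theorem ale0 (h0 : ∀ s < 2, (c45md φ inj).In ⊤ (ag0 s)) : ((c45md φ inj).gn ag1 2) ≤ ((c45md φ inj).gn ag0 2) := gn_le (ain1 h0)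
theorem aeg1 (h0 : ∀ s < 2, (c45md φ inj).In ⊤ (ag0 s)) : (c45md φ inj).El ((c45md φ inj).gn ag1 2) ag1 := el_gn (atop1 h0)
theorem aW1 : ∀ i < 2, (chkW c45.mul c45.one ag1 [[nat_lit 0, nat_lit 0, nat_lit 0, nat_lit 1, nat_lit 1, nat_lit 0, nat_lit 0, nat_lit 0, nat_lit 0, nat_lit 1, nat_lit 1, nat_lit 0],
  [nat_lit 1, nat_lit 0, nat_lit 0, nat_lit 0, nat_lit 0, nat_lit 1, nat_lit 1, nat_lit 0, nat_lit 0, nat_lit 0, nat_lit 0, nat_lit 1]] ag2) i = 0 :=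
  (rng_step (all0 _) aW1_0)
theorem ain2 (h0 : ∀ s < 2, (c45md φ inj).In ⊤ (ag0 s)) : ∀ s < 2, (c45md φ inj).In ((c45md φ inj).gn ag1 2) (ag2 s) := in_of_chkW (aeg1 h0) aW1
theorem atop2 (h0 : ∀ s < 2, (c45md φ inj).In ⊤ (ag0 s)) : ∀ s < 2, (c45md φ inj).In ⊤ (ag2 s) := fun s hs => (ain2 h0 s hs).top
theorem ale1 (h0 : ∀ s < 2, (c45md φ inj).In ⊤ (ag0 s)) : ((c45md φ inj).gn ag2 2) ≤ ((c45md φ inj).gn ag1 2) := gn_le (ain2 h0)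
theorem aeg2 (h0 : ∀ s < 2, (c45md φ inj).In ⊤ (ag0 s)) : (c45md φ inj).El ((c45md φ inj).gn ag2 2) ag2 := el_gn (atop2 h0)
theorem ale2 (h0 : ∀ s < 2, (c45md φ inj).In ⊤ (ag0 s)) : (⊥ : Subgroup G) ≤ ((c45md φ inj).gn ag2 2) := bot_le
theorem alb3 (h0 : ∀ s < 2, (c45md φ inj).In ⊤ (ag0 s)) : 1 ≤ Nat.card (⊥ : Subgroup G) := one_le_card _
theorem ay2Y : ∀ i < 3, (chkY c45b.canV c45b.row ay2 (nat_lit 3)) i = 0 :=
  allB (rngB_step (allB0 _ _) ay2Y_0) (by decide)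
theorem ay2D : Dist (fun i => (fun x => (⟨c45b.vec (ZMod 7) 45 x⟩ : Vc φ)) (pt c45b.row ay2 i)) 3 :=
  dist_of_chk (@Cfg.Ok.canT G _ _ _ _ c45b (ZMod.charP 7) c45b_ok rfl rfl φ) ay2Y
theorem aO2 : ∀ i < 3, (chkO (c45b.imgV ag2) c45b.row ay2 aO2a (nat_lit 3) [nat_lit 0]) i = 0 :=
  allB (rngB_step (allB0 _ _) aO2_0) (by decide)
theorem aR2 (h0 : ∀ s < 2, (c45md φ inj).In ⊤ (ag0 s)) : Reach ((c45md φ inj).gn ag2 2) (fun i => (fun x => (⟨c45b.vec (ZMod 7) 45 x⟩ : Vc φ)) (pt c45b.row ay2 i)) 3 [nat_lit 0] :=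
  reach_of_chk (pv := (fun x => (⟨c45b.vec (ZMod 7) 45 x⟩ : Vc φ))) ((@Cfg.Ok.acts G _ _ _ _ c45b (ZMod.charP 7) c45b_ok rfl rfl (c45md φ inj) rfl ag2).ex (aeg2 h0)) aO2
theorem afx2 : (⊥ : Subgroup G) ≤ MulAction.stabilizer G ((fun i => (fun x => (⟨c45b.vec (ZMod 7) 45 x⟩ : Vc φ)) (pt c45b.row ay2 i)) (nat_lit 0)) := bot_le
theorem alb2 (h0 : ∀ s < 2, (c45md φ inj).In ⊤ (ag0 s)) : 3 ≤ Nat.card ((c45md φ inj).gn ag2 2) :=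
  le_of_eq_of_le (by norm_num) (lower ay2D (aR2 h0) (ale2 h0) afx2 (alb3 h0))
theorem ay1Y : ∀ i < 672, (chkY c45b.canL c45b.row ay1 (nat_lit 672)) i = 0 :=
  allB (rngB_step (allB0 _ _) ay1Y_0) (by decide)
theorem ay1D : Dist (fun i => (fun x => ln φ (c45b.vec (ZMod 7) 45 x)) (pt c45b.row ay1 i)) 672 :=
  dist_of_chk (Cfg.Ok.canTL c45b_ok rfl rfl φ) ay1Y
theorem aO1 : ∀ i < 672, (chkO (c45b.imgL ag1) c45b.row ay1 aO1a (nat_lit 672) [nat_lit 633]) i = 0 :=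
  allB (rngB_step (allB0 _ _) aO1_0) (by decide)
theorem aR1 (h0 : ∀ s < 2, (c45md φ inj).In ⊤ (ag0 s)) : Reach ((c45md φ inj).gn ag1 2) (fun i => (fun x => ln φ (c45b.vec (ZMod 7) 45 x)) (pt c45b.row ay1 i)) 672 [nat_lit 633] :=
  reach_of_chk (pv := (fun x => ln φ (c45b.vec (ZMod 7) 45 x))) ((Cfg.Ok.actsL c45b_ok (m := (c45md φ inj)) rfl rfl rfl ag1).ex (aeg1 h0)) aO1
theorem aF1 : ∀ i < 2, (chkF (c45b.imgL ag2) c45b.row ay1 (nat_lit 633) [nat_lit 3, nat_lit 3]) i = 0 :=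
  (rng_step (all0 _) aF1_0)
theorem afx1 : ((c45md φ inj).gn ag2 2) ≤ MulAction.stabilizer G ((fun i => (fun x => ln φ (c45b.vec (ZMod 7) 45 x)) (pt c45b.row ay1 i)) (nat_lit 633)) :=
  gn_le_stab (Cfg.Ok.actsL c45b_ok (m := (c45md φ inj)) rfl rfl rfl ag2) aF1
theorem alb1 (h0 : ∀ s < 2, (c45md φ inj).In ⊤ (ag0 s)) : 2016 ≤ Nat.card ((c45md φ inj).gn ag1 2) :=
  le_of_eq_of_le (by norm_num) (lower ay1D (aR1 h0) (ale1 h0) afx1 (alb2 h0))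
theorem ay0Y : ∀ i < 5586, (chkY c45b.canL c45b.row ay0 (nat_lit 5586)) i = 0 :=
  allB (rngB_step (rngB_step (rngB_step (rngB_step (rngB_step (rngB_step (allB0 _ _) ay0Y_0) ay0Y_1) ay0Y_2) ay0Y_3) ay0Y_4) ay0Y_5) (by decide)
theorem ay0D : Dist (fun i => (fun x => ln φ (c45b.vec (ZMod 7) 45 x)) (pt c45b.row ay0 i)) 5586 :=
  dist_of_chk (Cfg.Ok.canTL c45b_ok rfl rfl φ) ay0Y
theorem aO0 : ∀ i < 5586, (chkO (c45b.imgL ag0) c45b.row ay0 aO0a (nat_lit 5586) [nat_lit 5197]) i = 0 :=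
  allB (rngB_step (rngB_step (rngB_step (rngB_step (rngB_step (rngB_step (allB0 _ _) aO0_0) aO0_1) aO0_2) aO0_3) aO0_4) aO0_5) (by decide)
theorem aR0 (h0 : ∀ s < 2, (c45md φ inj).In ⊤ (ag0 s)) : Reach ((c45md φ inj).gn ag0 2) (fun i => (fun x => ln φ (c45b.vec (ZMod 7) 45 x)) (pt c45b.row ay0 i)) 5586 [nat_lit 5197] :=
  reach_of_chk (pv := (fun x => ln φ (c45b.vec (ZMod 7) 45 x))) ((Cfg.Ok.actsL c45b_ok (m := (c45md φ inj)) rfl rfl rfl ag0).ex (aeg0 h0)) aO0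
theorem aF0 : ∀ i < 2, (chkF (c45b.imgL ag1) c45b.row ay0 (nat_lit 5197) [nat_lit 0, nat_lit 2]) i = 0 :=
  (rng_step (all0 _) aF0_0)
theorem afx0 : ((c45md φ inj).gn ag1 2) ≤ MulAction.stabilizer G ((fun i => (fun x => ln φ (c45b.vec (ZMod 7) 45 x)) (pt c45b.row ay0 i)) (nat_lit 5197)) :=
  gn_le_stab (Cfg.Ok.actsL c45b_ok (m := (c45md φ inj)) rfl rfl rfl ag1) aF0
theorem alb0 (h0 : ∀ s < 2, (c45md φ inj).In ⊤ (ag0 s)) : 11261376 ≤ Nat.card ((c45md φ inj).gn ag0 2) :=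
  le_of_eq_of_le (by norm_num) (lower ay0D (aR0 h0) (ale0 h0) afx0 (alb1 h0))
theorem aex0 (h0 : ∀ s < 2, (c45md φ inj).In ⊤ (bg0 s)) : MulAction.orbit ((c45md φ inj).gn ag0 2) ((fun i => (fun x => ln φ (c45b.vec (ZMod 7) 45 x)) (pt c45b.row ay0 i)) (nat_lit 5197)) = (fun i => (fun x => ln φ (c45b.vec (ZMod 7) 45 x)) (pt c45b.row ay0 i)) '' {i | i < 5586} ∧ ((c45md φ inj).gn ag0 2) ⊓ MulAction.stabilizer G ((fun i => (fun x => ln φ (c45b.vec (ZMod 7) 45 x)) (pt c45b.row ay0 i)) (nat_lit 5197)) = ((c45md φ inj).gn ag1 2) ∧ Nat.card ((c45md φ inj).gn ag0 2) = 5586 * 2016 ∧ Nat.card ((c45md φ inj).gn ag1 2) = 2016 :=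
  exact ay0D (aR0 h0) (ale0 h0) afx0 (alb1 h0) ((bub0 h0).trans (by norm_num))
theorem aex1 (h0 : ∀ s < 2, (c45md φ inj).In ⊤ (bg0 s)) : MulAction.orbit ((c45md φ inj).gn ag1 2) ((fun i => (fun x => ln φ (c45b.vec (ZMod 7) 45 x)) (pt c45b.row ay1 i)) (nat_lit 633)) = (fun i => (fun x => ln φ (c45b.vec (ZMod 7) 45 x)) (pt c45b.row ay1 i)) '' {i | i < 672} ∧ ((c45md φ inj).gn ag1 2) ⊓ MulAction.stabilizer G ((fun i => (fun x => ln φ (c45b.vec (ZMod 7) 45 x)) (pt c45b.row ay1 i)) (nat_lit 633)) = ((c45md φ inj).gn ag2 2) ∧ Nat.card ((c45md φ inj).gn ag1 2) = 672 * 3 ∧ Nat.card ((c45md φ inj).gn ag2 2) = 3 :=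
  exact ay1D (aR1 h0) (ale1 h0) afx1 (alb2 h0) (((aex0 h0).2.2.2.le).trans (by norm_num))
theorem aex2 (h0 : ∀ s < 2, (c45md φ inj).In ⊤ (bg0 s)) : MulAction.orbit ((c45md φ inj).gn ag2 2) ((fun i => (fun x => (⟨c45b.vec (ZMod 7) 45 x⟩ : Vc φ)) (pt c45b.row ay2 i)) (nat_lit 0)) = (fun i => (fun x => (⟨c45b.vec (ZMod 7) 45 x⟩ : Vc φ)) (pt c45b.row ay2 i)) '' {i | i < 3} ∧ ((c45md φ inj).gn ag2 2) ⊓ MulAction.stabilizer G ((fun i => (fun x => (⟨c45b.vec (ZMod 7) 45 x⟩ : Vc φ)) (pt c45b.row ay2 i)) (nat_lit 0)) = (⊥ : Subgroup G) ∧ Nat.card ((c45md φ inj).gn ag2 2) = 3 * 1 ∧ Nat.card (⊥ : Subgroup G) = 1 :=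
  exact ay2D (aR2 h0) (ale2 h0) afx2 (alb3 h0) (((aex1 h0).2.2.2.le).trans (by norm_num))
theorem acore1 (h0 : ∀ s < 2, (c45md φ inj).In ⊤ (ag0 s)) (N : Subgroup G) (hN : N.Normal) (h : N ≤ ((c45md φ inj).gn ag1 2)) : N ≤ ((c45md φ inj).gn ag1 2) := h
theorem acore2 (h0 : ∀ s < 2, (c45md φ inj).In ⊤ (ag0 s)) (N : Subgroup G) (hN : N.Normal) (h : N ≤ ((c45md φ inj).gn ag1 2)) : N ≤ ((c45md φ inj).gn ag2 2) :=
  (le_inf (acore1 h0 N hN h) (normal_le_stab hN (h.trans afx0) (mem_orbit_of_eq (aex0 h0).1 (j := (nat_lit 5465)) (by decide) (congrArg (fun x => ln φ (c45b.vec (ZMod 7) 45 x)) acp1)))).trans (aex1 h0).2.1.le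
theorem dT : ∀ i < 3, (chkT c45.mul dD be0 [[nat_lit 1, nat_lit 9799912], [nat_lit 2, nat_lit 21276806], [nat_lit 1, nat_lit 18132291]]) i = 0 :=
  (rng_step (all0 _) dT_0)
theorem dle : ((c45md φ inj).gn bg0 2) ≤ ((c45md φ inj).gn dg 3) := le_gn_cons _ _ _
theorem delD (h0 : ∀ s < 2, (c45md φ inj).In ⊤ (bg0 s)) (h1 : (c45md φ inj).In ⊤ (dD 1)) : (c45md φ inj).El ((c45md φ inj).gn dg 3) dD :=
  el_D (n := 3) ((bel0 h0).mono dle) dD0 (in_gn_cons h1 _ _) dT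
theorem dtop (h0 : ∀ s < 2, (c45md φ inj).In ⊤ (bg0 s)) (h1 : (c45md φ inj).In ⊤ (dD 1)) : (c45md φ inj).El ⊤ dD := (delD h0 h1).mono le_top
theorem del (h0 : ∀ s < 2, (c45md φ inj).In ⊤ (bg0 s)) (h1 : (c45md φ inj).In ⊤ (dD 1)) : (c45md φ inj).El ((c45md φ inj).gn dg 3) de := (delD h0 h1).del ((bel0 h0).mono dle) _ _
theorem l2top0 (h0 : ∀ s < 3, (c45md φ inj).In ⊤ (l2g0 s)) : ∀ s < 3, (c45md φ inj).In ⊤ (l2g0 s) := h0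
theorem l2eg0 (h0 : ∀ s < 3, (c45md φ inj).In ⊤ (l2g0 s)) : (c45md φ inj).El ((c45md φ inj).gn l2g0 3) l2g0 := el_gn (l2top0 h0)
theorem l2W0 : ∀ i < 2, (chkW c45.mul c45.one l2g0 [[nat_lit 0, nat_lit 0, nat_lit 1, nat_lit 1, nat_lit 2, nat_lit 2, nat_lit 2, nat_lit 0, nat_lit 0, nat_lit 1, nat_lit 1, nat_lit 1, nat_lit 0, nat_lit 2],
  [nat_lit 2, nat_lit 1, nat_lit 1, nat_lit 1, nat_lit 2, nat_lit 2, nat_lit 1, nat_lit 2, nat_lit 2, nat_lit 0, nat_lit 1, nat_lit 2]] l2g1) i = 0 :=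
  (rng_step (all0 _) l2W0_0)
theorem l2in1 (h0 : ∀ s < 3, (c45md φ inj).In ⊤ (l2g0 s)) : ∀ s < 2, (c45md φ inj).In ((c45md φ inj).gn l2g0 3) (l2g1 s) := in_of_chkW (l2eg0 h0) l2W0
theorem l2top1 (h0 : ∀ s < 3, (c45md φ inj).In ⊤ (l2g0 s)) : ∀ s < 2, (c45md φ inj).In ⊤ (l2g1 s) := fun s hs => (l2in1 h0 s hs).top
theorem l2le0 (h0 : ∀ s < 3, (c45md φ inj).In ⊤ (l2g0 s)) : ((c45md φ inj).gn l2g1 2) ≤ ((c45md φ inj).gn l2g0 3) := gn_le (l2in1 h0)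
theorem l2eg1 (h0 : ∀ s < 3, (c45md φ inj).In ⊤ (l2g0 s)) : (c45md φ inj).El ((c45md φ inj).gn l2g1 2) l2g1 := el_gn (l2top1 h0)
theorem l2le1 (h0 : ∀ s < 3, (c45md φ inj).In ⊤ (l2g0 s)) : (⊥ : Subgroup G) ≤ ((c45md φ inj).gn l2g1 2) := bot_le
theorem l2lb2 (h0 : ∀ s < 3, (c45md φ inj).In ⊤ (l2g0 s)) : 1 ≤ Nat.card (⊥ : Subgroup G) := one_le_card _
theorem l2y1Y : ∀ i < 3, (chkY c45b.canV c45b.row l2y1 (nat_lit 3)) i = 0 :=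
  allB (rngB_step (allB0 _ _) l2y1Y_0) (by decide)
theorem l2y1D : Dist (fun i => (fun x => (⟨c45b.vec (ZMod 7) 45 x⟩ : Vc φ)) (pt c45b.row l2y1 i)) 3 :=
  dist_of_chk (@Cfg.Ok.canT G _ _ _ _ c45b (ZMod.charP 7) c45b_ok rfl rfl φ) l2y1Y
theorem l2O1 : ∀ i < 3, (chkO (c45b.imgV l2g1) c45b.row l2y1 l2O1a (nat_lit 3) [nat_lit 0]) i = 0 :=
  allB (rngB_step (allB0 _ _) l2O1_0) (by decide)
theorem l2R1 (h0 : ∀ s < 3, (c45md φ inj).In ⊤ (l2g0 s)) : Reach ((c45md φ inj).gn l2g1 2) (fun i => (fun x => (⟨c45b.vec (ZMod 7) 45 x⟩ : Vc φ)) (pt c45b.row l2y1 i)) 3 [nat_lit 0] :=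
  reach_of_chk (pv := (fun x => (⟨c45b.vec (ZMod 7) 45 x⟩ : Vc φ))) ((@Cfg.Ok.acts G _ _ _ _ c45b (ZMod.charP 7) c45b_ok rfl rfl (c45md φ inj) rfl l2g1).ex (l2eg1 h0)) l2O1
theorem l2fx1 : (⊥ : Subgroup G) ≤ MulAction.stabilizer G ((fun i => (fun x => (⟨c45b.vec (ZMod 7) 45 x⟩ : Vc φ)) (pt c45b.row l2y1 i)) (nat_lit 0)) := bot_le
theorem l2lb1 (h0 : ∀ s < 3, (c45md φ inj).In ⊤ (l2g0 s)) : 3 ≤ Nat.card ((c45md φ inj).gn l2g1 2) :=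
  le_of_eq_of_le (by norm_num) (lower l2y1D (l2R1 h0) (l2le1 h0) l2fx1 (l2lb2 h0))
theorem l2y0Y : ∀ i < 72, (chkY c45b.canL c45b.row l2y0 (nat_lit 72)) i = 0 :=
  allB (rngB_step (allB0 _ _) l2y0Y_0) (by decide)
theorem l2y0D : Dist (fun i => (fun x => ln φ (c45b.vec (ZMod 7) 45 x)) (pt c45b.row l2y0 i)) 72 :=
  dist_of_chk (Cfg.Ok.canTL c45b_ok rfl rfl φ) l2y0Y
theorem l2O0 : ∀ i < 72, (chkO (c45b.imgL l2g0) c45b.row l2y0 l2O0a (nat_lit 72) [nat_lit 66]) i = 0 :=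
  allB (rngB_step (allB0 _ _) l2O0_0) (by decide)
theorem l2R0 (h0 : ∀ s < 3, (c45md φ inj).In ⊤ (l2g0 s)) : Reach ((c45md φ inj).gn l2g0 3) (fun i => (fun x => ln φ (c45b.vec (ZMod 7) 45 x)) (pt c45b.row l2y0 i)) 72 [nat_lit 66] :=
  reach_of_chk (pv := (fun x => ln φ (c45b.vec (ZMod 7) 45 x))) ((Cfg.Ok.actsL c45b_ok (m := (c45md φ inj)) rfl rfl rfl l2g0).ex (l2eg0 h0)) l2O0
theorem l2F0 : ∀ i < 2, (chkF (c45b.imgL l2g1) c45b.row l2y0 (nat_lit 66) [nat_lit 3, nat_lit 1]) i = 0 :=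
  (rng_step (all0 _) l2F0_0)
theorem l2fx0 : ((c45md φ inj).gn l2g1 2) ≤ MulAction.stabilizer G ((fun i => (fun x => ln φ (c45b.vec (ZMod 7) 45 x)) (pt c45b.row l2y0 i)) (nat_lit 66)) :=
  gn_le_stab (Cfg.Ok.actsL c45b_ok (m := (c45md φ inj)) rfl rfl rfl l2g1) l2F0
theorem l2lb0 (h0 : ∀ s < 3, (c45md φ inj).In ⊤ (l2g0 s)) : 216 ≤ Nat.card ((c45md φ inj).gn l2g0 3) :=
  le_of_eq_of_le (by norm_num) (lower l2y0D (l2R0 h0) (l2le0 h0) l2fx0 (l2lb1 h0))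
theorem l2E : ∀ i < 3, (chkE l2g0 be0 [nat_lit 4156285, nat_lit 9278628, nat_lit 19182854]) i = 0 :=
  (rng_step (all0 _) l2E_0)
theorem l2in (h0 : ∀ s < 2, (c45md φ inj).In ⊤ (bg0 s)) : ∀ s < 3, (c45md φ inj).In ((c45md φ inj).gn bg0 2) (l2g0 s) := in_of_chkE (bel0 h0) l2E
theorem l3top0 (h0 : ∀ s < 3, (c45md φ inj).In ⊤ (l3g0 s)) : ∀ s < 3, (c45md φ inj).In ⊤ (l3g0 s) := h0
theorem l3eg0 (h0 : ∀ s < 3, (c45md φ inj).In ⊤ (l3g0 s)) : (c45md φ inj).El ((c45md φ inj).gn l3g0 3) l3g0 := el_gn (l3top0 h0)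
theorem l3W0 : ∀ i < 2, (chkW c45.mul c45.one l3g0 [[nat_lit 0, nat_lit 1, nat_lit 0, nat_lit 2, nat_lit 2, nat_lit 2],
  [nat_lit 1, nat_lit 2, nat_lit 0, nat_lit 0]] l3g1) i = 0 :=
  (rng_step (all0 _) l3W0_0)
theorem l3in1 (h0 : ∀ s < 3, (c45md φ inj).In ⊤ (l3g0 s)) : ∀ s < 2, (c45md φ inj).In ((c45md φ inj).gn l3g0 3) (l3g1 s) := in_of_chkW (l3eg0 h0) l3W0
theorem l3top1 (h0 : ∀ s < 3, (c45md φ inj).In ⊤ (l3g0 s)) : ∀ s < 2, (c45md φ inj).In ⊤ (l3g1 s) := fun s hs => (l3in1 h0 s hs).top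
theorem l3le0 (h0 : ∀ s < 3, (c45md φ inj).In ⊤ (l3g0 s)) : ((c45md φ inj).gn l3g1 2) ≤ ((c45md φ inj).gn l3g0 3) := gn_le (l3in1 h0)
theorem l3eg1 (h0 : ∀ s < 3, (c45md φ inj).In ⊤ (l3g0 s)) : (c45md φ inj).El ((c45md φ inj).gn l3g1 2) l3g1 := el_gn (l3top1 h0)
theorem l3W1 : ∀ i < 2, (chkW c45.mul c45.one l3g1 [[nat_lit 0, nat_lit 0, nat_lit 1, nat_lit 0, nat_lit 0, nat_lit 1],
  [nat_lit 0, nat_lit 1]] l3g2) i = 0 :=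
  (rng_step (all0 _) l3W1_0)
theorem l3in2 (h0 : ∀ s < 3, (c45md φ inj).In ⊤ (l3g0 s)) : ∀ s < 2, (c45md φ inj).In ((c45md φ inj).gn l3g1 2) (l3g2 s) := in_of_chkW (l3eg1 h0) l3W1
theorem l3top2 (h0 : ∀ s < 3, (c45md φ inj).In ⊤ (l3g0 s)) : ∀ s < 2, (c45md φ inj).In ⊤ (l3g2 s) := fun s hs => (l3in2 h0 s hs).top
theorem l3le1 (h0 : ∀ s < 3, (c45md φ inj).In ⊤ (l3g0 s)) : ((c45md φ inj).gn l3g2 2) ≤ ((c45md φ inj).gn l3g1 2) := gn_le (l3in2 h0)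
theorem l3eg2 (h0 : ∀ s < 3, (c45md φ inj).In ⊤ (l3g0 s)) : (c45md φ inj).El ((c45md φ inj).gn l3g2 2) l3g2 := el_gn (l3top2 h0)
theorem l3le2 (h0 : ∀ s < 3, (c45md φ inj).In ⊤ (l3g0 s)) : (⊥ : Subgroup G) ≤ ((c45md φ inj).gn l3g2 2) := bot_le
theorem l3lb3 (h0 : ∀ s < 3, (c45md φ inj).In ⊤ (l3g0 s)) : 1 ≤ Nat.card (⊥ : Subgroup G) := one_le_card _
theorem l3y2Y : ∀ i < 3, (chkY c45b.canV c45b.row l3y2 (nat_lit 3)) i = 0 :=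
  allB (rngB_step (allB0 _ _) l3y2Y_0) (by decide)
theorem l3y2D : Dist (fun i => (fun x => (⟨c45b.vec (ZMod 7) 45 x⟩ : Vc φ)) (pt c45b.row l3y2 i)) 3 :=
  dist_of_chk (@Cfg.Ok.canT G _ _ _ _ c45b (ZMod.charP 7) c45b_ok rfl rfl φ) l3y2Y
theorem l3O2 : ∀ i < 3, (chkO (c45b.imgV l3g2) c45b.row l3y2 l3O2a (nat_lit 3) [nat_lit 0]) i = 0 :=
  allB (rngB_step (allB0 _ _) l3O2_0) (by decide)
theorem l3R2 (h0 : ∀ s < 3, (c45md φ inj).In ⊤ (l3g0 s)) : Reach ((c45md φ inj).gn l3g2 2) (fun i => (fun x => (⟨c45b.vec (ZMod 7) 45 x⟩ : Vc φ)) (pt c45b.row l3y2 i)) 3 [nat_lit 0] :=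
  reach_of_chk (pv := (fun x => (⟨c45b.vec (ZMod 7) 45 x⟩ : Vc φ))) ((@Cfg.Ok.acts G _ _ _ _ c45b (ZMod.charP 7) c45b_ok rfl rfl (c45md φ inj) rfl l3g2).ex (l3eg2 h0)) l3O2
theorem l3fx2 : (⊥ : Subgroup G) ≤ MulAction.stabilizer G ((fun i => (fun x => (⟨c45b.vec (ZMod 7) 45 x⟩ : Vc φ)) (pt c45b.row l3y2 i)) (nat_lit 0)) := bot_le
theorem l3lb2 (h0 : ∀ s < 3, (c45md φ inj).In ⊤ (l3g0 s)) : 3 ≤ Nat.card ((c45md φ inj).gn l3g2 2) :=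
  le_of_eq_of_le (by norm_num) (lower l3y2D (l3R2 h0) (l3le2 h0) l3fx2 (l3lb3 h0))
theorem l3y1Y : ∀ i < 2, (chkY c45b.canL c45b.row l3y1 (nat_lit 2)) i = 0 :=
  allB (rngB_step (allB0 _ _) l3y1Y_0) (by decide)
theorem l3y1D : Dist (fun i => (fun x => ln φ (c45b.vec (ZMod 7) 45 x)) (pt c45b.row l3y1 i)) 2 :=
  dist_of_chk (Cfg.Ok.canTL c45b_ok rfl rfl φ) l3y1Y
theorem l3O1 : ∀ i < 2, (chkO (c45b.imgL l3g1) c45b.row l3y1 l3O1a (nat_lit 2) [nat_lit 0]) i = 0 :=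
  allB (rngB_step (allB0 _ _) l3O1_0) (by decide)
theorem l3R1 (h0 : ∀ s < 3, (c45md φ inj).In ⊤ (l3g0 s)) : Reach ((c45md φ inj).gn l3g1 2) (fun i => (fun x => ln φ (c45b.vec (ZMod 7) 45 x)) (pt c45b.row l3y1 i)) 2 [nat_lit 0] :=
  reach_of_chk (pv := (fun x => ln φ (c45b.vec (ZMod 7) 45 x))) ((Cfg.Ok.actsL c45b_ok (m := (c45md φ inj)) rfl rfl rfl l3g1).ex (l3eg1 h0)) l3O1
theorem l3F1 : ∀ i < 2, (chkF (c45b.imgL l3g2) c45b.row l3y1 (nat_lit 0) [nat_lit 1, nat_lit 1]) i = 0 :=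
  (rng_step (all0 _) l3F1_0)
theorem l3fx1 : ((c45md φ inj).gn l3g2 2) ≤ MulAction.stabilizer G ((fun i => (fun x => ln φ (c45b.vec (ZMod 7) 45 x)) (pt c45b.row l3y1 i)) (nat_lit 0)) :=
  gn_le_stab (Cfg.Ok.actsL c45b_ok (m := (c45md φ inj)) rfl rfl rfl l3g2) l3F1
theorem l3lb1 (h0 : ∀ s < 3, (c45md φ inj).In ⊤ (l3g0 s)) : 6 ≤ Nat.card ((c45md φ inj).gn l3g1 2) :=
  le_of_eq_of_le (by norm_num) (lower l3y1D (l3R1 h0) (l3le1 h0) l3fx1 (l3lb2 h0))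
theorem l3y0Y : ∀ i < 32, (chkY c45b.canL c45b.row l3y0 (nat_lit 32)) i = 0 :=
  allB (rngB_step (allB0 _ _) l3y0Y_0) (by decide)
theorem l3y0D : Dist (fun i => (fun x => ln φ (c45b.vec (ZMod 7) 45 x)) (pt c45b.row l3y0 i)) 32 :=
  dist_of_chk (Cfg.Ok.canTL c45b_ok rfl rfl φ) l3y0Y
theorem l3O0 : ∀ i < 32, (chkO (c45b.imgL l3g0) c45b.row l3y0 l3O0a (nat_lit 32) [nat_lit 16]) i = 0 :=
  allB (rngB_step (allB0 _ _) l3O0_0) (by decide)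
theorem l3R0 (h0 : ∀ s < 3, (c45md φ inj).In ⊤ (l3g0 s)) : Reach ((c45md φ inj).gn l3g0 3) (fun i => (fun x => ln φ (c45b.vec (ZMod 7) 45 x)) (pt c45b.row l3y0 i)) 32 [nat_lit 16] :=
  reach_of_chk (pv := (fun x => ln φ (c45b.vec (ZMod 7) 45 x))) ((Cfg.Ok.actsL c45b_ok (m := (c45md φ inj)) rfl rfl rfl l3g0).ex (l3eg0 h0)) l3O0
theorem l3F0 : ∀ i < 2, (chkF (c45b.imgL l3g1) c45b.row l3y0 (nat_lit 16) [nat_lit 4, nat_lit 5]) i = 0 :=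
  (rng_step (all0 _) l3F0_0)
theorem l3fx0 : ((c45md φ inj).gn l3g1 2) ≤ MulAction.stabilizer G ((fun i => (fun x => ln φ (c45b.vec (ZMod 7) 45 x)) (pt c45b.row l3y0 i)) (nat_lit 16)) :=
  gn_le_stab (Cfg.Ok.actsL c45b_ok (m := (c45md φ inj)) rfl rfl rfl l3g1) l3F0
theorem l3lb0 (h0 : ∀ s < 3, (c45md φ inj).In ⊤ (l3g0 s)) : 192 ≤ Nat.card ((c45md φ inj).gn l3g0 3) :=
  le_of_eq_of_le (by norm_num) (lower l3y0D (l3R0 h0) (l3le0 h0) l3fx0 (l3lb1 h0))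
theorem l3E : ∀ i < 3, (chkE l3g0 be0 [nat_lit 1974100, nat_lit 17374620, nat_lit 13598489]) i = 0 :=
  (rng_step (all0 _) l3E_0)
theorem l3in (h0 : ∀ s < 2, (c45md φ inj).In ⊤ (bg0 s)) : ∀ s < 3, (c45md φ inj).In ((c45md φ inj).gn bg0 2) (l3g0 s) := in_of_chkE (bel0 h0) l3E
theorem l4top0 (h0 : ∀ s < 2, (c45md φ inj).In ⊤ (l4g0 s)) : ∀ s < 2, (c45md φ inj).In ⊤ (l4g0 s) := h0
theorem l4eg0 (h0 : ∀ s < 2, (c45md φ inj).In ⊤ (l4g0 s)) : (c45md φ inj).El ((c45md φ inj).gn l4g0 2) l4g0 := el_gn (l4top0 h0)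
theorem l4W0 : ∀ i < 2, (chkW c45.mul c45.one l4g0 [[nat_lit 0, nat_lit 0, nat_lit 0, nat_lit 0, nat_lit 1, nat_lit 1, nat_lit 0, nat_lit 1, nat_lit 1, nat_lit 0, nat_lit 0, nat_lit 0, nat_lit 0, nat_lit 0, nat_lit 0, nat_lit 0, nat_lit 0, nat_lit 0],
  [nat_lit 0, nat_lit 1, nat_lit 0, nat_lit 0, nat_lit 0, nat_lit 1, nat_lit 1, nat_lit 0, nat_lit 0, nat_lit 0, nat_lit 0, nat_lit 1]] l4g1) i = 0 :=
  (rng_step (all0 _) l4W0_0)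
theorem l4in1 (h0 : ∀ s < 2, (c45md φ inj).In ⊤ (l4g0 s)) : ∀ s < 2, (c45md φ inj).In ((c45md φ inj).gn l4g0 2) (l4g1 s) := in_of_chkW (l4eg0 h0) l4W0
theorem l4top1 (h0 : ∀ s < 2, (c45md φ inj).In ⊤ (l4g0 s)) : ∀ s < 2, (c45md φ inj).In ⊤ (l4g1 s) := fun s hs => (l4in1 h0 s hs).top
theorem l4le0 (h0 : ∀ s < 2, (c45md φ inj).In ⊤ (l4g0 s)) : ((c45md φ inj).gn l4g1 2) ≤ ((c45md φ inj).gn l4g0 2) := gn_le (l4in1 h0)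
theorem l4eg1 (h0 : ∀ s < 2, (c45md φ inj).In ⊤ (l4g0 s)) : (c45md φ inj).El ((c45md φ inj).gn l4g1 2) l4g1 := el_gn (l4top1 h0)
theorem l4le1 (h0 : ∀ s < 2, (c45md φ inj).In ⊤ (l4g0 s)) : (⊥ : Subgroup G) ≤ ((c45md φ inj).gn l4g1 2) := bot_le
theorem l4lb2 (h0 : ∀ s < 2, (c45md φ inj).In ⊤ (l4g0 s)) : 1 ≤ Nat.card (⊥ : Subgroup G) := one_le_card _
theorem l4y1Y : ∀ i < 3, (chkY c45b.canV c45b.row l4y1 (nat_lit 3)) i = 0 :=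
  allB (rngB_step (allB0 _ _) l4y1Y_0) (by decide)
theorem l4y1D : Dist (fun i => (fun x => (⟨c45b.vec (ZMod 7) 45 x⟩ : Vc φ)) (pt c45b.row l4y1 i)) 3 :=
  dist_of_chk (@Cfg.Ok.canT G _ _ _ _ c45b (ZMod.charP 7) c45b_ok rfl rfl φ) l4y1Y
theorem l4O1 : ∀ i < 3, (chkO (c45b.imgV l4g1) c45b.row l4y1 l4O1a (nat_lit 3) [nat_lit 0]) i = 0 :=
  allB (rngB_step (allB0 _ _) l4O1_0) (by decide)
theorem l4R1 (h0 : ∀ s < 2, (c45md φ inj).In ⊤ (l4g0 s)) : Reach ((c45md φ inj).gn l4g1 2) (fun i => (fun x => (⟨c45b.vec (ZMod 7) 45 x⟩ : Vc φ)) (pt c45b.row l4y1 i)) 3 [nat_lit 0] :=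
  reach_of_chk (pv := (fun x => (⟨c45b.vec (ZMod 7) 45 x⟩ : Vc φ))) ((@Cfg.Ok.acts G _ _ _ _ c45b (ZMod.charP 7) c45b_ok rfl rfl (c45md φ inj) rfl l4g1).ex (l4eg1 h0)) l4O1
theorem l4fx1 : (⊥ : Subgroup G) ≤ MulAction.stabilizer G ((fun i => (fun x => (⟨c45b.vec (ZMod 7) 45 x⟩ : Vc φ)) (pt c45b.row l4y1 i)) (nat_lit 0)) := bot_le
theorem l4lb1 (h0 : ∀ s < 2, (c45md φ inj).In ⊤ (l4g0 s)) : 3 ≤ Nat.card ((c45md φ inj).gn l4g1 2) :=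
  le_of_eq_of_le (by norm_num) (lower l4y1D (l4R1 h0) (l4le1 h0) l4fx1 (l4lb2 h0))
theorem l4y0Y : ∀ i < 588, (chkY c45b.canL c45b.row l4y0 (nat_lit 588)) i = 0 :=
  allB (rngB_step (allB0 _ _) l4y0Y_0) (by decide)
theorem l4y0D : Dist (fun i => (fun x => ln φ (c45b.vec (ZMod 7) 45 x)) (pt c45b.row l4y0 i)) 588 :=
  dist_of_chk (Cfg.Ok.canTL c45b_ok rfl rfl φ) l4y0Y
theorem l4O0 : ∀ i < 588, (chkO (c45b.imgL l4g0) c45b.row l4y0 l4O0a (nat_lit 588) [nat_lit 207]) i = 0 :=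
  allB (rngB_step (allB0 _ _) l4O0_0) (by decide)
theorem l4R0 (h0 : ∀ s < 2, (c45md φ inj).In ⊤ (l4g0 s)) : Reach ((c45md φ inj).gn l4g0 2) (fun i => (fun x => ln φ (c45b.vec (ZMod 7) 45 x)) (pt c45b.row l4y0 i)) 588 [nat_lit 207] :=
  reach_of_chk (pv := (fun x => ln φ (c45b.vec (ZMod 7) 45 x))) ((Cfg.Ok.actsL c45b_ok (m := (c45md φ inj)) rfl rfl rfl l4g0).ex (l4eg0 h0)) l4O0
theorem l4F0 : ∀ i < 2, (chkF (c45b.imgL l4g1) c45b.row l4y0 (nat_lit 207) [nat_lit 1, nat_lit 1]) i = 0 :=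
  (rng_step (all0 _) l4F0_0)
theorem l4fx0 : ((c45md φ inj).gn l4g1 2) ≤ MulAction.stabilizer G ((fun i => (fun x => ln φ (c45b.vec (ZMod 7) 45 x)) (pt c45b.row l4y0 i)) (nat_lit 207)) :=
  gn_le_stab (Cfg.Ok.actsL c45b_ok (m := (c45md φ inj)) rfl rfl rfl l4g1) l4F0
theorem l4lb0 (h0 : ∀ s < 2, (c45md φ inj).In ⊤ (l4g0 s)) : 1764 ≤ Nat.card ((c45md φ inj).gn l4g0 2) :=
  le_of_eq_of_le (by norm_num) (lower l4y0D (l4R0 h0) (l4le0 h0) l4fx0 (l4lb1 h0))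
theorem l4E : ∀ i < 2, (chkE l4g0 be0 [nat_lit 19705862, nat_lit 8830342]) i = 0 :=
  (rng_step (all0 _) l4E_0)
theorem l4in (h0 : ∀ s < 2, (c45md φ inj).In ⊤ (bg0 s)) : ∀ s < 2, (c45md φ inj).In ((c45md φ inj).gn bg0 2) (l4g0 s) := in_of_chkE (bel0 h0) l4E
theorem dK : ∀ i < 2, (chkK c45.mul (dD 1) ag1 be0 [nat_lit 1683097, nat_lit 18447618]) i = 0 :=
  (rng_step (all0 _) dK_0)
theorem dKL (h0 : ∀ s < 2, (c45md φ inj).In ⊤ (bg0 s)) (h1 : (c45md φ inj).In ⊤ (dD 1)) : ((c45md φ inj).gn ag1 2) ≤ Lc ((c45md φ inj).gn bg0 2) ((c45md φ inj).elt (dD 1))⁻¹ :=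
  gn_le (in_of_chkK (bel0 h0) h1 (ain1 h0) dK)
theorem dL0 : ∀ i < 2, (chkL c45.mul (dD (nat_lit 0)) bg0 be0 [nat_lit 2789492, nat_lit 8924078]) i = 0 :=
  (rng_step (all0 _) dL0_0)
theorem dLL0 (h0 : ∀ s < 2, (c45md φ inj).In ⊤ (bg0 s)) (h1 : (c45md φ inj).In ⊤ (dD 1)) : ((c45md φ inj).gn bg0 2) ≤ Lc ((c45md φ inj).gn bg0 2) ((c45md φ inj).elt (dD (nat_lit 0))) :=
  gn_le (in_of_chkL (bel0 h0) (dtop h0 h1 _) (fun s _ => beg0 h0 s) dL0)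
theorem dM0 : ∀ i < 1, (chkM (c45b.imgL dm0) c45b.row ay0 (nat_lit 5197) ay0 [nat_lit 5197] [nat_lit 0]) i = 0 :=
  (rng_step (all0 _) dM0_0)
theorem dR0 : ∀ i < 1, (chkR c45.mul dD be0 dw0 (nat_lit 0) (nat_lit 5)) i = 0 :=
  (rng_step (all0 _) dR0_0)
theorem dst0 (h0 : ∀ s < 2, (c45md φ inj).In ⊤ (bg0 s)) (h1 : (c45md φ inj).In ⊤ (dD 1)) : ∀ h ∈ ((c45md φ inj).gn bg0 2), ∃ j < 5, DCos ((c45md φ inj).gn bg0 2) ((c45md φ inj).elt (dD j)) ((c45md φ inj).elt (dD (nat_lit 0)) * h * (c45md φ inj).elt (dD 1)) :=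
  dc_roots (pv := (fun x => ln φ (c45b.vec (ZMod 7) 45 x))) (dtop h0 h1) (bel0 h0) ((aex0 h0).1) (((aex0 h0).2.1).le.trans (dKL h0 h1)) (dLL0 h0 h1)
    (aR0 h0) (Cfg.Ok.actsL c45b_ok (m := (c45md φ inj)) rfl rfl rfl dm0) rfl dM0 dR0
theorem dL1 : ∀ i < 2, (chkL c45.mul (dD (nat_lit 1)) ag1 be0 [nat_lit 1683097, nat_lit 18447618]) i = 0 :=
  (rng_step (all0 _) dL1_0)
theorem dLL1 (h0 : ∀ s < 2, (c45md φ inj).In ⊤ (bg0 s)) (h1 : (c45md φ inj).In ⊤ (dD 1)) : ((c45md φ inj).gn ag1 2) ≤ Lc ((c45md φ inj).gn bg0 2) ((c45md φ inj).elt (dD (nat_lit 1))) :=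
  gn_le (in_of_chkL (bel0 h0) (dtop h0 h1 _) (ain1 h0) dL1)
theorem dO1 : ∀ i < 5586, (chkO (c45b.imgL ag1) c45b.row ay0 dO1a (nat_lit 5586) [nat_lit 0, nat_lit 4, nat_lit 15, nat_lit 16, nat_lit 17, nat_lit 20, nat_lit 23, nat_lit 31, nat_lit 177, nat_lit 186, nat_lit 190, nat_lit 192, nat_lit 208, nat_lit 2317, nat_lit 2318, nat_lit 2321, nat_lit 2322, nat_lit 2323, nat_lit 2326, nat_lit 2339, nat_lit 2348, nat_lit 2374, nat_lit 3259, nat_lit 5197]) i = 0 :=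
  allB (rngB_step (rngB_step (rngB_step (rngB_step (rngB_step (rngB_step (allB0 _ _) dO1_0) dO1_1) dO1_2) dO1_3) dO1_4) dO1_5) (by decide)
theorem dM1 : ∀ i < 24, (chkM (c45b.imgL dm1) c45b.row ay0 (nat_lit 5197) ay0 [nat_lit 0, nat_lit 4, nat_lit 15, nat_lit 16, nat_lit 17, nat_lit 20, nat_lit 23, nat_lit 31, nat_lit 177, nat_lit 186, nat_lit 190, nat_lit 192, nat_lit 208, nat_lit 2317, nat_lit 2318, nat_lit 2321, nat_lit 2322, nat_lit 2323, nat_lit 2326, nat_lit 2339, nat_lit 2348, nat_lit 2374, nat_lit 3259, nat_lit 5197] [nat_lit 2, nat_lit 2, nat_lit 1, nat_lit 4, nat_lit 1, nat_lit 1, nat_lit 1, nat_lit 4, nat_lit 5, nat_lit 3, nat_lit 4, nat_lit 3, nat_lit 2, nat_lit 5, nat_lit 0, nat_lit 3, nat_lit 0, nat_lit 3, nat_lit 3, nat_lit 1, nat_lit 0, nat_lit 0, nat_lit 1, nat_lit 0]) i = 0 :=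
  (rng_step (all0 _) dM1_0)
theorem dR1 : ∀ i < 24, (chkR c45.mul dD be0 dw1 (nat_lit 1) (nat_lit 5)) i = 0 :=
  (rng_step (all0 _) dR1_0)
theorem dst1 (h0 : ∀ s < 2, (c45md φ inj).In ⊤ (bg0 s)) (h1 : (c45md φ inj).In ⊤ (dD 1)) : ∀ h ∈ ((c45md φ inj).gn bg0 2), ∃ j < 5, DCos ((c45md φ inj).gn bg0 2) ((c45md φ inj).elt (dD j)) ((c45md φ inj).elt (dD (nat_lit 1)) * h * (c45md φ inj).elt (dD 1)) :=
  dc_roots (pv := (fun x => ln φ (c45b.vec (ZMod 7) 45 x))) (dtop h0 h1) (bel0 h0) ((aex0 h0).1) (((aex0 h0).2.1).le.trans (dKL h0 h1)) (dLL1 h0 h1)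
    (reach_of_chk (pv := (fun x => ln φ (c45b.vec (ZMod 7) 45 x))) ((Cfg.Ok.actsL c45b_ok (m := (c45md φ inj)) rfl rfl rfl ag1).ex (el_gn fun s hs => (ain1 h0 s hs).top)) dO1) (Cfg.Ok.actsL c45b_ok (m := (c45md φ inj)) rfl rfl rfl dm1) rfl dM1 dR1
theorem dL2 : ∀ i < 3, (chkL c45.mul (dD (nat_lit 2)) l2g0 be0 [nat_lit 20888236, nat_lit 90043, nat_lit 22122020]) i = 0 :=
  (rng_step (all0 _) dL2_0)
theorem dLL2 (h0 : ∀ s < 2, (c45md φ inj).In ⊤ (bg0 s)) (h1 : (c45md φ inj).In ⊤ (dD 1)) : ((c45md φ inj).gn l2g0 3) ≤ Lc ((c45md φ inj).gn bg0 2) ((c45md φ inj).elt (dD (nat_lit 2))) :=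
  gn_le (in_of_chkL (bel0 h0) (dtop h0 h1 _) (l2in h0) dL2)
theorem dO2 : ∀ i < 5586, (chkO (c45b.imgL l2g0) c45b.row ay0 dO2a (nat_lit 5586) [nat_lit 0, nat_lit 1, nat_lit 2, nat_lit 3, nat_lit 4, nat_lit 5, nat_lit 6, nat_lit 7, nat_lit 8, nat_lit 9, nat_lit 10, nat_lit 11, nat_lit 13, nat_lit 14, nat_lit 15, nat_lit 16, nat_lit 17, nat_lit 18, nat_lit 20, nat_lit 21, nat_lit 22, nat_lit 23, nat_lit 24, nat_lit 25, nat_lit 26, nat_lit 28, nat_lit 29, nat_lit 30, nat_lit 31, nat_lit 32, nat_lit 34, nat_lit 35, nat_lit 36, nat_lit 38, nat_lit 39, nat_lit 40, nat_lit 41, nat_lit 46, nat_lit 48, nat_lit 49, nat_lit 52, nat_lit 56, nat_lit 57, nat_lit 58, nat_lit 59, nat_lit 61, nat_lit 62, nat_lit 63, nat_lit 64, nat_lit 67, nat_lit 69, nat_lit 70, nat_lit 73, nat_lit 75, nat_lit 76, nat_lit 81, nat_lit 85, nat_lit 87, nat_lit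 88, nat_lit 91, nat_lit 92, nat_lit 93, nat_lit 94, nat_lit 95, nat_lit 99, nat_lit 103, nat_lit 110, nat_lit 111, nat_lit 120, nat_lit 129, nat_lit 130, nat_lit 132, nat_lit 133, nat_lit 139, nat_lit 141, nat_lit 151, nat_lit 154, nat_lit 158, nat_lit 173, nat_lit 174, nat_lit 190, nat_lit 220, nat_lit 240, nat_lit 248, nat_lit 274, nat_lit 276, nat_lit 292, nat_lit 458, nat_lit 488, nat_lit 536, nat_lit 766, nat_lit 1258]) i = 0 :=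
  allB (rngB_step (rngB_step (rngB_step (rngB_step (rngB_step (rngB_step (allB0 _ _) dO2_0) dO2_1) dO2_2) dO2_3) dO2_4) dO2_5) (by decide)
theorem dM2 : ∀ i < 92, (chkM (c45b.imgL dm2) c45b.row ay0 (nat_lit 5197) ay0 [nat_lit 0, nat_lit 1, nat_lit 2, nat_lit 3, nat_lit 4, nat_lit 5, nat_lit 6, nat_lit 7, nat_lit 8, nat_lit 9, nat_lit 10, nat_lit 11, nat_lit 13, nat_lit 14, nat_lit 15, nat_lit 16, nat_lit 17, nat_lit 18, nat_lit 20, nat_lit 21, nat_lit 22, nat_lit 23, nat_lit 24, nat_lit 25, nat_lit 26, nat_lit 28, nat_lit 29, nat_lit 30, nat_lit 31, nat_lit 32, nat_lit 34, nat_lit 35, nat_lit 36, nat_lit 38, nat_lit 39, nat_lit 40, nat_lit 41, nat_lit 46, nat_lit 48, nat_lit 49, nat_lit 52, nat_lit 56, nat_lit 57, nat_lit 58, nat_lit 59, nat_lit 61, nat_lit 62, nat_lit 63, nat_lit 64, nat_lit 67, nat_lit 69, nat_lit 70, nat_lit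 73, nat_lit 75, nat_lit 76, nat_lit 81, nat_lit 85, nat_lit 87, nat_lit 88, nat_lit 91, nat_lit 92, nat_lit 93, nat_lit 94, nat_lit 95, nat_lit 99, nat_lit 103, nat_lit 110, nat_lit 111, nat_lit 120, nat_lit 129, nat_lit 130, nat_lit 132, nat_lit 133, nat_lit 139, nat_lit 141, nat_lit 151, nat_lit 154, nat_lit 158, nat_lit 173, nat_lit 174, nat_lit 190, nat_lit 220, nat_lit 240, nat_lit 248, nat_lit 274, nat_lit 276, nat_lit 292, nat_lit 458, nat_lit 488, nat_lit 536, nat_lit 766, nat_lit 1258] [nat_lit 2, nat_lit 4, nat_lit 4, nat_lit 1, nat_lit 2, nat_lit 0, nat_lit 5, nat_lit 1, nat_lit 2, nat_lit 1, nat_lit 5, nat_lit 5, nat_lit 1, nat_lit 4, nat_lit 1, nat_lit 4, nat_lit 1, nat_lit 3, nat_lit 1, nat_lit 0, nat_lit 1, nat_lit 1, nat_lit 2, nat_lit 4, nat_lit 4, nat_lit 1, nat_lit 4, nat_lit 4, nat_lit 4, nat_lit 5, nat_lit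 5, nat_lit 5, nat_lit 0, nat_lit 4, nat_lit 4, nat_lit 1, nat_lit 3, nat_lit 4, nat_lit 4, nat_lit 5, nat_lit 2, nat_lit 3, nat_lit 1, nat_lit 1, nat_lit 5, nat_lit 5, nat_lit 0, nat_lit 0, nat_lit 1, nat_lit 5, nat_lit 2, nat_lit 4, nat_lit 5, nat_lit 2, nat_lit 4, nat_lit 1, nat_lit 3, nat_lit 2, nat_lit 0, nat_lit 0, nat_lit 2, nat_lit 2, nat_lit 4, nat_lit 4, nat_lit 3, nat_lit 4, nat_lit 3, nat_lit 3, nat_lit 3, nat_lit 0, nat_lit 4, nat_lit 3, nat_lit 4, nat_lit 5, nat_lit 3, nat_lit 5, nat_lit 5, nat_lit 0, nat_lit 1, nat_lit 3, nat_lit 4, nat_lit 2, nat_lit 0, nat_lit 1, nat_lit 3, nat_lit 3, nat_lit 4, nat_lit 3, nat_lit 5, nat_lit 5, nat_lit 4, nat_lit 1]) i = 0 :=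
  (rng_step (all0 _) dM2_0)
theorem dR2 : ∀ i < 92, (chkR c45.mul dD be0 dw2 (nat_lit 2) (nat_lit 5)) i = 0 :=
  (rng_step (all0 _) dR2_0)
theorem dst2 (h0 : ∀ s < 2, (c45md φ inj).In ⊤ (bg0 s)) (h1 : (c45md φ inj).In ⊤ (dD 1)) : ∀ h ∈ ((c45md φ inj).gn bg0 2), ∃ j < 5, DCos ((c45md φ inj).gn bg0 2) ((c45md φ inj).elt (dD j)) ((c45md φ inj).elt (dD (nat_lit 2)) * h * (c45md φ inj).elt (dD 1)) :=
  dc_roots (pv := (fun x => ln φ (c45b.vec (ZMod 7) 45 x))) (dtop h0 h1) (bel0 h0) ((aex0 h0).1) (((aex0 h0).2.1).le.trans (dKL h0 h1)) (dLL2 h0 h1)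
    (reach_of_chk (pv := (fun x => ln φ (c45b.vec (ZMod 7) 45 x))) ((Cfg.Ok.actsL c45b_ok (m := (c45md φ inj)) rfl rfl rfl l2g0).ex (el_gn fun s hs => (l2in h0 s hs).top)) dO2) (Cfg.Ok.actsL c45b_ok (m := (c45md φ inj)) rfl rfl rfl dm2) rfl dM2 dR2
theorem dL3 : ∀ i < 3, (chkL c45.mul (dD (nat_lit 3)) l3g0 be0 [nat_lit 1550416, nat_lit 9787209, nat_lit 11898119]) i = 0 :=
  (rng_step (all0 _) dL3_0)
theorem dLL3 (h0 : ∀ s < 2, (c45md φ inj).In ⊤ (bg0 s)) (h1 : (c45md φ inj).In ⊤ (dD 1)) : ((c45md φ inj).gn l3g0 3) ≤ Lc ((c45md φ inj).gn bg0 2) ((c45md φ inj).elt (dD (nat_lit 3))) :=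
  gn_le (in_of_chkL (bel0 h0) (dtop h0 h1 _) (l3in h0) dL3)
theorem dO3 : ∀ i < 5586, (chkO (c45b.imgL l3g0) c45b.row ay0 dO3a (nat_lit 5586) [nat_lit 0, nat_lit 1, nat_lit 3, nat_lit 4, nat_lit 5, nat_lit 6, nat_lit 7, nat_lit 8, nat_lit 9, nat_lit 10, nat_lit 11, nat_lit 12, nat_lit 13, nat_lit 14, nat_lit 15, nat_lit 18, nat_lit 19, nat_lit 21, nat_lit 23, nat_lit 24, nat_lit 25, nat_lit 26, nat_lit 27, nat_lit 29, nat_lit 30, nat_lit 32, nat_lit 35, nat_lit 36, nat_lit 37, nat_lit 38, nat_lit 40, nat_lit 41, nat_lit 44, nat_lit 45, nat_lit 46, nat_lit 47, nat_lit 48, nat_lit 49, nat_lit 50, nat_lit 51, nat_lit 52, nat_lit 57, nat_lit 59, nat_lit 60, nat_lit 61, nat_lit 62, nat_lit 64, nat_lit 65, nat_lit 66, nat_lit 67, nat_lit 69, nat_lit 70, nat_lit 71, nat_lit 72, nat_lit 74, nat_lit 75, nat_lit 76, nat_lit 77, nat_lit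 82, nat_lit 89, nat_lit 90, nat_lit 91, nat_lit 93, nat_lit 94, nat_lit 96, nat_lit 98, nat_lit 99, nat_lit 100, nat_lit 101, nat_lit 109, nat_lit 118, nat_lit 119, nat_lit 120, nat_lit 121, nat_lit 124, nat_lit 131, nat_lit 134, nat_lit 136, nat_lit 140, nat_lit 141, nat_lit 144, nat_lit 150, nat_lit 151, nat_lit 160, nat_lit 163, nat_lit 165, nat_lit 172, nat_lit 174, nat_lit 183, nat_lit 218, nat_lit 231, nat_lit 232, nat_lit 234, nat_lit 235, nat_lit 242, nat_lit 254, nat_lit 263, nat_lit 287, nat_lit 291, nat_lit 293, nat_lit 298, nat_lit 321, nat_lit 339, nat_lit 349, nat_lit 358, nat_lit 367, nat_lit 381, nat_lit 415, nat_lit 428, nat_lit 453, nat_lit 690, nat_lit 706, nat_lit 810, nat_lit 970, nat_lit 1045, nat_lit 1172, nat_lit 1372]) i = 0 :=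
  allB (rngB_step (rngB_step (rngB_step (rngB_step (rngB_step (rngB_step (allB0 _ _) dO3_0) dO3_1) dO3_2) dO3_3) dO3_4) dO3_5) (by decide)
theorem dM3 : ∀ i < 117, (chkM (c45b.imgL dm3) c45b.row ay0 (nat_lit 5197) ay0 [nat_lit 0, nat_lit 1, nat_lit 3, nat_lit 4, nat_lit 5, nat_lit 6, nat_lit 7, nat_lit 8, nat_lit 9, nat_lit 10, nat_lit 11, nat_lit 12, nat_lit 13, nat_lit 14, nat_lit 15, nat_lit 18, nat_lit 19, nat_lit 21, nat_lit 23, nat_lit 24, nat_lit 25, nat_lit 26, nat_lit 27, nat_lit 29, nat_lit 30, nat_lit 32, nat_lit 35, nat_lit 36, nat_lit 37, nat_lit 38, nat_lit 40, nat_lit 41, nat_lit 44, nat_lit 45, nat_lit 46, nat_lit 47, nat_lit 48, nat_lit 49, nat_lit 50, nat_lit 51, nat_lit 52, nat_lit 57, nat_lit 59, nat_lit 60, nat_lit 61, nat_lit 62, nat_lit 64, nat_lit 65, nat_lit 66, nat_lit 67, nat_lit 69, nat_lit 70,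 nat_lit 71, nat_lit 72, nat_lit 74, nat_lit 75, nat_lit 76, nat_lit 77, nat_lit 82, nat_lit 89, nat_lit 90, nat_lit 91, nat_lit 93, nat_lit 94, nat_lit 96, nat_lit 98, nat_lit 99, nat_lit 100, nat_lit 101, nat_lit 109, nat_lit 118, nat_lit 119, nat_lit 120, nat_lit 121, nat_lit 124, nat_lit 131, nat_lit 134, nat_lit 136, nat_lit 140, nat_lit 141, nat_lit 144, nat_lit 150, nat_lit 151, nat_lit 160, nat_lit 163, nat_lit 165, nat_lit 172, nat_lit 174, nat_lit 183, nat_lit 218, nat_lit 231, nat_lit 232, nat_lit 234, nat_lit 235, nat_lit 242, nat_lit 254, nat_lit 263, nat_lit 287, nat_lit 291, nat_lit 293, nat_lit 298, nat_lit 321, nat_lit 339, nat_lit 349, nat_lit 358, nat_lit 367, nat_lit 381, nat_lit 415, nat_lit 428, nat_lit 453, nat_lit 690, nat_lit 706, nat_lit 810, nat_lit 970, nat_lit 1045, nat_lit 1172, nat_lit 1372]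 [nat_lit 2, nat_lit 4, nat_lit 1, nat_lit 2, nat_lit 0, nat_lit 5, nat_lit 1, nat_lit 2, nat_lit 1, nat_lit 5, nat_lit 5, nat_lit 5, nat_lit 1, nat_lit 4, nat_lit 1, nat_lit 3, nat_lit 3, nat_lit 0, nat_lit 1, nat_lit 2, nat_lit 4, nat_lit 4, nat_lit 3, nat_lit 4, nat_lit 4, nat_lit 5, nat_lit 5, nat_lit 0, nat_lit 3, nat_lit 4, nat_lit 1, nat_lit 3, nat_lit 0, nat_lit 1, nat_lit 4, nat_lit 1, nat_lit 4, nat_lit 5, nat_lit 3, nat_lit 1, nat_lit 2, nat_lit 1, nat_lit 5, nat_lit 1, nat_lit 5, nat_lit 0, nat_lit 1, nat_lit 4, nat_lit 1, nat_lit 5, nat_lit 2, nat_lit 4, nat_lit 5, nat_lit 5, nat_lit 5, nat_lit 2, nat_lit 4, nat_lit 0, nat_lit 4, nat_lit 5, nat_lit 4, nat_lit 0, nat_lit 2, nat_lit 4, nat_lit 2, nat_lit 5, nat_lit 3, nat_lit 0, nat_lit 1, nat_lit 1, nat_lit 5, nat_lit 1, nat_lit 3, nat_lit 3, nat_lit 1, nat_lit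 2, nat_lit 4, nat_lit 0, nat_lit 5, nat_lit 3, nat_lit 1, nat_lit 5, nat_lit 5, nat_lit 5, nat_lit 3, nat_lit 5, nat_lit 3, nat_lit 3, nat_lit 2, nat_lit 4, nat_lit 0, nat_lit 5, nat_lit 1, nat_lit 5, nat_lit 0, nat_lit 5, nat_lit 5, nat_lit 5, nat_lit 2, nat_lit 4, nat_lit 2, nat_lit 3, nat_lit 4, nat_lit 1, nat_lit 1, nat_lit 5, nat_lit 2, nat_lit 4, nat_lit 3, nat_lit 3, nat_lit 5, nat_lit 3, nat_lit 3, nat_lit 4, nat_lit 5, nat_lit 2, nat_lit 2]) i = 0 :=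
  (rng_step (all0 _) dM3_0)
theorem dR3 : ∀ i < 117, (chkR c45.mul dD be0 dw3 (nat_lit 3) (nat_lit 5)) i = 0 :=
  (rng_step (rng_step (all0 _) dR3_0) dR3_1)
theorem dst3 (h0 : ∀ s < 2, (c45md φ inj).In ⊤ (bg0 s)) (h1 : (c45md φ inj).In ⊤ (dD 1)) : ∀ h ∈ ((c45md φ inj).gn bg0 2), ∃ j < 5, DCos ((c45md φ inj).gn bg0 2) ((c45md φ inj).elt (dD j)) ((c45md φ inj).elt (dD (nat_lit 3)) * h * (c45md φ inj).elt (dD 1)) :=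
  dc_roots (pv := (fun x => ln φ (c45b.vec (ZMod 7) 45 x))) (dtop h0 h1) (bel0 h0) ((aex0 h0).1) (((aex0 h0).2.1).le.trans (dKL h0 h1)) (dLL3 h0 h1)
    (reach_of_chk (pv := (fun x => ln φ (c45b.vec (ZMod 7) 45 x))) ((Cfg.Ok.actsL c45b_ok (m := (c45md φ inj)) rfl rfl rfl l3g0).ex (el_gn fun s hs => (l3in h0 s hs).top)) dO3) (Cfg.Ok.actsL c45b_ok (m := (c45md φ inj)) rfl rfl rfl dm3) rfl dM3 dR3
theorem dL4 : ∀ i < 2, (chkL c45.mul (dD (nat_lit 4)) l4g0 be0 [nat_lit 10228044, nat_lit 4542514]) i = 0 :=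
  (rng_step (all0 _) dL4_0)
theorem dLL4 (h0 : ∀ s < 2, (c45md φ inj).In ⊤ (bg0 s)) (h1 : (c45md φ inj).In ⊤ (dD 1)) : ((c45md φ inj).gn l4g0 2) ≤ Lc ((c45md φ inj).gn bg0 2) ((c45md φ inj).elt (dD (nat_lit 4))) :=
  gn_le (in_of_chkL (bel0 h0) (dtop h0 h1 _) (l4in h0) dL4)
theorem dO4 : ∀ i < 5586, (chkO (c45b.imgL l4g0) c45b.row ay0 dO4a (nat_lit 5586) [nat_lit 0, nat_lit 1, nat_lit 2, nat_lit 4, nat_lit 5, nat_lit 6, nat_lit 9, nat_lit 12, nat_lit 17, nat_lit 25, nat_lit 35, nat_lit 38, nat_lit 39, nat_lit 40, nat_lit 42, nat_lit 170, nat_lit 189, nat_lit 288]) i = 0 :=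
  allB (rngB_step (rngB_step (rngB_step (rngB_step (rngB_step (rngB_step (allB0 _ _) dO4_0) dO4_1) dO4_2) dO4_3) dO4_4) dO4_5) (by decide)
theorem dM4 : ∀ i < 18, (chkM (c45b.imgL dm4) c45b.row ay0 (nat_lit 5197) ay0 [nat_lit 0, nat_lit 1, nat_lit 2, nat_lit 4, nat_lit 5, nat_lit 6, nat_lit 9, nat_lit 12, nat_lit 17, nat_lit 25, nat_lit 35, nat_lit 38, nat_lit 39, nat_lit 40, nat_lit 42, nat_lit 170, nat_lit 189, nat_lit 288] [nat_lit 2, nat_lit 4, nat_lit 4, nat_lit 2, nat_lit 0, nat_lit 5, nat_lit 1, nat_lit 5, nat_lit 1, nat_lit 4, nat_lit 5, nat_lit 4, nat_lit 4, nat_lit 1, nat_lit 4, nat_lit 4, nat_lit 0, nat_lit 5]) i = 0 :=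
  (rng_step (all0 _) dM4_0)
theorem dR4 : ∀ i < 18, (chkR c45.mul dD be0 dw4 (nat_lit 4) (nat_lit 5)) i = 0 :=
  (rng_step (all0 _) dR4_0)
theorem dst4 (h0 : ∀ s < 2, (c45md φ inj).In ⊤ (bg0 s)) (h1 : (c45md φ inj).In ⊤ (dD 1)) : ∀ h ∈ ((c45md φ inj).gn bg0 2), ∃ j < 5, DCos ((c45md φ inj).gn bg0 2) ((c45md φ inj).elt (dD j)) ((c45md φ inj).elt (dD (nat_lit 4)) * h * (c45md φ inj).elt (dD 1)) :=
  dc_roots (pv := (fun x => ln φ (c45b.vec (ZMod 7) 45 x))) (dtop h0 h1) (bel0 h0) ((aex0 h0).1) (((aex0 h0).2.1).le.trans (dKL h0 h1)) (dLL4 h0 h1)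
    (reach_of_chk (pv := (fun x => ln φ (c45b.vec (ZMod 7) 45 x))) ((Cfg.Ok.actsL c45b_ok (m := (c45md φ inj)) rfl rfl rfl l4g0).ex (el_gn fun s hs => (l4in h0 s hs).top)) dO4) (Cfg.Ok.actsL c45b_ok (m := (c45md φ inj)) rfl rfl rfl dm4) rfl dM4 dR4
theorem dcov (h0 : ∀ s < 2, (c45md φ inj).In ⊤ (bg0 s)) (h1 : (c45md φ inj).In ⊤ (dD 1)) : ∀ x ∈ ((c45md φ inj).gn dg 3), ∃ i < 5, DCos ((c45md φ inj).gn bg0 2) ((c45md φ inj).elt (dD i)) x :=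
  dc_all (by decide) dD0 h1 fun i hi => by
    interval_cases i; exacts [dst0 h0 h1, dst1 h0 h1, dst2 h0 h1, dst3 h0 h1, dst4 h0 h1]
theorem dB (h0 : ∀ s < 2, (c45md φ inj).In ⊤ (bg0 s)) (h1 : (c45md φ inj).In ⊤ (dD 1)) : ∀ i < 5, getN [nat_lit 11261376, nat_lit 2016, nat_lit 216, nat_lit 192, nat_lit 1764] i ≤ Nat.card (Lc ((c45md φ inj).gn bg0 2) ((c45md φ inj).elt (dD i))) := fun i hi => by
  interval_cases i
  exacts [(alb0 h0).trans (Subgroup.card_le_of_le (dLL0 h0 h1)),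
    (alb1 h0).trans (Subgroup.card_le_of_le (dLL1 h0 h1)),
    (l2lb0 fun s hs => (l2in h0 s hs).top).trans (Subgroup.card_le_of_le (dLL2 h0 h1)),
    (l3lb0 fun s hs => (l3in h0 s hs).top).trans (Subgroup.card_le_of_le (dLL3 h0 h1)),
    (l4lb0 fun s hs => (l4in h0 s hs).top).trans (Subgroup.card_le_of_le (dLL4 h0 h1))]
theorem dBC : (∀ i < 5, 11261376 = getN [nat_lit 11261376, nat_lit 2016, nat_lit 216, nat_lit 192, nat_lit 1764] i * getN [nat_lit 1, nat_lit 5586, nat_lit 52136, nat_lit 58653, nat_lit 6384] i) ∧ 11261376 * ∑ i ∈ Finset.range 5, getN [nat_lit 1, nat_lit 5586, nat_lit 52136, nat_lit 58653, nat_lit 6384] i = 1382446517760 := by decide +kernel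
theorem dub (h0 : ∀ s < 2, (c45md φ inj).In ⊤ (bg0 s)) (h1 : (c45md φ inj).In ⊤ (dD 1)) : Nat.card ((c45md φ inj).gn dg 3) ≤ 1382446517760 :=
  (dc_card_le (dcov h0 h1) (bub0 h0) _ _ (dB h0 h1) dBC.1).trans dBC.2.le
theorem dex (h0 : ∀ s < 2, (c45md φ inj).In ⊤ (bg0 s)) (h1 : (c45md φ inj).In ⊤ (dD 1)) (hA : Nat.card ((c45md φ inj).gn bg0 2) = 11261376) (hG : 1382446517760 ≤ Nat.card ((c45md φ inj).gn dg 3)) : ∀ i < 5, Nat.card (Lc ((c45md φ inj).gn bg0 2) ((c45md φ inj).elt (dD i))) = getN [nat_lit 11261376, nat_lit 2016, nat_lit 216, nat_lit 192, nat_lit 1764] i :=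
  dc_exact (dcov h0 h1) hA _ _ (dB h0 h1) dBC.1 (dBC.2.le.trans hG)
theorem dx2 (h0 : ∀ s < 2, (c45md φ inj).In ⊤ (bg0 s)) (h1 : (c45md φ inj).In ⊤ (dD 1)) (M : Subgroup G) (h : ((c45md φ inj).gn bg0 2) ≤ M) (hi : (c45md φ inj).elt (dD (nat_lit 2)) ∈ M) : (c45md φ inj).elt (dD 1) ∈ M :=
  (mem_of_chkD (dtop h0 h1) (bel0 h0) dX2 h hi hi)
theorem dx3 (h0 : ∀ s < 2, (c45md φ inj).In ⊤ (bg0 s)) (h1 : (c45md φ inj).In ⊤ (dD 1)) (M : Subgroup G) (h : ((c45md φ inj).gn bg0 2) ≤ M) (hi : (c45md φ inj).elt (dD (nat_lit 3)) ∈ M) : (c45md φ inj).elt (dD 1) ∈ M :=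
  dx2 h0 h1 M h (mem_of_chkD (dtop h0 h1) (bel0 h0) dX3 h hi hi)
theorem dx4 (h0 : ∀ s < 2, (c45md φ inj).In ⊤ (bg0 s)) (h1 : (c45md φ inj).In ⊤ (dD 1)) (M : Subgroup G) (h : ((c45md φ inj).gn bg0 2) ≤ M) (hi : (c45md φ inj).elt (dD (nat_lit 4)) ∈ M) : (c45md φ inj).elt (dD 1) ∈ M :=
  dx3 h0 h1 M h (mem_of_chkD (dtop h0 h1) (bel0 h0) dX4 h hi hi)
theorem dmax (h0 : ∀ s < 2, (c45md φ inj).In ⊤ (bg0 s)) (h1 : (c45md φ inj).In ⊤ (dD 1)) : ∀ M : Subgroup G, ((c45md φ inj).gn bg0 2) ≤ M → M ≤ ((c45md φ inj).gn dg 3) → M = ((c45md φ inj).gn bg0 2) ∨ M = ((c45md φ inj).gn dg 3) :=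
  dc_max (d := fun i => (c45md φ inj).elt (dD i)) ((congrArg _ dD0).trans elt_one) (gn_cons_le h1) (dcov h0 h1) fun i hi h0' => by
    interval_cases i; exacts [fun _ _ h => h, dx2 h0 h1, dx3 h0 h1, dx4 h0 h1]
theorem dI : ∀ i < 3, (chkI c45.mul c45.one dg dgi) i = 0 :=
  (rng_step (all0 _) dI_0)
theorem dP : ∀ i < 3, (chkP c45.mul c45.one dg de [[nat_lit 2984358392259178, nat_lit 835983071516835],
  [nat_lit 179158680939492, nat_lit 5772945353570252],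
  [nat_lit 4533530793341098, nat_lit 644655164540282]] (nat_lit 5)) i = 0 :=
  (rng_step (all0 _) dP_0)
theorem dZ0 : ∀ i < 3, (chkZ c45.mul (ag2 (nat_lit 0)) dg) i = 0 :=
  (rng_step (all0 _) dZ0_0)
theorem dZ1 : ∀ i < 3, (chkZ c45.mul (ag2 (nat_lit 1)) dg) i = 0 :=
  (rng_step (all0 _) dZ1_0)
theorem s2top0 (h0 : ∀ s < 3, (c45md φ inj).In ⊤ (s2g0 s)) : ∀ s < 3, (c45md φ inj).In ⊤ (s2g0 s) := h0
theorem s2eg0 (h0 : ∀ s < 3, (c45md φ inj).In ⊤ (s2g0 s)) : (c45md φ inj).El ((c45md φ inj).gn s2g0 3) s2g0 := el_gn (s2top0 h0)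
theorem s2le0 (h0 : ∀ s < 3, (c45md φ inj).In ⊤ (s2g0 s)) : (⊥ : Subgroup G) ≤ ((c45md φ inj).gn s2g0 3) := bot_le
theorem s2lb1 (h0 : ∀ s < 3, (c45md φ inj).In ⊤ (s2g0 s)) : 1 ≤ Nat.card (⊥ : Subgroup G) := one_le_card _
theorem s2y0Y : ∀ i < 512, (chkY c45b.canV c45b.row s2y0 (nat_lit 512)) i = 0 :=
  allB (rngB_step (allB0 _ _) s2y0Y_0) (by decide)
theorem s2y0D : Dist (fun i => (fun x => (⟨c45b.vec (ZMod 7) 45 x⟩ : Vc φ)) (pt c45b.row s2y0 i)) 512 :=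
  dist_of_chk (@Cfg.Ok.canT G _ _ _ _ c45b (ZMod.charP 7) c45b_ok rfl rfl φ) s2y0Y
theorem s2O0 : ∀ i < 512, (chkO (c45b.imgV s2g0) c45b.row s2y0 s2O0a (nat_lit 512) [nat_lit 490]) i = 0 :=
  allB (rngB_step (allB0 _ _) s2O0_0) (by decide)
theorem s2R0 (h0 : ∀ s < 3, (c45md φ inj).In ⊤ (s2g0 s)) : Reach ((c45md φ inj).gn s2g0 3) (fun i => (fun x => (⟨c45b.vec (ZMod 7) 45 x⟩ : Vc φ)) (pt c45b.row s2y0 i)) 512 [nat_lit 490] :=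
  reach_of_chk (pv := (fun x => (⟨c45b.vec (ZMod 7) 45 x⟩ : Vc φ))) ((@Cfg.Ok.acts G _ _ _ _ c45b (ZMod.charP 7) c45b_ok rfl rfl (c45md φ inj) rfl s2g0).ex (s2eg0 h0)) s2O0
theorem s2fx0 : (⊥ : Subgroup G) ≤ MulAction.stabilizer G ((fun i => (fun x => (⟨c45b.vec (ZMod 7) 45 x⟩ : Vc φ)) (pt c45b.row s2y0 i)) (nat_lit 490)) := bot_le
theorem s2lb0 (h0 : ∀ s < 3, (c45md φ inj).In ⊤ (s2g0 s)) : 512 ≤ Nat.card ((c45md φ inj).gn s2g0 3) :=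
  le_of_eq_of_le (by norm_num) (lower s2y0D (s2R0 h0) (s2le0 h0) s2fx0 (s2lb1 h0))
theorem s2C0_0 : ∀ i < 512, (chkC (c45b.imgV s2g0) c45b.row s2y0 s2C0_0a (nat_lit 512) (nat_lit 0)) i = 0 :=
  allB (rngB_step (allB0 _ _) s2C0_0_0) (by decide)
theorem s2C0_1 : ∀ i < 512, (chkC (c45b.imgV s2g0) c45b.row s2y0 s2C0_1a (nat_lit 512) (nat_lit 1)) i = 0 :=
  allB (rngB_step (allB0 _ _) s2C0_1_0) (by decide)
theorem s2C0_2 : ∀ i < 512, (chkC (c45b.imgV s2g0) c45b.row s2y0 s2C0_2a (nat_lit 512) (nat_lit 2)) i = 0 :=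
  allB (rngB_step (allB0 _ _) s2C0_2_0) (by decide)
theorem s2dv0 (h0 : ∀ s < 3, (c45md φ inj).In ⊤ (s2g0 s)) : 512 ∣ Nat.card ((c45md φ inj).gn s2g0 3) :=
  dvd_step (n := 512) (B := 1) (dvd_gn (@Cfg.Ok.acts G _ _ _ _ c45b (ZMod.charP 7) c45b_ok rfl rfl (c45md φ inj) rfl s2g0) s2y0D (by decide) (s2R0 h0) fun s hs => by
    interval_cases s; exacts [⟨_, s2C0_0⟩, ⟨_, s2C0_1⟩, ⟨_, s2C0_2⟩]) (s2le0 h0) s2fx0 (one_dvd _)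
theorem s2E : ∀ i < 3, (chkE s2g0 de [nat_lit 4848476947254507, nat_lit 1116998392108523, nat_lit 307130857205275]) i = 0 :=
  (rng_step (all0 _) s2E_0)
theorem s3top0 (h0 : ∀ s < 4, (c45md φ inj).In ⊤ (s3g0 s)) : ∀ s < 4, (c45md φ inj).In ⊤ (s3g0 s) := h0
theorem s3eg0 (h0 : ∀ s < 4, (c45md φ inj).In ⊤ (s3g0 s)) : (c45md φ inj).El ((c45md φ inj).gn s3g0 4) s3g0 := el_gn (s3top0 h0)
theorem s3le0 (h0 : ∀ s < 4, (c45md φ inj).In ⊤ (s3g0 s)) : (⊥ : Subgroup G) ≤ ((c45md φ inj).gn s3g0 4) := bot_le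
theorem s3lb1 (h0 : ∀ s < 4, (c45md φ inj).In ⊤ (s3g0 s)) : 1 ≤ Nat.card (⊥ : Subgroup G) := one_le_card _
theorem s3y0Y : ∀ i < 243, (chkY c45b.canV c45b.row s3y0 (nat_lit 243)) i = 0 :=
  allB (rngB_step (allB0 _ _) s3y0Y_0) (by decide)
theorem s3y0D : Dist (fun i => (fun x => (⟨c45b.vec (ZMod 7) 45 x⟩ : Vc φ)) (pt c45b.row s3y0 i)) 243 :=
  dist_of_chk (@Cfg.Ok.canT G _ _ _ _ c45b (ZMod.charP 7) c45b_ok rfl rfl φ) s3y0Y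
theorem s3O0 : ∀ i < 243, (chkO (c45b.imgV s3g0) c45b.row s3y0 s3O0a (nat_lit 243) [nat_lit 233]) i = 0 :=
  allB (rngB_step (allB0 _ _) s3O0_0) (by decide)
theorem s3R0 (h0 : ∀ s < 4, (c45md φ inj).In ⊤ (s3g0 s)) : Reach ((c45md φ inj).gn s3g0 4) (fun i => (fun x => (⟨c45b.vec (ZMod 7) 45 x⟩ : Vc φ)) (pt c45b.row s3y0 i)) 243 [nat_lit 233] :=
  reach_of_chk (pv := (fun x => (⟨c45b.vec (ZMod 7) 45 x⟩ : Vc φ))) ((@Cfg.Ok.acts G _ _ _ _ c45b (ZMod.charP 7) c45b_ok rfl rfl (c45md φ inj) rfl s3g0).ex (s3eg0 h0)) s3O0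
theorem s3fx0 : (⊥ : Subgroup G) ≤ MulAction.stabilizer G ((fun i => (fun x => (⟨c45b.vec (ZMod 7) 45 x⟩ : Vc φ)) (pt c45b.row s3y0 i)) (nat_lit 233)) := bot_le
theorem s3lb0 (h0 : ∀ s < 4, (c45md φ inj).In ⊤ (s3g0 s)) : 243 ≤ Nat.card ((c45md φ inj).gn s3g0 4) :=
  le_of_eq_of_le (by norm_num) (lower s3y0D (s3R0 h0) (s3le0 h0) s3fx0 (s3lb1 h0))
theorem s3C0_0 : ∀ i < 243, (chkC (c45b.imgV s3g0) c45b.row s3y0 s3C0_0a (nat_lit 243) (nat_lit 0)) i = 0 :=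
  allB (rngB_step (allB0 _ _) s3C0_0_0) (by decide)
theorem s3C0_1 : ∀ i < 243, (chkC (c45b.imgV s3g0) c45b.row s3y0 s3C0_1a (nat_lit 243) (nat_lit 1)) i = 0 :=
  allB (rngB_step (allB0 _ _) s3C0_1_0) (by decide)
theorem s3C0_2 : ∀ i < 243, (chkC (c45b.imgV s3g0) c45b.row s3y0 s3C0_2a (nat_lit 243) (nat_lit 2)) i = 0 :=
  allB (rngB_step (allB0 _ _) s3C0_2_0) (by decide)
theorem s3C0_3 : ∀ i < 243, (chkC (c45b.imgV s3g0) c45b.row s3y0 s3C0_3a (nat_lit 243) (nat_lit 3)) i = 0 :=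
  allB (rngB_step (allB0 _ _) s3C0_3_0) (by decide)
theorem s3dv0 (h0 : ∀ s < 4, (c45md φ inj).In ⊤ (s3g0 s)) : 243 ∣ Nat.card ((c45md φ inj).gn s3g0 4) :=
  dvd_step (n := 243) (B := 1) (dvd_gn (@Cfg.Ok.acts G _ _ _ _ c45b (ZMod.charP 7) c45b_ok rfl rfl (c45md φ inj) rfl s3g0) s3y0D (by decide) (s3R0 h0) fun s hs => by
    interval_cases s; exacts [⟨_, s3C0_0⟩, ⟨_, s3C0_1⟩, ⟨_, s3C0_2⟩, ⟨_, s3C0_3⟩]) (s3le0 h0) s3fx0 (one_dvd _)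
theorem s3E : ∀ i < 4, (chkE s3g0 de [nat_lit 803693960767466, nat_lit 2557939529951210, nat_lit 1189431484676578, nat_lit 5022445706451329]) i = 0 :=
  (rng_step (all0 _) s3E_0)
theorem e31top0 (h0 : ∀ s < 1, (c45md φ inj).In ⊤ (e31g0 s)) : ∀ s < 1, (c45md φ inj).In ⊤ (e31g0 s) := h0
theorem e31eg0 (h0 : ∀ s < 1, (c45md φ inj).In ⊤ (e31g0 s)) : (c45md φ inj).El ((c45md φ inj).gn e31g0 1) e31g0 := el_gn (e31top0 h0)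
theorem e31le0 (h0 : ∀ s < 1, (c45md φ inj).In ⊤ (e31g0 s)) : (⊥ : Subgroup G) ≤ ((c45md φ inj).gn e31g0 1) := bot_le
theorem e31lb1 (h0 : ∀ s < 1, (c45md φ inj).In ⊤ (e31g0 s)) : 1 ≤ Nat.card (⊥ : Subgroup G) := one_le_card _
theorem e31y0Y : ∀ i < 31, (chkY c45b.canV c45b.row e31y0 (nat_lit 31)) i = 0 :=
  allB (rngB_step (allB0 _ _) e31y0Y_0) (by decide)
theorem e31y0D : Dist (fun i => (fun x => (⟨c45b.vec (ZMod 7) 45 x⟩ : Vc φ)) (pt c45b.row e31y0 i)) 31 :=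
  dist_of_chk (@Cfg.Ok.canT G _ _ _ _ c45b (ZMod.charP 7) c45b_ok rfl rfl φ) e31y0Y
theorem e31O0 : ∀ i < 31, (chkO (c45b.imgV e31g0) c45b.row e31y0 e31O0a (nat_lit 31) [nat_lit 29]) i = 0 :=
  allB (rngB_step (allB0 _ _) e31O0_0) (by decide)
theorem e31R0 (h0 : ∀ s < 1, (c45md φ inj).In ⊤ (e31g0 s)) : Reach ((c45md φ inj).gn e31g0 1) (fun i => (fun x => (⟨c45b.vec (ZMod 7) 45 x⟩ : Vc φ)) (pt c45b.row e31y0 i)) 31 [nat_lit 29] :=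
  reach_of_chk (pv := (fun x => (⟨c45b.vec (ZMod 7) 45 x⟩ : Vc φ))) ((@Cfg.Ok.acts G _ _ _ _ c45b (ZMod.charP 7) c45b_ok rfl rfl (c45md φ inj) rfl e31g0).ex (e31eg0 h0)) e31O0
theorem e31fx0 : (⊥ : Subgroup G) ≤ MulAction.stabilizer G ((fun i => (fun x => (⟨c45b.vec (ZMod 7) 45 x⟩ : Vc φ)) (pt c45b.row e31y0 i)) (nat_lit 29)) := bot_le
theorem e31lb0 (h0 : ∀ s < 1, (c45md φ inj).In ⊤ (e31g0 s)) : 31 ≤ Nat.card ((c45md φ inj).gn e31g0 1) :=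
  le_of_eq_of_le (by norm_num) (lower e31y0D (e31R0 h0) (e31le0 h0) e31fx0 (e31lb1 h0))
theorem e31C0_0 : ∀ i < 31, (chkC (c45b.imgV e31g0) c45b.row e31y0 e31C0_0a (nat_lit 31) (nat_lit 0)) i = 0 :=
  allB (rngB_step (allB0 _ _) e31C0_0_0) (by decide)
theorem e31dv0 (h0 : ∀ s < 1, (c45md φ inj).In ⊤ (e31g0 s)) : 31 ∣ Nat.card ((c45md φ inj).gn e31g0 1) :=
  dvd_step (n := 31) (B := 1) (dvd_gn (@Cfg.Ok.acts G _ _ _ _ c45b (ZMod.charP 7) c45b_ok rfl rfl (c45md φ inj) rfl e31g0) e31y0D (by decide) (e31R0 h0) fun s hs => by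
    interval_cases s; exacts [⟨_, e31C0_0⟩]) (e31le0 h0) e31fx0 (one_dvd _)
theorem e31E : ∀ i < 1, (chkE e31g0 de [nat_lit 5326242802499626]) i = 0 :=
  (rng_step (all0 _) e31E_0)
theorem jtop0 (h0 : ∀ s < 2, (c45md φ inj).In ⊤ (jg0 s)) : ∀ s < 2, (c45md φ inj).In ⊤ (jg0 s) := h0
theorem jeg0 (h0 : ∀ s < 2, (c45md φ inj).In ⊤ (jg0 s)) : (c45md φ inj).El ((c45md φ inj).gn jg0 2) jg0 := el_gn (jtop0 h0)
theorem jW0 : ∀ i < 2, (chkW c45.mul c45.one jg0 [[nat_lit 1, nat_lit 0, nat_lit 0, nat_lit 0, nat_lit 0, nat_lit 1, nat_lit 0, nat_lit 1, nat_lit 0, nat_lit 1, nat_lit 0, nat_lit 1],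
  [nat_lit 0, nat_lit 1, nat_lit 0, nat_lit 0, nat_lit 0, nat_lit 1, nat_lit 1, nat_lit 0, nat_lit 0, nat_lit 0, nat_lit 1, nat_lit 0, nat_lit 0]] jg1) i = 0 :=
  (rng_step (all0 _) jW0_0)
theorem jin1 (h0 : ∀ s < 2, (c45md φ inj).In ⊤ (jg0 s)) : ∀ s < 2, (c45md φ inj).In ((c45md φ inj).gn jg0 2) (jg1 s) := in_of_chkW (jeg0 h0) jW0
theorem jtop1 (h0 : ∀ s < 2, (c45md φ inj).In ⊤ (jg0 s)) : ∀ s < 2, (c45md φ inj).In ⊤ (jg1 s) := fun s hs => (jin1 h0 s hs).top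
theorem jle0 (h0 : ∀ s < 2, (c45md φ inj).In ⊤ (jg0 s)) : ((c45md φ inj).gn jg1 2) ≤ ((c45md φ inj).gn jg0 2) := gn_le (jin1 h0)
theorem jeg1 (h0 : ∀ s < 2, (c45md φ inj).In ⊤ (jg0 s)) : (c45md φ inj).El ((c45md φ inj).gn jg1 2) jg1 := el_gn (jtop1 h0)
theorem jle1 (h0 : ∀ s < 2, (c45md φ inj).In ⊤ (jg0 s)) : (⊥ : Subgroup G) ≤ ((c45md φ inj).gn jg1 2) := bot_le
theorem jel2 (h0 : ∀ s < 2, (c45md φ inj).In ⊤ (jg0 s)) : (c45md φ inj).El ⊥ je2 := el_one _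
theorem jub2 (h0 : ∀ s < 2, (c45md φ inj).In ⊤ (jg0 s)) : Nat.card (⊥ : Subgroup G) ≤ 1 := card_bot_le
theorem jS1 : ∀ i < 114, (chkS c45.mul jg1 (nat_lit 2) jT1 je2 jc1 (nat_lit 7) (nat_lit 114)) i = 0 :=
  (rng_step (all0 _) jS1_0)
theorem jsch1 (h0 : ∀ s < 2, (c45md φ inj).In ⊤ (jg0 s)) : (∀ g ∈ ((c45md φ inj).gn jg1 2), ∃ i < 114, (c45md φ inj).Cos (⊥ : Subgroup G) jT1 g i) ∧ (∀ i < 114, (c45md φ inj).In ((c45md φ inj).gn jg1 2) (jT1 i)) ∧ Nat.card ((c45md φ inj).gn jg1 2) ≤ 114 * Nat.card (⊥ : Subgroup G) :=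
  schreier (jel2 h0) (by decide) jT0_1 (jtop1 h0) (jle1 h0) jS1
theorem jel1 (h0 : ∀ s < 2, (c45md φ inj).In ⊤ (jg0 s)) : (c45md φ inj).El ((c45md φ inj).gn jg1 2) je1 := (el_of_pad (jsch1 h0).2.1).cel0 _
theorem jub1 (h0 : ∀ s < 2, (c45md φ inj).In ⊤ (jg0 s)) : Nat.card ((c45md φ inj).gn jg1 2) ≤ 114 := (upper (jsch1 h0).2.2 (jub2 h0)).trans (by norm_num)
theorem jS0 : ∀ i < 1540, (chkS c45.mul jg0 (nat_lit 2) jT0 je1 jc0 (nat_lit 11) (nat_lit 1540)) i = 0 :=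
  (rng_step (rng_step (rng_step (rng_step (rng_step (rng_step (rng_step (rng_step (all0 _) jS0_0) jS0_1) jS0_2) jS0_3) jS0_4) jS0_5) jS0_6) jS0_7)
theorem jsch0 (h0 : ∀ s < 2, (c45md φ inj).In ⊤ (jg0 s)) : (∀ g ∈ ((c45md φ inj).gn jg0 2), ∃ i < 1540, (c45md φ inj).Cos ((c45md φ inj).gn jg1 2) jT0 g i) ∧ (∀ i < 1540, (c45md φ inj).In ((c45md φ inj).gn jg0 2) (jT0 i)) ∧ Nat.card ((c45md φ inj).gn jg0 2) ≤ 1540 * Nat.card ((c45md φ inj).gn jg1 2) :=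
  schreier (jel1 h0) (by decide) jT0_0 (jtop0 h0) (jle0 h0) jS0
theorem jel0 (h0 : ∀ s < 2, (c45md φ inj).In ⊤ (jg0 s)) : (c45md φ inj).El ((c45md φ inj).gn jg0 2) je0 := (el_of_pad (jsch0 h0).2.1).cel ((jel1 h0).mono (jle0 h0)) _
theorem jub0 (h0 : ∀ s < 2, (c45md φ inj).In ⊤ (jg0 s)) : Nat.card ((c45md φ inj).gn jg0 2) ≤ 175560 := (upper (jsch0 h0).2.2 (jub1 h0)).trans (by norm_num)
theorem jlb2 (h0 : ∀ s < 2, (c45md φ inj).In ⊤ (jg0 s)) : 1 ≤ Nat.card (⊥ : Subgroup G) := one_le_card _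
theorem jy1Y : ∀ i < 114, (chkY c45b.canL c45b.row jy1 (nat_lit 114)) i = 0 :=
  allB (rngB_step (allB0 _ _) jy1Y_0) (by decide)
theorem jy1D : Dist (fun i => (fun x => ln φ (c45b.vec (ZMod 7) 45 x)) (pt c45b.row jy1 i)) 114 :=
  dist_of_chk (Cfg.Ok.canTL c45b_ok rfl rfl φ) jy1Y
theorem jO1 : ∀ i < 114, (chkO (c45b.imgL jg1) c45b.row jy1 jO1a (nat_lit 114) [nat_lit 0]) i = 0 :=
  allB (rngB_step (allB0 _ _) jO1_0) (by decide)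
theorem jR1 (h0 : ∀ s < 2, (c45md φ inj).In ⊤ (jg0 s)) : Reach ((c45md φ inj).gn jg1 2) (fun i => (fun x => ln φ (c45b.vec (ZMod 7) 45 x)) (pt c45b.row jy1 i)) 114 [nat_lit 0] :=
  reach_of_chk (pv := (fun x => ln φ (c45b.vec (ZMod 7) 45 x))) ((Cfg.Ok.actsL c45b_ok (m := (c45md φ inj)) rfl rfl rfl jg1).ex (jeg1 h0)) jO1
theorem jfx1 : (⊥ : Subgroup G) ≤ MulAction.stabilizer G ((fun i => (fun x => ln φ (c45b.vec (ZMod 7) 45 x)) (pt c45b.row jy1 i)) (nat_lit 0)) := bot_le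
theorem jlb1 (h0 : ∀ s < 2, (c45md φ inj).In ⊤ (jg0 s)) : 114 ≤ Nat.card ((c45md φ inj).gn jg1 2) :=
  le_of_eq_of_le (by norm_num) (lower jy1D (jR1 h0) (jle1 h0) jfx1 (jlb2 h0))
theorem jex1 (h0 : ∀ s < 2, (c45md φ inj).In ⊤ (jg0 s)) : MulAction.orbit ((c45md φ inj).gn jg1 2) ((fun i => (fun x => ln φ (c45b.vec (ZMod 7) 45 x)) (pt c45b.row jy1 i)) (nat_lit 0)) = (fun i => (fun x => ln φ (c45b.vec (ZMod 7) 45 x)) (pt c45b.row jy1 i)) '' {i | i < 114} ∧ ((c45md φ inj).gn jg1 2) ⊓ MulAction.stabilizer G ((fun i => (fun x => ln φ (c45b.vec (ZMod 7) 45 x)) (pt c45b.row jy1 i)) (nat_lit 0)) = (⊥ : Subgroup G) ∧ Nat.card ((c45md φ inj).gn jg1 2) = 114 * 1 ∧ Nat.card (⊥ : Subgroup G) = 1 :=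
  exact jy1D (jR1 h0) (jle1 h0) jfx1 (jlb2 h0) ((jub1 h0).trans (by norm_num))
theorem jy0Y : ∀ i < 1540, (chkY c45b.canL c45b.row jy0 (nat_lit 1540)) i = 0 :=
  allB (rngB_step (rngB_step (allB0 _ _) jy0Y_0) jy0Y_1) (by decide)
theorem jy0D : Dist (fun i => (fun x => ln φ (c45b.vec (ZMod 7) 45 x)) (pt c45b.row jy0 i)) 1540 :=
  dist_of_chk (Cfg.Ok.canTL c45b_ok rfl rfl φ) jy0Y
theorem jO0 : ∀ i < 1540, (chkO (c45b.imgL jg0) c45b.row jy0 jO0a (nat_lit 1540) [nat_lit 0]) i = 0 :=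
  allB (rngB_step (rngB_step (allB0 _ _) jO0_0) jO0_1) (by decide)
theorem jR0 (h0 : ∀ s < 2, (c45md φ inj).In ⊤ (jg0 s)) : Reach ((c45md φ inj).gn jg0 2) (fun i => (fun x => ln φ (c45b.vec (ZMod 7) 45 x)) (pt c45b.row jy0 i)) 1540 [nat_lit 0] :=
  reach_of_chk (pv := (fun x => ln φ (c45b.vec (ZMod 7) 45 x))) ((Cfg.Ok.actsL c45b_ok (m := (c45md φ inj)) rfl rfl rfl jg0).ex (jeg0 h0)) jO0
theorem jF0 : ∀ i < 2, (chkF (c45b.imgL jg1) c45b.row jy0 (nat_lit 0) [nat_lit 5, nat_lit 0]) i = 0 :=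
  (rng_step (all0 _) jF0_0)
theorem jfx0 : ((c45md φ inj).gn jg1 2) ≤ MulAction.stabilizer G ((fun i => (fun x => ln φ (c45b.vec (ZMod 7) 45 x)) (pt c45b.row jy0 i)) (nat_lit 0)) :=
  gn_le_stab (Cfg.Ok.actsL c45b_ok (m := (c45md φ inj)) rfl rfl rfl jg1) jF0
theorem jlb0 (h0 : ∀ s < 2, (c45md φ inj).In ⊤ (jg0 s)) : 175560 ≤ Nat.card ((c45md φ inj).gn jg0 2) :=
  le_of_eq_of_le (by norm_num) (lower jy0D (jR0 h0) (jle0 h0) jfx0 (jlb1 h0))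
theorem jex0 (h0 : ∀ s < 2, (c45md φ inj).In ⊤ (jg0 s)) : MulAction.orbit ((c45md φ inj).gn jg0 2) ((fun i => (fun x => ln φ (c45b.vec (ZMod 7) 45 x)) (pt c45b.row jy0 i)) (nat_lit 0)) = (fun i => (fun x => ln φ (c45b.vec (ZMod 7) 45 x)) (pt c45b.row jy0 i)) '' {i | i < 1540} ∧ ((c45md φ inj).gn jg0 2) ⊓ MulAction.stabilizer G ((fun i => (fun x => ln φ (c45b.vec (ZMod 7) 45 x)) (pt c45b.row jy0 i)) (nat_lit 0)) = ((c45md φ inj).gn jg1 2) ∧ Nat.card ((c45md φ inj).gn jg0 2) = 1540 * 114 ∧ Nat.card ((c45md φ inj).gn jg1 2) = 114 :=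
  exact jy0D (jR0 h0) (jle0 h0) jfx0 (jlb1 h0) ((jub0 h0).trans (by norm_num))
theorem jK : ∀ i < 1540, (chkO (c45b.imgL jg1) c45b.row jy0 jKa (nat_lit 1540) [nat_lit 0, nat_lit 1, nat_lit 2, nat_lit 3, nat_lit 4, nat_lit 6, nat_lit 10, nat_lit 11, nat_lit 13, nat_lit 14, nat_lit 15, nat_lit 18, nat_lit 21, nat_lit 24, nat_lit 27, nat_lit 30, nat_lit 34, nat_lit 38, nat_lit 55, nat_lit 65, nat_lit 86]) i = 0 :=
  allB (rngB_step (rngB_step (allB0 _ _) jK_0) jK_1) (by decide)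
theorem jm86O : ∀ i < 1540, (chkO (c45b.imgL jm86) c45b.row jy0 jm86Oa (nat_lit 1540) [nat_lit 0]) i = 0 :=
  allB (rngB_step (rngB_step (allB0 _ _) jm86O_0) jm86O_1) (by decide)
theorem jm65O : ∀ i < 1540, (chkO (c45b.imgL jm65) c45b.row jy0 jm65Oa (nat_lit 1540) [nat_lit 0]) i = 0 :=
  allB (rngB_step (rngB_step (allB0 _ _) jm65O_0) jm65O_1) (by decide)
theorem jm55O : ∀ i < 1540, (chkO (c45b.imgL jm55) c45b.row jy0 jm55Oa (nat_lit 1540) [nat_lit 0]) i = 0 :=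
  allB (rngB_step (rngB_step (allB0 _ _) jm55O_0) jm55O_1) (by decide)
theorem jm38O : ∀ i < 1540, (chkO (c45b.imgL jm38) c45b.row jy0 jm38Oa (nat_lit 1540) [nat_lit 0]) i = 0 :=
  allB (rngB_step (rngB_step (allB0 _ _) jm38O_0) jm38O_1) (by decide)
theorem jm34O : ∀ i < 1540, (chkO (c45b.imgL jm34) c45b.row jy0 jm34Oa (nat_lit 1540) [nat_lit 0]) i = 0 :=
  allB (rngB_step (rngB_step (allB0 _ _) jm34O_0) jm34O_1) (by decide)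
theorem jm30O : ∀ i < 1540, (chkO (c45b.imgL jm30) c45b.row jy0 jm30Oa (nat_lit 1540) [nat_lit 0]) i = 0 :=
  allB (rngB_step (rngB_step (allB0 _ _) jm30O_0) jm30O_1) (by decide)
theorem jm27O : ∀ i < 1540, (chkO (c45b.imgL jm27) c45b.row jy0 jm27Oa (nat_lit 1540) [nat_lit 0]) i = 0 :=
  allB (rngB_step (rngB_step (allB0 _ _) jm27O_0) jm27O_1) (by decide)
theorem jm24O : ∀ i < 1540, (chkO (c45b.imgL jm24) c45b.row jy0 jm24Oa (nat_lit 1540) [nat_lit 0]) i = 0 :=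
  allB (rngB_step (rngB_step (allB0 _ _) jm24O_0) jm24O_1) (by decide)
theorem jm21O : ∀ i < 1540, (chkO (c45b.imgL jm21) c45b.row jy0 jm21Oa (nat_lit 1540) [nat_lit 0]) i = 0 :=
  allB (rngB_step (rngB_step (allB0 _ _) jm21O_0) jm21O_1) (by decide)
theorem jm18O : ∀ i < 1540, (chkO (c45b.imgL jm18) c45b.row jy0 jm18Oa (nat_lit 1540) [nat_lit 0]) i = 0 :=
  allB (rngB_step (rngB_step (allB0 _ _) jm18O_0) jm18O_1) (by decide)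
theorem jm15O : ∀ i < 1540, (chkO (c45b.imgL jm15) c45b.row jy0 jm15Oa (nat_lit 1540) [nat_lit 0]) i = 0 :=
  allB (rngB_step (rngB_step (allB0 _ _) jm15O_0) jm15O_1) (by decide)
theorem jm14O : ∀ i < 1540, (chkO (c45b.imgL jm14) c45b.row jy0 jm14Oa (nat_lit 1540) [nat_lit 0]) i = 0 :=
  allB (rngB_step (rngB_step (allB0 _ _) jm14O_0) jm14O_1) (by decide)
theorem jm13O : ∀ i < 1540, (chkO (c45b.imgL jm13) c45b.row jy0 jm13Oa (nat_lit 1540) [nat_lit 0]) i = 0 :=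
  allB (rngB_step (rngB_step (allB0 _ _) jm13O_0) jm13O_1) (by decide)
theorem jm11O : ∀ i < 1540, (chkO (c45b.imgL jm11) c45b.row jy0 jm11Oa (nat_lit 1540) [nat_lit 0]) i = 0 :=
  allB (rngB_step (rngB_step (allB0 _ _) jm11O_0) jm11O_1) (by decide)
theorem jm10O : ∀ i < 1540, (chkO (c45b.imgL jm10) c45b.row jy0 jm10Oa (nat_lit 1540) [nat_lit 0]) i = 0 :=
  allB (rngB_step (rngB_step (allB0 _ _) jm10O_0) jm10O_1) (by decide)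
theorem jm6O : ∀ i < 1540, (chkO (c45b.imgL jm6) c45b.row jy0 jm6Oa (nat_lit 1540) [nat_lit 0]) i = 0 :=
  allB (rngB_step (rngB_step (allB0 _ _) jm6O_0) jm6O_1) (by decide)
theorem jm4O : ∀ i < 1540, (chkO (c45b.imgL jm4) c45b.row jy0 jm4Oa (nat_lit 1540) [nat_lit 0]) i = 0 :=
  allB (rngB_step (rngB_step (allB0 _ _) jm4O_0) jm4O_1) (by decide)
theorem jm3O : ∀ i < 1540, (chkO (c45b.imgL jm3) c45b.row jy0 jm3Oa (nat_lit 1540) [nat_lit 0]) i = 0 :=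
  allB (rngB_step (rngB_step (allB0 _ _) jm3O_0) jm3O_1) (by decide)
theorem jm2O : ∀ i < 1540, (chkO (c45b.imgL jm2) c45b.row jy0 jm2Oa (nat_lit 1540) [nat_lit 0]) i = 0 :=
  allB (rngB_step (rngB_step (allB0 _ _) jm2O_0) jm2O_1) (by decide)
theorem jm1O : ∀ i < 1540, (chkO (c45b.imgL jm1) c45b.row jy0 jm1Oa (nat_lit 1540) [nat_lit 0]) i = 0 :=
  allB (rngB_step (rngB_step (allB0 _ _) jm1O_0) jm1O_1) (by decide)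
theorem jmax (h0 : ∀ s < 2, (c45md φ inj).In ⊤ (jg0 s)) (ht : (c45md φ inj).gn jg0 2 = ⊤) : ∀ M : Subgroup G, ((c45md φ inj).gn jg1 2) ≤ M → M = ((c45md φ inj).gn jg1 2) ∨ M = ⊤ :=
  max_of_roots (Y := (fun i => (fun x => ln φ (c45b.vec (ZMod 7) 45 x)) (pt c45b.row jy0 i))) (ht ▸ (jex0 h0).1) (ht ▸ (jex0 h0).2.1)
  (reach_of_chk (pv := (fun x => ln φ (c45b.vec (ZMod 7) 45 x))) ((Cfg.Ok.actsL c45b_ok (m := (c45md φ inj)) rfl rfl rfl jg1).ex (jeg1 h0)) jK)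
  (List.forall_mem_cons.2 ⟨Or.inl rfl, (List.forall_mem_cons.2 ⟨Or.inr (root_ok (pv := (fun x => ln φ (c45b.vec (ZMod 7) 45 x))) (Cfg.Ok.actsL c45b_ok (m := (c45md φ inj)) rfl rfl rfl jm1) ((jsch0 h0).2.1 (nat_lit 501) (by decide)).top (jeg1 h0)
    (ht ▸ (jex0 h0).1) (ht ▸ (jex0 h0).2.1) jm1M jm1O),
  (List.forall_mem_cons.2 ⟨Or.inr (root_ok (pv := (fun x => ln φ (c45b.vec (ZMod 7) 45 x))) (Cfg.Ok.actsL c45b_ok (m := (c45md φ inj)) rfl rfl rfl jm2) ((jsch0 h0).2.1 (nat_lit 422) (by decide)).top (jeg1 h0)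
    (ht ▸ (jex0 h0).1) (ht ▸ (jex0 h0).2.1) jm2M jm2O),
  (List.forall_mem_cons.2 ⟨Or.inr (root_ok (pv := (fun x => ln φ (c45b.vec (ZMod 7) 45 x))) (Cfg.Ok.actsL c45b_ok (m := (c45md φ inj)) rfl rfl rfl jm3) ((jsch0 h0).2.1 (nat_lit 428) (by decide)).top (jeg1 h0)
    (ht ▸ (jex0 h0).1) (ht ▸ (jex0 h0).2.1) jm3M jm3O),
  (List.forall_mem_cons.2 ⟨Or.inr (root_ok (pv := (fun x => ln φ (c45b.vec (ZMod 7) 45 x))) (Cfg.Ok.actsL c45b_ok (m := (c45md φ inj)) rfl rfl rfl jm4) ((jsch0 h0).2.1 (nat_lit 1351) (by decide)).top (jeg1 h0)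
    (ht ▸ (jex0 h0).1) (ht ▸ (jex0 h0).2.1) jm4M jm4O),
  (List.forall_mem_cons.2 ⟨Or.inr (root_ok (pv := (fun x => ln φ (c45b.vec (ZMod 7) 45 x))) (Cfg.Ok.actsL c45b_ok (m := (c45md φ inj)) rfl rfl rfl jm6) ((jsch0 h0).2.1 (nat_lit 815) (by decide)).top (jeg1 h0)
    (ht ▸ (jex0 h0).1) (ht ▸ (jex0 h0).2.1) jm6M jm6O),
  (List.forall_mem_cons.2 ⟨Or.inr (root_ok (pv := (fun x => ln φ (c45b.vec (ZMod 7) 45 x))) (Cfg.Ok.actsL c45b_ok (m := (c45md φ inj)) rfl rfl rfl jm10) ((jsch0 h0).2.1 (nat_lit 646) (by decide)).top (jeg1 h0)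
    (ht ▸ (jex0 h0).1) (ht ▸ (jex0 h0).2.1) jm10M jm10O),
  (List.forall_mem_cons.2 ⟨Or.inr (root_ok (pv := (fun x => ln φ (c45b.vec (ZMod 7) 45 x))) (Cfg.Ok.actsL c45b_ok (m := (c45md φ inj)) rfl rfl rfl jm11) ((jsch0 h0).2.1 (nat_lit 905) (by decide)).top (jeg1 h0)
    (ht ▸ (jex0 h0).1) (ht ▸ (jex0 h0).2.1) jm11M jm11O),
  (List.forall_mem_cons.2 ⟨Or.inr (root_ok (pv := (fun x => ln φ (c45b.vec (ZMod 7) 45 x))) (Cfg.Ok.actsL c45b_ok (m := (c45md φ inj)) rfl rfl rfl jm13) ((jsch0 h0).2.1 (nat_lit 1344) (by decide)).top (jeg1 h0)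
    (ht ▸ (jex0 h0).1) (ht ▸ (jex0 h0).2.1) jm13M jm13O),
  (List.forall_mem_cons.2 ⟨Or.inr (root_ok (pv := (fun x => ln φ (c45b.vec (ZMod 7) 45 x))) (Cfg.Ok.actsL c45b_ok (m := (c45md φ inj)) rfl rfl rfl jm14) ((jsch0 h0).2.1 (nat_lit 941) (by decide)).top (jeg1 h0)
    (ht ▸ (jex0 h0).1) (ht ▸ (jex0 h0).2.1) jm14M jm14O),
  (List.forall_mem_cons.2 ⟨Or.inr (root_ok (pv := (fun x => ln φ (c45b.vec (ZMod 7) 45 x))) (Cfg.Ok.actsL c45b_ok (m := (c45md φ inj)) rfl rfl rfl jm15) ((jsch0 h0).2.1 (nat_lit 360) (by decide)).top (jeg1 h0)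
    (ht ▸ (jex0 h0).1) (ht ▸ (jex0 h0).2.1) jm15M jm15O),
  (List.forall_mem_cons.2 ⟨Or.inr (root_ok (pv := (fun x => ln φ (c45b.vec (ZMod 7) 45 x))) (Cfg.Ok.actsL c45b_ok (m := (c45md φ inj)) rfl rfl rfl jm18) ((jsch0 h0).2.1 (nat_lit 351) (by decide)).top (jeg1 h0)
    (ht ▸ (jex0 h0).1) (ht ▸ (jex0 h0).2.1) jm18M jm18O),
  (List.forall_mem_cons.2 ⟨Or.inr (root_ok (pv := (fun x => ln φ (c45b.vec (ZMod 7) 45 x))) (Cfg.Ok.actsL c45b_ok (m := (c45md φ inj)) rfl rfl rfl jm21) ((jsch0 h0).2.1 (nat_lit 383) (by decide)).top (jeg1 h0)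
    (ht ▸ (jex0 h0).1) (ht ▸ (jex0 h0).2.1) jm21M jm21O),
  (List.forall_mem_cons.2 ⟨Or.inr (root_ok (pv := (fun x => ln φ (c45b.vec (ZMod 7) 45 x))) (Cfg.Ok.actsL c45b_ok (m := (c45md φ inj)) rfl rfl rfl jm24) ((jsch0 h0).2.1 (nat_lit 1165) (by decide)).top (jeg1 h0)
    (ht ▸ (jex0 h0).1) (ht ▸ (jex0 h0).2.1) jm24M jm24O),
  (List.forall_mem_cons.2 ⟨Or.inr (root_ok (pv := (fun x => ln φ (c45b.vec (ZMod 7) 45 x))) (Cfg.Ok.actsL c45b_ok (m := (c45md φ inj)) rfl rfl rfl jm27) ((jsch0 h0).2.1 (nat_lit 1508) (by decide)).top (jeg1 h0)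
    (ht ▸ (jex0 h0).1) (ht ▸ (jex0 h0).2.1) jm27M jm27O),
  (List.forall_mem_cons.2 ⟨Or.inr (root_ok (pv := (fun x => ln φ (c45b.vec (ZMod 7) 45 x))) (Cfg.Ok.actsL c45b_ok (m := (c45md φ inj)) rfl rfl rfl jm30) ((jsch0 h0).2.1 (nat_lit 841) (by decide)).top (jeg1 h0)
    (ht ▸ (jex0 h0).1) (ht ▸ (jex0 h0).2.1) jm30M jm30O),
  (List.forall_mem_cons.2 ⟨Or.inr (root_ok (pv := (fun x => ln φ (c45b.vec (ZMod 7) 45 x))) (Cfg.Ok.actsL c45b_ok (m := (c45md φ inj)) rfl rfl rfl jm34) ((jsch0 h0).2.1 (nat_lit 1470) (by decide)).top (jeg1 h0)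
    (ht ▸ (jex0 h0).1) (ht ▸ (jex0 h0).2.1) jm34M jm34O),
  (List.forall_mem_cons.2 ⟨Or.inr (root_ok (pv := (fun x => ln φ (c45b.vec (ZMod 7) 45 x))) (Cfg.Ok.actsL c45b_ok (m := (c45md φ inj)) rfl rfl rfl jm38) ((jsch0 h0).2.1 (nat_lit 656) (by decide)).top (jeg1 h0)
    (ht ▸ (jex0 h0).1) (ht ▸ (jex0 h0).2.1) jm38M jm38O),
  (List.forall_mem_cons.2 ⟨Or.inr (root_ok (pv := (fun x => ln φ (c45b.vec (ZMod 7) 45 x))) (Cfg.Ok.actsL c45b_ok (m := (c45md φ inj)) rfl rfl rfl jm55) ((jsch0 h0).2.1 (nat_lit 855) (by decide)).top (jeg1 h0)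
    (ht ▸ (jex0 h0).1) (ht ▸ (jex0 h0).2.1) jm55M jm55O),
  (List.forall_mem_cons.2 ⟨Or.inr (root_ok (pv := (fun x => ln φ (c45b.vec (ZMod 7) 45 x))) (Cfg.Ok.actsL c45b_ok (m := (c45md φ inj)) rfl rfl rfl jm65) ((jsch0 h0).2.1 (nat_lit 5) (by decide)).top (jeg1 h0)
    (ht ▸ (jex0 h0).1) (ht ▸ (jex0 h0).2.1) jm65M jm65O),
  (List.forall_mem_cons.2 ⟨Or.inr (root_ok (pv := (fun x => ln φ (c45b.vec (ZMod 7) 45 x))) (Cfg.Ok.actsL c45b_ok (m := (c45md φ inj)) rfl rfl rfl jm86) ((jsch0 h0).2.1 (nat_lit 697) (by decide)).top (jeg1 h0)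
    (ht ▸ (jex0 h0).1) (ht ▸ (jex0 h0).2.1) jm86M jm86O),
  (fun _ h => absurd h List.not_mem_nil)⟩)⟩)⟩)⟩)⟩)⟩)⟩)⟩)⟩)⟩)⟩)⟩)⟩)⟩)⟩)⟩)⟩)⟩)⟩)⟩)⟩)
theorem jcore1 (h0 : ∀ s < 2, (c45md φ inj).In ⊤ (jg0 s)) (N : Subgroup G) (hN : N.Normal) (h : N ≤ ((c45md φ inj).gn jg1 2)) : N ≤ ((c45md φ inj).gn jg1 2) := h
theorem jcore2 (h0 : ∀ s < 2, (c45md φ inj).In ⊤ (jg0 s)) (N : Subgroup G) (hN : N.Normal) (h : N ≤ ((c45md φ inj).gn jg1 2)) : N ≤ (⊥ : Subgroup G) :=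
  (le_inf (jcore1 h0 N hN h) (normal_le_stab hN (h.trans jfx0) (mem_orbit_of_eq (jex0 h0).1 (j := (nat_lit 3)) (by decide) (congrArg (fun x => ln φ (c45b.vec (ZMod 7) 45 x)) jcp1)))).trans (jex1 h0).2.1.le
theorem jP : ∀ i < 2, (chkP c45.mul c45.one jg0 je0 [[nat_lit 175189, nat_lit 129470],
  [nat_lit 118848, nat_lit 177353, nat_lit 232226]] (nat_lit 5)) i = 0 :=
  (rng_step (all0 _) jP_0)
theorem jE : ∀ i < 2, (chkE jg0 de [nat_lit 5718727757899211, nat_lit 4849430022603483]) i = 0 :=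
  (rng_step (all0 _) jE_0)
theorem mg0I0 : ∀ i < 2, (chkI c45.mul c45.one mg0 mg0i) i = 0 :=
  (rng_step (all0 _) mg0I0_0)
theorem mg0I : (c45md φ inj).Inv mg0 mg0i := inv_of_chkI mg0I0
theorem mg1I0 : ∀ i < 2, (chkI c45.mul c45.one mg1 mg1i) i = 0 :=
  (rng_step (all0 _) mg1I0_0)
theorem mg1I : (c45md φ inj).Inv mg1 mg1i := inv_of_chkI mg1I0
theorem mtop0 (h0 : ∀ s < 2, (c45md φ inj).In ⊤ (mg0 s)) : ∀ s < 2, (c45md φ inj).In ⊤ (mg0 s) := h0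
theorem meg0 (h0 : ∀ s < 2, (c45md φ inj).In ⊤ (mg0 s)) : (c45md φ inj).El ((c45md φ inj).gn mg0 2) mg0 := el_gn (mtop0 h0)
theorem mW0 : ∀ i < 2, (chkW c45.mul c45.one mg0 [[nat_lit 0, nat_lit 1, nat_lit 1, nat_lit 1, nat_lit 0, nat_lit 1, nat_lit 0, nat_lit 1, nat_lit 1],
  [nat_lit 0, nat_lit 0, nat_lit 1, nat_lit 0, nat_lit 1, nat_lit 1, nat_lit 1, nat_lit 0, nat_lit 0, nat_lit 1, nat_lit 0, nat_lit 1, nat_lit 1, nat_lit 1, nat_lit 1, nat_lit 1, nat_lit 0, nat_lit 1, nat_lit 0]] mg1) i = 0 :=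
  (rng_step (all0 _) mW0_0)
theorem min1 (h0 : ∀ s < 2, (c45md φ inj).In ⊤ (mg0 s)) : ∀ s < 2, (c45md φ inj).In ((c45md φ inj).gn mg0 2) (mg1 s) := in_of_chkW (meg0 h0) mW0
theorem mtop1 (h0 : ∀ s < 2, (c45md φ inj).In ⊤ (mg0 s)) : ∀ s < 2, (c45md φ inj).In ⊤ (mg1 s) := fun s hs => (min1 h0 s hs).top
theorem mle0 (h0 : ∀ s < 2, (c45md φ inj).In ⊤ (mg0 s)) : ((c45md φ inj).gn mg1 2) ≤ ((c45md φ inj).gn mg0 2) := gn_le (min1 h0)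
theorem meg1 (h0 : ∀ s < 2, (c45md φ inj).In ⊤ (mg0 s)) : (c45md φ inj).El ((c45md φ inj).gn mg1 2) mg1 := el_gn (mtop1 h0)
theorem mle1 (h0 : ∀ s < 2, (c45md φ inj).In ⊤ (mg0 s)) : (⊥ : Subgroup G) ≤ ((c45md φ inj).gn mg1 2) := bot_le
theorem mel2 (h0 : ∀ s < 2, (c45md φ inj).In ⊤ (mg0 s)) : (c45md φ inj).El ⊥ me2 := el_one _
theorem mub2 (h0 : ∀ s < 2, (c45md φ inj).In ⊤ (mg0 s)) : Nat.card (⊥ : Subgroup G) ≤ 1 := card_bot_le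
theorem mS1 : ∀ i < 48, (chkS c45.mul mg1 (nat_lit 2) mT1 me2 mc1 (nat_lit 6) (nat_lit 48)) i = 0 :=
  (rng_step (all0 _) mS1_0)
theorem msch1 (h0 : ∀ s < 2, (c45md φ inj).In ⊤ (mg0 s)) : (∀ g ∈ ((c45md φ inj).gn mg1 2), ∃ i < 48, (c45md φ inj).Cos (⊥ : Subgroup G) mT1 g i) ∧ (∀ i < 48, (c45md φ inj).In ((c45md φ inj).gn mg1 2) (mT1 i)) ∧ Nat.card ((c45md φ inj).gn mg1 2) ≤ 48 * Nat.card (⊥ : Subgroup G) :=
  schreier (mel2 h0) (by decide) mT0_1 (mtop1 h0) (mle1 h0) mS1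
theorem mel1 (h0 : ∀ s < 2, (c45md φ inj).In ⊤ (mg0 s)) : (c45md φ inj).El ((c45md φ inj).gn mg1 2) me1 := (el_of_pad (msch1 h0).2.1).cel0 _
theorem mub1 (h0 : ∀ s < 2, (c45md φ inj).In ⊤ (mg0 s)) : Nat.card ((c45md φ inj).gn mg1 2) ≤ 48 := (upper (msch1 h0).2.2 (mub2 h0)).trans (by norm_num)
theorem mS0 : ∀ i < 165, (chkS c45.mul mg0 (nat_lit 2) mT0 me1 mc0 (nat_lit 8) (nat_lit 165)) i = 0 :=
  (rng_step (all0 _) mS0_0)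
theorem msch0 (h0 : ∀ s < 2, (c45md φ inj).In ⊤ (mg0 s)) : (∀ g ∈ ((c45md φ inj).gn mg0 2), ∃ i < 165, (c45md φ inj).Cos ((c45md φ inj).gn mg1 2) mT0 g i) ∧ (∀ i < 165, (c45md φ inj).In ((c45md φ inj).gn mg0 2) (mT0 i)) ∧ Nat.card ((c45md φ inj).gn mg0 2) ≤ 165 * Nat.card ((c45md φ inj).gn mg1 2) :=
  schreier (mel1 h0) (by decide) mT0_0 (mtop0 h0) (mle0 h0) mS0
theorem mel0 (h0 : ∀ s < 2, (c45md φ inj).In ⊤ (mg0 s)) : (c45md φ inj).El ((c45md φ inj).gn mg0 2) me0 := (el_of_pad (msch0 h0).2.1).cel ((mel1 h0).mono (mle0 h0)) _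
theorem mub0 (h0 : ∀ s < 2, (c45md φ inj).In ⊤ (mg0 s)) : Nat.card ((c45md φ inj).gn mg0 2) ≤ 7920 := (upper (msch0 h0).2.2 (mub1 h0)).trans (by norm_num)
theorem mlb2 (h0 : ∀ s < 2, (c45md φ inj).In ⊤ (mg0 s)) : 1 ≤ Nat.card (⊥ : Subgroup G) := one_le_card _
theorem my1Y : ∀ i < 48, (chkY (canC c45.mul c45.one my1) (rowC my1) id (nat_lit 48)) i = 0 :=
  allB (rngB_step (allB0 _ _) my1Y_0) (by decide)
theorem my1D : Dist (fun i => (fun x => (⟨(c45md φ inj).ev x⟩ : Cj (c45md φ inj).φ)) (pt (rowC my1) id i)) 48 :=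
  dist_of_chk (canTC (@Cfg.Ok.canon G _ c45 c45_ok _ _ (ZMod.charP 7) _ rfl rfl φ inj) my1) my1Y
theorem mO1 : ∀ i < 48, (chkO (imgC c45.mul mg1 mg1i my1) (rowC my1) id mO1a (nat_lit 48) [nat_lit 20]) i = 0 :=
  allB (rngB_step (allB0 _ _) mO1_0) (by decide)
theorem mR1 (h0 : ∀ s < 2, (c45md φ inj).In ⊤ (mg0 s)) : Reach ((c45md φ inj).gn mg1 2) (fun i => (fun x => (⟨(c45md φ inj).ev x⟩ : Cj (c45md φ inj).φ)) (pt (rowC my1) id i)) 48 [nat_lit 20] :=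
  reach_of_chk (pv := (fun x => (⟨(c45md φ inj).ev x⟩ : Cj (c45md φ inj).φ))) ((actsC (m := (c45md φ inj)) mg1I my1).ex (meg1 h0)) mO1
theorem mfx1 : (⊥ : Subgroup G) ≤ MulAction.stabilizer G ((fun i => (fun x => (⟨(c45md φ inj).ev x⟩ : Cj (c45md φ inj).φ)) (pt (rowC my1) id i)) (nat_lit 20)) := bot_le
theorem mlb1 (h0 : ∀ s < 2, (c45md φ inj).In ⊤ (mg0 s)) : 48 ≤ Nat.card ((c45md φ inj).gn mg1 2) :=
  le_of_eq_of_le (by norm_num) (lower my1D (mR1 h0) (mle1 h0) mfx1 (mlb2 h0))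
theorem mex1 (h0 : ∀ s < 2, (c45md φ inj).In ⊤ (mg0 s)) : MulAction.orbit ((c45md φ inj).gn mg1 2) ((fun i => (fun x => (⟨(c45md φ inj).ev x⟩ : Cj (c45md φ inj).φ)) (pt (rowC my1) id i)) (nat_lit 20)) = (fun i => (fun x => (⟨(c45md φ inj).ev x⟩ : Cj (c45md φ inj).φ)) (pt (rowC my1) id i)) '' {i | i < 48} ∧ ((c45md φ inj).gn mg1 2) ⊓ MulAction.stabilizer G ((fun i => (fun x => (⟨(c45md φ inj).ev x⟩ : Cj (c45md φ inj).φ)) (pt (rowC my1) id i)) (nat_lit 20)) = (⊥ : Subgroup G) ∧ Nat.card ((c45md φ inj).gn mg1 2) = 48 * 1 ∧ Nat.card (⊥ : Subgroup G) = 1 :=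
  exact my1D (mR1 h0) (mle1 h0) mfx1 (mlb2 h0) ((mub1 h0).trans (by norm_num))
theorem my0Y : ∀ i < 165, (chkY (canC c45.mul c45.one my0) (rowC my0) id (nat_lit 165)) i = 0 :=
  allB (rngB_step (allB0 _ _) my0Y_0) (by decide)
theorem my0D : Dist (fun i => (fun x => (⟨(c45md φ inj).ev x⟩ : Cj (c45md φ inj).φ)) (pt (rowC my0) id i)) 165 :=
  dist_of_chk (canTC (@Cfg.Ok.canon G _ c45 c45_ok _ _ (ZMod.charP 7) _ rfl rfl φ inj) my0) my0Y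
theorem mO0 : ∀ i < 165, (chkO (imgC c45.mul mg0 mg0i my0) (rowC my0) id mO0a (nat_lit 165) [nat_lit 21]) i = 0 :=
  allB (rngB_step (allB0 _ _) mO0_0) (by decide)
theorem mR0 (h0 : ∀ s < 2, (c45md φ inj).In ⊤ (mg0 s)) : Reach ((c45md φ inj).gn mg0 2) (fun i => (fun x => (⟨(c45md φ inj).ev x⟩ : Cj (c45md φ inj).φ)) (pt (rowC my0) id i)) 165 [nat_lit 21] :=
  reach_of_chk (pv := (fun x => (⟨(c45md φ inj).ev x⟩ : Cj (c45md φ inj).φ))) ((actsC (m := (c45md φ inj)) mg0I my0).ex (meg0 h0)) mO0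
theorem mF0 : ∀ i < 2, (chkF (imgC c45.mul mg1 mg1i my0) (rowC my0) id (nat_lit 21) [nat_lit 0, nat_lit 0]) i = 0 :=
  (rng_step (all0 _) mF0_0)
theorem mfx0 : ((c45md φ inj).gn mg1 2) ≤ MulAction.stabilizer G ((fun i => (fun x => (⟨(c45md φ inj).ev x⟩ : Cj (c45md φ inj).φ)) (pt (rowC my0) id i)) (nat_lit 21)) :=
  gn_le_stab (actsC (m := (c45md φ inj)) mg1I my0) mF0
theorem mlb0 (h0 : ∀ s < 2, (c45md φ inj).In ⊤ (mg0 s)) : 7920 ≤ Nat.card ((c45md φ inj).gn mg0 2) :=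
  le_of_eq_of_le (by norm_num) (lower my0D (mR0 h0) (mle0 h0) mfx0 (mlb1 h0))
theorem mex0 (h0 : ∀ s < 2, (c45md φ inj).In ⊤ (mg0 s)) : MulAction.orbit ((c45md φ inj).gn mg0 2) ((fun i => (fun x => (⟨(c45md φ inj).ev x⟩ : Cj (c45md φ inj).φ)) (pt (rowC my0) id i)) (nat_lit 21)) = (fun i => (fun x => (⟨(c45md φ inj).ev x⟩ : Cj (c45md φ inj).φ)) (pt (rowC my0) id i)) '' {i | i < 165} ∧ ((c45md φ inj).gn mg0 2) ⊓ MulAction.stabilizer G ((fun i => (fun x => (⟨(c45md φ inj).ev x⟩ : Cj (c45md φ inj).φ)) (pt (rowC my0) id i)) (nat_lit 21)) = ((c45md φ inj).gn mg1 2) ∧ Nat.card ((c45md φ inj).gn mg0 2) = 165 * 48 ∧ Nat.card ((c45md φ inj).gn mg1 2) = 48 :=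
  exact my0D (mR0 h0) (mle0 h0) mfx0 (mlb1 h0) ((mub0 h0).trans (by norm_num))
theorem mK : ∀ i < 165, (chkO (imgC c45.mul mg1 mg1i my0) (rowC my0) id mKa (nat_lit 165) [nat_lit 21, nat_lit 0, nat_lit 1, nat_lit 2, nat_lit 4, nat_lit 7, nat_lit 11, nat_lit 27]) i = 0 :=
  allB (rngB_step (allB0 _ _) mK_0) (by decide)
theorem mm27I : (c45md φ inj).Inv mm27 mm27i := mg1I.cons1 mm27J
theorem mm27O : ∀ i < 165, (chkO (imgC c45.mul mm27 mm27i my0) (rowC my0) id mm27Oa (nat_lit 165) [nat_lit 21]) i = 0 :=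
  allB (rngB_step (allB0 _ _) mm27O_0) (by decide)
theorem mm11I : (c45md φ inj).Inv mm11 mm11i := mg1I.cons1 mm11J
theorem mm11O : ∀ i < 165, (chkO (imgC c45.mul mm11 mm11i my0) (rowC my0) id mm11Oa (nat_lit 165) [nat_lit 21]) i = 0 :=
  allB (rngB_step (allB0 _ _) mm11O_0) (by decide)
theorem mm7I : (c45md φ inj).Inv mm7 mm7i := mg1I.cons1 mm7J
theorem mm7O : ∀ i < 165, (chkO (imgC c45.mul mm7 mm7i my0) (rowC my0) id mm7Oa (nat_lit 165) [nat_lit 21]) i = 0 :=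
  allB (rngB_step (allB0 _ _) mm7O_0) (by decide)
theorem mm4I : (c45md φ inj).Inv mm4 mm4i := mg1I.cons1 mm4J
theorem mm4O : ∀ i < 165, (chkO (imgC c45.mul mm4 mm4i my0) (rowC my0) id mm4Oa (nat_lit 165) [nat_lit 21]) i = 0 :=
  allB (rngB_step (allB0 _ _) mm4O_0) (by decide)
theorem mm2I : (c45md φ inj).Inv mm2 mm2i := mg1I.cons1 mm2J
theorem mm2O : ∀ i < 165, (chkO (imgC c45.mul mm2 mm2i my0) (rowC my0) id mm2Oa (nat_lit 165) [nat_lit 21]) i = 0 :=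
  allB (rngB_step (allB0 _ _) mm2O_0) (by decide)
theorem mm1I : (c45md φ inj).Inv mm1 mm1i := mg1I.cons1 mm1J
theorem mm1O : ∀ i < 165, (chkO (imgC c45.mul mm1 mm1i my0) (rowC my0) id mm1Oa (nat_lit 165) [nat_lit 21]) i = 0 :=
  allB (rngB_step (allB0 _ _) mm1O_0) (by decide)
theorem mm0I : (c45md φ inj).Inv mm0 mm0i := mg1I.cons1 mm0J
theorem mm0O : ∀ i < 165, (chkO (imgC c45.mul mm0 mm0i my0) (rowC my0) id mm0Oa (nat_lit 165) [nat_lit 21]) i = 0 :=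
  allB (rngB_step (allB0 _ _) mm0O_0) (by decide)
theorem mmax (h0 : ∀ s < 2, (c45md φ inj).In ⊤ (mg0 s)) (ht : (c45md φ inj).gn mg0 2 = ⊤) : ∀ M : Subgroup G, ((c45md φ inj).gn mg1 2) ≤ M → M = ((c45md φ inj).gn mg1 2) ∨ M = ⊤ :=
  max_of_roots (Y := (fun i => (fun x => (⟨(c45md φ inj).ev x⟩ : Cj (c45md φ inj).φ)) (pt (rowC my0) id i))) (ht ▸ (mex0 h0).1) (ht ▸ (mex0 h0).2.1)
  (reach_of_chk (pv := (fun x => (⟨(c45md φ inj).ev x⟩ : Cj (c45md φ inj).φ))) ((actsC (m := (c45md φ inj)) mg1I my0).ex (meg1 h0)) mK)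
  (List.forall_mem_cons.2 ⟨Or.inl rfl, (List.forall_mem_cons.2 ⟨Or.inr (root_ok (pv := (fun x => (⟨(c45md φ inj).ev x⟩ : Cj (c45md φ inj).φ))) (actsC (m := (c45md φ inj)) mm0I my0) ((msch0 h0).2.1 (nat_lit 31) (by decide)).top (meg1 h0)
    (ht ▸ (mex0 h0).1) (ht ▸ (mex0 h0).2.1) mm0M mm0O),
  (List.forall_mem_cons.2 ⟨Or.inr (root_ok (pv := (fun x => (⟨(c45md φ inj).ev x⟩ : Cj (c45md φ inj).φ))) (actsC (m := (c45md φ inj)) mm1I my0) ((msch0 h0).2.1 (nat_lit 120) (by decide)).top (meg1 h0)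
    (ht ▸ (mex0 h0).1) (ht ▸ (mex0 h0).2.1) mm1M mm1O),
  (List.forall_mem_cons.2 ⟨Or.inr (root_ok (pv := (fun x => (⟨(c45md φ inj).ev x⟩ : Cj (c45md φ inj).φ))) (actsC (m := (c45md φ inj)) mm2I my0) ((msch0 h0).2.1 (nat_lit 21) (by decide)).top (meg1 h0)
    (ht ▸ (mex0 h0).1) (ht ▸ (mex0 h0).2.1) mm2M mm2O),
  (List.forall_mem_cons.2 ⟨Or.inr (root_ok (pv := (fun x => (⟨(c45md φ inj).ev x⟩ : Cj (c45md φ inj).φ))) (actsC (m := (c45md φ inj)) mm4I my0) ((msch0 h0).2.1 (nat_lit 16) (by decide)).top (meg1 h0)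
    (ht ▸ (mex0 h0).1) (ht ▸ (mex0 h0).2.1) mm4M mm4O),
  (List.forall_mem_cons.2 ⟨Or.inr (root_ok (pv := (fun x => (⟨(c45md φ inj).ev x⟩ : Cj (c45md φ inj).φ))) (actsC (m := (c45md φ inj)) mm7I my0) ((msch0 h0).2.1 (nat_lit 101) (by decide)).top (meg1 h0)
    (ht ▸ (mex0 h0).1) (ht ▸ (mex0 h0).2.1) mm7M mm7O),
  (List.forall_mem_cons.2 ⟨Or.inr (root_ok (pv := (fun x => (⟨(c45md φ inj).ev x⟩ : Cj (c45md φ inj).φ))) (actsC (m := (c45md φ inj)) mm11I my0) ((msch0 h0).2.1 (nat_lit 106) (by decide)).top (meg1 h0)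
    (ht ▸ (mex0 h0).1) (ht ▸ (mex0 h0).2.1) mm11M mm11O),
  (List.forall_mem_cons.2 ⟨Or.inr (root_ok (pv := (fun x => (⟨(c45md φ inj).ev x⟩ : Cj (c45md φ inj).φ))) (actsC (m := (c45md φ inj)) mm27I my0) ((msch0 h0).2.1 (nat_lit 52) (by decide)).top (meg1 h0)
    (ht ▸ (mex0 h0).1) (ht ▸ (mex0 h0).2.1) mm27M mm27O),
  (fun _ h => absurd h List.not_mem_nil)⟩)⟩)⟩)⟩)⟩)⟩)⟩)⟩)
theorem mcore1 (h0 : ∀ s < 2, (c45md φ inj).In ⊤ (mg0 s)) (N : Subgroup G) (hN : N.Normal) (h : N ≤ ((c45md φ inj).gn mg1 2)) : N ≤ ((c45md φ inj).gn mg1 2) := h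
theorem mcore2 (h0 : ∀ s < 2, (c45md φ inj).In ⊤ (mg0 s)) (N : Subgroup G) (hN : N.Normal) (h : N ≤ ((c45md φ inj).gn mg1 2)) : N ≤ (⊥ : Subgroup G) :=
  (le_inf (mcore1 h0 N hN h) (normal_le_stab hN (h.trans mfx0) (mem_orbit_of_eq (mex0 h0).1 (j := (nat_lit 81)) (by decide) (congrArg (fun x => (⟨(c45md φ inj).ev x⟩ : Cj (c45md φ inj).φ)) mcp1)))).trans (mex1 h0).2.1.le
theorem mP : ∀ i < 2, (chkP c45.mul c45.one mg0 me0 [[nat_lit 15],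
  [nat_lit 1367, nat_lit 8059]] (nat_lit 5)) i = 0 :=
  (rng_step (all0 _) mP_0)
theorem mE : ∀ i < 2, (chkE mg0 de [nat_lit 93823244891, nat_lit 1220683404322787]) i = 0 :=
  (rng_step (all0 _) mE_0)

end Cfsg.Agent.H5.On
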