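import Mathlib

/-! Packed vectors in natural numbers (Kronecker substitution) and kernel-friendly loops. -/

set_option autoImplicit false

namespace Cfsg.Agent.H5

open Finset

/-- `Σ_{i<n} f i * B^i`. -/
def pack (B : ℕ) (f : ℕ → ℕ) (n : ℕ) : ℕ := ∑ i ∈ range n, f i * B ^ i

theorem pack_zero (B : ℕ) (f : ℕ → ℕ) : pack B f 0 = 0 := by simp [pack]

theorem pack_succ (B : ℕ) (f : ℕ → ℕ) (n : ℕ) : pack B f (n + 1) = pack B f n + f n * B ^ n := by
  simp [pack, sum_range_succ]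

theorem pack_succ' (B : ℕ) (f : ℕ → ℕ) (n : ℕ) :
    pack B f (n + 1) = f 0 + B * pack B (fun i => f (i + 1)) n := by
  simp only [pack, sum_range_succ', mul_sum, pow_zero, mul_one, pow_succ]
  rw [add_comm]; congr 1
  exact sum_congr rfl fun i _ => by ring

theorem pack_congr {B : ℕ} {f g : ℕ → ℕ} {n : ℕ} (h : ∀ i < n, f i = g i) :
    pack B f n = pack B g n :=
  sum_congr rfl fun i hi => by rw [h i (mem_range.1 hi)]

theorem pack_lt {B : ℕ} {f : ℕ → ℕ} {n : ℕ} (h : ∀ i < n, f i < B) : pack B f n < B ^ n := by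
  induction n with
  | zero => simp [pack]
  | succ n ih =>
    rw [pack_succ]
    have h1 := ih fun i hi => h i (by omega)
    have h2 := h n (by omega)
    calc pack B f n + f n * B ^ n < B ^ n + f n * B ^ n := by omega
      _ = (f n + 1) * B ^ n := by ring
      _ ≤ B * B ^ n := Nat.mul_le_mul_right _ h2
      _ = B ^ (n + 1) := by ring

theorem pack_add_index (B : ℕ) (f : ℕ → ℕ) (m n : ℕ) :
    pack B f (m + n) = pack B f m + B ^ m * pack B (fun i => f (m + i)) n := by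
  simp only [pack, sum_range_add, mul_sum, pow_add]
  congr 1
  exact sum_congr rfl fun i _ => by ring

theorem pack_add (B : ℕ) (f g : ℕ → ℕ) (n : ℕ) :
    pack B f n + pack B g n = pack B (fun i => f i + g i) n := by
  simp only [pack, ← sum_add_distrib, add_mul]

theorem pack_mul (B : ℕ) (f : ℕ → ℕ) (n c : ℕ) :
    pack B f n * c = pack B (fun i => f i * c) n := by
  simp only [pack, sum_mul]
  exact sum_congr rfl fun i _ => by ring

/-- digit extraction -/
theorem digit_pack_add {B : ℕ} {f : ℕ → ℕ} {n : ℕ} (h : ∀ i < n, f i < B) (hi : ℕ) {i : ℕ}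
    (hin : i < n) : (pack B f n + B ^ n * hi) / B ^ i % B = f i := by
  obtain ⟨k, rfl⟩ : ∃ k, n = i + (k + 1) := ⟨n - i - 1, by omega⟩
  have hB : 0 < B := lt_of_le_of_lt (Nat.zero_le _) (h i hin)
  rw [pack_add_index, pack_succ']
  have h1 : pack B f i < B ^ i := pack_lt fun j hj => h j (by omega)
  have e : pack B f i + B ^ i * (f (i + 0) + B * pack B (fun j => f (i + (j + 1))) k) + B ^ (i + (k + 1)) * hi
      = pack B f i + B ^ i * (f i + B * (pack B (fun j => f (i + (j + 1))) k + B ^ k * hi)) := by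
    simp only [add_zero]; ring
  rw [e, Nat.add_mul_div_left _ _ (pow_pos hB i), Nat.div_eq_of_lt h1, zero_add,
    Nat.add_mul_mod_self_left, Nat.mod_eq_of_lt (h i hin)]

theorem digit_pack {B : ℕ} {f : ℕ → ℕ} {n : ℕ} (h : ∀ i < n, f i < B) {i : ℕ}
    (hin : i < n) : pack B f n / B ^ i % B = f i := by
  simpa using digit_pack_add h 0 hin

theorem digit_pack_ge {B : ℕ} {f : ℕ → ℕ} {n : ℕ} (h : ∀ i < n, f i < B) (hB : 0 < B) {i : ℕ}
    (hin : n ≤ i) : pack B f n / B ^ i % B = 0 := by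
  rw [Nat.div_eq_of_lt (lt_of_lt_of_le (pack_lt h) (Nat.pow_le_pow_right hB hin))]; simp

theorem pack_inj {B : ℕ} {f g : ℕ → ℕ} {n : ℕ} (hf : ∀ i < n, f i < B) (hg : ∀ i < n, g i < B)
    (e : pack B f n = pack B g n) : ∀ i < n, f i = g i := fun i hi => by
  rw [← digit_pack hf hi, e, digit_pack hg hi]

theorem mod_pow_eq_pack (B x n : ℕ) : x % B ^ n = pack B (fun i => x / B ^ i % B) n := by
  induction n with
  | zero => simp [pack, Nat.mod_one]
  | succ n ih => rw [pack_succ, ← ih, Nat.mod_pow_succ]; ring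

theorem eq_pack_of_lt {B x n : ℕ} (h : x < B ^ n) : x = pack B (fun i => x / B ^ i % B) n := by
  rw [← mod_pow_eq_pack, Nat.mod_eq_of_lt h]

theorem pack_modEq (B : ℕ) (f : ℕ → ℕ) (n m C : ℕ) (h : B ≡ C [MOD m]) :
    pack B f n ≡ pack C f n [MOD m] := by
  induction n with
  | zero => simp [pack_zero, Nat.ModEq]
  | succ n ih => rw [pack_succ, pack_succ]; exact ih.add ((h.pow n).mul_left _)

theorem pack_one (f : ℕ → ℕ) (n : ℕ) : pack 1 f n = ∑ i ∈ range n, f i := by simp [pack]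

/-- digits of a bitwise `and` -/
theorem digit_land (w a b i : ℕ) :
    (a &&& b) / (2 ^ w) ^ i % 2 ^ w = (a / (2 ^ w) ^ i % 2 ^ w) &&& (b / (2 ^ w) ^ i % 2 ^ w) := by
  rw [← pow_mul, Nat.and_div_two_pow, Nat.and_mod_two_pow]

theorem digit_xor (w a b i : ℕ) :
    (a ^^^ b) / (2 ^ w) ^ i % 2 ^ w = (a / (2 ^ w) ^ i % 2 ^ w) ^^^ (b / (2 ^ w) ^ i % 2 ^ w) := by
  rw [← pow_mul, Nat.xor_div_two_pow, Nat.xor_mod_two_pow]

/-- `and` with a packed mask -/
theorem land_pack (w a : ℕ) (m : ℕ → ℕ) (n : ℕ) (hm : ∀ i < n, m i < 2 ^ w) :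
    a &&& pack (2 ^ w) m n = pack (2 ^ w) (fun i => (a / (2 ^ w) ^ i % 2 ^ w) &&& m i) n := by
  have h1 : a &&& pack (2 ^ w) m n < (2 ^ w) ^ n :=
    lt_of_le_of_lt Nat.and_le_right (pack_lt hm)
  rw [eq_pack_of_lt h1]
  exact pack_congr fun i hi => by rw [digit_land, digit_pack hm hi]

/-- The product of two packed numbers, up to digit `n - 1`. -/
theorem pack_mul_pack (B : ℕ) (r x : ℕ → ℕ) (n : ℕ) :
    ∃ hi, pack B r n * pack B x n =
      pack B (fun e => ∑ a ∈ range (e + 1), r a * x (e - a)) n + B ^ n * hi := by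
  have e1 : pack B r n * pack B x n =
      ∑ a ∈ range n, ∑ b ∈ range n, r a * x b * B ^ (a + b) := by
    simp only [pack, sum_mul_sum, pow_add]
    exact sum_congr rfl fun a _ => sum_congr rfl fun b _ => by ring
  have e2 : pack B (fun e => ∑ a ∈ range (e + 1), r a * x (e - a)) n =
      ∑ a ∈ range n, ∑ b ∈ range (n - a), r a * x b * B ^ (a + b) := by
    rw [← sum_range_diag_flip n (fun a b => r a * x b * B ^ (a + b))]
    simp only [pack, sum_mul]
    refine sum_congr rfl fun e _ => sum_congr rfl fun a ha => ?_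
    rw [Nat.add_sub_cancel' (by have := mem_range.1 ha; omega)]
  refine ⟨∑ a ∈ range n, ∑ b ∈ range a, r a * x (n - a + b) * B ^ b, ?_⟩
  rw [e1, e2, mul_sum, ← sum_add_distrib]
  refine sum_congr rfl fun a ha => ?_
  have ha' := mem_range.1 ha
  conv_lhs => rw [show n = (n - a) + a by omega, sum_range_add]
  congr 1
  rw [mul_sum]
  refine sum_congr rfl fun b _ => ?_
  rw [show a + (n - a + b) = n + b by omega, pow_add]; ring

/-- Dot product by one multiplication. -/
theorem dot_digit {B n : ℕ} (r x : ℕ → ℕ) (k R X : ℕ) (hr : ∀ i < n + 1, r i ≤ R)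
    (hx : ∀ i < n + 1, x i ≤ X) (hB : (n + 1) * (R * X) + k < B) :
    (pack B (fun j => r (n - j)) (n + 1) * pack B x (n + 1) + k * B ^ n) / B ^ n % B =
      ∑ j ∈ range (n + 1), r j * x j + k := by
  obtain ⟨hi, e⟩ := pack_mul_pack B (fun j => r (n - j)) x (n + 1)
  have hc : ∀ e < n + 1, ∑ a ∈ range (e + 1), r (n - a) * x (e - a) ≤ (n + 1) * (R * X) := by
    intro e he
    calc ∑ a ∈ range (e + 1), r (n - a) * x (e - a) ≤ ∑ _a ∈ range (e + 1), R * X :=
          sum_le_sum fun a _ => Nat.mul_le_mul (hr _ (by omega)) (hx _ (by omega))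
      _ = (e + 1) * (R * X) := by simp
      _ ≤ _ := Nat.mul_le_mul_right _ (by omega)
  have e2 : pack B (fun e => ∑ a ∈ range (e + 1), r (n - a) * x (e - a)) (n + 1) + B ^ (n + 1) * hi
      + k * B ^ n = pack B (fun e => ∑ a ∈ range (e + 1), r (n - a) * x (e - a) +
        if e = n then k else 0) (n + 1) + B ^ (n + 1) * hi := by
    rw [← pack_add]
    have : pack B (fun e => if e = n then k else 0) (n + 1) = k * B ^ n := by
      simp [pack]
    rw [this]; ring
  rw [e, e2, digit_pack_add _ _ (Nat.lt_succ_self n)]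
  · simp only [if_true, add_left_inj]
    rw [← sum_range_reflect]
    refine sum_congr rfl fun j hj => ?_
    have := mem_range.1 hj
    rw [show n - (n + 1 - 1 - j) = j by omega]
  · intro e he
    have := hc e he
    split_ifs <;> omega

/-- Kronecker form of a matrix with `m` rows and `n + 1` columns. -/
def kronM (B : ℕ) (M : ℕ → ℕ → ℕ) (m n : ℕ) : ℕ :=
  pack (B ^ (2 * n + 2)) (fun i => pack B (fun j => M i (n - j)) (n + 1)) m

def kronK (B : ℕ) (k : ℕ → ℕ) (m n : ℕ) : ℕ :=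
  pack (B ^ (2 * n + 2)) (fun i => k i * B ^ n) m

/-- Matrix times vector by a multiplication, a shift, a mask and a remainder. -/
theorem kron_matvec (w n m r msk : ℕ) (M : ℕ → ℕ → ℕ) (x k : ℕ → ℕ) (R X K : ℕ)
    (hM : ∀ i < m, ∀ j < n + 1, M i j ≤ R) (hx : ∀ i < n + 1, x i ≤ X) (hk : ∀ i < m, k i ≤ K)
    (hB : (n + 1) * (R * X) + K < 2 ^ w) (hRB : R < 2 ^ w) (hXB : X < 2 ^ w)
    (hr : r ≤ w) (hmsk : msk < 2 ^ (w - r)) (hm : m ≤ 2 * n) (hw : w ≠ 0) :
    (((kronM (2 ^ w) M m n * pack (2 ^ w) x (n + 1) + kronK (2 ^ w) k m n) >>> (w * n + r)) &&&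
        pack ((2 ^ w) ^ (2 * n + 2)) (fun _ => msk) m) % ((2 ^ w) ^ (2 * n + 1) - 1) =
      pack (2 ^ w) (fun i => ((∑ j ∈ range (n + 1), M i j * x j + k i) >>> r) &&& msk) m := by
  set B := 2 ^ w with hBdef
  have hB1 : 1 ≤ B := Nat.one_le_two_pow
  set P : ℕ → ℕ := fun i => pack B (fun j => M i (n - j)) (n + 1) * pack B x (n + 1) + k i * B ^ n
    with hP
  have e1 : kronM B M m n * pack B x (n + 1) + kronK B k m n = pack (B ^ (2 * n + 2)) P m := by
    rw [kronM, kronK, pack_mul, pack_add]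
  have hPlt : ∀ i < m, P i < B ^ (2 * n + 2) := by
    intro i hi
    have h1 : pack B (fun j => M i (n - j)) (n + 1) < B ^ (n + 1) :=
      pack_lt fun j _ => lt_of_le_of_lt (hM i hi _ (by omega)) hRB
    have h2 : pack B x (n + 1) < B ^ (n + 1) := pack_lt fun j hj => lt_of_le_of_lt (hx j hj) hXB
    have h3 : k i * B ^ n < B ^ (n + 1) := by
      have : k i < B := by have := hk i hi; omega
      rw [pow_succ']; exact Nat.mul_lt_mul_of_pos_right this (pow_pos hB1 n)
    have h4 : B ^ (2 * n + 2) = B ^ (n + 1) * B ^ (n + 1) := by ring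
    rw [h4]
    obtain ⟨a, ha⟩ := Nat.exists_eq_add_of_lt h1
    simp only [hP]
    generalize pack B (fun j => M i (n - j)) (n + 1) = u at *
    generalize pack B x (n + 1) = v at *
    generalize B ^ (n + 1) = Q at *
    nlinarith
  have hmsk' : msk < B := lt_of_lt_of_le hmsk (Nat.pow_le_pow_right (by norm_num) (by omega))
  have hW : B ^ (2 * n + 2) = 2 ^ (w * (2 * n + 2)) := by rw [hBdef, ← pow_mul]
  have hmsk'' : msk < B ^ (2 * n + 2) :=
    lt_of_lt_of_le hmsk' (Nat.le_self_pow (by omega) B)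
  rw [e1, hW, land_pack _ _ _ _ (fun _ _ => hW ▸ hmsk''), ← hW]
  have e2 : ∀ i < m, ((pack (B ^ (2 * n + 2)) P m >>> (w * n + r)) / (B ^ (2 * n + 2)) ^ i %
      B ^ (2 * n + 2)) &&& msk = ((∑ j ∈ range (n + 1), M i j * x j + k i) >>> r) &&& msk := by
    intro i hi
    have hd := dot_digit (B := B) (n := n) (M i) x (k i) R X (hM i hi) hx
      (by have := hk i hi; omega)
    have hd2 := digit_pack hPlt hi
    rw [← hd]
    change _ = ((P i / B ^ n % B) >>> r) &&& msk
    rw [← hd2]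
    apply Nat.eq_of_testBit_eq
    intro t
    by_cases ht : t < w - r
    · simp only [hBdef, ← pow_mul, Nat.testBit_and, Nat.testBit_mod_two_pow, Nat.testBit_div_two_pow,
        Nat.testBit_shiftRight]
      have a1 : t < w * (2 * n + 2) := by nlinarith [Nat.sub_le w r]
      have a2 : r + t < w := by omega
      have a3 : r + t + w * n < w * (2 * n + 2) := by nlinarith
      simp only [a1, a2, a3, decide_true, Bool.true_and]
      congr 2; ring
    · have : msk.testBit t = false :=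
        Nat.testBit_lt_two_pow (lt_of_lt_of_le hmsk (Nat.pow_le_pow_right (by norm_num) (by omega)))
      simp [this]
  rw [pack_congr e2]
  set f : ℕ → ℕ := fun i => ((∑ j ∈ range (n + 1), M i j * x j + k i) >>> r) &&& msk
  have hf : ∀ i < m, f i < B := fun i _ => lt_of_le_of_lt Nat.and_le_right hmsk'
  have hmod : B ^ (2 * n + 2) ≡ B [MOD B ^ (2 * n + 1) - 1] := by
    have h1 : 1 ≤ B ^ (2 * n + 1) := Nat.one_le_pow _ _ hB1
    have : B ^ (2 * n + 1) ≡ 1 [MOD B ^ (2 * n + 1) - 1] := (Nat.modEq_iff_dvd' h1).2 (dvd_refl _) |>.symm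
    have := this.mul_right B
    rwa [one_mul, ← pow_succ] at this
  rw [pack_modEq _ f m _ B hmod]
  apply Nat.mod_eq_of_lt
  have hB2 : 2 ≤ B := by
    rw [hBdef]; exact Nat.le_self_pow hw 2
  have h1 := pack_lt hf
  have h2 : B ^ m ≤ B ^ (2 * n) := Nat.pow_le_pow_right hB1 hm
  have h3 : B ^ (2 * n + 1) = B ^ (2 * n) * B := pow_succ _ _
  have h4 : 1 ≤ B ^ (2 * n) := Nat.one_le_pow _ _ hB1
  have : B ^ (2 * n) * 2 ≤ B ^ (2 * n) * B := Nat.mul_le_mul_left _ hB2
  omega

/-! ### Kernel-friendly loops -/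

/-- evaluate `n` to a literal before continuing -/
noncomputable def force (n : ℕ) (k : ℕ → ℕ) : ℕ :=
  Nat.rec (motive := fun _ => ℕ) 0 (fun m _ => k m) (Nat.succ n)

@[simp] theorem force_eq (n : ℕ) (k : ℕ → ℕ) : force n k = k n := rfl

/-- `if c = 0 then a else b` -/
noncomputable def ifz (c a b : ℕ) : ℕ := Nat.rec (motive := fun _ => ℕ) a (fun _ _ => b) c

theorem ifz_eq (c a b : ℕ) : ifz c a b = if c = 0 then a else b := by
  cases c <;> rfl

def dbl (g : ℕ → ℕ) (a : ℕ) : ℕ := Nat.add (g (Nat.mul 2 a)) (g (Nat.add (Nat.mul 2 a) 1))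

def oct (g : ℕ → ℕ) (a : ℕ) : ℕ :=
  (fun b => Nat.add (Nat.add (Nat.add (g b) (g (Nat.add b 1))) (Nat.add (g (Nat.add b 2)) (g (Nat.add b 3))))
   (Nat.add (Nat.add (g (Nat.add b 4)) (g (Nat.add b 5))) (Nat.add (g (Nat.add b 6)) (g (Nat.add b 7)))))
   (Nat.mul 8 a)

/-- `g a` is the sum of `f` over the `a`-th block of length `N`. -/
def Blk (g f : ℕ → ℕ) (N : ℕ) : Prop := ∀ a, g a = ∑ i ∈ range N, f (a * N + i)

theorem Blk.self (f : ℕ → ℕ) : Blk f f 1 := fun a => by simp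

theorem blk_aux {g f : ℕ → ℕ} {N : ℕ} (h : Blk g f N) (c a : ℕ) :
    ∑ j ∈ range c, g (c * a + j) = ∑ i ∈ range (c * N), f (a * (c * N) + i) := by
  have : ∀ d, ∑ j ∈ range d, g (c * a + j) = ∑ i ∈ range (d * N), f (a * (c * N) + i) := by
    intro d
    induction d with
    | zero => simp
    | succ d ih =>
      rw [sum_range_succ, ih, h, add_mul d 1 N, one_mul, sum_range_add]
      congr 1
      exact sum_congr rfl fun i _ => by congr 1; ring
  exact this c

theorem Blk.dbl {g f : ℕ → ℕ} {N : ℕ} (h : Blk g f N) : Blk (dbl g) f (2 * N) := fun a => by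
  rw [← blk_aux h]
  simp [H5.dbl, sum_range_succ]

theorem Blk.oct {g f : ℕ → ℕ} {N : ℕ} (h : Blk g f N) : Blk (oct g) f (8 * N) := fun a => by
  rw [← blk_aux h]
  simp [H5.oct, sum_range_succ, add_assoc]

def s8 (f : ℕ → ℕ) : ℕ → ℕ := oct f
def s64 (f : ℕ → ℕ) : ℕ → ℕ := oct (oct f)
def s128 (f : ℕ → ℕ) : ℕ → ℕ := dbl (oct (oct f))
def s256 (f : ℕ → ℕ) : ℕ → ℕ := dbl (dbl (oct (oct f)))
def s512 (f : ℕ → ℕ) : ℕ → ℕ := oct (oct (oct f))
def s1024 (f : ℕ → ℕ) : ℕ → ℕ := dbl (oct (oct (oct f)))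
def s4096 (f : ℕ → ℕ) : ℕ → ℕ := oct (oct (oct (oct f)))
theorem s8_blk (f : ℕ → ℕ) : Blk (s8 f) f 8 := (Blk.self f).oct
theorem s64_blk (f : ℕ → ℕ) : Blk (s64 f) f 64 := (Blk.self f).oct.oct
theorem s128_blk (f : ℕ → ℕ) : Blk (s128 f) f 128 := (Blk.self f).oct.oct.dbl
theorem s256_blk (f : ℕ → ℕ) : Blk (s256 f) f 256 := (Blk.self f).oct.oct.dbl.dbl
theorem s512_blk (f : ℕ → ℕ) : Blk (s512 f) f 512 := (Blk.self f).oct.oct.oct
theorem s1024_blk (f : ℕ → ℕ) : Blk (s1024 f) f 1024 := (Blk.self f).oct.oct.oct.dbl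
theorem s4096_blk (f : ℕ → ℕ) : Blk (s4096 f) f 4096 := (Blk.self f).oct.oct.oct.oct

/-- a plain loop `Σ_{i<n} f i` -/
noncomputable def sumTo (f : ℕ → ℕ) (n : ℕ) : ℕ :=
  Nat.rec (motive := fun _ => ℕ) 0 (fun m ih => Nat.add ih (f m)) n

theorem sumTo_eq (f : ℕ → ℕ) (n : ℕ) : sumTo f n = ∑ i ∈ range n, f i := by
  induction n with
  | zero => rfl
  | succ n ih => rw [sum_range_succ, ← ih]; rfl

theorem sumTo_zero {f : ℕ → ℕ} {n : ℕ} (h : sumTo f n = 0) : ∀ i < n, f i = 0 := by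
  rw [sumTo_eq, sum_eq_zero_iff] at h
  exact fun i hi => h i (mem_range.2 hi)

theorem Blk.sum {g f : ℕ → ℕ} {N : ℕ} (h : Blk g f N) (c : ℕ) :
    ∑ j ∈ range c, g j = ∑ i ∈ range (c * N), f i := by
  simpa using blk_aux h c 0

theorem Blk.zero {g f : ℕ → ℕ} {N : ℕ} (h : Blk g f N) {c : ℕ} (hz : ∀ j < c, g j = 0) :
    ∀ i < c * N, f i = 0 := by
  have := h.sum c
  rw [sum_eq_zero fun j hj => hz j (mem_range.1 hj), eq_comm, sum_eq_zero_iff] at this
  exact fun i hi => this i (mem_range.2 hi)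

/-- restrict a check to `i < n` -/
noncomputable def below (n : ℕ) (f : ℕ → ℕ) (i : ℕ) : ℕ :=
  Bool.rec (motive := fun _ => ℕ) (f i) 0 (Nat.ble n i)

theorem below_eq (n : ℕ) (f : ℕ → ℕ) (i : ℕ) : below n f i = if i < n then f i else 0 := by
  unfold below
  by_cases h : i < n
  · have : Nat.ble n i = false := by
      rw [Bool.eq_false_iff]; intro h'; have := Nat.le_of_ble_eq_true h'; omega
    rw [this, if_pos h]
  · have : Nat.ble n i = true := Nat.ble_eq_true_of_le (by omega)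
    rw [this, if_neg h]

theorem sum_below {n N : ℕ} (f : ℕ → ℕ) (h : n ≤ N) :
    ∑ i ∈ range N, below n f i = ∑ i ∈ range n, f i := by
  obtain ⟨k, rfl⟩ := Nat.exists_eq_add_of_le h
  rw [sum_range_add, sum_eq_zero (s := range k) fun i _ => by rw [below_eq, if_neg (by omega)], add_zero]
  exact sum_congr rfl fun i hi => by rw [below_eq, if_pos (mem_range.1 hi)]

theorem Blk.zero_below {g f : ℕ → ℕ} {N n : ℕ} (h : Blk g (below n f) N) {c : ℕ}
    (hz : ∀ j < c, g j = 0) (hn : n ≤ c * N) : ∀ i < n, f i = 0 := fun i hi => by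
  have := h.zero hz i (by omega)
  rwa [below_eq, if_pos hi] at this

/-- Data tables: a tree of chunks. -/
inductive Tr where
  | l : ℕ → Tr
  | n : Tr → Tr → Tr

noncomputable def Tr.get (t : Tr) : ℕ → ℕ :=
  Tr.rec (motive := fun _ => ℕ → ℕ) (fun v _ => v)
    (fun _ _ a b i => ifz (Nat.land i 1) (a (Nat.shiftRight i 1)) (b (Nat.shiftRight i 1))) t

/-- entry `i` (of width `w`, mask `m`) of a table with `2^lg` entries per chunk (`lm = 2^lg-1`) -/
noncomputable def look (t : Tr) (lg lm w m i : ℕ) : ℕ :=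
  Nat.rec (motive := fun _ => ℕ) 0
    (fun c _ => Nat.land (Nat.shiftRight (t.get c) (Nat.mul w (Nat.land i lm))) m)
    (Nat.succ (Nat.shiftRight i lg))

theorem look_le (t : Tr) (lg lm w m i : ℕ) : look t lg lm w m i ≤ m := Nat.and_le_right

/-- entry `i` of width `w` of a packed number -/
def fld (T w m i : ℕ) : ℕ := Nat.land (Nat.shiftRight T (Nat.mul w i)) m

theorem fld_le (T w m i : ℕ) : fld T w m i ≤ m := Nat.and_le_right

theorem fld_eq (T w i : ℕ) : fld T w (2 ^ w - 1) i = T / (2 ^ w) ^ i % 2 ^ w := by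
  change (T >>> (w * i)) &&& (2 ^ w - 1) = _
  rw [Nat.and_two_pow_sub_one_eq_mod, Nat.shiftRight_eq_div_pow, pow_mul]

theorem xor_eq_zero' {a b : ℕ} (h : Nat.xor a b = 0) : a = b := Nat.eq_of_xor_eq_zero h

theorem add_eq_zero' {a b : ℕ} (h : Nat.add a b = 0) : a = 0 ∧ b = 0 := Nat.eq_zero_of_add_eq_zero h

theorem lt_of_sub_succ {a b : ℕ} (h : Nat.sub (Nat.succ a) b = 0) : a < b := by
  have : a + 1 - b = 0 := h
  omega

/-! ### Descent -/

/-- If every element of `S` is a base element or is related to an element of smaller depth ... -/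
theorem descent {α : Type*} (S : α → Prop) (P : α → Prop) (dep : α → ℕ)
    (h : ∀ x, S x → P x ∨ ∃ y, S y ∧ dep y < dep x ∧ (P y → P x)) : ∀ x, S x → P x := by
  intro x
  induction' hd : dep x using Nat.strong_induction_on with d ih generalizing x
  intro hx
  rcases h x hx with h1 | ⟨y, hy, hlt, hp⟩
  · exact h1
  · exact hp (ih (dep y) (hd ▸ hlt) y rfl hy)

/-! ### Bit matrices -/

/-- bit `t` of `a` in a ring -/
def bit (R : Type*) [Zero R] [One R] (a t : ℕ) : R := if a.testBit t then 1 else 0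

theorem bit_xor (R : Type*) [Ring R] [CharP R 2] (a b t : ℕ) :
    bit R (a ^^^ b) t = bit R a t + bit R b t := by
  simp only [bit, Nat.testBit_xor]
  cases a.testBit t <;> cases b.testBit t <;> simp [CharTwo.add_self_eq_zero]

theorem bit_zero (R : Type*) [Zero R] [One R] (t : ℕ) : bit R 0 t = 0 := by simp [bit]

noncomputable def xorTo (f : ℕ → ℕ) (n : ℕ) : ℕ :=
  Nat.rec (motive := fun _ => ℕ) 0 (fun m ih => Nat.xor ih (f m)) n

theorem bit_xorTo (R : Type*) [Ring R] [CharP R 2] (f : ℕ → ℕ) (n t : ℕ) :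
    bit R (xorTo f n) t = ∑ j ∈ range n, bit R (f j) t := by
  induction n with
  | zero => simp [xorTo, bit]
  | succ n ih => rw [sum_range_succ, ← ih, ← bit_xor]; rfl

theorem xorTo_lt (f : ℕ → ℕ) (n k : ℕ) (h : ∀ j < n, f j < 2 ^ k) : xorTo f n < 2 ^ k := by
  induction n with
  | zero => exact Nat.two_pow_pos k
  | succ n ih => exact Nat.xor_lt_two_pow (ih fun j hj => h j (by omega)) (h n (by omega))

/-- column `j` of `A` times row `j` of `B` (row length `s`, `M` the mask of the first column,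
`R = 2^s - 1`) -/
def bstep (s M R A B j : ℕ) : ℕ :=
  Nat.mul (Nat.land (Nat.shiftRight A j) M) (Nat.land (Nat.shiftRight B (Nat.mul s j)) R)

theorem bstep_eq (s r A B j : ℕ) (hs : s ≠ 0) :
    bstep s (pack (2 ^ s) (fun _ => 1) r) (2 ^ s - 1) A B j =
      pack (2 ^ s) (fun i => (if A.testBit (s * i + j) then 1 else 0) * (B / 2 ^ (s * j) % 2 ^ s)) r := by
  change ((A >>> j) &&& _) * ((B >>> (s * j)) &&& _) = _
  rw [land_pack _ _ _ _ (fun _ _ => Nat.one_lt_two_pow hs), pack_mul,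
    Nat.and_two_pow_sub_one_eq_mod, Nat.shiftRight_eq_div_pow B]
  refine pack_congr fun i _ => ?_
  congr 1
  apply Nat.eq_of_testBit_eq
  intro t
  rw [Nat.testBit_and, ← pow_mul, Nat.testBit_mod_two_pow, Nat.testBit_div_two_pow,
    Nat.testBit_shiftRight]
  rcases Nat.eq_zero_or_pos t with rfl | ht
  · have : 0 < s := Nat.pos_of_ne_zero hs
    rw [show j + (0 + s * i) = s * i + j by ring]
    cases A.testBit (s * i + j) <;> simp [this]
  · have h1 : Nat.testBit 1 t = false := Nat.testBit_lt_two_pow (Nat.one_lt_two_pow (by omega))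
    rw [h1]; split_ifs <;> simp [h1]

theorem bstep_dig_lt (s A B j i : ℕ) :
    (if A.testBit (s * i + j) then 1 else 0) * (B / 2 ^ (s * j) % 2 ^ s) < 2 ^ s := by
  have := Nat.mod_lt (B / 2 ^ (s * j)) (Nat.two_pow_pos s)
  split_ifs <;> simp [this]

theorem bstep_lt (s r A B j : ℕ) (hs : s ≠ 0) :
    bstep s (pack (2 ^ s) (fun _ => 1) r) (2 ^ s - 1) A B j < 2 ^ (s * r) := by
  rw [bstep_eq _ _ _ _ _ hs, pow_mul 2 s r]
  exact pack_lt fun i _ => bstep_dig_lt s A B j i

theorem bit_bstep (R : Type*) [Ring R] (s r A B j i k : ℕ) (hi : i < r) (hk : k < s) :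
    bit R (bstep s (pack (2 ^ s) (fun _ => 1) r) (2 ^ s - 1) A B j) (s * i + k) =
      bit R A (s * i + j) * bit R B (s * j + k) := by
  have hs : s ≠ 0 := by omega
  have h := digit_pack (fun i _ => bstep_dig_lt s A B j i) hi
  rw [← bstep_eq _ _ _ _ _ hs] at h
  have h2 := congrArg (fun x => Nat.testBit x k) h
  simp only [← pow_mul, Nat.testBit_mod_two_pow, Nat.testBit_div_two_pow, hk, decide_true,
    Bool.true_and] at h2
  simp only [bit]
  rw [add_comm (s * i) k, h2]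
  by_cases hA : A.testBit (s * i + j)
  · simp only [hA, if_true, one_mul, Nat.testBit_mod_two_pow, Nat.testBit_div_two_pow, hk,
      decide_true, Bool.true_and, add_comm k]
  · simp [hA]

/-- product of an `r × n` and an `n × s` bit matrix (both with row length `s`) -/
noncomputable def bmul (s M R n A B : ℕ) : ℕ := xorTo (bstep s M R A B) n

theorem bit_bmul (R : Type*) [Ring R] [CharP R 2] (s r n A B i k : ℕ) (hi : i < r) (hk : k < s) :
    bit R (bmul s (pack (2 ^ s) (fun _ => 1) r) (2 ^ s - 1) n A B) (s * i + k) =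
      ∑ j ∈ range n, bit R A (s * i + j) * bit R B (s * j + k) := by
  rw [bmul, bit_xorTo]
  exact sum_congr rfl fun j _ => bit_bstep R s r A B j i k hi hk

theorem bmul_lt (s r n A B : ℕ) (hs : s ≠ 0) :
    bmul s (pack (2 ^ s) (fun _ => 1) r) (2 ^ s - 1) n A B < 2 ^ (s * r) :=
  xorTo_lt _ _ _ fun j _ => bstep_lt s r A B j hs

end Cfsg.Agent.H5
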