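import Cfsg.Agent.H5.RuD0

set_option autoImplicit false
set_option maxRecDepth 100000

namespace Cfsg.Agent.H5.Ru

theorem aW0_0 : rng aW0f (nat_lit 0) (nat_lit 2) = 0 := by decide +kernel
theorem aW1_0 : rng aW1f (nat_lit 0) (nat_lit 2) = 0 := by decide +kernel
theorem aW2_0 : rng aW2f (nat_lit 0) (nat_lit 2) = 0 := by decide +kernel
theorem aS3_0 : rng aS3f (nat_lit 0) (nat_lit 32) = 0 := by decide +kernel
theorem aT0_3 : aT3 0 = c28.one := by decide +kernel
theorem aS2_0 : rng aS2f (nat_lit 0) (nat_lit 200) = 0 := by decide +kernel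
theorem aS2_1 : rng aS2f (nat_lit 200) (nat_lit 200) = 0 := by decide +kernel
theorem aS2_2 : rng aS2f (nat_lit 400) (nat_lit 200) = 0 := by decide +kernel
theorem aS2_3 : rng aS2f (nat_lit 600) (nat_lit 40) = 0 := by decide +kernel
theorem aT0_2 : aT2 0 = c28.one := by decide +kernel
theorem aS1_0 : rng aS1f (nat_lit 0) (nat_lit 200) = 0 := by decide +kernel
theorem aS1_1 : rng aS1f (nat_lit 200) (nat_lit 200) = 0 := by decide +kernel
theorem aS1_2 : rng aS1f (nat_lit 400) (nat_lit 200) = 0 := by decide +kernel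
theorem aS1_3 : rng aS1f (nat_lit 600) (nat_lit 200) = 0 := by decide +kernel
theorem aS1_4 : rng aS1f (nat_lit 800) (nat_lit 200) = 0 := by decide +kernel
theorem aS1_5 : rng aS1f (nat_lit 1000) (nat_lit 200) = 0 := by decide +kernel
theorem aS1_6 : rng aS1f (nat_lit 1200) (nat_lit 200) = 0 := by decide +kernel
theorem aS1_7 : rng aS1f (nat_lit 1400) (nat_lit 200) = 0 := by decide +kernel
theorem aS1_8 : rng aS1f (nat_lit 1600) (nat_lit 155) = 0 := by decide +kernel
theorem aT0_1 : aT1 0 = c28.one := by decide +kernel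
theorem aS0_0 : rng aS0f (nat_lit 0) (nat_lit 200) = 0 := by decide +kernel
theorem aS0_1 : rng aS0f (nat_lit 200) (nat_lit 200) = 0 := by decide +kernel
theorem aS0_2 : rng aS0f (nat_lit 400) (nat_lit 200) = 0 := by decide +kernel
theorem aS0_3 : rng aS0f (nat_lit 600) (nat_lit 200) = 0 := by decide +kernel
theorem aS0_4 : rng aS0f (nat_lit 800) (nat_lit 200) = 0 := by decide +kernel
theorem aS0_5 : rng aS0f (nat_lit 1000) (nat_lit 200) = 0 := by decide +kernel
theorem aS0_6 : rng aS0f (nat_lit 1200) (nat_lit 200) = 0 := by decide +kernel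
theorem aS0_7 : rng aS0f (nat_lit 1400) (nat_lit 200) = 0 := by decide +kernel
theorem aS0_8 : rng aS0f (nat_lit 1600) (nat_lit 200) = 0 := by decide +kernel
theorem aS0_9 : rng aS0f (nat_lit 1800) (nat_lit 200) = 0 := by decide +kernel
theorem aS0_10 : rng aS0f (nat_lit 2000) (nat_lit 200) = 0 := by decide +kernel
theorem aS0_11 : rng aS0f (nat_lit 2200) (nat_lit 200) = 0 := by decide +kernel
theorem aS0_12 : rng aS0f (nat_lit 2400) (nat_lit 200) = 0 := by decide +kernel
theorem aS0_13 : rng aS0f (nat_lit 2600) (nat_lit 200) = 0 := by decide +kernel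
theorem aS0_14 : rng aS0f (nat_lit 2800) (nat_lit 200) = 0 := by decide +kernel
theorem aS0_15 : rng aS0f (nat_lit 3000) (nat_lit 200) = 0 := by decide +kernel
theorem aS0_16 : rng aS0f (nat_lit 3200) (nat_lit 200) = 0 := by decide +kernel
theorem aS0_17 : rng aS0f (nat_lit 3400) (nat_lit 200) = 0 := by decide +kernel
theorem aS0_18 : rng aS0f (nat_lit 3600) (nat_lit 200) = 0 := by decide +kernel
theorem aS0_19 : rng aS0f (nat_lit 3800) (nat_lit 200) = 0 := by decide +kernel
theorem aS0_20 : rng aS0f (nat_lit 4000) (nat_lit 60) = 0 := by decide +kernel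
theorem aT0_0 : aT0 0 = c28.one := by decide +kernel
theorem ay3Y_0 : rngB ay3Yf (nat_lit 32) (nat_lit 0) (nat_lit 1) = 0 := by decide +kernel
theorem aO3_0 : rngB aO3f (nat_lit 32) (nat_lit 0) (nat_lit 1) = 0 := by decide +kernel
theorem ay2Y_0 : rngB ay2Yf (nat_lit 640) (nat_lit 0) (nat_lit 10) = 0 := by decide +kernel
theorem aO2_0 : rngB aO2f (nat_lit 640) (nat_lit 0) (nat_lit 10) = 0 := by decide +kernel
theorem aF2_0 : rng aF2f (nat_lit 0) (nat_lit 2) = 0 := by decide +kernel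
theorem ay1Y_0 : rngB ay1Yf (nat_lit 1755) (nat_lit 0) (nat_lit 16) = 0 := by decide +kernel
theorem ay1Y_1 : rngB ay1Yf (nat_lit 1755) (nat_lit 16) (nat_lit 12) = 0 := by decide +kernel
theorem aO1_0 : rngB aO1f (nat_lit 1755) (nat_lit 0) (nat_lit 16) = 0 := by decide +kernel
theorem aO1_1 : rngB aO1f (nat_lit 1755) (nat_lit 16) (nat_lit 12) = 0 := by decide +kernel
theorem aF1_0 : rng aF1f (nat_lit 0) (nat_lit 2) = 0 := by decide +kernel
theorem ay0Y_0 : rngB ay0Yf (nat_lit 4060) (nat_lit 0) (nat_lit 16) = 0 := by decide +kernel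
theorem ay0Y_1 : rngB ay0Yf (nat_lit 4060) (nat_lit 16) (nat_lit 16) = 0 := by decide +kernel
theorem ay0Y_2 : rngB ay0Yf (nat_lit 4060) (nat_lit 32) (nat_lit 16) = 0 := by decide +kernel
theorem ay0Y_3 : rngB ay0Yf (nat_lit 4060) (nat_lit 48) (nat_lit 16) = 0 := by decide +kernel
theorem aO0_0 : rngB aO0f (nat_lit 4060) (nat_lit 0) (nat_lit 16) = 0 := by decide +kernel
theorem aO0_1 : rngB aO0f (nat_lit 4060) (nat_lit 16) (nat_lit 16) = 0 := by decide +kernel
theorem aO0_2 : rngB aO0f (nat_lit 4060) (nat_lit 32) (nat_lit 16) = 0 := by decide +kernel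
theorem aO0_3 : rngB aO0f (nat_lit 4060) (nat_lit 48) (nat_lit 16) = 0 := by decide +kernel
theorem aF0_0 : rng aF0f (nat_lit 0) (nat_lit 2) = 0 := by decide +kernel
theorem aK_0 : rngB aKf (nat_lit 4060) (nat_lit 0) (nat_lit 16) = 0 := by decide +kernel
theorem aK_1 : rngB aKf (nat_lit 4060) (nat_lit 16) (nat_lit 16) = 0 := by decide +kernel
theorem aK_2 : rngB aKf (nat_lit 4060) (nat_lit 32) (nat_lit 16) = 0 := by decide +kernel
theorem aK_3 : rngB aKf (nat_lit 4060) (nat_lit 48) (nat_lit 16) = 0 := by decide +kernel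
theorem am7M : chkM (c28b.imgV am7) c28b.row ay0 (nat_lit 0) ay0 [nat_lit 7] [nat_lit 0] 0 = 0 := by decide +kernel
theorem am7O_0 : rngB am7Of (nat_lit 4060) (nat_lit 0) (nat_lit 16) = 0 := by decide +kernel
theorem am7O_1 : rngB am7Of (nat_lit 4060) (nat_lit 16) (nat_lit 16) = 0 := by decide +kernel
theorem am7O_2 : rngB am7Of (nat_lit 4060) (nat_lit 32) (nat_lit 16) = 0 := by decide +kernel
theorem am7O_3 : rngB am7Of (nat_lit 4060) (nat_lit 48) (nat_lit 16) = 0 := by decide +kernel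
theorem am1M : chkM (c28b.imgV am1) c28b.row ay0 (nat_lit 0) ay0 [nat_lit 1] [nat_lit 0] 0 = 0 := by decide +kernel
theorem am1O_0 : rngB am1Of (nat_lit 4060) (nat_lit 0) (nat_lit 16) = 0 := by decide +kernel
theorem am1O_1 : rngB am1Of (nat_lit 4060) (nat_lit 16) (nat_lit 16) = 0 := by decide +kernel
theorem am1O_2 : rngB am1Of (nat_lit 4060) (nat_lit 32) (nat_lit 16) = 0 := by decide +kernel
theorem am1O_3 : rngB am1Of (nat_lit 4060) (nat_lit 48) (nat_lit 16) = 0 := by decide +kernel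
theorem acp1 : pt c28b.row ay1 (nat_lit 128) = pt c28b.row ay0 (nat_lit 299) := by decide +kernel
theorem acp2 : pt c28b.row ay2 (nat_lit 377) = pt c28b.row ay0 (nat_lit 2337) := by decide +kernel
theorem acp3 : pt c28b.row ay3 (nat_lit 8) = pt c28b.row ay0 (nat_lit 1133) := by decide +kernel
theorem aP_0 : rng aPf (nat_lit 0) (nat_lit 2) = 0 := by decide +kernel
theorem aI_0 : rng aIf (nat_lit 0) (nat_lit 2) = 0 := by decide +kernel
theorem tW0_0 : rng tW0f (nat_lit 0) (nat_lit 2) = 0 := by decide +kernel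
theorem tW1_0 : rng tW1f (nat_lit 0) (nat_lit 3) = 0 := by decide +kernel
theorem tS2_0 : rng tS2f (nat_lit 0) (nat_lit 128) = 0 := by decide +kernel
theorem tT0_2 : tT2 0 = c28.one := by decide +kernel
theorem tS1_0 : rng tS1f (nat_lit 0) (nat_lit 80) = 0 := by decide +kernel
theorem tT0_1 : tT1 0 = c28.one := by decide +kernel
theorem tS0_0 : rng tS0f (nat_lit 0) (nat_lit 200) = 0 := by decide +kernel
theorem tS0_1 : rng tS0f (nat_lit 200) (nat_lit 200) = 0 := by decide +kernel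
theorem tS0_2 : rng tS0f (nat_lit 400) (nat_lit 200) = 0 := by decide +kernel
theorem tS0_3 : rng tS0f (nat_lit 600) (nat_lit 200) = 0 := by decide +kernel
theorem tS0_4 : rng tS0f (nat_lit 800) (nat_lit 200) = 0 := by decide +kernel
theorem tS0_5 : rng tS0f (nat_lit 1000) (nat_lit 200) = 0 := by decide +kernel
theorem tS0_6 : rng tS0f (nat_lit 1200) (nat_lit 200) = 0 := by decide +kernel
theorem tS0_7 : rng tS0f (nat_lit 1400) (nat_lit 200) = 0 := by decide +kernel
theorem tS0_8 : rng tS0f (nat_lit 1600) (nat_lit 155) = 0 := by decide +kernel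
theorem tT0_0 : tT0 0 = c28.one := by decide +kernel
theorem ty2Y_0 : rngB ty2Yf (nat_lit 128) (nat_lit 0) (nat_lit 2) = 0 := by decide +kernel
theorem tO2_0 : rngB tO2f (nat_lit 128) (nat_lit 0) (nat_lit 2) = 0 := by decide +kernel
theorem ty1Y_0 : rngB ty1Yf (nat_lit 80) (nat_lit 0) (nat_lit 2) = 0 := by decide +kernel
theorem tO1_0 : rngB tO1f (nat_lit 80) (nat_lit 0) (nat_lit 2) = 0 := by decide +kernel
theorem tF1_0 : rng tF1f (nat_lit 0) (nat_lit 3) = 0 := by decide +kernel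
theorem ty0Y_0 : rngB ty0Yf (nat_lit 1755) (nat_lit 0) (nat_lit 16) = 0 := by decide +kernel
theorem ty0Y_1 : rngB ty0Yf (nat_lit 1755) (nat_lit 16) (nat_lit 12) = 0 := by decide +kernel
theorem tO0_0 : rngB tO0f (nat_lit 1755) (nat_lit 0) (nat_lit 16) = 0 := by decide +kernel
theorem tO0_1 : rngB tO0f (nat_lit 1755) (nat_lit 16) (nat_lit 12) = 0 := by decide +kernel
theorem tF0_0 : rng tF0f (nat_lit 0) (nat_lit 2) = 0 := by decide +kernel
theorem tK_0 : rngB tKf (nat_lit 1755) (nat_lit 0) (nat_lit 16) = 0 := by decide +kernel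
theorem tK_1 : rngB tKf (nat_lit 1755) (nat_lit 16) (nat_lit 12) = 0 := by decide +kernel
theorem tm456M : chkM (c28b.imgV tm456) c28b.row ty0 (nat_lit 128) ty0 [nat_lit 456] [nat_lit 0] 0 = 0 := by decide +kernel
theorem tm456O_0 : rngB tm456Of (nat_lit 1755) (nat_lit 0) (nat_lit 16) = 0 := by decide +kernel

end Cfsg.Agent.H5.Ru
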