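import Cfsg.Agent.H5.RuD0

set_option autoImplicit false
set_option maxRecDepth 100000

namespace Cfsg.Agent.H5.Ru

theorem tm456O_1 : rngB tm456Of (nat_lit 1755) (nat_lit 16) (nat_lit 12) = 0 := by decide +kernel
theorem tm3M : chkM (c28b.imgV tm3) c28b.row ty0 (nat_lit 128) ty0 [nat_lit 3] [nat_lit 0] 0 = 0 := by decide +kernel
theorem tm3O_0 : rngB tm3Of (nat_lit 1755) (nat_lit 0) (nat_lit 16) = 0 := by decide +kernel
theorem tm3O_1 : rngB tm3Of (nat_lit 1755) (nat_lit 16) (nat_lit 12) = 0 := by decide +kernel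
theorem tm1M : chkM (c28b.imgV tm1) c28b.row ty0 (nat_lit 128) ty0 [nat_lit 1] [nat_lit 0] 0 = 0 := by decide +kernel
theorem tm1O_0 : rngB tm1Of (nat_lit 1755) (nat_lit 0) (nat_lit 16) = 0 := by decide +kernel
theorem tm1O_1 : rngB tm1Of (nat_lit 1755) (nat_lit 16) (nat_lit 12) = 0 := by decide +kernel
theorem tm0M : chkM (c28b.imgV tm0) c28b.row ty0 (nat_lit 128) ty0 [nat_lit 0] [nat_lit 0] 0 = 0 := by decide +kernel
theorem tm0O_0 : rngB tm0Of (nat_lit 1755) (nat_lit 0) (nat_lit 16) = 0 := by decide +kernel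
theorem tm0O_1 : rngB tm0Of (nat_lit 1755) (nat_lit 16) (nat_lit 12) = 0 := by decide +kernel
theorem tcp1 : pt c28b.row ty1 (nat_lit 10) = pt c28b.row ty0 (nat_lit 134) := by decide +kernel
theorem tcp2 : pt c28b.row ty2 (nat_lit 94) = pt c28b.row ty0 (nat_lit 1209) := by decide +kernel
theorem tP_0 : rng tPf (nat_lit 0) (nat_lit 2) = 0 := by decide +kernel
theorem tE_0 : rng tEf (nat_lit 0) (nat_lit 2) = 0 := by decide +kernel

end Cfsg.Agent.H5.Ru
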