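import Cfsg.Agent.H5.RuS

/-! The Rudvalis group as a subgroup of `GL(28, 2)`. -/

set_option autoImplicit false

namespace Cfsg.Agent.H5.Ru

open Mdl

section

variable {G : Type*} [Group G] [Finite G] {φ : G →* Matrix (Fin 28) (Fin 28) (ZMod 2)}
  {inj : Function.Injective φ}

theorem simple_a (h0 : ∀ s < 2, (c28md φ inj).In ⊤ (ag0 s)) (ht : (c28md φ inj).gn ag0 2 = ⊤) :
    IsSimpleGroup G ∧ Nat.card G = 145926144000 := by
  have hc : Nat.card G = 145926144000 := by
    rw [← Subgroup.card_top, ← ht]; exact (aex0 h0).2.2.1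
  have hK := (aex0 h0).2.2.2
  refine ⟨simple_of_prim _ 7 (by rw [hK]; norm_num) (fun h => ?_) (amax h0 ht) (acore4 h0)
    fun N _ hN => ?_, hc⟩
  · rw [h, Subgroup.card_top, hc] at hK; norm_num at hK
  · rw [eq_top_iff, ← ht]
    exact gn_le (in_of_chkP hN ((ael0 h0).mono le_top) aP)

theorem simple_t (h0 : ∀ s < 2, (c28md φ inj).In ⊤ (tg0 s)) (ht : (c28md φ inj).gn tg0 2 = ⊤) :
    IsSimpleGroup G ∧ Nat.card G = 17971200 := by
  have hc : Nat.card G = 17971200 := by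
    rw [← Subgroup.card_top, ← ht]; exact (tex0 h0).2.2.1
  have hK := (tex0 h0).2.2.2
  refine ⟨simple_of_prim _ 3 (by rw [hK]; norm_num) (fun h => ?_) (tmax h0 ht) (tcore3 h0)
    fun N _ hN => ?_, hc⟩
  · rw [h, Subgroup.card_top, hc] at hK; norm_num at hK
  · rw [eq_top_iff, ← ht]
    exact gn_le (in_of_chkP hN ((tel0 h0).mono le_top) tP)

theorem sub_a (h0 : ∀ s < 2, (c28md φ inj).In ⊤ (ag0 s)) :
    ∃ K T : Subgroup G, T ≤ K ∧ Nat.card K = 35942400 ∧ IsSimpleGroup T ∧ Nat.card T = 17971200 := by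
  have h1 := in_of_chkE (ael1 h0) tE
  refine ⟨_, _, gn_le h1, (aex0 h0).2.2.2, ?_⟩
  let m' := c28md (G := (c28md φ inj).gn tg0 2) (φ.comp (Subgroup.subtype _))
    (inj.comp Subtype.val_injective)
  exact simple_t (fun s hs => (in_gn (fun s hs => (h1 s hs).top) s hs).sub m' (fun _ => rfl) rfl)
    (gn_sub_top m' (fun _ => rfl) rfl)

end

/-- the ambient model -/
noncomputable abbrev m0 := c28md (G := GL (Fin 28) (ZMod 2)) (Units.coeHom _) Units.val_injective

theorem h00 : ∀ s < 2, m0.In ⊤ (ag0 s) := in_of_chkI m0 (fun _ => rfl) aI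

/-- the group -/
noncomputable abbrev G0 : Subgroup (GL (Fin 28) (ZMod 2)) := m0.gn ag0 2

noncomputable abbrev m1 := c28md (G := G0) ((Units.coeHom _).comp (Subgroup.subtype _))
    (Units.val_injective.comp Subtype.val_injective)

theorem h10 : ∀ s < 2, m1.In ⊤ (ag0 s) := fun s hs => (in_gn h00 s hs).sub m1 (fun _ => rfl) rfl

theorem simple_G0 : IsSimpleGroup G0 ∧ Nat.card G0 = 145926144000 :=
  simple_a h10 (gn_sub_top m1 (fun _ => rfl) rfl)

end Cfsg.Agent.H5.Ru
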