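import Cfsg.Agent.H5.RuT
import Cfsg.Prelude.Def_Spor_Ru

/-! Coordinates and inner products for the Conway–Wales lattice. -/

set_option autoImplicit false

namespace Cfsg.Agent.H5.Ru

open Cfsg.Spor Finset

def ix (q : ℕ) : RuIdx := (⟨q / 4 % 7, Nat.mod_lt _ (by decide)⟩, ⟨q % 4, Nat.mod_lt _ (by decide)⟩)

def nq (p : RuIdx) : ℕ := 4 * p.1 + p.2

theorem ix_nq : ∀ p, ix (nq p) = p := by decide
theorem nq_ix : ∀ q < 28, nq (ix q) = q := by decide
theorem nq_lt : ∀ p, nq p < 28 := by decide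

theorem sum_ix {M : Type*} [AddCommMonoid M] (g : RuIdx → M) :
    ∑ p, g p = ∑ q ∈ range 28, g (ix q) :=
  sum_nbij' nq ix (fun p _ => mem_range.2 (nq_lt p)) (fun _ _ => mem_univ _) (fun p _ => ix_nq p)
    (fun q hq => nq_ix q (mem_range.1 hq)) (fun p _ => by rw [ix_nq])

theorem sum_pair {M : Type*} [AddCommMonoid M] (f : ℕ → M) (n : ℕ) :
    ∑ t ∈ range (2 * n), f t = ∑ q ∈ range n, (f (2 * q) + f (2 * q + 1)) := by
  induction n with
  | zero => rfl
  | succ n ih => rw [mul_add, mul_one, sum_range_succ, sum_range_succ, ih, sum_range_succ, add_assoc]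

/-- real coordinates -/
def co (x : RuVec) (t : ℕ) : ℤ := if t % 2 = 0 then (x (ix (t / 2))).re else (x (ix (t / 2))).im

theorem co_even (x : RuVec) (q : ℕ) : co x (2 * q) = (x (ix q)).re := by
  rw [co, if_pos (by omega), Nat.mul_div_cancel_left _ two_pos]

theorem co_odd (x : RuVec) (q : ℕ) : co x (2 * q + 1) = (x (ix q)).im := by
  rw [co, if_neg (by omega), show (2 * q + 1) / 2 = q by omega]

theorem co_ext {x y : RuVec} (h : ∀ t < 56, co x t = co y t) : x = y := by
  funext p
  have := nq_lt p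
  have h1 := h (2 * nq p) (by omega)
  have h2 := h (2 * nq p + 1) (by omega)
  rw [co_even, co_even, ix_nq] at h1
  rw [co_odd, co_odd, ix_nq] at h2
  exact Zsqrtd.ext h1 h2

theorem co_add (x y : RuVec) (t : ℕ) : co (x + y) t = co x t + co y t := by
  unfold co; split_ifs <;> simp

theorem co_neg (x : RuVec) (t : ℕ) : co (-x) t = -co x t := by
  unfold co; split_ifs <;> simp

theorem co_zero (t : ℕ) : co 0 t = 0 := by
  unfold co; split_ifs <;> simp

theorem co_smul (m : ℕ) (x : RuVec) (t : ℕ) : co ((m : GaussianInt) • x) t = m * co x t := by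
  unfold co; split_ifs <;> simp

/-- the real inner product -/
def rdot (x y : RuVec) : ℤ := ∑ t ∈ range 56, co x t * co y t

/-- the Hermitian product -/
def hp (x y : RuVec) : GaussianInt := ∑ p, x p * star (y p)

theorem rdot_eq (x y : RuVec) :
    rdot x y = ∑ p, ((x p).re * (y p).re + (x p).im * (y p).im) := by
  rw [sum_ix, rdot, show 56 = 2 * 28 from rfl, sum_pair]
  simp only [co_even, co_odd]

theorem re_sum {ι : Type*} (s : Finset ι) (f : ι → GaussianInt) :
    (∑ i ∈ s, f i).re = ∑ i ∈ s, (f i).re := by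
  classical
  induction s using Finset.induction_on with
  | empty => simp
  | insert a s ha ih => rw [sum_insert ha, sum_insert ha, Zsqrtd.re_add, ih]

theorem im_sum {ι : Type*} (s : Finset ι) (f : ι → GaussianInt) :
    (∑ i ∈ s, f i).im = ∑ i ∈ s, (f i).im := by
  classical
  induction s using Finset.induction_on with
  | empty => simp
  | insert a s ha ih => rw [sum_insert ha, sum_insert ha, Zsqrtd.im_add, ih]

theorem hp_re (x y : RuVec) : (hp x y).re = rdot x y := by
  rw [rdot_eq, hp, re_sum]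
  exact sum_congr rfl fun p _ => by simp

theorem hp_im (x y : RuVec) : (hp x y).im = rdot x (gI • y) := by
  rw [rdot_eq, hp, im_sum]
  exact sum_congr rfl fun p _ => by simp [gI]

theorem norm_eq (x : RuVec) : ruNorm x = rdot x x := by
  rw [rdot_eq, ruNorm]
  exact sum_congr rfl fun p _ => by simp [Zsqrtd.norm_def]

theorem rdot_comm (x y : RuVec) : rdot x y = rdot y x := sum_congr rfl fun _ _ => mul_comm _ _

theorem rdot_add (x y z : RuVec) : rdot (x + y) z = rdot x z + rdot y z := by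
  simp only [rdot, co_add, add_mul, sum_add_distrib]

theorem rdot_smul (m : ℕ) (x y : RuVec) : rdot ((m : GaussianInt) • x) y = m * rdot x y := by
  simp only [rdot, co_smul, mul_sum, mul_assoc]

theorem norm_add (x y : RuVec) : ruNorm (x + y) = ruNorm x + ruNorm y + 2 * rdot x y := by
  simp only [norm_eq, rdot, co_add, mul_sum, ← sum_add_distrib]
  exact sum_congr rfl fun _ _ => by ring

theorem hp_add (x y z : RuVec) : hp (x + y) z = hp x z + hp y z := by
  simp only [hp, Pi.add_apply, add_mul, sum_add_distrib]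

theorem hp_smul (c : GaussianInt) (x z : RuVec) : hp (c • x) z = c * hp x z := by
  simp only [hp, Pi.smul_apply, smul_eq_mul, mul_sum, mul_assoc]

theorem hp_star (x y : RuVec) : star (hp x y) = hp y x := by
  simp only [hp, star_sum, star_mul', star_star, mul_comm]

theorem norm_smul (c : GaussianInt) (x : RuVec) : ruNorm (c • x) = c.norm * ruNorm x := by
  simp only [ruNorm, Pi.smul_apply, smul_eq_mul, Zsqrtd.norm_mul, mul_sum]

/-- bits of a mask -/
def bt (a t : ℕ) : ℤ := if a.testBit (6 * t) then 1 else 0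

/-- the vector with support `c` and signs `z` -/
def vz (c z : ℕ) : RuVec := fun p =>
  ⟨bt c (2 * nq p) * (1 - 2 * bt z (2 * nq p)), bt c (2 * nq p + 1) * (1 - 2 * bt z (2 * nq p + 1))⟩

theorem co_vz (c z : ℕ) {t : ℕ} (ht : t < 56) : co (vz c z) t = bt c t * (1 - 2 * bt z t) := by
  rcases Nat.even_or_odd' t with ⟨q, rfl | rfl⟩
  · rw [co_even, vz, nq_ix q (by omega)]
  · rw [co_odd, vz, nq_ix q (by omega)]

def ONES : ℕ := nat_lit 0x41041041041041041041041041041041041041041041041041041041041041041041041041041041041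

def pop (a : ℕ) : ℕ := Nat.mod (Nat.land a ONES) 63

theorem ONES_eq : ONES = pack (2 ^ 6) (fun _ => 1) 56 := by decide +kernel

theorem bt_eq (a t : ℕ) : bt a t = (a / (2 ^ 6) ^ t % 2 : ℕ) := by
  rw [← pow_mul, ← Nat.toNat_testBit, bt]
  cases a.testBit (6 * t) <;> rfl

theorem pop_eq (a : ℕ) : (pop a : ℤ) = ∑ t ∈ range 56, bt a t := by
  have h1 : pop a = (∑ t ∈ range 56, a / (2 ^ 6) ^ t % 2) % 63 := by
    change (a &&& ONES) % 63 = _
    rw [ONES_eq, land_pack 6 a _ 56 (fun _ _ => by norm_num), ← pack_one]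
    refine (pack_modEq _ _ _ 63 1 (by decide)).trans ?_
    rw [pack_congr (g := fun t => a / (2 ^ 6) ^ t % 2) fun i _ => by
      rw [Nat.and_one_is_mod, Nat.mod_mod_of_dvd _ (by norm_num)]]
  have h2 : ∑ t ∈ range 56, a / (2 ^ 6) ^ t % 2 ≤ 56 := by
    refine (sum_le_card_nsmul _ _ 1 fun i _ => by omega).trans (by simp)
  rw [h1, Nat.mod_eq_of_lt (by omega), Nat.cast_sum]
  exact sum_congr rfl fun t _ => (bt_eq a t).symm

/-- the inner product plus 128 -/
noncomputable def dn (c z c' z' : ℕ) : ℕ :=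
  force (Nat.land (Nat.land c c') ONES) fun m =>
    Nat.sub (Nat.add (Nat.mod m 63) 128) (Nat.mul 2 (Nat.mod (Nat.land m (Nat.xor z z')) 63))

theorem dn_eq (c z c' z' : ℕ) : (dn c z c' z' : ℤ) = rdot (vz c z) (vz c' z') + 128 := by
  have h1 : dn c z c' z' = pop (c &&& c') + 128 - 2 * pop (c &&& c' &&& (z ^^^ z')) := by
    change _ = (c &&& c' &&& ONES) % 63 + 128 - 2 * ((c &&& c' &&& (z ^^^ z') &&& ONES) % 63)
    rw [Nat.and_assoc _ (z ^^^ z'), Nat.and_comm (z ^^^ z'), ← Nat.and_assoc]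
    rfl
  have h2 : pop (c &&& c' &&& (z ^^^ z')) < 63 := Nat.mod_lt _ (by norm_num)
  rw [h1, Nat.cast_sub (by omega), Nat.cast_add, Nat.cast_mul, pop_eq, pop_eq, rdot, mul_sum]
  rw [add_sub_right_comm, ← sum_sub_distrib]
  congr 1
  refine sum_congr rfl fun t ht => ?_
  rw [co_vz _ _ (mem_range.1 ht), co_vz _ _ (mem_range.1 ht)]
  simp only [bt, Nat.testBit_and, Nat.testBit_xor]
  cases c.testBit (6 * t) <;> cases c'.testBit (6 * t) <;> cases z.testBit (6 * t) <;>
    cases z'.testBit (6 * t) <;> simp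

/-! ### Gaussian matrices -/

def gm (r m : ℕ → ℕ → ℕ) : Matrix (Fin 28) (Fin 28) GaussianInt := fun k l =>
  ⟨(r k l : ℤ) - 128, (m k l : ℤ) - 128⟩

noncomputable def chkG (ar am br bm cr cm : ℕ → ℕ → ℕ) (i : ℕ) : ℕ :=
  sumTo (fun j => force j fun j => Nat.add
    (Nat.xor (Nat.add (sumTo (fun k => force k fun k => Nat.add (Nat.mul (ar i k) (br k j))
        (Nat.mul 128 (Nat.add (am i k) (bm k j)))) 28) 128)
      (Nat.add (sumTo (fun k => force k fun k => Nat.add (Nat.mul (am i k) (bm k j))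
        (Nat.mul 128 (Nat.add (ar i k) (br k j)))) 28) (cr i j)))
    (Nat.xor (Nat.add (sumTo (fun k => force k fun k => Nat.add (Nat.add (Nat.mul (ar i k) (bm k j))
        (Nat.mul (am i k) (br k j))) 32768) 28) 128)
      (Nat.add (sumTo (fun k => force k fun k => Nat.mul 128 (Nat.add (Nat.add (ar i k) (am i k))
        (Nat.add (br k j) (bm k j)))) 28) (cm i j)))) 28

theorem gm_mul {ar am br bm cr cm : ℕ → ℕ → ℕ} (h : ∀ i < 28, chkG ar am br bm cr cm i = 0) :
    gm ar am * gm br bm = gm cr cm := by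
  funext i j
  obtain ⟨h1, h2⟩ := add_eq_zero' (sumTo_zero (h i i.2) j j.2)
  have h3 := congrArg (Nat.cast : ℕ → ℤ) (xor_eq_zero' h1)
  have h4 := congrArg (Nat.cast : ℕ → ℤ) (xor_eq_zero' h2)
  simp only [sumTo_eq, force_eq, Nat.add_eq, Nat.mul_eq, Nat.cast_add, Nat.cast_sum, Nat.cast_mul,
    Nat.cast_ofNat, ← Fin.sum_univ_eq_sum_range] at h3 h4
  rw [Matrix.mul_apply]
  apply Zsqrtd.ext
  · rw [re_sum]
    have : ∀ k, (gm ar am i k * gm br bm k j).re = ((ar i k : ℤ) * br k j + 128 * (am i k + bm k j)) -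
      ((am i k : ℤ) * bm k j + 128 * (ar i k + br k j)) := fun k => by simp [gm]; ring
    simp only [this, sum_sub_distrib]
    change _ = (cr i j : ℤ) - 128
    omega
  · rw [im_sum]
    have : ∀ k, (gm ar am i k * gm br bm k j).im = ((ar i k : ℤ) * bm k j + am i k * br k j + 32768) -
      128 * ((ar i k : ℤ) + am i k + (br k j + bm k j)) := fun k => by simp [gm]; ring
    simp only [this, sum_sub_distrib]
    change _ = (cm i j : ℤ) - 128
    omega

/-- a table -/
def tb (T i j : ℕ) : ℕ := fld T 8 255 (Nat.add (Nat.mul 28 i) j)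

theorem gm_conj (R M : ℕ) :
    (gm (tb R) (tb M)).conjTranspose = gm (fun i j => tb R j i) (fun i j => Nat.sub 256 (tb M j i)) := by
  funext i j
  have : tb M j i ≤ 255 := fld_le _ _ _ _
  apply Zsqrtd.ext
  · rfl
  · change -((tb M j i : ℤ) - 128) = ((256 - tb M j i : ℕ) : ℤ) - 128
    omega

end Cfsg.Agent.H5.Ru
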