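import Cfsg.Agent.H5.RuL1

/-! Checking functions for the Conway–Wales lattice. -/

set_option autoImplicit false

namespace Cfsg.Agent.H5.Ru

open Cfsg.Spor Finset

noncomputable def tc (i : ℕ) : ℕ := look Tc 4 15 336 (Nat.pred (Nat.pow 2 336)) i
noncomputable def tz (i : ℕ) : ℕ := look Tz 4 15 336 (Nat.pred (Nat.pow 2 336)) i
noncomputable def W1 (i : ℕ) : ℕ := look W1d 5 31 336 (Nat.pred (Nat.pow 2 336)) i
noncomputable def W2 (i : ℕ) : ℕ := look W2d 5 31 336 (Nat.pred (Nat.pow 2 336)) i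
noncomputable def Zr (a : ℕ) : ℕ := Zd.get a
noncomputable def Zs (a s : ℕ) : ℕ := fld (Zr a) 336 (Nat.pred (Nat.pow 2 336)) s

/-- vector number `i` of the table -/
noncomputable def tv (i : ℕ) : RuVec := vz (tc i) (tz i)

/-- all inner products with the basis are divisible by 4 -/
noncomputable def chk4 (i : ℕ) : ℕ := force (tc i) fun c => force (tz i) fun z =>
  sumTo (fun k => force k fun k => Nat.mod (dn c z (tc k) (tz k)) 4) 56

/-- the Gram matrix -/
noncomputable def chkGr (k : ℕ) : ℕ := sumTo (fun l => force l fun l => Nat.add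
  (Nat.xor (Nat.add (dn (tc l) (tz l) (tc k) (tz k)) 384) (Nat.mul 4 (tb GR k l)))
  (force (Nat.add k 28) fun k' =>
    Nat.xor (Nat.add (dn (tc l) (tz l) (tc k') (tz k')) 384) (Nat.mul 4 (tb GM k l)))) 28

noncomputable def chkCm (k : ℕ) : ℕ := Nat.xor (comb GW (fld CM 19 524287 k)) (tc k)

def col (t : ℕ) : ℕ := Nat.xor (fld SY 19 524287 t) (Nat.pow 2 (Nat.add 19 (Nat.mul 6 t)))

/-- the target syndrome -/
noncomputable def tgt (c : ℕ) : ℕ := sumTo (fun k => force (getN GI k) fun g =>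
  Nat.mul (Nat.mod (Nat.div (dn c 0 (tc g) (tz g)) 2) 2) (Nat.pow 2 k)) 19

def cb (c t : ℕ) : ℕ := Nat.land (Nat.shiftRight c (Nat.mul 6 t)) 1

/-- all solutions for the residue `c` satisfy `P` -/
noncomputable def sol (c : ℕ) (P : ℕ → ℕ) : ℕ :=
  force (Nat.div (Nat.sub 16 (pop c)) 4) fun k => force (tgt c)
    (elim 524287 (selL col (cb c) 56) (fun r t => subK (selO col (cb c) 56) r
      (fun w => ifz (Nat.land w 524287) (force (Nat.shiftRight w 19) P) 0) k t) fun x => x)

noncomputable def leaf (c : ℕ) : ℕ :=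
  ifz (Nat.sub (pop c) 16) (ifz c 0 (Nat.mul
    (force (bsearch W1 c 10) fun a => Nat.add (Nat.xor (W1 a) c) (lt0 a 1008))
    (force (bsearch W2 c 10) fun a => Nat.add (Nat.xor (W2 a) c) (lt0 a 756)))) 0

noncomputable def chkE (j : ℕ) : ℕ := force (comb (GW.take 5) j) (enumX (GW.drop 5) leaf)

noncomputable def pr (a : ℕ) : ℕ :=
  ifz (Nat.xor (W1 a) (W1 (Nat.succ a))) (Nat.succ a)
    (ifz (Nat.xor (W1 a) (W1 (Nat.pred a))) (Nat.pred a) a)

noncomputable def inRow (a z : ℕ) : ℕ := mulTo (fun s => Nat.xor (Zs a s) z) 16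

noncomputable def chk1 (a : ℕ) : ℕ := force (W1 a) fun c => force (pr a) fun b =>
  Nat.add (Nat.add (Nat.xor (pop c) 16) (Nat.add (Nat.xor (W1 b) c) (lt0 b 1008)))
    (sol c fun z => ifz (inRow a z) 0 (inRow b z))

noncomputable def chk2 (a : ℕ) : ℕ := force (W2 a) fun c => sol c fun _ => 1

noncomputable def f0 (w : ℕ) : ℕ := ifz (Nat.land w 524287) (Nat.shiftRight w 19) 0

noncomputable def chk0 (j : ℕ) : ℕ :=
  force (col j) (subK (selO col (fun _ => 0) j) (fun x => x) f0 3)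

/-- `1` if the inner products `d c z` have the given values -/
noncomputable def tst (d : ℕ → ℕ → ℕ) (l : T3) : ℕ :=
  T3.rec (motive := fun _ => ℕ) 1 (fun c z t _ ih => ifz (Nat.xor (d c z) t) ih 0) l

noncomputable def cntR (l : T3) (a : ℕ) : ℕ := force a fun a => force (W1 a) fun c =>
  sumTo (fun s => force (Zs a s) fun z => tst (dn c z) l) 16

def fc (q : ℕ) : ℕ := Nat.pow 2 (Nat.mul 6 (Nat.div q 2))

noncomputable def cntF (l : T3) (q : ℕ) : ℕ := force (fc q) fun c =>
  force (Nat.mul (Nat.mod q 2) c) fun z =>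
    tst (fun c' z' => Nat.sub (Nat.mul 4 (dn c z c' z')) 384) l

noncomputable def cnt (l : T3) : ℕ :=
  Nat.add (sumTo (s8 (cntR l)) 126) (sumTo (cntF l) 112)

/-- the conditions for basis vector `j` -/
noncomputable def mkT (j : ℕ) (l : List ℕ) : T3 :=
  List.rec (motive := fun _ => T3) .nil
    (fun k _ ih => .cons (tc k) (tz k) (dn (tc j) (tz j) (tc k) (tz k)) ih) l

/-- monomial words -/
def ap (w : List ℕ) (v : RuVec) : RuVec :=
  List.rec (motive := fun _ => RuVec) v (fun s _ ih =>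
    if s = 0 then gI • ih else if s = 1 then ruRj ih else if s = 2 then ruRk ih else
      if s = 3 then ruSign ih else ruShift ih) w

end Cfsg.Agent.H5.Ru
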