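import Cfsg.Agent.H5.RuL2

set_option autoImplicit false
set_option maxRecDepth 100000

namespace Cfsg.Agent.H5.Ru

open Cfsg.Spor

theorem cG_0 : rng (chkG (tb HR) (tb HM) (tb GR) (tb GM) (fun i j => ifz (Nat.xor i j) 129 128) fun _ _ => 128) 0 7 = 0 := by decide +kernel
theorem cG_1 : rng (chkG (tb HR) (tb HM) (tb GR) (tb GM) (fun i j => ifz (Nat.xor i j) 129 128) fun _ _ => 128) 7 7 = 0 := by decide +kernel
theorem cG_2 : rng (chkG (tb HR) (tb HM) (tb GR) (tb GM) (fun i j => ifz (Nat.xor i j) 129 128) fun _ _ => 128) 14 7 = 0 := by decide +kernel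
theorem cG_3 : rng (chkG (tb HR) (tb HM) (tb GR) (tb GM) (fun i j => ifz (Nat.xor i j) 129 128) fun _ _ => 128) 21 7 = 0 := by decide +kernel
theorem cG : ∀ i < 28, (chkG (tb HR) (tb HM) (tb GR) (tb GM) (fun i j => ifz (Nat.xor i j) 129 128) fun _ _ => 128) i = 0 :=
  (rng_step (rng_step (rng_step (rng_step (all0 _) cG_0) cG_1) cG_2) cG_3)
theorem c4_0 : rng (chk4) 0 100 = 0 := by decide +kernel
theorem c4_1 : rng (chk4) 100 87 = 0 := by decide +kernel
theorem c4 : ∀ i < 187, (chk4) i = 0 :=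
  (rng_step (rng_step (all0 _) c4_0) c4_1)
theorem cGr_0 : rng (chkGr) 0 28 = 0 := by decide +kernel
theorem cGr : ∀ i < 28, (chkGr) i = 0 :=
  (rng_step (all0 _) cGr_0)
theorem cCm_0 : rng (chkCm) 0 56 = 0 := by decide +kernel
theorem cCm : ∀ i < 56, (chkCm) i = 0 :=
  (rng_step (all0 _) cCm_0)
theorem cE_0 : rng (chkE) 0 1 = 0 := by decide +kernel
theorem cE_1 : rng (chkE) 1 1 = 0 := by decide +kernel
theorem cE_2 : rng (chkE) 2 1 = 0 := by decide +kernel
theorem cE_3 : rng (chkE) 3 1 = 0 := by decide +kernel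
theorem cE_4 : rng (chkE) 4 1 = 0 := by decide +kernel
theorem cE_5 : rng (chkE) 5 1 = 0 := by decide +kernel
theorem cE_6 : rng (chkE) 6 1 = 0 := by decide +kernel
theorem cE_7 : rng (chkE) 7 1 = 0 := by decide +kernel
theorem cE_8 : rng (chkE) 8 1 = 0 := by decide +kernel
theorem cE_9 : rng (chkE) 9 1 = 0 := by decide +kernel
theorem cE_10 : rng (chkE) 10 1 = 0 := by decide +kernel
theorem cE_11 : rng (chkE) 11 1 = 0 := by decide +kernel
theorem cE_12 : rng (chkE) 12 1 = 0 := by decide +kernel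
theorem cE_13 : rng (chkE) 13 1 = 0 := by decide +kernel
theorem cE_14 : rng (chkE) 14 1 = 0 := by decide +kernel
theorem cE_15 : rng (chkE) 15 1 = 0 := by decide +kernel
theorem cE_16 : rng (chkE) 16 1 = 0 := by decide +kernel
theorem cE_17 : rng (chkE) 17 1 = 0 := by decide +kernel
theorem cE_18 : rng (chkE) 18 1 = 0 := by decide +kernel
theorem cE_19 : rng (chkE) 19 1 = 0 := by decide +kernel
theorem cE_20 : rng (chkE) 20 1 = 0 := by decide +kernel
theorem cE_21 : rng (chkE) 21 1 = 0 := by decide +kernel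
theorem cE_22 : rng (chkE) 22 1 = 0 := by decide +kernel
theorem cE_23 : rng (chkE) 23 1 = 0 := by decide +kernel
theorem cE_24 : rng (chkE) 24 1 = 0 := by decide +kernel
theorem cE_25 : rng (chkE) 25 1 = 0 := by decide +kernel
theorem cE_26 : rng (chkE) 26 1 = 0 := by decide +kernel
theorem cE_27 : rng (chkE) 27 1 = 0 := by decide +kernel
theorem cE_28 : rng (chkE) 28 1 = 0 := by decide +kernel
theorem cE_29 : rng (chkE) 29 1 = 0 := by decide +kernel
theorem cE_30 : rng (chkE) 30 1 = 0 := by decide +kernel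
theorem cE_31 : rng (chkE) 31 1 = 0 := by decide +kernel
theorem cE : ∀ i < 32, (chkE) i = 0 :=
  (rng_step (rng_step (rng_step (rng_step (rng_step (rng_step (rng_step (rng_step (rng_step (rng_step (rng_step (rng_step (rng_step (rng_step (rng_step (rng_step (rng_step (rng_step (rng_step (rng_step (rng_step (rng_step (rng_step (rng_step (rng_step (rng_step (rng_step (rng_step (rng_step (rng_step (rng_step (rng_step (all0 _) cE_0) cE_1) cE_2) cE_3) cE_4) cE_5) cE_6) cE_7) cE_8) cE_9) cE_10) cE_11) cE_12) cE_13) cE_14) cE_15) cE_16) cE_17) cE_18) cE_19) cE_20) cE_21) cE_22) cE_23) cE_24) cE_25) cE_26) cE_27) cE_28) cE_29) cE_30) cE_31)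
theorem c0_0 : rng (chk0) 0 1 = 0 := by decide +kernel
theorem c0_1 : rng (chk0) 1 1 = 0 := by decide +kernel
theorem c0_2 : rng (chk0) 2 1 = 0 := by decide +kernel
theorem c0_3 : rng (chk0) 3 1 = 0 := by decide +kernel
theorem c0_4 : rng (chk0) 4 1 = 0 := by decide +kernel
theorem c0_5 : rng (chk0) 5 1 = 0 := by decide +kernel
theorem c0_6 : rng (chk0) 6 1 = 0 := by decide +kernel
theorem c0_7 : rng (chk0) 7 1 = 0 := by decide +kernel
theorem c0_8 : rng (chk0) 8 1 = 0 := by decide +kernel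
theorem c0_9 : rng (chk0) 9 1 = 0 := by decide +kernel
theorem c0_10 : rng (chk0) 10 1 = 0 := by decide +kernel
theorem c0_11 : rng (chk0) 11 1 = 0 := by decide +kernel
theorem c0_12 : rng (chk0) 12 1 = 0 := by decide +kernel
theorem c0_13 : rng (chk0) 13 1 = 0 := by decide +kernel
theorem c0_14 : rng (chk0) 14 1 = 0 := by decide +kernel
theorem c0_15 : rng (chk0) 15 1 = 0 := by decide +kernel
theorem c0_16 : rng (chk0) 16 1 = 0 := by decide +kernel
theorem c0_17 : rng (chk0) 17 1 = 0 := by decide +kernel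
theorem c0_18 : rng (chk0) 18 1 = 0 := by decide +kernel
theorem c0_19 : rng (chk0) 19 1 = 0 := by decide +kernel
theorem c0_20 : rng (chk0) 20 1 = 0 := by decide +kernel
theorem c0_21 : rng (chk0) 21 1 = 0 := by decide +kernel
theorem c0_22 : rng (chk0) 22 1 = 0 := by decide +kernel
theorem c0_23 : rng (chk0) 23 1 = 0 := by decide +kernel
theorem c0_24 : rng (chk0) 24 1 = 0 := by decide +kernel
theorem c0_25 : rng (chk0) 25 1 = 0 := by decide +kernel
theorem c0_26 : rng (chk0) 26 1 = 0 := by decide +kernel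
theorem c0_27 : rng (chk0) 27 1 = 0 := by decide +kernel
theorem c0_28 : rng (chk0) 28 1 = 0 := by decide +kernel
theorem c0_29 : rng (chk0) 29 1 = 0 := by decide +kernel
theorem c0_30 : rng (chk0) 30 1 = 0 := by decide +kernel
theorem c0_31 : rng (chk0) 31 1 = 0 := by decide +kernel
theorem c0_32 : rng (chk0) 32 1 = 0 := by decide +kernel
theorem c0_33 : rng (chk0) 33 1 = 0 := by decide +kernel
theorem c0_34 : rng (chk0) 34 1 = 0 := by decide +kernel
theorem c0_35 : rng (chk0) 35 1 = 0 := by decide +kernel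
theorem c0_36 : rng (chk0) 36 1 = 0 := by decide +kernel
theorem c0_37 : rng (chk0) 37 1 = 0 := by decide +kernel
theorem c0_38 : rng (chk0) 38 1 = 0 := by decide +kernel
theorem c0_39 : rng (chk0) 39 1 = 0 := by decide +kernel
theorem c0_40 : rng (chk0) 40 1 = 0 := by decide +kernel
theorem c0_41 : rng (chk0) 41 1 = 0 := by decide +kernel
theorem c0_42 : rng (chk0) 42 1 = 0 := by decide +kernel
theorem c0_43 : rng (chk0) 43 1 = 0 := by decide +kernel
theorem c0_44 : rng (chk0) 44 1 = 0 := by decide +kernel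
theorem c0_45 : rng (chk0) 45 1 = 0 := by decide +kernel
theorem c0_46 : rng (chk0) 46 1 = 0 := by decide +kernel
theorem c0_47 : rng (chk0) 47 1 = 0 := by decide +kernel
theorem c0_48 : rng (chk0) 48 1 = 0 := by decide +kernel
theorem c0_49 : rng (chk0) 49 1 = 0 := by decide +kernel
theorem c0_50 : rng (chk0) 50 1 = 0 := by decide +kernel
theorem c0_51 : rng (chk0) 51 1 = 0 := by decide +kernel
theorem c0_52 : rng (chk0) 52 1 = 0 := by decide +kernel
theorem c0_53 : rng (chk0) 53 1 = 0 := by decide +kernel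
theorem c0_54 : rng (chk0) 54 1 = 0 := by decide +kernel
theorem c0_55 : rng (chk0) 55 1 = 0 := by decide +kernel
theorem c0 : ∀ i < 56, (chk0) i = 0 :=
  (rng_step (rng_step (rng_step (rng_step (rng_step (rng_step (rng_step (rng_step (rng_step (rng_step (rng_step (rng_step (rng_step (rng_step (rng_step (rng_step (rng_step (rng_step (rng_step (rng_step (rng_step (rng_step (rng_step (rng_step (rng_step (rng_step (rng_step (rng_step (rng_step (rng_step (rng_step (rng_step (rng_step (rng_step (rng_step (rng_step (rng_step (rng_step (rng_step (rng_step (rng_step (rng_step (rng_step (rng_step (rng_step (rng_step (rng_step (rng_step (rng_step (rng_step (rng_step (rng_step (rng_step (rng_step (rng_step (rng_step (all0 _) c0_0) c0_1) c0_2) c0_3) c0_4) c0_5) c0_6) c0_7) c0_8) c0_9) c0_10) c0_11) c0_12) c0_13) c0_14) c0_15) c0_16) c0_17) c0_18) c0_19) c0_20) c0_21) c0_22) c0_23) c0_24) c0_25) c0_26) c0_27) c0_28) c0_29) c0_30) c0_31) c0_32) c0_33) c0_34) c0_35) c0_36) c0_37) c0_38)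 c0_39) c0_40) c0_41) c0_42) c0_43) c0_44) c0_45) c0_46) c0_47) c0_48) c0_49) c0_50) c0_51) c0_52) c0_53) c0_54) c0_55)
theorem cW : ∀ k : Fin 28,
    tv k = ap (WJ.getD k (0, [])).2 (ruTable.getD (WJ.getD k (0, [])).1 0) := by decide +kernel
theorem cW' : ∀ k : Fin 28, (WJ.getD k (0, [])).1 < ruTable.length := by decide +kernel
theorem cM : ∀ k : Fin 28, tv (k + 28) = gI • tv k ∧ tv (k + 56) = ruRj (tv k) ∧
    tv (k + 84) = ruRk (tv k) ∧ tv (k + 112) = ruSign (tv k) ∧ tv (k + 140) = ruShift (tv k) := by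
  decide +kernel
theorem cT : ruTable = ((4 : ℕ) : GaussianInt) • vz 1 0 ::
    (List.range 19).map fun i => tv (i + 168) := by decide +kernel
theorem cS : ∀ k < 19, getN GI k < 56 ∧
    ∀ t < 56, (fld SY 19 524287 t).testBit k = (tc (getN GI k)).testBit (6 * t) := by decide +kernel

end Cfsg.Agent.H5.Ru
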