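import Cfsg.Agent.H5.RuL2

set_option autoImplicit false
set_option maxRecDepth 100000

namespace Cfsg.Agent.H5.Ru

open Cfsg.Spor

theorem c1_0 : rng (chk1) 0 50 = 0 := by decide +kernel
theorem c1_1 : rng (chk1) 50 50 = 0 := by decide +kernel
theorem c1_2 : rng (chk1) 100 50 = 0 := by decide +kernel
theorem c1_3 : rng (chk1) 150 50 = 0 := by decide +kernel
theorem c1_4 : rng (chk1) 200 50 = 0 := by decide +kernel
theorem c1_5 : rng (chk1) 250 50 = 0 := by decide +kernel
theorem c1_6 : rng (chk1) 300 50 = 0 := by decide +kernel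
theorem c1_7 : rng (chk1) 350 50 = 0 := by decide +kernel
theorem c1_8 : rng (chk1) 400 50 = 0 := by decide +kernel
theorem c1_9 : rng (chk1) 450 50 = 0 := by decide +kernel
theorem c1_10 : rng (chk1) 500 50 = 0 := by decide +kernel
theorem c1_11 : rng (chk1) 550 50 = 0 := by decide +kernel
theorem c1_12 : rng (chk1) 600 50 = 0 := by decide +kernel
theorem c1_13 : rng (chk1) 650 50 = 0 := by decide +kernel
theorem c1_14 : rng (chk1) 700 50 = 0 := by decide +kernel
theorem c1_15 : rng (chk1) 750 50 = 0 := by decide +kernel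
theorem c1_16 : rng (chk1) 800 50 = 0 := by decide +kernel
theorem c1_17 : rng (chk1) 850 50 = 0 := by decide +kernel
theorem c1_18 : rng (chk1) 900 50 = 0 := by decide +kernel
theorem c1_19 : rng (chk1) 950 50 = 0 := by decide +kernel
theorem c1_20 : rng (chk1) 1000 8 = 0 := by decide +kernel
theorem c1 : ∀ i < 1008, (chk1) i = 0 :=
  (rng_step (rng_step (rng_step (rng_step (rng_step (rng_step (rng_step (rng_step (rng_step (rng_step (rng_step (rng_step (rng_step (rng_step (rng_step (rng_step (rng_step (rng_step (rng_step (rng_step (rng_step (all0 _) c1_0) c1_1) c1_2) c1_3) c1_4) c1_5) c1_6) c1_7) c1_8) c1_9) c1_10) c1_11) c1_12) c1_13) c1_14) c1_15) c1_16) c1_17) c1_18) c1_19) c1_20)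
theorem c2_0 : rng (chk2) 0 40 = 0 := by decide +kernel
theorem c2_1 : rng (chk2) 40 40 = 0 := by decide +kernel
theorem c2_2 : rng (chk2) 80 40 = 0 := by decide +kernel
theorem c2_3 : rng (chk2) 120 40 = 0 := by decide +kernel
theorem c2_4 : rng (chk2) 160 40 = 0 := by decide +kernel
theorem c2_5 : rng (chk2) 200 40 = 0 := by decide +kernel
theorem c2_6 : rng (chk2) 240 40 = 0 := by decide +kernel
theorem c2_7 : rng (chk2) 280 40 = 0 := by decide +kernel
theorem c2_8 : rng (chk2) 320 40 = 0 := by decide +kernel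
theorem c2_9 : rng (chk2) 360 40 = 0 := by decide +kernel
theorem c2_10 : rng (chk2) 400 40 = 0 := by decide +kernel
theorem c2_11 : rng (chk2) 440 40 = 0 := by decide +kernel
theorem c2_12 : rng (chk2) 480 40 = 0 := by decide +kernel
theorem c2_13 : rng (chk2) 520 40 = 0 := by decide +kernel
theorem c2_14 : rng (chk2) 560 40 = 0 := by decide +kernel
theorem c2_15 : rng (chk2) 600 40 = 0 := by decide +kernel
theorem c2_16 : rng (chk2) 640 40 = 0 := by decide +kernel
theorem c2_17 : rng (chk2) 680 40 = 0 := by decide +kernel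
theorem c2_18 : rng (chk2) 720 36 = 0 := by decide +kernel
theorem c2 : ∀ i < 756, (chk2) i = 0 :=
  (rng_step (rng_step (rng_step (rng_step (rng_step (rng_step (rng_step (rng_step (rng_step (rng_step (rng_step (rng_step (rng_step (rng_step (rng_step (rng_step (rng_step (rng_step (rng_step (all0 _) c2_0) c2_1) c2_2) c2_3) c2_4) c2_5) c2_6) c2_7) c2_8) c2_9) c2_10) c2_11) c2_12) c2_13) c2_14) c2_15) c2_16) c2_17) c2_18)

end Cfsg.Agent.H5.Ru
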