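import Cfsg.Agent.H5.RuL2

set_option autoImplicit false
set_option maxRecDepth 100000

namespace Cfsg.Agent.H5.Ru

open Cfsg.Spor

deriving instance DecidableEq for T3

theorem n1 : cnt L1 = 2304 := by decide +kernel
theorem mm1 : L1 = mkT 12 K1 := by decide +kernel
theorem n2 : cnt L2 = 78 := by decide +kernel
theorem mm2 : L2 = mkT 16 K2 := by decide +kernel
theorem n3 : cnt L3 = 25 := by decide +kernel
theorem mm3 : L3 = mkT 21 K3 := by decide +kernel
theorem n4 : cnt L4 = 8 := by decide +kernel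
theorem mm4 : L4 = mkT 17 K4 := by decide +kernel
theorem n5 : cnt L5 = 1 := by decide +kernel
theorem mm5 : L5 = mkT 18 K5 := by decide +kernel
theorem n6 : cnt L6 = 1 := by decide +kernel
theorem mm6 : L6 = mkT 25 K6 := by decide +kernel
theorem n7 : cnt L7 = 1 := by decide +kernel
theorem mm7 : L7 = mkT 2 K7 := by decide +kernel
theorem n8 : cnt L8 = 1 := by decide +kernel
theorem mm8 : L8 = mkT 3 K8 := by decide +kernel
theorem n9 : cnt L9 = 1 := by decide +kernel
theorem mm9 : L9 = mkT 0 K9 := by decide +kernel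
theorem n10 : cnt L10 = 1 := by decide +kernel
theorem mm10 : L10 = mkT 1 K10 := by decide +kernel
theorem n11 : cnt L11 = 1 := by decide +kernel
theorem mm11 : L11 = mkT 4 K11 := by decide +kernel
theorem n12 : cnt L12 = 1 := by decide +kernel
theorem mm12 : L12 = mkT 6 K12 := by decide +kernel
theorem n13 : cnt L13 = 1 := by decide +kernel
theorem mm13 : L13 = mkT 7 K13 := by decide +kernel
theorem n14 : cnt L14 = 1 := by decide +kernel
theorem mm14 : L14 = mkT 8 K14 := by decide +kernel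
theorem n15 : cnt L15 = 1 := by decide +kernel
theorem mm15 : L15 = mkT 9 K15 := by decide +kernel
theorem n16 : cnt L16 = 1 := by decide +kernel
theorem mm16 : L16 = mkT 10 K16 := by decide +kernel
theorem n17 : cnt L17 = 1 := by decide +kernel
theorem mm17 : L17 = mkT 11 K17 := by decide +kernel
theorem n18 : cnt L18 = 1 := by decide +kernel
theorem mm18 : L18 = mkT 13 K18 := by decide +kernel
theorem n19 : cnt L19 = 1 := by decide +kernel
theorem mm19 : L19 = mkT 14 K19 := by decide +kernel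
theorem n20 : cnt L20 = 1 := by decide +kernel
theorem mm20 : L20 = mkT 15 K20 := by decide +kernel
theorem n21 : cnt L21 = 1 := by decide +kernel
theorem mm21 : L21 = mkT 19 K21 := by decide +kernel
theorem n22 : cnt L22 = 1 := by decide +kernel
theorem mm22 : L22 = mkT 20 K22 := by decide +kernel
theorem n23 : cnt L23 = 1 := by decide +kernel
theorem mm23 : L23 = mkT 22 K23 := by decide +kernel
theorem n24 : cnt L24 = 1 := by decide +kernel
theorem mm24 : L24 = mkT 23 K24 := by decide +kernel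
theorem n25 : cnt L25 = 1 := by decide +kernel
theorem mm25 : L25 = mkT 24 K25 := by decide +kernel
theorem n26 : cnt L26 = 1 := by decide +kernel
theorem mm26 : L26 = mkT 26 K26 := by decide +kernel
theorem n27 : cnt L27 = 1 := by decide +kernel
theorem mm27 : L27 = mkT 27 K27 := by decide +kernel
theorem cA1_0 : rng (chkG (tb GR) (tb GM) (tb AR) (tb AM) (tb AR') (tb AM')) 0 7 = 0 := by decide +kernel
theorem cA1_1 : rng (chkG (tb GR) (tb GM) (tb AR) (tb AM) (tb AR') (tb AM')) 7 7 = 0 := by decide +kernel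
theorem cA1_2 : rng (chkG (tb GR) (tb GM) (tb AR) (tb AM) (tb AR') (tb AM')) 14 7 = 0 := by decide +kernel
theorem cA1_3 : rng (chkG (tb GR) (tb GM) (tb AR) (tb AM) (tb AR') (tb AM')) 21 7 = 0 := by decide +kernel
theorem cA1 : ∀ i < 28, (chkG (tb GR) (tb GM) (tb AR) (tb AM) (tb AR') (tb AM')) i = 0 :=
  (rng_step (rng_step (rng_step (rng_step (all0 _) cA1_0) cA1_1) cA1_2) cA1_3)
theorem cA2_0 : rng (chkG (fun i j => tb AR j i) (fun i j => Nat.sub 256 (tb AM j i)) (tb AR') (tb AM') (tb GR) (tb GM)) 0 7 = 0 := by decide +kernel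
theorem cA2_1 : rng (chkG (fun i j => tb AR j i) (fun i j => Nat.sub 256 (tb AM j i)) (tb AR') (tb AM') (tb GR) (tb GM)) 7 7 = 0 := by decide +kernel
theorem cA2_2 : rng (chkG (fun i j => tb AR j i) (fun i j => Nat.sub 256 (tb AM j i)) (tb AR') (tb AM') (tb GR) (tb GM)) 14 7 = 0 := by decide +kernel
theorem cA2_3 : rng (chkG (fun i j => tb AR j i) (fun i j => Nat.sub 256 (tb AM j i)) (tb AR') (tb AM') (tb GR) (tb GM)) 21 7 = 0 := by decide +kernel
theorem cA2 : ∀ i < 28, (chkG (fun i j => tb AR j i) (fun i j => Nat.sub 256 (tb AM j i)) (tb AR') (tb AM') (tb GR) (tb GM)) i = 0 :=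
  (rng_step (rng_step (rng_step (rng_step (all0 _) cA2_0) cA2_1) cA2_2) cA2_3)
theorem cB1_0 : rng (chkG (tb GR) (tb GM) (tb BR) (tb BM) (tb BR') (tb BM')) 0 7 = 0 := by decide +kernel
theorem cB1_1 : rng (chkG (tb GR) (tb GM) (tb BR) (tb BM) (tb BR') (tb BM')) 7 7 = 0 := by decide +kernel
theorem cB1_2 : rng (chkG (tb GR) (tb GM) (tb BR) (tb BM) (tb BR') (tb BM')) 14 7 = 0 := by decide +kernel
theorem cB1_3 : rng (chkG (tb GR) (tb GM) (tb BR) (tb BM) (tb BR') (tb BM')) 21 7 = 0 := by decide +kernel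
theorem cB1 : ∀ i < 28, (chkG (tb GR) (tb GM) (tb BR) (tb BM) (tb BR') (tb BM')) i = 0 :=
  (rng_step (rng_step (rng_step (rng_step (all0 _) cB1_0) cB1_1) cB1_2) cB1_3)
theorem cB2_0 : rng (chkG (fun i j => tb BR j i) (fun i j => Nat.sub 256 (tb BM j i)) (tb BR') (tb BM') (tb GR) (tb GM)) 0 7 = 0 := by decide +kernel
theorem cB2_1 : rng (chkG (fun i j => tb BR j i) (fun i j => Nat.sub 256 (tb BM j i)) (tb BR') (tb BM') (tb GR) (tb GM)) 7 7 = 0 := by decide +kernel
theorem cB2_2 : rng (chkG (fun i j => tb BR j i) (fun i j => Nat.sub 256 (tb BM j i)) (tb BR') (tb BM') (tb GR) (tb GM)) 14 7 = 0 := by decide +kernel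
theorem cB2_3 : rng (chkG (fun i j => tb BR j i) (fun i j => Nat.sub 256 (tb BM j i)) (tb BR') (tb BM') (tb GR) (tb GM)) 21 7 = 0 := by decide +kernel
theorem cB2 : ∀ i < 28, (chkG (fun i j => tb BR j i) (fun i j => Nat.sub 256 (tb BM j i)) (tb BR') (tb BM') (tb GR) (tb GM)) i = 0 :=
  (rng_step (rng_step (rng_step (rng_step (all0 _) cB2_0) cB2_1) cB2_2) cB2_3)

end Cfsg.Agent.H5.Ru
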