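import Cfsg.Agent.H5.RuL3

/-! A basis of the Conway–Wales lattice. -/

set_option autoImplicit false

namespace Cfsg.Agent.H5.Ru

open Cfsg.Spor Finset

attribute [local irreducible] tv tc tz dn tb

theorem lat_closed {v : RuVec} (hv : v ∈ ruLattice) : gI • v ∈ ruLattice ∧ ruRj v ∈ ruLattice ∧
    ruRk v ∈ ruLattice ∧ ruSign v ∈ ruLattice ∧ ruShift v ∈ ruLattice := by
  simp only [ruLattice, AddSubgroup.mem_sInf] at hv ⊢
  exact ⟨fun L hL => (hL.2 v (hv L hL)).1, fun L hL => (hL.2 v (hv L hL)).2.1,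
    fun L hL => (hL.2 v (hv L hL)).2.2.1, fun L hL => (hL.2 v (hv L hL)).2.2.2.1,
    fun L hL => (hL.2 v (hv L hL)).2.2.2.2⟩

theorem tab_mem {v : RuVec} (hv : v ∈ ruTable) : v ∈ ruLattice :=
  AddSubgroup.mem_sInf.2 fun _ hL => hL.1 v hv

theorem ap_mem (w : List ℕ) {v : RuVec} (hv : v ∈ ruLattice) : ap w v ∈ ruLattice := by
  induction w with
  | nil => exact hv
  | cons s w ih =>
    obtain ⟨h0, h1, h2, h3, h4⟩ := lat_closed ih
    change (if s = 0 then _ else _) ∈ _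
    split_ifs <;> assumption

theorem smul_eq (c : GaussianInt) (v : RuVec) : c • v = c.re • v + c.im • (gI • v) := by
  funext p
  apply Zsqrtd.ext <;> simp [gI] <;> ring

theorem smul_mem (c : GaussianInt) {v : RuVec} (hv : v ∈ ruLattice) : c • v ∈ ruLattice := by
  rw [smul_eq]
  exact add_mem (zsmul_mem hv _) (zsmul_mem (lat_closed hv).1 _)

theorem tv_mem (k : Fin 28) : tv k ∈ ruLattice := by
  rw [cW k]
  refine ap_mem _ (tab_mem ?_)
  rw [List.getD_eq_getElem _ _ (cW' k)]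
  exact List.getElem_mem _

/-- the dual lattice -/
def Sd : Submodule GaussianInt RuVec where
  carrier := {x | ∀ k : Fin 28, (4 : GaussianInt) ∣ hp x (tv k)}
  add_mem' hx hy k := by rw [hp_add]; exact dvd_add (hx k) (hy k)
  zero_mem' k := by simp [hp]
  smul_mem' c x hx k := by rw [hp_smul]; exact (hx k).mul_left _

theorem rdot_tv (i j : ℕ) : rdot (tv i) (tv j) = dn (tc i) (tz i) (tc j) (tz j) - 128 := by
  unfold tv; rw [dn_eq]; ring

theorem tv_mem_Sd {i : ℕ} (hi : i < 187) : tv i ∈ Sd := fun k => by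
  have h0 := c4 i hi
  simp only [chk4, force_eq] at h0
  have h := sumTo_zero h0
  have h1 : dn (tc i) (tz i) (tc k) (tz k) % 4 = 0 := h k (by omega)
  have h2 : dn (tc i) (tz i) (tc (k + 28)) (tz (k + 28)) % 4 = 0 := h (k + 28) (by omega)
  refine (Zsqrtd.intCast_dvd 4 _).2 ⟨?_, ?_⟩
  · rw [hp_re, rdot_tv]; omega
  · rw [hp_im, ← (cM k).1, rdot_tv]; omega

noncomputable def Γ := gm (tb GR) (tb GM)
noncomputable def Γ' := gm (tb HR) (tb HM)

theorem Γ_inv : Γ' * Γ = 1 := by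
  rw [Γ, Γ', gm_mul cG]
  funext i j
  rw [gm, ifz_eq, Matrix.one_apply]
  by_cases h : i = j
  · subst h; rw [if_pos rfl, if_pos (show Nat.xor i i = 0 from Nat.xor_self _)]; rfl
  · rw [if_neg h, if_neg fun e => h (Fin.ext (xor_eq_zero' e))]; rfl

theorem gram (k l : Fin 28) : hp (tv l) (tv k) = 4 * Γ k l := by
  obtain ⟨h1, h2⟩ := add_eq_zero' (sumTo_zero (cGr k k.2) l l.2)
  have h3 : dn (tc l) (tz l) (tc k) (tz k) + 384 = 4 * tb GR k l := xor_eq_zero' h1
  have h4 : dn (tc l) (tz l) (tc (k + 28)) (tz (k + 28)) + 384 = 4 * tb GM k l := xor_eq_zero' h2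
  apply Zsqrtd.ext
  · rw [hp_re, rdot_tv]; simp [Γ, gm]; omega
  · rw [hp_im, ← (cM k).1, rdot_tv]; simp [Γ, gm]; omega

/-- coordinates -/
noncomputable def E : (Fin 28 → GaussianInt) →ₗ[GaussianInt] RuVec :=
  Fintype.linearCombination GaussianInt fun k : Fin 28 => tv k

theorem E_eq (c : Fin 28 → GaussianInt) : E c = ∑ k, c k • tv k := Fintype.linearCombination_apply _ _ _

theorem hp_sum {ι : Type*} (s : Finset ι) (f : ι → RuVec) (y : RuVec) :
    hp (∑ i ∈ s, f i) y = ∑ i ∈ s, hp (f i) y := by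
  simp only [hp, Finset.sum_apply, sum_mul]
  exact sum_comm

theorem hp_E (c : Fin 28 → GaussianInt) (k : Fin 28) : hp (E c) (tv k) = 4 * Γ.mulVec c k := by
  simp only [E_eq, hp_sum, hp_smul, gram, Matrix.mulVec, dotProduct, mul_sum]
  exact sum_congr rfl fun _ _ => by ring

theorem E_inj : Function.Injective E := by
  rw [injective_iff_map_eq_zero]
  intro c hc
  have : Γ.mulVec c = 0 := funext fun k => by
    have := hp_E c k
    rw [hc, hp] at this
    simpa using this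
  rw [← Matrix.one_mulVec c, ← Γ_inv, ← Matrix.mulVec_mulVec, this, Matrix.mulVec_zero]

theorem perp {u : RuVec} (h : ∀ k : Fin 28, hp u (tv k) = 0) : u = 0 := by
  let M : Matrix (Fin 28) (Fin 28) GaussianInt := fun k i => star (tv k (ix i))
  let N : Matrix (Fin 28) (Fin 28) GaussianInt := fun i l => tv l (ix i)
  have key : ∀ (x : RuVec) (k : Fin 28), hp x (tv k) = M.mulVec (fun i => x (ix i)) k := by
    intro x k
    rw [hp, sum_ix, ← Fin.sum_univ_eq_sum_range (fun q => x (ix q) * star (tv k (ix q)))]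
    exact sum_congr rfl fun _ _ => mul_comm _ _
  have h1 : M * N = (4 : GaussianInt) • Γ := by
    funext k l
    exact (key (tv l) k).symm.trans (gram k l)
  have h2 : M.det ≠ 0 := fun e => by
    have := congrArg Matrix.det (show Γ' * (M * N) = (4 : GaussianInt) • 1 by
      rw [h1, Matrix.mul_smul, Γ_inv])
    rw [Matrix.det_mul, Matrix.det_mul, e, Matrix.det_smul, Matrix.det_one] at this
    simp at this
    exact absurd this.symm (by decide)
  have h3 := Matrix.eq_zero_of_mulVec_eq_zero h2 (funext fun k => (key u k).symm.trans (h k))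
  funext p
  have := congrFun h3 ⟨nq p, nq_lt p⟩
  rwa [ix_nq] at this

theorem span_of_Sd {x : RuVec} (hx : x ∈ Sd) : ∃ c, E c = x := by
  choose u hu using hx
  refine ⟨Γ'.mulVec u, sub_eq_zero.1 (perp fun k => ?_)⟩
  rw [sub_eq_add_neg, hp_add, hp_E, Matrix.mulVec_mulVec, mul_eq_one_comm.1 Γ_inv,
    Matrix.one_mulVec, ← neg_one_smul GaussianInt x, hp_smul, hu]
  ring

theorem map_mem_Sd {g : RuVec → RuVec} (h1 : ∀ x y, g (x + y) = g x + g y)
    (h2 : ∀ (c : GaussianInt) x, g (c • x) = c • g x) (h3 : ∀ k : Fin 28, g (tv k) ∈ Sd)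
    {x : RuVec} (hx : x ∈ Sd) : g x ∈ Sd := by
  obtain ⟨c, rfl⟩ := span_of_Sd hx
  let g' : RuVec →ₗ[GaussianInt] RuVec := ⟨⟨g, h1⟩, h2⟩
  change g' _ ∈ _
  rw [E_eq, map_sum]
  exact Sd.sum_mem fun k _ => by rw [map_smul]; exact Sd.smul_mem _ (h3 k)

theorem lat_le : ruLattice ≤ Sd.toAddSubgroup := by
  refine sInf_le ⟨fun v hv => ?_, fun v hv => ⟨Sd.smul_mem _ hv, ?_, ?_, ?_, ?_⟩⟩
  · rw [cT] at hv
    rcases List.mem_cons.1 hv with rfl | hv
    · intro k; rw [hp_smul]; exact Dvd.intro _ rfl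
    · obtain ⟨i, hi, rfl⟩ := List.mem_map.1 hv
      exact tv_mem_Sd (by have := List.mem_range.1 hi; omega)
  · refine map_mem_Sd (fun x y => ?_) (fun c x => ?_)
      (fun k => (cM k).2.1 ▸ tv_mem_Sd (by omega)) hv <;>
    · funext ⟨n, t⟩; fin_cases t <;> simp [ruRj] <;> ring
  · refine map_mem_Sd (fun x y => ?_) (fun c x => ?_)
      (fun k => (cM k).2.2.1 ▸ tv_mem_Sd (by omega)) hv <;>
    · funext ⟨n, t⟩; fin_cases t <;> simp [ruRk] <;> ring
  · refine map_mem_Sd (fun x y => ?_) (fun c x => ?_)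
      (fun k => (cM k).2.2.2.1 ▸ tv_mem_Sd (by omega)) hv <;>
    · funext p; simp only [ruSign, Pi.add_apply, Pi.smul_apply, smul_eq_mul]; split_ifs <;> ring
  · exact map_mem_Sd (fun x y => rfl) (fun c x => rfl)
      (fun k => (cM k).2.2.2.2 ▸ tv_mem_Sd (by omega)) hv

theorem E_mem (c : Fin 28 → GaussianInt) : E c ∈ ruLattice := by
  rw [E_eq]; exact sum_mem fun k _ => smul_mem _ (tv_mem k)

theorem exists_E {x : RuVec} (hx : x ∈ ruLattice) : ∃ c, E c = x := span_of_Sd (lat_le hx)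

theorem four_dvd_hp {x y : RuVec} (hx : x ∈ ruLattice) (hy : y ∈ ruLattice) :
    (4 : GaussianInt) ∣ hp x y := by
  obtain ⟨c, rfl⟩ := exists_E hx
  rw [E_eq, hp_sum]
  refine dvd_sum fun k _ => ?_
  obtain ⟨u, hu⟩ := lat_le hy k
  rw [hp_smul, ← hp_star, hu, star_mul']
  exact (Dvd.intro _ rfl).mul_left _

theorem four_dvd_rdot {x y : RuVec} (hx : x ∈ ruLattice) (hy : y ∈ ruLattice) : 4 ∣ rdot x y :=
  hp_re x y ▸ ((Zsqrtd.intCast_dvd 4 _).1 (four_dvd_hp hx hy)).1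

theorem norm_tv (k : Fin 28) : ruNorm (tv k) = 16 := by
  have : ∀ k : Fin 28, tb GR k k = 132 := by decide +kernel
  rw [norm_eq, ← hp_re, gram]; simp [Γ, gm, this]

theorem eight_dvd {x : RuVec} (hx : x ∈ ruLattice) : 8 ∣ ruNorm x := by
  obtain ⟨c, rfl⟩ := exists_E hx
  rw [E_eq]
  refine (sum_induction _ (fun x => x ∈ ruLattice ∧ 8 ∣ ruNorm x) (fun a b ha hb => ⟨add_mem ha.1 hb.1, ?_⟩)
    ⟨zero_mem _, by simp [ruNorm]⟩ fun k _ => ⟨smul_mem _ (tv_mem k), ?_⟩).2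
  · have := four_dvd_rdot ha.1 hb.1
    rw [norm_add]; omega
  · rw [norm_smul, norm_tv]; omega

theorem tv_mem' {k : ℕ} (hk : k < 56) : tv k ∈ ruLattice := by
  by_cases h : k < 28
  · exact tv_mem ⟨k, h⟩
  · have := (cM ⟨k - 28, by omega⟩).1
    rw [show (⟨k - 28, by omega⟩ : Fin 28).1 + 28 = k by simp only; omega] at this
    rw [this]; exact (lat_closed (tv_mem _)).1

theorem bt_xor (a b t : ℕ) : bt (a ^^^ b) t = (bt a t + bt b t) % 2 := by
  simp only [bt, Nat.testBit_xor]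
  cases a.testBit (6 * t) <;> cases b.testBit (6 * t) <;> rfl

/-- vectors with residue in the code -/
def Res : AddSubgroup RuVec where
  carrier := {x | ∃ c, InSp GW c ∧ ∀ t < 56, co x t % 2 = bt c t}
  add_mem' := by
    rintro x y ⟨c, hc, h1⟩ ⟨d, hd, h2⟩
    exact ⟨_, hc.xor hd, fun t ht => by rw [co_add, bt_xor, ← h1 t ht, ← h2 t ht]; omega⟩
  zero_mem' := ⟨0, .zero _, fun t _ => by simp [co_zero, bt]⟩
  neg_mem' := by
    rintro x ⟨c, hc, h1⟩
    exact ⟨c, hc, fun t ht => by rw [co_neg, ← h1 t ht]; omega⟩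

theorem tv_res {k : ℕ} (hk : k < 56) : tv k ∈ Res :=
  ⟨tc k, xor_eq_zero' (cCm k hk) ▸ inSp_comb _ _, fun t ht => by
    unfold tv; rw [co_vz _ _ ht, bt, bt]; split_ifs <;> rfl⟩

theorem res_of_mem {x : RuVec} (hx : x ∈ ruLattice) : x ∈ Res := by
  obtain ⟨c, rfl⟩ := exists_E hx
  rw [E_eq]
  refine sum_mem fun k _ => ?_
  rw [smul_eq, ← (cM k).1]
  exact add_mem (zsmul_mem (tv_res (by omega)) _) (zsmul_mem (tv_res (by omega)) _)

end Cfsg.Agent.H5.Ru
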