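import Cfsg.Agent.H5.RuL4
import Cfsg.Agent.H5.RuL6

/-! The short vectors of the Conway–Wales lattice. -/

set_option autoImplicit false

namespace Cfsg.Agent.H5.Ru

open Cfsg.Spor Finset

attribute [local irreducible] tv tc tz dn tb W1 W2 Zs pop SY enumX elim subK comb bsearch pr

theorem cb_eq (c t : ℕ) : (cb c t : ℤ) = bt c t := by
  change ((c >>> (6 * t) &&& 1 : ℕ) : ℤ) = _
  rw [Nat.and_one_is_mod, Nat.shiftRight_eq_div_pow, bt_eq, pow_mul]

theorem col_eq (t : ℕ) : col t = fld SY 19 524287 t ^^^ 2 ^ (19 + 6 * t) := rfl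

theorem fld_lt (t : ℕ) : fld SY 19 524287 t < 2 ^ 19 := Nat.lt_succ_of_le (fld_le _ _ _ _)

theorem tgt_eq (c : ℕ) : tgt c = pack 2
    (fun k => dn c 0 (tc (getN GI k)) (tz (getN GI k)) / 2 % 2) 19 := by
  rw [tgt, sumTo_eq]; rfl

theorem tgt_lt (c : ℕ) : tgt c < 2 ^ 19 := by
  rw [tgt_eq]; exact pack_lt fun _ _ => Nat.mod_lt _ two_pos

theorem bit_eq_cast (a t : ℕ) : bit (ZMod 2) a t = (a / 2 ^ t % 2 : ℕ) := by
  rw [← Nat.toNat_testBit, bit]; cases a.testBit t <;> rfl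

/-- the parity pattern -/
def yy (x : RuVec) (c t : ℕ) : Prop := (bt c t - co x t) / 2 % 2 = 1

instance (x : RuVec) (c : ℕ) : DecidablePred (yy x c) := fun _ => Int.decEq _ _

theorem syn_zero {x : RuVec} (hx : x ∈ ruLattice) {c : ℕ} (hc : ∀ t < 56, co x t % 2 = bt c t) :
    (tgt c ^^^ xorTo (fun t => if yy x c t then col t else 0) 56) &&& 524287 = 0 := by
  apply Nat.eq_of_testBit_eq
  intro k
  rw [Nat.testBit_and, Nat.zero_testBit, show 524287 = 2 ^ 19 - 1 from rfl, Nat.testBit_two_pow_sub_one]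
  by_cases hk : k < 19
  swap
  · simp [hk]
  obtain ⟨hg, hS⟩ := cS k hk
  suffices h : bit (ZMod 2) (tgt c ^^^ xorTo (fun t => if yy x c t then col t else 0) 56) k = 0 by
    rw [bit] at h; split_ifs at h with h1
    · exact absurd h one_ne_zero
    · simp [h1]
  rw [bit_xor, bit_xorTo, bit_eq_cast, tgt_eq, digit_pack (fun _ _ => Nat.mod_lt _ two_pos) hk]
  generalize getN GI k = g at hg hS
  obtain ⟨m, hm⟩ := four_dvd_rdot hx (tv_mem' hg)
  have h1 := dn_eq c 0 (tc g) (tz g)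
  have h2 : rdot (vz c 0) (vz (tc g) (tz g)) =
      rdot x (tv g) + 2 * ∑ t ∈ range 56, (bt c t - co x t) / 2 * co (tv g) t := by
    unfold tv
    simp only [rdot, mul_sum, ← sum_add_distrib]
    refine sum_congr rfl fun t ht => ?_
    have := hc t (mem_range.1 ht)
    rw [co_vz _ _ (mem_range.1 ht), ← mul_assoc, ← add_mul]
    congr 1
    simp only [bt, Nat.zero_testBit, Bool.false_eq_true, if_false] at this ⊢
    split_ifs at this ⊢ <;> omega
  have h3 : ((dn c 0 (tc g) (tz g) / 2 % 2 : ℕ) : ℤ) =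
      (∑ t ∈ range 56, (bt c t - co x t) / 2 * co (tv g) t) % 2 := by
    rw [h2, hm] at h1
    generalize (∑ t ∈ range 56, (bt c t - co x t) / 2 * co (tv g) t) = S at h1 ⊢
    generalize dn c 0 (tc g) (tz g) = D at h1 ⊢
    clear h2 hm hS hc
    omega
  have h4 := congrArg (Int.cast : ℤ → ZMod 2) h3
  rw [Int.cast_natCast] at h4
  rw [h4, show (2 : ℤ) = ((2 : ℕ) : ℤ) from rfl, ZMod.intCast_mod, Int.cast_sum, ← sum_add_distrib]
  refine sum_eq_zero fun t ht => ?_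
  have h5 : bit (ZMod 2) (col t) k = (co (tv g) t : ℤ) := by
    unfold tv
    rw [col_eq, bit_xor, co_vz _ _ (mem_range.1 ht), bit, bit, hS t (mem_range.1 ht),
      Nat.testBit_two_pow_of_ne (by omega), bt, bt]
    split_ifs <;> first | rfl | contradiction
  rw [Int.cast_mul, ← ZMod.intCast_mod _ 2]
  split_ifs with hy
  · rw [show (bt c t - co x t) / ((2 : ℕ) : ℤ) % ((2 : ℕ) : ℤ) = 1 from hy, h5]
    simp [CharTwo.add_self_eq_zero]
  · have : (bt c t - co x t) / ((2 : ℕ) : ℤ) % ((2 : ℕ) : ℤ) = 0 := by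
      unfold yy at hy; push_cast; omega
    rw [this, bit_zero]; simp

theorem high_bit (x : RuVec) (c : ℕ) {u : ℕ} (hu : u < 56) :
    ((tgt c ^^^ xorTo (fun t => if yy x c t then col t else 0) 56) >>> 19).testBit (6 * u) =
      decide (yy x c u) := by
  rw [Nat.testBit_shiftRight]
  have h : bit (ZMod 2) (tgt c ^^^ xorTo (fun t => if yy x c t then col t else 0) 56) (19 + 6 * u) =
      if yy x c u then 1 else 0 := by
    have h0 : ∀ a < 2 ^ 19, bit (ZMod 2) a (19 + 6 * u) = 0 := fun a ha => by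
      rw [bit, Nat.testBit_lt_two_pow (ha.trans_le (Nat.pow_le_pow_right two_pos (by omega)))]; rfl
    rw [bit_xor, bit_xorTo, h0 _ (tgt_lt c), zero_add, sum_eq_single_of_mem u (mem_range.2 hu)]
    · split_ifs
      · rw [col_eq, bit_xor, h0 _ (fld_lt u), zero_add, bit, Nat.testBit_two_pow_self]; rfl
      · exact bit_zero _ _
    · intro t _ ht
      split_ifs
      · rw [col_eq, bit_xor, h0 _ (fld_lt t), zero_add, bit, Nat.testBit_two_pow_of_ne (by omega)]
        rfl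
      · exact bit_zero _ _
  rw [bit] at h
  split_ifs at h with h1 h2 h2
  · simp [h1, h2]
  · exact absurd h one_ne_zero
  · exact absurd h zero_ne_one
  · simp [h1, h2]

theorem cnt_le {x : RuVec} {c : ℕ} (hc : ∀ t < 56, co x t % 2 = bt c t) :
    (pop c : ℤ) + 4 * (∑ t ∈ range 56, if cb c t = 0 ∧ yy x c t then 1 else 0 : ℕ) ≤ ruNorm x := by
  rw [pop_eq, norm_eq, rdot, Nat.cast_sum, mul_sum, ← sum_add_distrib]
  refine sum_le_sum fun t ht => ?_
  have h1 := hc t (mem_range.1 ht)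
  have h2 := cb_eq c t
  split_ifs with h
  · have h3 := h.2
    unfold yy at h3
    have : co x t ≤ -2 ∨ 2 ≤ co x t := by omega
    have h4 : bt c t = 0 := by omega
    rw [h4]; push_cast
    rcases this with h | h <;> nlinarith
  · have : bt c t = 0 ∨ co x t ≤ -1 ∧ bt c t = 1 ∨ 1 ≤ co x t ∧ bt c t = 1 := by omega
    push_cast
    rcases this with h | h | h
    · rw [h]; nlinarith [sq_nonneg (co x t)]
    · rw [h.2]; nlinarith [h.1]
    · rw [h.2]; nlinarith [h.1]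

theorem sol_aux {l o : List ℕ} {P : ℕ → ℕ} {k T d e : ℕ}
    (h : elim 524287 l (fun r t => subK o r
      (fun w => ifz (Nat.land w 524287) (force (Nat.shiftRight w 19) P) 0) k t) (fun x => x) T = 0)
    (h1 : InSp l d) (h2 : InK o k e) (h5 : (T ^^^ (d ^^^ e)) &&& 524287 = 0) :
    P ((T ^^^ (d ^^^ e)) >>> 19) = 0 := by
  rw [← Nat.xor_assoc] at h5 ⊢
  have h6 := elim_zero h (by rwa [List.map_id']) (e := e) (by rwa [List.map_id']) h5
  rwa [ifz_eq, if_pos (show Nat.land _ _ = 0 from h5)] at h6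

theorem sol_sound {x : RuVec} (hx : x ∈ ruLattice) {c : ℕ} (hc : ∀ t < 56, co x t % 2 = bt c t)
    (hN : ruNorm x ≤ 16) {P : ℕ → ℕ} (h : sol c P = 0) :
    ∃ z, P z = 0 ∧ ∀ t < 56, z.testBit (6 * t) = decide (yy x c t) := by
  obtain ⟨d, e, h1, h2, h3⟩ := sel_split col (cb c) (yy x c) 56
  have h4 := cnt_le hc
  have h5 := syn_zero hx hc
  rw [← h3] at h5
  rw [sol, force_eq, force_eq] at h
  have h6 := sol_aux h h1 (h2.mono (show _ ≤ (16 - pop c) / 4 by omega)) h5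
  rw [h3] at h6
  exact ⟨_, h6, fun t ht => high_bit x c ht⟩

theorem zero_sound {x : RuVec} (hx : x ∈ ruLattice) (hc : ∀ t < 56, co x t % 2 = bt 0 t)
    (hN : ruNorm x ≤ 16) : ∀ t < 56, 4 ∣ co x t := by
  obtain ⟨d, e, h1, h2, h3⟩ := sel_split col (fun _ => 0) (yy x 0) 56
  have h4 := cnt_le hc
  have h5 := syn_zero hx hc
  have h7 : tgt 0 = 0 := by decide +kernel
  have hd : d = 0 := h1
  rw [hd, Nat.zero_xor] at h3
  have h8 : ∀ t, cb 0 t = 0 := fun t => by simp [cb]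
  simp only [h8, true_and] at h4 h2
  have h6 := subK_zero (subK_selO (f := f0) rfl c0) (d := e) (by
    rw [List.map_id']
    exact h2.mono (by omega))
  intro t ht
  have h9 := high_bit x 0 ht
  rw [h7, ← h3] at h9 h5
  rw [f0, ifz_eq, if_pos (show Nat.land _ _ = 0 from h5)] at h6
  rw [show _ >>> 19 = 0 from h6, Nat.zero_testBit, eq_comm, decide_eq_false_iff_not, yy] at h9
  have := hc t ht
  simp only [bt, Nat.zero_testBit, Bool.false_eq_true, if_false] at this h9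
  omega

/-- the frame vectors -/
noncomputable def fv (q : ℕ) : RuVec := ((4 : ℕ) : GaussianInt) • vz (fc q) (q % 2 * fc q)

theorem co_fv (q : ℕ) {t : ℕ} (ht : t < 56) :
    co (fv q) t = if q / 2 = t then (if q % 2 = 0 then 4 else -4) else 0 := by
  rw [fv, co_smul, co_vz _ _ ht]
  have : fc q = 2 ^ (6 * (q / 2)) := rfl
  rcases Nat.mod_two_eq_zero_or_one q with h | h <;>
    by_cases e : q / 2 = t <;> simp [bt, h, this, Nat.testBit_two_pow, e]

theorem frame_of {x : RuVec} (h : ∀ t < 56, 4 ∣ co x t) (hN : ruNorm x ≤ 16) (h0 : x ≠ 0) :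
    ∃ q < 112, x = fv q := by
  obtain ⟨t, ht, h1⟩ : ∃ t < 56, co x t ≠ 0 := by
    by_contra h1
    push Not at h1
    exact h0 (co_ext fun t ht => by rw [h1 t ht, co_zero])
  rw [norm_eq, rdot, ← add_sum_erase _ _ (mem_range.2 ht)] at hN
  have h2 : 0 ≤ ∑ u ∈ (range 56).erase t, co x u * co x u := sum_nonneg fun _ _ => mul_self_nonneg _
  have h3 := h t ht
  have h4 : co x t = 4 ∨ co x t = -4 := by
    have : co x t ≤ 4 := by nlinarith
    have : -4 ≤ co x t := by nlinarith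
    omega
  have h5 : ∑ u ∈ (range 56).erase t, co x u * co x u = 0 := by
    rcases h4 with h4 | h4 <;> rw [h4] at hN <;> omega
  rw [sum_eq_zero_iff_of_nonneg fun _ _ => mul_self_nonneg _] at h5
  have h6 : ∀ u < 56, t ≠ u → co x u = 0 := fun u hu hne =>
    mul_self_eq_zero.1 (h5 u (mem_erase.2 ⟨hne.symm, mem_range.2 hu⟩))
  rcases h4 with h4 | h4
  · refine ⟨2 * t, by omega, co_ext fun u hu => ?_⟩
    rw [co_fv _ hu, Nat.mul_div_cancel_left _ two_pos, if_pos (show 2 * t % 2 = 0 by omega)]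
    split_ifs with e
    · rw [← e, h4]
    · exact h6 u hu e
  · refine ⟨2 * t + 1, by omega, co_ext fun u hu => ?_⟩
    rw [co_fv _ hu, show (2 * t + 1) / 2 = t by omega, if_neg (show ¬(2 * t + 1) % 2 = 0 by omega)]
    split_ifs with e
    · rw [← e, h4]
    · exact h6 u hu e

theorem tern_of {x : RuVec} {c z : ℕ} (hc : ∀ t < 56, co x t % 2 = bt c t) (hN : ruNorm x ≤ 16)
    (hp : pop c = 16) (hz : ∀ t < 56, z.testBit (6 * t) = decide (yy x c t)) :
    x = vz c z ∧ ruNorm x = 16 := by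
  have h1 := pop_eq c
  have h2 : ∀ t ∈ range 56, 0 ≤ co x t * co x t - bt c t := fun t ht => by
    have h1 := hc t (mem_range.1 ht)
    have : bt c t = 0 ∨ co x t ≤ -1 ∧ bt c t = 1 ∨ 1 ≤ co x t ∧ bt c t = 1 := by omega
    rcases this with h | h | h
    · rw [h]; nlinarith [sq_nonneg (co x t)]
    · rw [h.2]; nlinarith [h.1]
    · rw [h.2]; nlinarith [h.1]
  have h3 := sum_nonneg h2
  have h4 : ∑ t ∈ range 56, (co x t * co x t - bt c t) = ruNorm x - 16 := by
    rw [sum_sub_distrib, ← h1, hp, norm_eq]; rfl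
  refine ⟨co_ext fun t ht => ?_, by omega⟩
  have h5 := (sum_eq_zero_iff_of_nonneg h2).1 (by omega) t (mem_range.2 ht)
  have h6 := hz t ht
  rw [co_vz _ _ ht, bt, bt, h6]
  unfold yy
  unfold bt at h5 ⊢
  split_ifs at h5 ⊢ with e1 e2 e2
  · have : co x t = 1 ∨ co x t = -1 := mul_self_eq_one_iff.1 (by omega)
    simp only [decide_eq_true_eq] at e2; omega
  · have : co x t = 1 ∨ co x t = -1 := mul_self_eq_one_iff.1 (by omega)
    simp only [decide_eq_true_eq] at e2; omega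
  · simpa using h5
  · simpa using h5

theorem norm_fv : ∀ q < 112, ruNorm (fv q) = 16 := by decide +kernel

theorem leaf_zero {c : ℕ} (h1 : InSp GW c) : leaf c = 0 := by
  rw [← List.take_append_drop 5 GW] at h1
  obtain ⟨e, h2, h3⟩ := h1.append
  obtain ⟨j, hj, rfl⟩ := h2.comb
  have h4' := cE j (hj.trans_eq (by decide +kernel))
  rw [chkE, force_eq] at h4'
  have h4 := enumX_zero h4' h3
  rwa [Nat.xor_xor_cancel_left] at h4

theorem leaf_cases {c : ℕ} (h4 : leaf c = 0) (hp : pop c ≤ 16) :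
    c = 0 ∨ (∃ a < 1008, W1 a = c) ∨ ∃ a < 756, W2 a = c := by
  rw [leaf, ifz_eq, if_pos (show Nat.sub (pop c) 16 = 0 from Nat.sub_eq_zero_of_le hp), ifz_eq,
    force_eq, force_eq] at h4
  generalize bsearch W1 c 10 = a at h4
  generalize bsearch W2 c 10 = b at h4
  split_ifs at h4 with h6
  · exact Or.inl h6
  rcases Nat.mul_eq_zero.1 h4 with h7 | h7 <;> obtain ⟨h8, h9⟩ := add_eq_zero' h7
  · exact Or.inr (Or.inl ⟨a, lt_of_lt0 h9, xor_eq_zero' h8⟩)
  · exact Or.inr (Or.inr ⟨b, lt_of_lt0 h9, xor_eq_zero' h8⟩)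

theorem chk1_sound {a : ℕ} (ha : a < 1008) : pop (W1 a) = 16 ∧ ∃ P, sol (W1 a) P = 0 ∧
    ∀ z, P z = 0 → ∃ b < 1008, ∃ s < 16, W1 b = W1 a ∧ Zs b s = z := by
  have h10 := c1 a ha
  rw [chk1, force_eq, force_eq] at h10
  generalize pr a = b at h10
  obtain ⟨h11, h12⟩ := add_eq_zero' h10
  obtain ⟨h13, h14⟩ := add_eq_zero' h11
  obtain ⟨h15, h16⟩ := add_eq_zero' h14
  refine ⟨xor_eq_zero' h13, _, h12, fun z hz => ?_⟩
  rw [ifz_eq] at hz
  split_ifs at hz with h17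
  · obtain ⟨s, hs, e3⟩ := mulTo_zero h17
    exact ⟨a, ha, s, hs, rfl, xor_eq_zero' e3⟩
  · obtain ⟨s, hs, e3⟩ := mulTo_zero hz
    exact ⟨_, lt_of_lt0 h16, s, hs, xor_eq_zero' h15, xor_eq_zero' e3⟩

theorem short {x : RuVec} (hx : x ∈ ruLattice) (hN : ruNorm x ≤ 16) (h0 : x ≠ 0) :
    ruNorm x = 16 ∧ ((∃ a < 1008, ∃ s < 16, x = vz (W1 a) (Zs a s)) ∨ ∃ q < 112, x = fv q) := by
  obtain ⟨c, h1, hc⟩ := res_of_mem hx
  have h5 := cnt_le hc
  rcases leaf_cases (leaf_zero h1) (by omega) with rfl | ⟨a, ha, rfl⟩ | ⟨a, ha, rfl⟩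
  · obtain ⟨q, hq, rfl⟩ := frame_of (zero_sound hx hc hN) hN h0
    exact ⟨norm_fv q hq, Or.inr ⟨q, hq, rfl⟩⟩
  · obtain ⟨h2, P, h3, h4⟩ := chk1_sound ha
    obtain ⟨z, hz, hz'⟩ := sol_sound hx hc hN h3
    obtain ⟨e1, e2⟩ := tern_of hc hN h2 hz'
    obtain ⟨b, hb, s, hs, e3, e4⟩ := h4 z hz
    exact ⟨e2, Or.inl ⟨b, hb, s, hs, by rw [e3, e4, ← e1]⟩⟩
  · have h10 := c2 _ ha
    rw [chk2, force_eq] at h10
    obtain ⟨z, hz, -⟩ := sol_sound hx hc hN h10
    exact absurd hz one_ne_zero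

theorem min_norm {x : RuVec} (hx : x ∈ ruLattice) (h0 : x ≠ 0) : 16 ≤ ruNorm x := by
  by_contra h
  have := (short hx (by omega) h0).1
  omega

end Cfsg.Agent.H5.Ru
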