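import Cfsg.Agent.H5.RuL5
import Cfsg.Agent.H5.RuL7

/-! The upper bound for the order of the automorphism group. -/

set_option autoImplicit false

namespace Cfsg.Agent.H5.Ru

open Cfsg.Spor Finset

attribute [local irreducible] tv tc tz dn tb W1 W2 Zs pop

theorem rdot_inv (f : fourRu) (x y : ruLattice) :
    rdot ((f • x : ruLattice) : RuVec) (f • y : ruLattice) = rdot (x : RuVec) y := by
  have h1 := f.2.2.2 (x + y)
  rw [f.2.1, AddSubgroup.coe_add, AddSubgroup.coe_add, norm_add, norm_add, f.2.2.2, f.2.2.2] at h1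
  change rdot (f.1 x : RuVec) (f.1 y) = _
  omega

/-- basis vector as a lattice element -/
noncomputable def bv (k : ℕ) : ruLattice := if h : k < 56 then ⟨tv k, tv_mem' h⟩ else 0

theorem bv_eq {k : ℕ} (h : k < 56) : (bv k : RuVec) = tv k := by rw [bv, dif_pos h]

/-- the pointwise stabiliser -/
noncomputable def Fx : List ℕ → Subgroup fourRu
  | [] => ⊤
  | k :: l => Fx l ⊓ MulAction.stabilizer fourRu (bv k)

theorem fix_of_mem {l : List ℕ} {f : fourRu} (hf : f ∈ Fx l) {k : ℕ} (hk : k ∈ l) :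
    f • bv k = bv k := by
  induction l with
  | nil => exact absurd hk List.not_mem_nil
  | cons a l ih =>
    rcases List.mem_cons.1 hk with rfl | hk
    · exact hf.2
    · exact ih hf.1 hk

theorem bv_add {k : ℕ} (hk : k < 28) : bv (k + 28) = ruI (bv k) := Subtype.ext (by
  rw [bv_eq (by omega)]
  change _ = gI • (bv k : RuVec)
  rw [bv_eq (by omega)]; exact (cM ⟨k, hk⟩).1)

theorem fix_of_mem' {l : List ℕ} {f : fourRu} (hf : f ∈ Fx l) {k : ℕ} (hk : k < 56)
    (h : k % 28 ∈ l) : f • bv k = bv k := by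
  have h1 := fix_of_mem hf h
  by_cases h2 : k < 28
  · rwa [Nat.mod_eq_of_lt h2] at h1
  · rw [show k = k % 28 + 28 by omega, bv_add (Nat.mod_lt _ (by norm_num))]
    exact (f.2.2.1 _).trans (congrArg ruI h1)

theorem tst_one {d : ℕ → ℕ → ℕ} {j : ℕ} {K : List ℕ}
    (h : ∀ k ∈ K, d (tc k) (tz k) = dn (tc j) (tz j) (tc k) (tz k)) : tst d (mkT j K) = 1 := by
  induction K with
  | nil => rfl
  | cons k K ih =>
    change ifz (Nat.xor (d (tc k) (tz k)) (dn (tc j) (tz j) (tc k) (tz k))) (tst d (mkT j K)) 0 = 1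
    rw [h k List.mem_cons_self, ih fun k hk => h k (List.mem_cons_of_mem _ hk), ifz_eq,
      if_pos (show Nat.xor _ _ = 0 from Nat.xor_self _)]

theorem card_filter_le {α : Type*} (s : Finset α) (f : α → ℕ) :
    (s.filter fun a => f a = 1).card ≤ ∑ a ∈ s, f a := by
  rw [card_filter]
  exact sum_le_sum fun a _ => by split_ifs <;> omega

theorem class_le (S : Set RuVec) {j : ℕ} {K : List ℕ} (hS : ∀ x ∈ S, x ∈ ruLattice ∧
    ruNorm x = 16 ∧ ∀ k ∈ K, rdot x (tv k) = rdot (tv j) (tv k)) :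
    S.Finite ∧ S.ncard ≤ cnt (mkT j K) := by
  classical
  rw [cnt, sumTo_eq, sumTo_eq, (s8_blk _).sum]
  obtain ⟨n1, hn1⟩ : ∃ n, n = 126 * 8 := ⟨_, rfl⟩
  obtain ⟨n2, hn2⟩ : ∃ n, n = 112 := ⟨_, rfl⟩
  rw [← hn1, ← hn2]
  let A := ((range n1 ×ˢ range 16).filter fun p =>
    tst (dn (W1 p.1) (Zs p.1 p.2)) (mkT j K) = 1).image fun p => vz (W1 p.1) (Zs p.1 p.2)
  let B := ((range n2).filter fun q => cntF (mkT j K) q = 1).image fv
  have hsub : S ⊆ ↑(A ∪ B) := by
    intro x hx
    obtain ⟨h1, h2, h3⟩ := hS x hx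
    have h0 : x ≠ 0 := by rintro rfl; simp [ruNorm] at h2
    rcases (short h1 h2.le h0).2 with ⟨a, ha, s, hs, rfl⟩ | ⟨q, hq, rfl⟩
    · refine mem_coe.2 (mem_union_left _ (mem_image.2 ⟨(a, s), mem_filter.2
        ⟨mem_product.2 ⟨mem_range.2 (by omega), mem_range.2 hs⟩, tst_one fun k hk => ?_⟩, rfl⟩))
      have h4 := h3 k hk
      have h5 := dn_eq (W1 a) (Zs a s) (tc k) (tz k)
      rw [rdot_tv] at h4
      unfold tv at h4
      dsimp only; omega
    · refine mem_coe.2 (mem_union_right _ (mem_image.2 ⟨q, mem_filter.2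
        ⟨mem_range.2 (by omega), tst_one fun k hk => ?_⟩, rfl⟩))
      have h4 := h3 k hk
      have h5 := dn_eq (fc q) (q % 2 * fc q) (tc k) (tz k)
      rw [rdot_tv, fv, rdot_smul] at h4
      unfold tv at h4
      change 4 * dn (fc q) (q % 2 * fc q) (tc k) (tz k) - 384 = _
      omega
  refine ⟨(finite_toSet _).subset hsub, (Set.ncard_le_ncard hsub).trans ?_⟩
  rw [Set.ncard_coe_finset]
  refine (card_union_le _ _).trans (add_le_add (card_image_le.trans ((card_filter_le _ _).trans ?_))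
    (card_image_le.trans (card_filter_le _ _)))
  rw [sum_product]
  exact sum_le_sum fun a _ => by rw [cntR, force_eq, force_eq, sumTo_eq]; rfl

theorem level {l K : List ℕ} {j n B : ℕ} {L : T3} (hL : L = mkT j K) (hn : cnt L = n)
    (hK : j < 28 ∧ ∀ k ∈ K, k < 56 ∧ k % 28 ∈ l)
    (h : 0 < Nat.card (Fx (j :: l)) ∧ Nat.card (Fx (j :: l)) ≤ B) :
    0 < Nat.card (Fx l) ∧ Nat.card (Fx l) ≤ n * B := by
  have h1 := class_le (Subtype.val '' MulAction.orbit (Fx l) (bv j)) (j := j) (K := K) (by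
    rintro _ ⟨_, ⟨⟨f, hf⟩, rfl⟩, rfl⟩
    refine ⟨Subtype.prop _, ?_, fun k hk => ?_⟩
    · refine (f.2.2.2 (bv j)).trans ?_
      rw [bv_eq (by omega)]; exact norm_tv ⟨j, hK.1⟩
    · obtain ⟨h2, h3⟩ := hK.2 k hk
      rw [← bv_eq h2, ← bv_eq (show j < 56 by omega), ← rdot_inv f (bv j), fix_of_mem' hf h2 h3]
      rfl)
  rw [Set.ncard_image_of_injective _ Subtype.val_injective, ← hL, hn,
    Set.finite_image_iff Subtype.val_injective.injOn] at h1
  rw [card_eq_orbit (Fx l) (bv j)]
  exact ⟨Nat.mul_pos ((Set.ncard_pos h1.1).2 ⟨_, MulAction.mem_orbit_self _⟩) h.1,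
    Nat.mul_le_mul h1.2 h.2⟩

/-- the additive map of an automorphism -/
def addH (f : fourRu) : ruLattice →+ ruLattice := AddMonoidHom.mk' f.1 f.2.1

noncomputable def Ec (c : Fin 28 → GaussianInt) : ruLattice := ⟨E c, E_mem c⟩

theorem Ec_eq (c : Fin 28 → GaussianInt) :
    Ec c = ∑ k, ((c k).re • bv k + (c k).im • ruI (bv k)) := by
  apply Subtype.ext
  rw [AddSubgroup.val_finsetSum]
  refine (E_eq c).trans (sum_congr rfl fun k _ => ?_)
  rw [smul_eq, ← bv_eq (show (k : ℕ) < 56 by omega)]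
  rfl

theorem Fx_bot {l : List ℕ} (h : ∀ k < 28, k ∈ l) :
    0 < Nat.card (Fx l) ∧ Nat.card (Fx l) ≤ 1 := by
  have : Fx l = ⊥ := by
    rw [eq_bot_iff]
    intro f hf
    rw [Subgroup.mem_bot]
    ext1; ext1 x
    obtain ⟨c, hc⟩ := exists_E x.2
    obtain rfl : Ec c = x := Subtype.ext hc
    change addH f _ = Ec c
    rw [Ec_eq, map_sum]
    refine sum_congr rfl fun k _ => ?_
    have h1 : addH f (bv k) = bv k := fix_of_mem hf (h k k.2)
    have h2 : addH f (ruI (bv k)) = ruI (bv k) := (f.2.2.1 _).trans (congrArg ruI h1)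
    rw [map_add, map_zsmul, map_zsmul, h1, h2]
  rw [this, Subgroup.card_bot]; exact ⟨one_pos, le_rfl⟩

theorem cnt0 : cnt (mkT 5 []) = 16240 := by decide +kernel

theorem card_le : 0 < Nat.card fourRu ∧ Nat.card fourRu ≤ 4 * 145926144000 := by
  have h := Fx_bot (l := [27, 26, 24, 23, 22, 20, 19, 15, 14, 13, 11, 10, 9, 8, 7, 6, 4, 1, 0, 3, 2,
    25, 18, 17, 21, 16, 12, 5]) (by decide)
  replace h := level mm27 n27 (by decide) h
  replace h := level mm26 n26 (by decide) h
  replace h := level mm25 n25 (by decide) h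
  replace h := level mm24 n24 (by decide) h
  replace h := level mm23 n23 (by decide) h
  replace h := level mm22 n22 (by decide) h
  replace h := level mm21 n21 (by decide) h
  replace h := level mm20 n20 (by decide) h
  replace h := level mm19 n19 (by decide) h
  replace h := level mm18 n18 (by decide) h
  replace h := level mm17 n17 (by decide) h
  replace h := level mm16 n16 (by decide) h
  replace h := level mm15 n15 (by decide) h
  replace h := level mm14 n14 (by decide) h
  replace h := level mm13 n13 (by decide) h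
  replace h := level mm12 n12 (by decide) h
  replace h := level mm11 n11 (by decide) h
  replace h := level mm10 n10 (by decide) h
  replace h := level mm9 n9 (by decide) h
  replace h := level mm8 n8 (by decide) h
  replace h := level mm7 n7 (by decide) h
  replace h := level mm6 n6 (by decide) h
  replace h := level mm5 n5 (by decide) h
  replace h := level mm4 n4 (by decide) h
  replace h := level mm3 n3 (by decide) h
  replace h := level mm2 n2 (by decide) h
  replace h := level mm1 n1 (by decide) h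
  replace h := level rfl cnt0 (by decide) h
  rw [Fx, Subgroup.card_top] at h
  exact ⟨h.1, h.2.trans (by norm_num)⟩

end Cfsg.Agent.H5.Ru
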