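import Cfsg.Agent.H5.RuL8
import Cfsg.Agent.H5.RuG

/-! The automorphism group of the Conway–Wales lattice. -/

set_option autoImplicit false

namespace Cfsg.Agent.H5

theorem center_eq_ker {G H : Type*} [Group G] [Group H] (φ : G →* H)
    (hk : φ.ker ≤ Subgroup.center G) [IsSimpleGroup φ.range] (hp : ¬(Nat.card φ.range).Prime) :
    Subgroup.center G = φ.ker := by
  refine le_antisymm (fun g hg => ?_) hk
  have h1 : φ.rangeRestrict g ∈ Subgroup.center φ.range := by
    rw [Subgroup.mem_center_iff] at hg ⊢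
    intro h
    obtain ⟨h, rfl⟩ := φ.rangeRestrict_surjective h
    rw [← map_mul, hg, map_mul]
  rcases IsSimpleGroup.eq_bot_or_eq_top_of_normal (Subgroup.center φ.range) inferInstance with h | h
  · rw [h, Subgroup.mem_bot] at h1
    exact congrArg Subtype.val h1
  · let _ := Group.commGroupOfCenterEqTop h
    exact absurd IsSimpleGroup.prime_card hp

theorem quot_aux {G H : Type*} [Group G] [Group H] [Finite H] (φ : G →* H) (S : Subgroup H)
    (Z : Subgroup G) (h0 : S ≤ φ.range) (h1 : Z ≤ φ.ker) (h2 : Z ≤ Subgroup.center G) {a b : ℕ}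
    (h3 : Nat.card Z = a) (hs : IsSimpleGroup S) (hc : Nat.card S = b) (hb : ¬b.Prime) (ha : 0 < a)
    (h4 : 0 < Nat.card G) (h5 : Nat.card G ≤ a * b) :
    Nat.card (Subgroup.center G) = a ∧ Nat.card (G ⧸ Subgroup.center G) = b ∧
      IsSimpleGroup (G ⧸ Subgroup.center G) := by
  have : Finite G := Nat.finite_of_card_ne_zero h4.ne'
  have h6 := φ.ker.card_mul_index
  rw [Subgroup.index_ker] at h6
  have h7 := Subgroup.card_le_of_le h1
  have h8 := Subgroup.card_le_of_le h0
  have hb0 : 0 < Nat.card S := Nat.card_pos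
  rw [h3] at h7
  rw [hc] at h8 hb0
  have h9 : φ.range = S := (Subgroup.eq_of_le_of_card_ge h0 (by rw [hc]; nlinarith)).symm
  have h10 : Z = φ.ker := Subgroup.eq_of_le_of_card_ge h1 (by rw [h3]; nlinarith)
  have : IsSimpleGroup φ.range := h9 ▸ hs
  have h11 := center_eq_ker φ (h10 ▸ h2) (by rwa [h9, hc])
  let e := (QuotientGroup.quotientMulEquivOfEq h11).trans (QuotientGroup.quotientKerEquivRange φ)
  exact ⟨by rw [h11, ← h10, h3], (Nat.card_congr e.toEquiv).trans (h9 ▸ hc), e.isSimpleGroup⟩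

namespace Ru

open Cfsg.Spor Finset Matrix

attribute [local irreducible] tv tc tz dn tb

noncomputable def eqv : (Fin 28 → GaussianInt) ≃+ ruLattice :=
  AddEquiv.ofBijective (E.toAddMonoidHom.codRestrict _ E_mem)
    ⟨fun _ _ h => E_inj (congrArg Subtype.val h), fun x =>
      let ⟨c, hc⟩ := exists_E x.2; ⟨c, Subtype.ext hc⟩⟩

theorem eqv_coe (c : Fin 28 → GaussianInt) : (eqv c : RuVec) = E c := rfl

theorem eqv_smul (a : GaussianInt) (c : Fin 28 → GaussianInt) :
    eqv (a • c) = a.re • eqv c + a.im • ruI (eqv c) :=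
  Subtype.ext ((map_smul E a c).trans (smul_eq _ _))

noncomputable def lin (f : fourRu) : (Fin 28 → GaussianInt) →ₗ[GaussianInt] Fin 28 → GaussianInt where
  toFun c := eqv.symm (addH f (eqv c))
  map_add' c d := by rw [map_add, map_add, map_add]
  map_smul' a c := by
    rw [AddEquiv.symm_apply_eq, eqv_smul, RingHom.id_apply, eqv_smul, map_add, map_zsmul, map_zsmul,
      AddEquiv.apply_symm_apply]
    exact congrArg (fun x => _ + a.im • x) (f.2.2.1 _)

noncomputable def ψ : fourRu →* Matrix (Fin 28) (Fin 28) GaussianInt where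
  toFun f := LinearMap.toMatrix' (lin f)
  map_one' := by
    rw [← LinearMap.toMatrix'_id]
    exact congrArg _ (LinearMap.ext fun c => eqv.symm_apply_apply c)
  map_mul' f g := by
    rw [← LinearMap.toMatrix'_comp]
    refine congrArg _ (LinearMap.ext fun c => ?_)
    change eqv.symm _ = eqv.symm (addH f (eqv (eqv.symm _)))
    rw [AddEquiv.apply_symm_apply]; rfl

theorem ψ_inj : Function.Injective ψ := fun f g h => by
  have h1 := LinearMap.toMatrix'.injective h
  ext1; ext1 x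
  obtain ⟨c, rfl⟩ := eqv.surjective x
  exact eqv.symm.injective (LinearMap.congr_fun h1 c)

theorem norm_E (c : Fin 28 → GaussianInt) : ruNorm (E c) = (4 * (star c ⬝ᵥ Γ *ᵥ c)).re := by
  rw [norm_eq, ← hp_re, ← hp_star]
  conv_lhs => rw [E_eq c, hp_sum, star_sum, ← E_eq]
  simp only [hp_smul, star_mul', hp_star, hp_E, dotProduct, mul_sum]
  exact congrArg _ (sum_congr rfl fun _ _ => by simp only [Pi.star_apply]; ring)

theorem exists_aut {A : Matrix (Fin 28) (Fin 28) GaussianInt} (hA : Aᴴ * (Γ * A) = Γ) :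
    ∃ f, ψ f = A := by
  have h1 : Γ' * Aᴴ * Γ * A = 1 := by rw [mul_assoc, mul_assoc, hA, Γ_inv]
  let e := Matrix.toLin'OfInv (mul_eq_one_comm.1 h1) h1
  have he : ∀ c, e.symm c = A *ᵥ c := fun _ => rfl
  let p : ruLattice ≃+ ruLattice := (eqv.symm.trans e.symm.toAddEquiv).trans eqv
  have hp : ∀ c, p (eqv c) = eqv (A *ᵥ c) := fun c => by
    change eqv (e.symm (eqv.symm (eqv c))) = _
    rw [AddEquiv.symm_apply_apply, he]
  have hI : ∀ c, ruI (eqv c) = eqv (gI • c) := fun c => Subtype.ext (map_smul E gI c).symm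
  refine ⟨⟨p.toEquiv, p.map_add, fun v => ?_, fun v => ?_⟩, ?_⟩
  · obtain ⟨c, rfl⟩ := eqv.surjective v
    change p _ = ruI (p _)
    rw [hI, hp, hp, hI, mulVec_smul]
  · obtain ⟨c, rfl⟩ := eqv.surjective v
    change ruNorm (p _ : RuVec) = _
    rw [hp, eqv_coe, eqv_coe, norm_E, norm_E, star_mulVec, mulVec_mulVec, ← dotProduct_mulVec,
      mulVec_mulVec, hA]
  · refine (congrArg LinearMap.toMatrix' (LinearMap.ext fun c => ?_)).trans
      (LinearMap.toMatrix'_toLin' A)
    change eqv.symm (p (eqv c)) = _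
    rw [hp, AddEquiv.symm_apply_apply]; rfl

def ρ : GaussianInt →+* ZMod 2 := Zsqrtd.lift ⟨1, by decide⟩

noncomputable def φ : fourRu →* GL (Fin 28) (ZMod 2) :=
  (ρ.mapMatrix.toMonoidHom.comp ψ).toHomUnits

theorem gm_map (r m : ℕ → ℕ → ℕ) :
    ρ.mapMatrix (gm r m) = Matrix.of fun (i j : Fin 28) => ((r i j + m i j : ℕ) : ZMod 2) := by
  funext i j
  change (((r i j : ℤ) - 128 : ℤ) : ZMod 2) + (((m i j : ℤ) - 128 : ℤ) : ZMod 2) * 1 =
    ((r i j + m i j : ℕ) : ZMod 2)
  push_cast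
  rw [show (128 : ZMod 2) = 0 from rfl]; ring

theorem evA : (Matrix.of fun (i j : Fin 28) => ((tb AR i j + tb AM i j : ℕ) : ZMod 2)) =
    c28.ev (ZMod 2) 28 (ag0 0) := by decide +kernel

theorem evB : (Matrix.of fun (i j : Fin 28) => ((tb BR i j + tb BM i j : ℕ) : ZMod 2)) =
    c28.ev (ZMod 2) 28 (ag0 1) := by decide +kernel

theorem G0_le : G0 ≤ φ.range := Mdl.gn_le fun s hs => by
  interval_cases s
  · obtain ⟨f, hf⟩ := exists_aut (A := gm (tb AR) (tb AM)) (by
      rw [Γ, gm_mul cA1, gm_conj, gm_mul cA2])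
    exact ⟨_, ⟨f, rfl⟩, (congrArg ρ.mapMatrix hf).trans ((gm_map _ _).trans evA)⟩
  · obtain ⟨f, hf⟩ := exists_aut (A := gm (tb BR) (tb BM)) (by
      rw [Γ, gm_mul cB1, gm_conj, gm_mul cB2])
    exact ⟨_, ⟨f, rfl⟩, (congrArg ρ.mapMatrix hf).trans ((gm_map _ _).trans evB)⟩

theorem main : Nat.card (Subgroup.center fourRu) = 4 ∧ Nat.card Cfsg.Spor.Ru = 145926144000 ∧
    IsSimpleGroup Cfsg.Spor.Ru := by
  obtain ⟨z, hz⟩ := exists_aut (A := gI • 1) (by
    rw [conjTranspose_smul, conjTranspose_one, smul_mul_assoc, one_mul, mul_smul_comm, mul_one,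
      smul_smul, show star gI * gI = 1 from rfl, one_smul])
  have h1 : Subgroup.zpowers z ≤ φ.ker := Subgroup.zpowers_le.2 (Units.ext (by
    change ρ.mapMatrix (ψ z) = 1
    rw [hz]
    funext i j
    change ρ (gI * (1 : Matrix _ _ GaussianInt) i j) = _
    rw [map_mul, show ρ gI = 1 from rfl, one_mul]
    exact congrFun (congrFun (map_one ρ.mapMatrix) i) j))
  have h2 : Subgroup.zpowers z ≤ Subgroup.center _ := Subgroup.zpowers_le.2
    (Subgroup.mem_center_iff.2 fun g => ψ_inj (by rw [map_mul, map_mul, hz]; simp))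
  have h3 : Nat.card (Subgroup.zpowers z) = 2 ^ (1 + 1) := by
    rw [Nat.card_zpowers]
    refine orderOf_eq_prime_pow (fun h => ?_) (ψ_inj ?_)
    · have := congrFun (congrFun (congrArg ψ h) 0) 0
      rw [map_pow, hz, map_one, smul_pow, one_pow] at this
      revert this; decide
    · rw [map_pow, hz, map_one, smul_pow, one_pow, show gI ^ 2 ^ (1 + 1) = 1 from rfl, one_smul]
  obtain ⟨h4, h5⟩ := card_le
  obtain ⟨hs, hc⟩ := simple_G0
  exact quot_aux φ G0 _ G0_le h1 h2 h3 hs hc (by norm_num) (by norm_num) h4 h5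

end Ru

end Cfsg.Agent.H5
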