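import Cfsg.Agent.H5.RuC0
import Cfsg.Agent.H5.RuC1

set_option autoImplicit false
set_option maxRecDepth 100000

namespace Cfsg.Agent.H5.Ru

open Mdl

set_option linter.unusedSectionVars false
set_option linter.unusedVariables false
attribute [local irreducible] look Tr.get

variable {G : Type*} [Group G] [Finite G] {φ : G →* Matrix (Fin 28) (Fin 28) (ZMod 2)} {inj : Function.Injective φ}

theorem atop0 (h0 : ∀ s < 2, (c28md φ inj).In ⊤ (ag0 s)) : ∀ s < 2, (c28md φ inj).In ⊤ (ag0 s) := h0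
theorem aeg0 (h0 : ∀ s < 2, (c28md φ inj).In ⊤ (ag0 s)) : (c28md φ inj).El ((c28md φ inj).gn ag0 2) ag0 := el_gn (atop0 h0)
theorem aW0 : ∀ i < 2, (chkW c28.mul c28.one ag0 [[nat_lit 0, nat_lit 1, nat_lit 0, nat_lit 1, nat_lit 1, nat_lit 0, nat_lit 1, nat_lit 0, nat_lit 1, nat_lit 1, nat_lit 1, nat_lit 1, nat_lit 0, nat_lit 1],
  [nat_lit 1, nat_lit 1, nat_lit 1, nat_lit 1, nat_lit 0, nat_lit 1, nat_lit 1, nat_lit 1, nat_lit 0, nat_lit 0, nat_lit 0, nat_lit 1, nat_lit 1, nat_lit 0, nat_lit 0, nat_lit 0, nat_lit 0, nat_lit 0]] ag1) i = 0 :=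
  (rng_step (all0 _) aW0_0)
theorem ain1 (h0 : ∀ s < 2, (c28md φ inj).In ⊤ (ag0 s)) : ∀ s < 2, (c28md φ inj).In ((c28md φ inj).gn ag0 2) (ag1 s) := in_of_chkW (aeg0 h0) aW0
theorem atop1 (h0 : ∀ s < 2, (c28md φ inj).In ⊤ (ag0 s)) : ∀ s < 2, (c28md φ inj).In ⊤ (ag1 s) := fun s hs => (ain1 h0 s hs).top
theorem ale0 (h0 : ∀ s < 2, (c28md φ inj).In ⊤ (ag0 s)) : ((c28md φ inj).gn ag1 2) ≤ ((c28md φ inj).gn ag0 2) := gn_le (ain1 h0)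
theorem aeg1 (h0 : ∀ s < 2, (c28md φ inj).In ⊤ (ag0 s)) : (c28md φ inj).El ((c28md φ inj).gn ag1 2) ag1 := el_gn (atop1 h0)
theorem aW1 : ∀ i < 2, (chkW c28.mul c28.one ag1 [[nat_lit 1, nat_lit 1, nat_lit 0, nat_lit 0, nat_lit 0, nat_lit 1, nat_lit 0, nat_lit 0, nat_lit 0, nat_lit 1, nat_lit 0, nat_lit 0, nat_lit 0],
  [nat_lit 0, nat_lit 1, nat_lit 1, nat_lit 0, nat_lit 1, nat_lit 1, nat_lit 0, nat_lit 1, nat_lit 1, nat_lit 1, nat_lit 1, nat_lit 1, nat_lit 1, nat_lit 0, nat_lit 1, nat_lit 0, nat_lit 1]] ag2) i = 0 :=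
  (rng_step (all0 _) aW1_0)
theorem ain2 (h0 : ∀ s < 2, (c28md φ inj).In ⊤ (ag0 s)) : ∀ s < 2, (c28md φ inj).In ((c28md φ inj).gn ag1 2) (ag2 s) := in_of_chkW (aeg1 h0) aW1
theorem atop2 (h0 : ∀ s < 2, (c28md φ inj).In ⊤ (ag0 s)) : ∀ s < 2, (c28md φ inj).In ⊤ (ag2 s) := fun s hs => (ain2 h0 s hs).top
theorem ale1 (h0 : ∀ s < 2, (c28md φ inj).In ⊤ (ag0 s)) : ((c28md φ inj).gn ag2 2) ≤ ((c28md φ inj).gn ag1 2) := gn_le (ain2 h0)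
theorem aeg2 (h0 : ∀ s < 2, (c28md φ inj).In ⊤ (ag0 s)) : (c28md φ inj).El ((c28md φ inj).gn ag2 2) ag2 := el_gn (atop2 h0)
theorem aW2 : ∀ i < 2, (chkW c28.mul c28.one ag2 [[nat_lit 0, nat_lit 0, nat_lit 1, nat_lit 0, nat_lit 1, nat_lit 0, nat_lit 1, nat_lit 0, nat_lit 0, nat_lit 1, nat_lit 1, nat_lit 0, nat_lit 1, nat_lit 0, nat_lit 0],
  [nat_lit 0, nat_lit 0, nat_lit 1, nat_lit 1, nat_lit 0, nat_lit 0, nat_lit 0, nat_lit 0, nat_lit 1, nat_lit 0, nat_lit 0, nat_lit 1, nat_lit 0, nat_lit 1, nat_lit 1, nat_lit 1]] ag3) i = 0 :=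
  (rng_step (all0 _) aW2_0)
theorem ain3 (h0 : ∀ s < 2, (c28md φ inj).In ⊤ (ag0 s)) : ∀ s < 2, (c28md φ inj).In ((c28md φ inj).gn ag2 2) (ag3 s) := in_of_chkW (aeg2 h0) aW2
theorem atop3 (h0 : ∀ s < 2, (c28md φ inj).In ⊤ (ag0 s)) : ∀ s < 2, (c28md φ inj).In ⊤ (ag3 s) := fun s hs => (ain3 h0 s hs).top
theorem ale2 (h0 : ∀ s < 2, (c28md φ inj).In ⊤ (ag0 s)) : ((c28md φ inj).gn ag3 2) ≤ ((c28md φ inj).gn ag2 2) := gn_le (ain3 h0)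
theorem aeg3 (h0 : ∀ s < 2, (c28md φ inj).In ⊤ (ag0 s)) : (c28md φ inj).El ((c28md φ inj).gn ag3 2) ag3 := el_gn (atop3 h0)
theorem ale3 (h0 : ∀ s < 2, (c28md φ inj).In ⊤ (ag0 s)) : (⊥ : Subgroup G) ≤ ((c28md φ inj).gn ag3 2) := bot_le
theorem ael4 (h0 : ∀ s < 2, (c28md φ inj).In ⊤ (ag0 s)) : (c28md φ inj).El ⊥ ae4 := el_one _
theorem aub4 (h0 : ∀ s < 2, (c28md φ inj).In ⊤ (ag0 s)) : Nat.card (⊥ : Subgroup G) ≤ 1 := card_bot_le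
theorem aS3 : ∀ i < 32, (chkS c28.mul ag3 (nat_lit 2) aT3 ae4 ac3 (nat_lit 5) (nat_lit 32)) i = 0 :=
  (rng_step (all0 _) aS3_0)
theorem asch3 (h0 : ∀ s < 2, (c28md φ inj).In ⊤ (ag0 s)) : (∀ g ∈ ((c28md φ inj).gn ag3 2), ∃ i < 32, (c28md φ inj).Cos (⊥ : Subgroup G) aT3 g i) ∧ (∀ i < 32, (c28md φ inj).In ((c28md φ inj).gn ag3 2) (aT3 i)) ∧ Nat.card ((c28md φ inj).gn ag3 2) ≤ 32 * Nat.card (⊥ : Subgroup G) :=
  schreier (ael4 h0) (by decide) aT0_3 (atop3 h0) (ale3 h0) aS3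
theorem ael3 (h0 : ∀ s < 2, (c28md φ inj).In ⊤ (ag0 s)) : (c28md φ inj).El ((c28md φ inj).gn ag3 2) ae3 := (el_of_pad (asch3 h0).2.1).cel0 _
theorem aub3 (h0 : ∀ s < 2, (c28md φ inj).In ⊤ (ag0 s)) : Nat.card ((c28md φ inj).gn ag3 2) ≤ 32 := (upper (asch3 h0).2.2 (aub4 h0)).trans (by norm_num)
theorem aS2 : ∀ i < 640, (chkS c28.mul ag2 (nat_lit 2) aT2 ae3 ac2 (nat_lit 10) (nat_lit 640)) i = 0 :=
  (rng_step (rng_step (rng_step (rng_step (all0 _) aS2_0) aS2_1) aS2_2) aS2_3)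
theorem asch2 (h0 : ∀ s < 2, (c28md φ inj).In ⊤ (ag0 s)) : (∀ g ∈ ((c28md φ inj).gn ag2 2), ∃ i < 640, (c28md φ inj).Cos ((c28md φ inj).gn ag3 2) aT2 g i) ∧ (∀ i < 640, (c28md φ inj).In ((c28md φ inj).gn ag2 2) (aT2 i)) ∧ Nat.card ((c28md φ inj).gn ag2 2) ≤ 640 * Nat.card ((c28md φ inj).gn ag3 2) :=
  schreier (ael3 h0) (by decide) aT0_2 (atop2 h0) (ale2 h0) aS2
theorem ael2 (h0 : ∀ s < 2, (c28md φ inj).In ⊤ (ag0 s)) : (c28md φ inj).El ((c28md φ inj).gn ag2 2) ae2 := (el_of_pad (asch2 h0).2.1).cel ((ael3 h0).mono (ale2 h0)) _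
theorem aub2 (h0 : ∀ s < 2, (c28md φ inj).In ⊤ (ag0 s)) : Nat.card ((c28md φ inj).gn ag2 2) ≤ 20480 := (upper (asch2 h0).2.2 (aub3 h0)).trans (by norm_num)
theorem aS1 : ∀ i < 1755, (chkS c28.mul ag1 (nat_lit 2) aT1 ae2 ac1 (nat_lit 11) (nat_lit 1755)) i = 0 :=
  (rng_step (rng_step (rng_step (rng_step (rng_step (rng_step (rng_step (rng_step (rng_step (all0 _) aS1_0) aS1_1) aS1_2) aS1_3) aS1_4) aS1_5) aS1_6) aS1_7) aS1_8)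
theorem asch1 (h0 : ∀ s < 2, (c28md φ inj).In ⊤ (ag0 s)) : (∀ g ∈ ((c28md φ inj).gn ag1 2), ∃ i < 1755, (c28md φ inj).Cos ((c28md φ inj).gn ag2 2) aT1 g i) ∧ (∀ i < 1755, (c28md φ inj).In ((c28md φ inj).gn ag1 2) (aT1 i)) ∧ Nat.card ((c28md φ inj).gn ag1 2) ≤ 1755 * Nat.card ((c28md φ inj).gn ag2 2) :=
  schreier (ael2 h0) (by decide) aT0_1 (atop1 h0) (ale1 h0) aS1
theorem ael1 (h0 : ∀ s < 2, (c28md φ inj).In ⊤ (ag0 s)) : (c28md φ inj).El ((c28md φ inj).gn ag1 2) ae1 := (el_of_pad (asch1 h0).2.1).cel ((ael2 h0).mono (ale1 h0)) _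
theorem aub1 (h0 : ∀ s < 2, (c28md φ inj).In ⊤ (ag0 s)) : Nat.card ((c28md φ inj).gn ag1 2) ≤ 35942400 := (upper (asch1 h0).2.2 (aub2 h0)).trans (by norm_num)
theorem aS0 : ∀ i < 4060, (chkS c28.mul ag0 (nat_lit 2) aT0 ae1 ac0 (nat_lit 12) (nat_lit 4060)) i = 0 :=
  (rng_step (rng_step (rng_step (rng_step (rng_step (rng_step (rng_step (rng_step (rng_step (rng_step (rng_step (rng_step (rng_step (rng_step (rng_step (rng_step (rng_step (rng_step (rng_step (rng_step (rng_step (all0 _) aS0_0) aS0_1) aS0_2) aS0_3) aS0_4) aS0_5) aS0_6) aS0_7) aS0_8) aS0_9) aS0_10) aS0_11) aS0_12) aS0_13) aS0_14) aS0_15) aS0_16) aS0_17) aS0_18) aS0_19) aS0_20)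
theorem asch0 (h0 : ∀ s < 2, (c28md φ inj).In ⊤ (ag0 s)) : (∀ g ∈ ((c28md φ inj).gn ag0 2), ∃ i < 4060, (c28md φ inj).Cos ((c28md φ inj).gn ag1 2) aT0 g i) ∧ (∀ i < 4060, (c28md φ inj).In ((c28md φ inj).gn ag0 2) (aT0 i)) ∧ Nat.card ((c28md φ inj).gn ag0 2) ≤ 4060 * Nat.card ((c28md φ inj).gn ag1 2) :=
  schreier (ael1 h0) (by decide) aT0_0 (atop0 h0) (ale0 h0) aS0
theorem ael0 (h0 : ∀ s < 2, (c28md φ inj).In ⊤ (ag0 s)) : (c28md φ inj).El ((c28md φ inj).gn ag0 2) ae0 := (el_of_pad (asch0 h0).2.1).cel ((ael1 h0).mono (ale0 h0)) _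
theorem aub0 (h0 : ∀ s < 2, (c28md φ inj).In ⊤ (ag0 s)) : Nat.card ((c28md φ inj).gn ag0 2) ≤ 145926144000 := (upper (asch0 h0).2.2 (aub1 h0)).trans (by norm_num)
theorem alb4 (h0 : ∀ s < 2, (c28md φ inj).In ⊤ (ag0 s)) : 1 ≤ Nat.card (⊥ : Subgroup G) := one_le_card _
theorem ay3Y : ∀ i < 32, (chkY c28b.canV c28b.row ay3 (nat_lit 32)) i = 0 :=
  allB (rngB_step (allB0 _ _) ay3Y_0) (by decide)
theorem ay3D : Dist (fun i => (fun x => (⟨c28b.vec (ZMod 2) 28 x⟩ : Vc φ)) (pt c28b.row ay3 i)) 32 :=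
  dist_of_chk (@Cfg.Ok.canT G _ _ _ _ c28b (ZMod.charP 2) c28b_ok rfl rfl φ) ay3Y
theorem aO3 : ∀ i < 32, (chkO (c28b.imgV ag3) c28b.row ay3 aO3a (nat_lit 32) [nat_lit 8]) i = 0 :=
  allB (rngB_step (allB0 _ _) aO3_0) (by decide)
theorem aR3 (h0 : ∀ s < 2, (c28md φ inj).In ⊤ (ag0 s)) : Reach ((c28md φ inj).gn ag3 2) (fun i => (fun x => (⟨c28b.vec (ZMod 2) 28 x⟩ : Vc φ)) (pt c28b.row ay3 i)) 32 [nat_lit 8] :=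
  reach_of_chk (pv := (fun x => (⟨c28b.vec (ZMod 2) 28 x⟩ : Vc φ))) ((@Cfg.Ok.acts G _ _ _ _ c28b (ZMod.charP 2) c28b_ok rfl rfl (c28md φ inj) rfl ag3).ex (aeg3 h0)) aO3
theorem afx3 : (⊥ : Subgroup G) ≤ MulAction.stabilizer G ((fun i => (fun x => (⟨c28b.vec (ZMod 2) 28 x⟩ : Vc φ)) (pt c28b.row ay3 i)) (nat_lit 8)) := bot_le
theorem alb3 (h0 : ∀ s < 2, (c28md φ inj).In ⊤ (ag0 s)) : 32 ≤ Nat.card ((c28md φ inj).gn ag3 2) :=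
  le_of_eq_of_le (by norm_num) (lower ay3D (aR3 h0) (ale3 h0) afx3 (alb4 h0))
theorem aex3 (h0 : ∀ s < 2, (c28md φ inj).In ⊤ (ag0 s)) : MulAction.orbit ((c28md φ inj).gn ag3 2) ((fun i => (fun x => (⟨c28b.vec (ZMod 2) 28 x⟩ : Vc φ)) (pt c28b.row ay3 i)) (nat_lit 8)) = (fun i => (fun x => (⟨c28b.vec (ZMod 2) 28 x⟩ : Vc φ)) (pt c28b.row ay3 i)) '' {i | i < 32} ∧ ((c28md φ inj).gn ag3 2) ⊓ MulAction.stabilizer G ((fun i => (fun x => (⟨c28b.vec (ZMod 2) 28 x⟩ : Vc φ)) (pt c28b.row ay3 i)) (nat_lit 8)) = (⊥ : Subgroup G) ∧ Nat.card ((c28md φ inj).gn ag3 2) = 32 * 1 ∧ Nat.card (⊥ : Subgroup G) = 1 :=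
  exact ay3D (aR3 h0) (ale3 h0) afx3 (alb4 h0) ((aub3 h0).trans (by norm_num))
theorem ay2Y : ∀ i < 640, (chkY c28b.canV c28b.row ay2 (nat_lit 640)) i = 0 :=
  allB (rngB_step (allB0 _ _) ay2Y_0) (by decide)
theorem ay2D : Dist (fun i => (fun x => (⟨c28b.vec (ZMod 2) 28 x⟩ : Vc φ)) (pt c28b.row ay2 i)) 640 :=
  dist_of_chk (@Cfg.Ok.canT G _ _ _ _ c28b (ZMod.charP 2) c28b_ok rfl rfl φ) ay2Y
theorem aO2 : ∀ i < 640, (chkO (c28b.imgV ag2) c28b.row ay2 aO2a (nat_lit 640) [nat_lit 377]) i = 0 :=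
  allB (rngB_step (allB0 _ _) aO2_0) (by decide)
theorem aR2 (h0 : ∀ s < 2, (c28md φ inj).In ⊤ (ag0 s)) : Reach ((c28md φ inj).gn ag2 2) (fun i => (fun x => (⟨c28b.vec (ZMod 2) 28 x⟩ : Vc φ)) (pt c28b.row ay2 i)) 640 [nat_lit 377] :=
  reach_of_chk (pv := (fun x => (⟨c28b.vec (ZMod 2) 28 x⟩ : Vc φ))) ((@Cfg.Ok.acts G _ _ _ _ c28b (ZMod.charP 2) c28b_ok rfl rfl (c28md φ inj) rfl ag2).ex (aeg2 h0)) aO2
theorem aF2 : ∀ i < 2, (chkF (c28b.imgV ag3) c28b.row ay2 (nat_lit 377) [nat_lit 0, nat_lit 0]) i = 0 :=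
  (rng_step (all0 _) aF2_0)
theorem afx2 : ((c28md φ inj).gn ag3 2) ≤ MulAction.stabilizer G ((fun i => (fun x => (⟨c28b.vec (ZMod 2) 28 x⟩ : Vc φ)) (pt c28b.row ay2 i)) (nat_lit 377)) :=
  gn_le_stab (@Cfg.Ok.acts G _ _ _ _ c28b (ZMod.charP 2) c28b_ok rfl rfl (c28md φ inj) rfl ag3) aF2
theorem alb2 (h0 : ∀ s < 2, (c28md φ inj).In ⊤ (ag0 s)) : 20480 ≤ Nat.card ((c28md φ inj).gn ag2 2) :=
  le_of_eq_of_le (by norm_num) (lower ay2D (aR2 h0) (ale2 h0) afx2 (alb3 h0))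
theorem aex2 (h0 : ∀ s < 2, (c28md φ inj).In ⊤ (ag0 s)) : MulAction.orbit ((c28md φ inj).gn ag2 2) ((fun i => (fun x => (⟨c28b.vec (ZMod 2) 28 x⟩ : Vc φ)) (pt c28b.row ay2 i)) (nat_lit 377)) = (fun i => (fun x => (⟨c28b.vec (ZMod 2) 28 x⟩ : Vc φ)) (pt c28b.row ay2 i)) '' {i | i < 640} ∧ ((c28md φ inj).gn ag2 2) ⊓ MulAction.stabilizer G ((fun i => (fun x => (⟨c28b.vec (ZMod 2) 28 x⟩ : Vc φ)) (pt c28b.row ay2 i)) (nat_lit 377)) = ((c28md φ inj).gn ag3 2) ∧ Nat.card ((c28md φ inj).gn ag2 2) = 640 * 32 ∧ Nat.card ((c28md φ inj).gn ag3 2) = 32 :=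
  exact ay2D (aR2 h0) (ale2 h0) afx2 (alb3 h0) ((aub2 h0).trans (by norm_num))
theorem ay1Y : ∀ i < 1755, (chkY c28b.canV c28b.row ay1 (nat_lit 1755)) i = 0 :=
  allB (rngB_step (rngB_step (allB0 _ _) ay1Y_0) ay1Y_1) (by decide)
theorem ay1D : Dist (fun i => (fun x => (⟨c28b.vec (ZMod 2) 28 x⟩ : Vc φ)) (pt c28b.row ay1 i)) 1755 :=
  dist_of_chk (@Cfg.Ok.canT G _ _ _ _ c28b (ZMod.charP 2) c28b_ok rfl rfl φ) ay1Y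
theorem aO1 : ∀ i < 1755, (chkO (c28b.imgV ag1) c28b.row ay1 aO1a (nat_lit 1755) [nat_lit 128]) i = 0 :=
  allB (rngB_step (rngB_step (allB0 _ _) aO1_0) aO1_1) (by decide)
theorem aR1 (h0 : ∀ s < 2, (c28md φ inj).In ⊤ (ag0 s)) : Reach ((c28md φ inj).gn ag1 2) (fun i => (fun x => (⟨c28b.vec (ZMod 2) 28 x⟩ : Vc φ)) (pt c28b.row ay1 i)) 1755 [nat_lit 128] :=
  reach_of_chk (pv := (fun x => (⟨c28b.vec (ZMod 2) 28 x⟩ : Vc φ))) ((@Cfg.Ok.acts G _ _ _ _ c28b (ZMod.charP 2) c28b_ok rfl rfl (c28md φ inj) rfl ag1).ex (aeg1 h0)) aO1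
theorem aF1 : ∀ i < 2, (chkF (c28b.imgV ag2) c28b.row ay1 (nat_lit 128) [nat_lit 0, nat_lit 0]) i = 0 :=
  (rng_step (all0 _) aF1_0)
theorem afx1 : ((c28md φ inj).gn ag2 2) ≤ MulAction.stabilizer G ((fun i => (fun x => (⟨c28b.vec (ZMod 2) 28 x⟩ : Vc φ)) (pt c28b.row ay1 i)) (nat_lit 128)) :=
  gn_le_stab (@Cfg.Ok.acts G _ _ _ _ c28b (ZMod.charP 2) c28b_ok rfl rfl (c28md φ inj) rfl ag2) aF1
theorem alb1 (h0 : ∀ s < 2, (c28md φ inj).In ⊤ (ag0 s)) : 35942400 ≤ Nat.card ((c28md φ inj).gn ag1 2) :=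
  le_of_eq_of_le (by norm_num) (lower ay1D (aR1 h0) (ale1 h0) afx1 (alb2 h0))
theorem aex1 (h0 : ∀ s < 2, (c28md φ inj).In ⊤ (ag0 s)) : MulAction.orbit ((c28md φ inj).gn ag1 2) ((fun i => (fun x => (⟨c28b.vec (ZMod 2) 28 x⟩ : Vc φ)) (pt c28b.row ay1 i)) (nat_lit 128)) = (fun i => (fun x => (⟨c28b.vec (ZMod 2) 28 x⟩ : Vc φ)) (pt c28b.row ay1 i)) '' {i | i < 1755} ∧ ((c28md φ inj).gn ag1 2) ⊓ MulAction.stabilizer G ((fun i => (fun x => (⟨c28b.vec (ZMod 2) 28 x⟩ : Vc φ)) (pt c28b.row ay1 i)) (nat_lit 128)) = ((c28md φ inj).gn ag2 2) ∧ Nat.card ((c28md φ inj).gn ag1 2) = 1755 * 20480 ∧ Nat.card ((c28md φ inj).gn ag2 2) = 20480 :=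
  exact ay1D (aR1 h0) (ale1 h0) afx1 (alb2 h0) ((aub1 h0).trans (by norm_num))
theorem ay0Y : ∀ i < 4060, (chkY c28b.canV c28b.row ay0 (nat_lit 4060)) i = 0 :=
  allB (rngB_step (rngB_step (rngB_step (rngB_step (allB0 _ _) ay0Y_0) ay0Y_1) ay0Y_2) ay0Y_3) (by decide)
theorem ay0D : Dist (fun i => (fun x => (⟨c28b.vec (ZMod 2) 28 x⟩ : Vc φ)) (pt c28b.row ay0 i)) 4060 :=
  dist_of_chk (@Cfg.Ok.canT G _ _ _ _ c28b (ZMod.charP 2) c28b_ok rfl rfl φ) ay0Y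
theorem aO0 : ∀ i < 4060, (chkO (c28b.imgV ag0) c28b.row ay0 aO0a (nat_lit 4060) [nat_lit 0]) i = 0 :=
  allB (rngB_step (rngB_step (rngB_step (rngB_step (allB0 _ _) aO0_0) aO0_1) aO0_2) aO0_3) (by decide)
theorem aR0 (h0 : ∀ s < 2, (c28md φ inj).In ⊤ (ag0 s)) : Reach ((c28md φ inj).gn ag0 2) (fun i => (fun x => (⟨c28b.vec (ZMod 2) 28 x⟩ : Vc φ)) (pt c28b.row ay0 i)) 4060 [nat_lit 0] :=
  reach_of_chk (pv := (fun x => (⟨c28b.vec (ZMod 2) 28 x⟩ : Vc φ))) ((@Cfg.Ok.acts G _ _ _ _ c28b (ZMod.charP 2) c28b_ok rfl rfl (c28md φ inj) rfl ag0).ex (aeg0 h0)) aO0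
theorem aF0 : ∀ i < 2, (chkF (c28b.imgV ag1) c28b.row ay0 (nat_lit 0) [nat_lit 0, nat_lit 0]) i = 0 :=
  (rng_step (all0 _) aF0_0)
theorem afx0 : ((c28md φ inj).gn ag1 2) ≤ MulAction.stabilizer G ((fun i => (fun x => (⟨c28b.vec (ZMod 2) 28 x⟩ : Vc φ)) (pt c28b.row ay0 i)) (nat_lit 0)) :=
  gn_le_stab (@Cfg.Ok.acts G _ _ _ _ c28b (ZMod.charP 2) c28b_ok rfl rfl (c28md φ inj) rfl ag1) aF0
theorem alb0 (h0 : ∀ s < 2, (c28md φ inj).In ⊤ (ag0 s)) : 145926144000 ≤ Nat.card ((c28md φ inj).gn ag0 2) :=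
  le_of_eq_of_le (by norm_num) (lower ay0D (aR0 h0) (ale0 h0) afx0 (alb1 h0))
theorem aex0 (h0 : ∀ s < 2, (c28md φ inj).In ⊤ (ag0 s)) : MulAction.orbit ((c28md φ inj).gn ag0 2) ((fun i => (fun x => (⟨c28b.vec (ZMod 2) 28 x⟩ : Vc φ)) (pt c28b.row ay0 i)) (nat_lit 0)) = (fun i => (fun x => (⟨c28b.vec (ZMod 2) 28 x⟩ : Vc φ)) (pt c28b.row ay0 i)) '' {i | i < 4060} ∧ ((c28md φ inj).gn ag0 2) ⊓ MulAction.stabilizer G ((fun i => (fun x => (⟨c28b.vec (ZMod 2) 28 x⟩ : Vc φ)) (pt c28b.row ay0 i)) (nat_lit 0)) = ((c28md φ inj).gn ag1 2) ∧ Nat.card ((c28md φ inj).gn ag0 2) = 4060 * 35942400 ∧ Nat.card ((c28md φ inj).gn ag1 2) = 35942400 :=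
  exact ay0D (aR0 h0) (ale0 h0) afx0 (alb1 h0) ((aub0 h0).trans (by norm_num))
theorem aK : ∀ i < 4060, (chkO (c28b.imgV ag1) c28b.row ay0 aKa (nat_lit 4060) [nat_lit 0, nat_lit 1, nat_lit 7]) i = 0 :=
  allB (rngB_step (rngB_step (rngB_step (rngB_step (allB0 _ _) aK_0) aK_1) aK_2) aK_3) (by decide)
theorem am7O : ∀ i < 4060, (chkO (c28b.imgV am7) c28b.row ay0 am7Oa (nat_lit 4060) [nat_lit 0]) i = 0 :=
  allB (rngB_step (rngB_step (rngB_step (rngB_step (allB0 _ _) am7O_0) am7O_1) am7O_2) am7O_3) (by decide)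
theorem am1O : ∀ i < 4060, (chkO (c28b.imgV am1) c28b.row ay0 am1Oa (nat_lit 4060) [nat_lit 0]) i = 0 :=
  allB (rngB_step (rngB_step (rngB_step (rngB_step (allB0 _ _) am1O_0) am1O_1) am1O_2) am1O_3) (by decide)
theorem amax (h0 : ∀ s < 2, (c28md φ inj).In ⊤ (ag0 s)) (ht : (c28md φ inj).gn ag0 2 = ⊤) : ∀ M : Subgroup G, ((c28md φ inj).gn ag1 2) ≤ M → M = ((c28md φ inj).gn ag1 2) ∨ M = ⊤ :=
  max_of_roots (Y := (fun i => (fun x => (⟨c28b.vec (ZMod 2) 28 x⟩ : Vc φ)) (pt c28b.row ay0 i))) (ht ▸ (aex0 h0).1) (ht ▸ (aex0 h0).2.1)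
  (reach_of_chk (pv := (fun x => (⟨c28b.vec (ZMod 2) 28 x⟩ : Vc φ))) ((@Cfg.Ok.acts G _ _ _ _ c28b (ZMod.charP 2) c28b_ok rfl rfl (c28md φ inj) rfl ag1).ex (aeg1 h0)) aK)
  (List.forall_mem_cons.2 ⟨Or.inl rfl, (List.forall_mem_cons.2 ⟨Or.inr (root_ok (pv := (fun x => (⟨c28b.vec (ZMod 2) 28 x⟩ : Vc φ))) (@Cfg.Ok.acts G _ _ _ _ c28b (ZMod.charP 2) c28b_ok rfl rfl (c28md φ inj) rfl am1) ((asch0 h0).2.1 (nat_lit 2972) (by decide)).top (aeg1 h0)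
    (ht ▸ (aex0 h0).1) (ht ▸ (aex0 h0).2.1) am1M am1O),
  (List.forall_mem_cons.2 ⟨Or.inr (root_ok (pv := (fun x => (⟨c28b.vec (ZMod 2) 28 x⟩ : Vc φ))) (@Cfg.Ok.acts G _ _ _ _ c28b (ZMod.charP 2) c28b_ok rfl rfl (c28md φ inj) rfl am7) ((asch0 h0).2.1 (nat_lit 1528) (by decide)).top (aeg1 h0)
    (ht ▸ (aex0 h0).1) (ht ▸ (aex0 h0).2.1) am7M am7O),
  (fun _ h => absurd h List.not_mem_nil)⟩)⟩)⟩)
theorem acore1 (h0 : ∀ s < 2, (c28md φ inj).In ⊤ (ag0 s)) (N : Subgroup G) (hN : N.Normal) (h : N ≤ ((c28md φ inj).gn ag1 2)) : N ≤ ((c28md φ inj).gn ag1 2) := h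
theorem acore2 (h0 : ∀ s < 2, (c28md φ inj).In ⊤ (ag0 s)) (N : Subgroup G) (hN : N.Normal) (h : N ≤ ((c28md φ inj).gn ag1 2)) : N ≤ ((c28md φ inj).gn ag2 2) :=
  (le_inf (acore1 h0 N hN h) (normal_le_stab hN (h.trans afx0) (mem_orbit_of_eq (aex0 h0).1 (j := (nat_lit 299)) (by decide) (congrArg (fun x => (⟨c28b.vec (ZMod 2) 28 x⟩ : Vc φ)) acp1)))).trans (aex1 h0).2.1.le
theorem acore3 (h0 : ∀ s < 2, (c28md φ inj).In ⊤ (ag0 s)) (N : Subgroup G) (hN : N.Normal) (h : N ≤ ((c28md φ inj).gn ag1 2)) : N ≤ ((c28md φ inj).gn ag3 2) :=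
  (le_inf (acore2 h0 N hN h) (normal_le_stab hN (h.trans afx0) (mem_orbit_of_eq (aex0 h0).1 (j := (nat_lit 2337)) (by decide) (congrArg (fun x => (⟨c28b.vec (ZMod 2) 28 x⟩ : Vc φ)) acp2)))).trans (aex2 h0).2.1.le
theorem acore4 (h0 : ∀ s < 2, (c28md φ inj).In ⊤ (ag0 s)) (N : Subgroup G) (hN : N.Normal) (h : N ≤ ((c28md φ inj).gn ag1 2)) : N ≤ (⊥ : Subgroup G) :=
  (le_inf (acore3 h0 N hN h) (normal_le_stab hN (h.trans afx0) (mem_orbit_of_eq (aex0 h0).1 (j := (nat_lit 1133)) (by decide) (congrArg (fun x => (⟨c28b.vec (ZMod 2) 28 x⟩ : Vc φ)) acp3)))).trans (aex3 h0).2.1.le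
theorem aP : ∀ i < 2, (chkP c28.mul c28.one ag0 ae0 [[nat_lit 262066920949, nat_lit 158085270939],
  [nat_lit 150276159731, nat_lit 121992637823]] (nat_lit 7)) i = 0 :=
  (rng_step (all0 _) aP_0)
theorem aI : ∀ i < 2, (chkI c28.mul c28.one ag0 ai) i = 0 :=
  (rng_step (all0 _) aI_0)
theorem ttop0 (h0 : ∀ s < 2, (c28md φ inj).In ⊤ (tg0 s)) : ∀ s < 2, (c28md φ inj).In ⊤ (tg0 s) := h0
theorem teg0 (h0 : ∀ s < 2, (c28md φ inj).In ⊤ (tg0 s)) : (c28md φ inj).El ((c28md φ inj).gn tg0 2) tg0 := el_gn (ttop0 h0)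
theorem tW0 : ∀ i < 2, (chkW c28.mul c28.one tg0 [[nat_lit 1, nat_lit 1, nat_lit 1, nat_lit 1, nat_lit 0, nat_lit 0, nat_lit 1, nat_lit 1, nat_lit 0, nat_lit 0, nat_lit 0],
  [nat_lit 1, nat_lit 1, nat_lit 1, nat_lit 0, nat_lit 1, nat_lit 1, nat_lit 1, nat_lit 0, nat_lit 0, nat_lit 1, nat_lit 0, nat_lit 0, nat_lit 1, nat_lit 0, nat_lit 0, nat_lit 0, nat_lit 1, nat_lit 0]] tg1) i = 0 :=
  (rng_step (all0 _) tW0_0)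
theorem tin1 (h0 : ∀ s < 2, (c28md φ inj).In ⊤ (tg0 s)) : ∀ s < 2, (c28md φ inj).In ((c28md φ inj).gn tg0 2) (tg1 s) := in_of_chkW (teg0 h0) tW0
theorem ttop1 (h0 : ∀ s < 2, (c28md φ inj).In ⊤ (tg0 s)) : ∀ s < 2, (c28md φ inj).In ⊤ (tg1 s) := fun s hs => (tin1 h0 s hs).top
theorem tle0 (h0 : ∀ s < 2, (c28md φ inj).In ⊤ (tg0 s)) : ((c28md φ inj).gn tg1 2) ≤ ((c28md φ inj).gn tg0 2) := gn_le (tin1 h0)
theorem teg1 (h0 : ∀ s < 2, (c28md φ inj).In ⊤ (tg0 s)) : (c28md φ inj).El ((c28md φ inj).gn tg1 2) tg1 := el_gn (ttop1 h0)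
theorem tW1 : ∀ i < 3, (chkW c28.mul c28.one tg1 [[nat_lit 1, nat_lit 1, nat_lit 1, nat_lit 1, nat_lit 0, nat_lit 1, nat_lit 1, nat_lit 1, nat_lit 1, nat_lit 0, nat_lit 0, nat_lit 0, nat_lit 1],
  [nat_lit 1, nat_lit 0, nat_lit 1, nat_lit 0, nat_lit 0, nat_lit 0, nat_lit 1, nat_lit 1, nat_lit 0],
  [nat_lit 0, nat_lit 1, nat_lit 0, nat_lit 1, nat_lit 1, nat_lit 1, nat_lit 0, nat_lit 0, nat_lit 1, nat_lit 1, nat_lit 0, nat_lit 1, nat_lit 0, nat_lit 0, nat_lit 0]] tg2) i = 0 :=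
  (rng_step (all0 _) tW1_0)
theorem tin2 (h0 : ∀ s < 2, (c28md φ inj).In ⊤ (tg0 s)) : ∀ s < 3, (c28md φ inj).In ((c28md φ inj).gn tg1 2) (tg2 s) := in_of_chkW (teg1 h0) tW1
theorem ttop2 (h0 : ∀ s < 2, (c28md φ inj).In ⊤ (tg0 s)) : ∀ s < 3, (c28md φ inj).In ⊤ (tg2 s) := fun s hs => (tin2 h0 s hs).top
theorem tle1 (h0 : ∀ s < 2, (c28md φ inj).In ⊤ (tg0 s)) : ((c28md φ inj).gn tg2 3) ≤ ((c28md φ inj).gn tg1 2) := gn_le (tin2 h0)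
theorem teg2 (h0 : ∀ s < 2, (c28md φ inj).In ⊤ (tg0 s)) : (c28md φ inj).El ((c28md φ inj).gn tg2 3) tg2 := el_gn (ttop2 h0)
theorem tle2 (h0 : ∀ s < 2, (c28md φ inj).In ⊤ (tg0 s)) : (⊥ : Subgroup G) ≤ ((c28md φ inj).gn tg2 3) := bot_le
theorem tel3 (h0 : ∀ s < 2, (c28md φ inj).In ⊤ (tg0 s)) : (c28md φ inj).El ⊥ te3 := el_one _
theorem tub3 (h0 : ∀ s < 2, (c28md φ inj).In ⊤ (tg0 s)) : Nat.card (⊥ : Subgroup G) ≤ 1 := card_bot_le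
theorem tS2 : ∀ i < 128, (chkS c28.mul tg2 (nat_lit 3) tT2 te3 tc2 (nat_lit 7) (nat_lit 128)) i = 0 :=
  (rng_step (all0 _) tS2_0)
theorem tsch2 (h0 : ∀ s < 2, (c28md φ inj).In ⊤ (tg0 s)) : (∀ g ∈ ((c28md φ inj).gn tg2 3), ∃ i < 128, (c28md φ inj).Cos (⊥ : Subgroup G) tT2 g i) ∧ (∀ i < 128, (c28md φ inj).In ((c28md φ inj).gn tg2 3) (tT2 i)) ∧ Nat.card ((c28md φ inj).gn tg2 3) ≤ 128 * Nat.card (⊥ : Subgroup G) :=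
  schreier (tel3 h0) (by decide) tT0_2 (ttop2 h0) (tle2 h0) tS2
theorem tel2 (h0 : ∀ s < 2, (c28md φ inj).In ⊤ (tg0 s)) : (c28md φ inj).El ((c28md φ inj).gn tg2 3) te2 := (el_of_pad (tsch2 h0).2.1).cel0 _
theorem tub2 (h0 : ∀ s < 2, (c28md φ inj).In ⊤ (tg0 s)) : Nat.card ((c28md φ inj).gn tg2 3) ≤ 128 := (upper (tsch2 h0).2.2 (tub3 h0)).trans (by norm_num)
theorem tS1 : ∀ i < 80, (chkS c28.mul tg1 (nat_lit 2) tT1 te2 tc1 (nat_lit 7) (nat_lit 80)) i = 0 :=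
  (rng_step (all0 _) tS1_0)
theorem tsch1 (h0 : ∀ s < 2, (c28md φ inj).In ⊤ (tg0 s)) : (∀ g ∈ ((c28md φ inj).gn tg1 2), ∃ i < 80, (c28md φ inj).Cos ((c28md φ inj).gn tg2 3) tT1 g i) ∧ (∀ i < 80, (c28md φ inj).In ((c28md φ inj).gn tg1 2) (tT1 i)) ∧ Nat.card ((c28md φ inj).gn tg1 2) ≤ 80 * Nat.card ((c28md φ inj).gn tg2 3) :=
  schreier (tel2 h0) (by decide) tT0_1 (ttop1 h0) (tle1 h0) tS1
theorem tel1 (h0 : ∀ s < 2, (c28md φ inj).In ⊤ (tg0 s)) : (c28md φ inj).El ((c28md φ inj).gn tg1 2) te1 := (el_of_pad (tsch1 h0).2.1).cel ((tel2 h0).mono (tle1 h0)) _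
theorem tub1 (h0 : ∀ s < 2, (c28md φ inj).In ⊤ (tg0 s)) : Nat.card ((c28md φ inj).gn tg1 2) ≤ 10240 := (upper (tsch1 h0).2.2 (tub2 h0)).trans (by norm_num)
theorem tS0 : ∀ i < 1755, (chkS c28.mul tg0 (nat_lit 2) tT0 te1 tc0 (nat_lit 11) (nat_lit 1755)) i = 0 :=
  (rng_step (rng_step (rng_step (rng_step (rng_step (rng_step (rng_step (rng_step (rng_step (all0 _) tS0_0) tS0_1) tS0_2) tS0_3) tS0_4) tS0_5) tS0_6) tS0_7) tS0_8)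
theorem tsch0 (h0 : ∀ s < 2, (c28md φ inj).In ⊤ (tg0 s)) : (∀ g ∈ ((c28md φ inj).gn tg0 2), ∃ i < 1755, (c28md φ inj).Cos ((c28md φ inj).gn tg1 2) tT0 g i) ∧ (∀ i < 1755, (c28md φ inj).In ((c28md φ inj).gn tg0 2) (tT0 i)) ∧ Nat.card ((c28md φ inj).gn tg0 2) ≤ 1755 * Nat.card ((c28md φ inj).gn tg1 2) :=
  schreier (tel1 h0) (by decide) tT0_0 (ttop0 h0) (tle0 h0) tS0
theorem tel0 (h0 : ∀ s < 2, (c28md φ inj).In ⊤ (tg0 s)) : (c28md φ inj).El ((c28md φ inj).gn tg0 2) te0 := (el_of_pad (tsch0 h0).2.1).cel ((tel1 h0).mono (tle0 h0)) _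
theorem tub0 (h0 : ∀ s < 2, (c28md φ inj).In ⊤ (tg0 s)) : Nat.card ((c28md φ inj).gn tg0 2) ≤ 17971200 := (upper (tsch0 h0).2.2 (tub1 h0)).trans (by norm_num)
theorem tlb3 (h0 : ∀ s < 2, (c28md φ inj).In ⊤ (tg0 s)) : 1 ≤ Nat.card (⊥ : Subgroup G) := one_le_card _
theorem ty2Y : ∀ i < 128, (chkY c28b.canV c28b.row ty2 (nat_lit 128)) i = 0 :=
  allB (rngB_step (allB0 _ _) ty2Y_0) (by decide)
theorem ty2D : Dist (fun i => (fun x => (⟨c28b.vec (ZMod 2) 28 x⟩ : Vc φ)) (pt c28b.row ty2 i)) 128 :=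
  dist_of_chk (@Cfg.Ok.canT G _ _ _ _ c28b (ZMod.charP 2) c28b_ok rfl rfl φ) ty2Y
theorem tO2 : ∀ i < 128, (chkO (c28b.imgV tg2) c28b.row ty2 tO2a (nat_lit 128) [nat_lit 94]) i = 0 :=
  allB (rngB_step (allB0 _ _) tO2_0) (by decide)
theorem tR2 (h0 : ∀ s < 2, (c28md φ inj).In ⊤ (tg0 s)) : Reach ((c28md φ inj).gn tg2 3) (fun i => (fun x => (⟨c28b.vec (ZMod 2) 28 x⟩ : Vc φ)) (pt c28b.row ty2 i)) 128 [nat_lit 94] :=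
  reach_of_chk (pv := (fun x => (⟨c28b.vec (ZMod 2) 28 x⟩ : Vc φ))) ((@Cfg.Ok.acts G _ _ _ _ c28b (ZMod.charP 2) c28b_ok rfl rfl (c28md φ inj) rfl tg2).ex (teg2 h0)) tO2
theorem tfx2 : (⊥ : Subgroup G) ≤ MulAction.stabilizer G ((fun i => (fun x => (⟨c28b.vec (ZMod 2) 28 x⟩ : Vc φ)) (pt c28b.row ty2 i)) (nat_lit 94)) := bot_le
theorem tlb2 (h0 : ∀ s < 2, (c28md φ inj).In ⊤ (tg0 s)) : 128 ≤ Nat.card ((c28md φ inj).gn tg2 3) :=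
  le_of_eq_of_le (by norm_num) (lower ty2D (tR2 h0) (tle2 h0) tfx2 (tlb3 h0))
theorem tex2 (h0 : ∀ s < 2, (c28md φ inj).In ⊤ (tg0 s)) : MulAction.orbit ((c28md φ inj).gn tg2 3) ((fun i => (fun x => (⟨c28b.vec (ZMod 2) 28 x⟩ : Vc φ)) (pt c28b.row ty2 i)) (nat_lit 94)) = (fun i => (fun x => (⟨c28b.vec (ZMod 2) 28 x⟩ : Vc φ)) (pt c28b.row ty2 i)) '' {i | i < 128} ∧ ((c28md φ inj).gn tg2 3) ⊓ MulAction.stabilizer G ((fun i => (fun x => (⟨c28b.vec (ZMod 2) 28 x⟩ : Vc φ)) (pt c28b.row ty2 i)) (nat_lit 94)) = (⊥ : Subgroup G) ∧ Nat.card ((c28md φ inj).gn tg2 3) = 128 * 1 ∧ Nat.card (⊥ : Subgroup G) = 1 :=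
  exact ty2D (tR2 h0) (tle2 h0) tfx2 (tlb3 h0) ((tub2 h0).trans (by norm_num))
theorem ty1Y : ∀ i < 80, (chkY c28b.canV c28b.row ty1 (nat_lit 80)) i = 0 :=
  allB (rngB_step (allB0 _ _) ty1Y_0) (by decide)
theorem ty1D : Dist (fun i => (fun x => (⟨c28b.vec (ZMod 2) 28 x⟩ : Vc φ)) (pt c28b.row ty1 i)) 80 :=
  dist_of_chk (@Cfg.Ok.canT G _ _ _ _ c28b (ZMod.charP 2) c28b_ok rfl rfl φ) ty1Y
theorem tO1 : ∀ i < 80, (chkO (c28b.imgV tg1) c28b.row ty1 tO1a (nat_lit 80) [nat_lit 10]) i = 0 :=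
  allB (rngB_step (allB0 _ _) tO1_0) (by decide)
theorem tR1 (h0 : ∀ s < 2, (c28md φ inj).In ⊤ (tg0 s)) : Reach ((c28md φ inj).gn tg1 2) (fun i => (fun x => (⟨c28b.vec (ZMod 2) 28 x⟩ : Vc φ)) (pt c28b.row ty1 i)) 80 [nat_lit 10] :=
  reach_of_chk (pv := (fun x => (⟨c28b.vec (ZMod 2) 28 x⟩ : Vc φ))) ((@Cfg.Ok.acts G _ _ _ _ c28b (ZMod.charP 2) c28b_ok rfl rfl (c28md φ inj) rfl tg1).ex (teg1 h0)) tO1
theorem tF1 : ∀ i < 3, (chkF (c28b.imgV tg2) c28b.row ty1 (nat_lit 10) [nat_lit 0, nat_lit 0, nat_lit 0]) i = 0 :=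
  (rng_step (all0 _) tF1_0)
theorem tfx1 : ((c28md φ inj).gn tg2 3) ≤ MulAction.stabilizer G ((fun i => (fun x => (⟨c28b.vec (ZMod 2) 28 x⟩ : Vc φ)) (pt c28b.row ty1 i)) (nat_lit 10)) :=
  gn_le_stab (@Cfg.Ok.acts G _ _ _ _ c28b (ZMod.charP 2) c28b_ok rfl rfl (c28md φ inj) rfl tg2) tF1
theorem tlb1 (h0 : ∀ s < 2, (c28md φ inj).In ⊤ (tg0 s)) : 10240 ≤ Nat.card ((c28md φ inj).gn tg1 2) :=
  le_of_eq_of_le (by norm_num) (lower ty1D (tR1 h0) (tle1 h0) tfx1 (tlb2 h0))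
theorem tex1 (h0 : ∀ s < 2, (c28md φ inj).In ⊤ (tg0 s)) : MulAction.orbit ((c28md φ inj).gn tg1 2) ((fun i => (fun x => (⟨c28b.vec (ZMod 2) 28 x⟩ : Vc φ)) (pt c28b.row ty1 i)) (nat_lit 10)) = (fun i => (fun x => (⟨c28b.vec (ZMod 2) 28 x⟩ : Vc φ)) (pt c28b.row ty1 i)) '' {i | i < 80} ∧ ((c28md φ inj).gn tg1 2) ⊓ MulAction.stabilizer G ((fun i => (fun x => (⟨c28b.vec (ZMod 2) 28 x⟩ : Vc φ)) (pt c28b.row ty1 i)) (nat_lit 10)) = ((c28md φ inj).gn tg2 3) ∧ Nat.card ((c28md φ inj).gn tg1 2) = 80 * 128 ∧ Nat.card ((c28md φ inj).gn tg2 3) = 128 :=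
  exact ty1D (tR1 h0) (tle1 h0) tfx1 (tlb2 h0) ((tub1 h0).trans (by norm_num))
theorem ty0Y : ∀ i < 1755, (chkY c28b.canV c28b.row ty0 (nat_lit 1755)) i = 0 :=
  allB (rngB_step (rngB_step (allB0 _ _) ty0Y_0) ty0Y_1) (by decide)
theorem ty0D : Dist (fun i => (fun x => (⟨c28b.vec (ZMod 2) 28 x⟩ : Vc φ)) (pt c28b.row ty0 i)) 1755 :=
  dist_of_chk (@Cfg.Ok.canT G _ _ _ _ c28b (ZMod.charP 2) c28b_ok rfl rfl φ) ty0Y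
theorem tO0 : ∀ i < 1755, (chkO (c28b.imgV tg0) c28b.row ty0 tO0a (nat_lit 1755) [nat_lit 128]) i = 0 :=
  allB (rngB_step (rngB_step (allB0 _ _) tO0_0) tO0_1) (by decide)
theorem tR0 (h0 : ∀ s < 2, (c28md φ inj).In ⊤ (tg0 s)) : Reach ((c28md φ inj).gn tg0 2) (fun i => (fun x => (⟨c28b.vec (ZMod 2) 28 x⟩ : Vc φ)) (pt c28b.row ty0 i)) 1755 [nat_lit 128] :=
  reach_of_chk (pv := (fun x => (⟨c28b.vec (ZMod 2) 28 x⟩ : Vc φ))) ((@Cfg.Ok.acts G _ _ _ _ c28b (ZMod.charP 2) c28b_ok rfl rfl (c28md φ inj) rfl tg0).ex (teg0 h0)) tO0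
theorem tF0 : ∀ i < 2, (chkF (c28b.imgV tg1) c28b.row ty0 (nat_lit 128) [nat_lit 0, nat_lit 0]) i = 0 :=
  (rng_step (all0 _) tF0_0)
theorem tfx0 : ((c28md φ inj).gn tg1 2) ≤ MulAction.stabilizer G ((fun i => (fun x => (⟨c28b.vec (ZMod 2) 28 x⟩ : Vc φ)) (pt c28b.row ty0 i)) (nat_lit 128)) :=
  gn_le_stab (@Cfg.Ok.acts G _ _ _ _ c28b (ZMod.charP 2) c28b_ok rfl rfl (c28md φ inj) rfl tg1) tF0
theorem tlb0 (h0 : ∀ s < 2, (c28md φ inj).In ⊤ (tg0 s)) : 17971200 ≤ Nat.card ((c28md φ inj).gn tg0 2) :=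
  le_of_eq_of_le (by norm_num) (lower ty0D (tR0 h0) (tle0 h0) tfx0 (tlb1 h0))
theorem tex0 (h0 : ∀ s < 2, (c28md φ inj).In ⊤ (tg0 s)) : MulAction.orbit ((c28md φ inj).gn tg0 2) ((fun i => (fun x => (⟨c28b.vec (ZMod 2) 28 x⟩ : Vc φ)) (pt c28b.row ty0 i)) (nat_lit 128)) = (fun i => (fun x => (⟨c28b.vec (ZMod 2) 28 x⟩ : Vc φ)) (pt c28b.row ty0 i)) '' {i | i < 1755} ∧ ((c28md φ inj).gn tg0 2) ⊓ MulAction.stabilizer G ((fun i => (fun x => (⟨c28b.vec (ZMod 2) 28 x⟩ : Vc φ)) (pt c28b.row ty0 i)) (nat_lit 128)) = ((c28md φ inj).gn tg1 2) ∧ Nat.card ((c28md φ inj).gn tg0 2) = 1755 * 10240 ∧ Nat.card ((c28md φ inj).gn tg1 2) = 10240 :=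
  exact ty0D (tR0 h0) (tle0 h0) tfx0 (tlb1 h0) ((tub0 h0).trans (by norm_num))
theorem tK : ∀ i < 1755, (chkO (c28b.imgV tg1) c28b.row ty0 tKa (nat_lit 1755) [nat_lit 128, nat_lit 0, nat_lit 1, nat_lit 3, nat_lit 456]) i = 0 :=
  allB (rngB_step (rngB_step (allB0 _ _) tK_0) tK_1) (by decide)
theorem tm456O : ∀ i < 1755, (chkO (c28b.imgV tm456) c28b.row ty0 tm456Oa (nat_lit 1755) [nat_lit 128]) i = 0 :=
  allB (rngB_step (rngB_step (allB0 _ _) tm456O_0) tm456O_1) (by decide)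
theorem tm3O : ∀ i < 1755, (chkO (c28b.imgV tm3) c28b.row ty0 tm3Oa (nat_lit 1755) [nat_lit 128]) i = 0 :=
  allB (rngB_step (rngB_step (allB0 _ _) tm3O_0) tm3O_1) (by decide)
theorem tm1O : ∀ i < 1755, (chkO (c28b.imgV tm1) c28b.row ty0 tm1Oa (nat_lit 1755) [nat_lit 128]) i = 0 :=
  allB (rngB_step (rngB_step (allB0 _ _) tm1O_0) tm1O_1) (by decide)
theorem tm0O : ∀ i < 1755, (chkO (c28b.imgV tm0) c28b.row ty0 tm0Oa (nat_lit 1755) [nat_lit 128]) i = 0 :=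
  allB (rngB_step (rngB_step (allB0 _ _) tm0O_0) tm0O_1) (by decide)
theorem tmax (h0 : ∀ s < 2, (c28md φ inj).In ⊤ (tg0 s)) (ht : (c28md φ inj).gn tg0 2 = ⊤) : ∀ M : Subgroup G, ((c28md φ inj).gn tg1 2) ≤ M → M = ((c28md φ inj).gn tg1 2) ∨ M = ⊤ :=
  max_of_roots (Y := (fun i => (fun x => (⟨c28b.vec (ZMod 2) 28 x⟩ : Vc φ)) (pt c28b.row ty0 i))) (ht ▸ (tex0 h0).1) (ht ▸ (tex0 h0).2.1)
  (reach_of_chk (pv := (fun x => (⟨c28b.vec (ZMod 2) 28 x⟩ : Vc φ))) ((@Cfg.Ok.acts G _ _ _ _ c28b (ZMod.charP 2) c28b_ok rfl rfl (c28md φ inj) rfl tg1).ex (teg1 h0)) tK)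
  (List.forall_mem_cons.2 ⟨Or.inl rfl, (List.forall_mem_cons.2 ⟨Or.inr (root_ok (pv := (fun x => (⟨c28b.vec (ZMod 2) 28 x⟩ : Vc φ))) (@Cfg.Ok.acts G _ _ _ _ c28b (ZMod.charP 2) c28b_ok rfl rfl (c28md φ inj) rfl tm0) ((tsch0 h0).2.1 (nat_lit 492) (by decide)).top (teg1 h0)
    (ht ▸ (tex0 h0).1) (ht ▸ (tex0 h0).2.1) tm0M tm0O),
  (List.forall_mem_cons.2 ⟨Or.inr (root_ok (pv := (fun x => (⟨c28b.vec (ZMod 2) 28 x⟩ : Vc φ))) (@Cfg.Ok.acts G _ _ _ _ c28b (ZMod.charP 2) c28b_ok rfl rfl (c28md φ inj) rfl tm1) ((tsch0 h0).2.1 (nat_lit 742) (by decide)).top (teg1 h0)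
    (ht ▸ (tex0 h0).1) (ht ▸ (tex0 h0).2.1) tm1M tm1O),
  (List.forall_mem_cons.2 ⟨Or.inr (root_ok (pv := (fun x => (⟨c28b.vec (ZMod 2) 28 x⟩ : Vc φ))) (@Cfg.Ok.acts G _ _ _ _ c28b (ZMod.charP 2) c28b_ok rfl rfl (c28md φ inj) rfl tm3) ((tsch0 h0).2.1 (nat_lit 1474) (by decide)).top (teg1 h0)
    (ht ▸ (tex0 h0).1) (ht ▸ (tex0 h0).2.1) tm3M tm3O),
  (List.forall_mem_cons.2 ⟨Or.inr (root_ok (pv := (fun x => (⟨c28b.vec (ZMod 2) 28 x⟩ : Vc φ))) (@Cfg.Ok.acts G _ _ _ _ c28b (ZMod.charP 2) c28b_ok rfl rfl (c28md φ inj) rfl tm456) ((tsch0 h0).2.1 (nat_lit 214) (by decide)).top (teg1 h0)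
    (ht ▸ (tex0 h0).1) (ht ▸ (tex0 h0).2.1) tm456M tm456O),
  (fun _ h => absurd h List.not_mem_nil)⟩)⟩)⟩)⟩)⟩)
theorem tcore1 (h0 : ∀ s < 2, (c28md φ inj).In ⊤ (tg0 s)) (N : Subgroup G) (hN : N.Normal) (h : N ≤ ((c28md φ inj).gn tg1 2)) : N ≤ ((c28md φ inj).gn tg1 2) := h
theorem tcore2 (h0 : ∀ s < 2, (c28md φ inj).In ⊤ (tg0 s)) (N : Subgroup G) (hN : N.Normal) (h : N ≤ ((c28md φ inj).gn tg1 2)) : N ≤ ((c28md φ inj).gn tg2 3) :=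
  (le_inf (tcore1 h0 N hN h) (normal_le_stab hN (h.trans tfx0) (mem_orbit_of_eq (tex0 h0).1 (j := (nat_lit 134)) (by decide) (congrArg (fun x => (⟨c28b.vec (ZMod 2) 28 x⟩ : Vc φ)) tcp1)))).trans (tex1 h0).2.1.le
theorem tcore3 (h0 : ∀ s < 2, (c28md φ inj).In ⊤ (tg0 s)) (N : Subgroup G) (hN : N.Normal) (h : N ≤ ((c28md φ inj).gn tg1 2)) : N ≤ (⊥ : Subgroup G) :=
  (le_inf (tcore2 h0 N hN h) (normal_le_stab hN (h.trans tfx0) (mem_orbit_of_eq (tex0 h0).1 (j := (nat_lit 1209)) (by decide) (congrArg (fun x => (⟨c28b.vec (ZMod 2) 28 x⟩ : Vc φ)) tcp2)))).trans (tex2 h0).2.1.le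
theorem tP : ∀ i < 2, (chkP c28.mul c28.one tg0 te0 [[nat_lit 1632556, nat_lit 2748878],
  [nat_lit 18177409, nat_lit 21527562]] (nat_lit 3)) i = 0 :=
  (rng_step (all0 _) tP_0)
theorem tE : ∀ i < 2, (chkE tg0 ae1 [nat_lit 44591634, nat_lit 40694431]) i = 0 :=
  (rng_step (all0 _) tE_0)

end Cfsg.Agent.H5.Ru
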