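import Cfsg.Agent.H5.DC4

/-! Spans of bit vectors: enumeration and elimination. -/

set_option autoImplicit false

namespace Cfsg.Agent.H5

/-- `d` is a sum of elements of the list -/
def InSp : List ℕ → ℕ → Prop
  | [], d => d = 0
  | a :: l, d => InSp l d ∨ InSp l (d ^^^ a)

/-- `d` is a sum of at most `k` elements of the list -/
def InK : List ℕ → ℕ → ℕ → Prop
  | [], _, d => d = 0
  | a :: l, k, d => InK l k d ∨ (k ≠ 0 ∧ InK l (k - 1) (d ^^^ a))

theorem InSp.zero (l : List ℕ) : InSp l 0 := by
  induction l with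
  | nil => rfl
  | cons a l ih => exact Or.inl ih

theorem InK.zero (l : List ℕ) (k : ℕ) : InK l k 0 := by
  induction l with
  | nil => rfl
  | cons a l ih => exact Or.inl ih

theorem InSp.xor {l : List ℕ} {d e : ℕ} (h1 : InSp l d) (h2 : InSp l e) : InSp l (d ^^^ e) := by
  induction l generalizing d e with
  | nil => rw [show d = 0 from h1, show e = 0 from h2]; rfl
  | cons a l ih =>
    rcases h1 with h1 | h1 <;> rcases h2 with h2 | h2
    · exact Or.inl (ih h1 h2)
    · exact Or.inr (by rw [Nat.xor_assoc]; exact ih h1 h2)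
    · exact Or.inr (by rw [Nat.xor_right_comm]; exact ih h1 h2)
    · refine Or.inl ?_
      have := ih h1 h2
      rwa [Nat.xor_assoc, Nat.xor_comm e, Nat.xor_xor_cancel_left] at this

theorem InK.mono {l : List ℕ} {k k' d : ℕ} (h : InK l k d) (hk : k ≤ k') : InK l k' d := by
  induction l generalizing k k' d with
  | nil => exact h
  | cons a l ih =>
    rcases h with h | ⟨h0, h⟩
    · exact Or.inl (ih h hk)
    · exact Or.inr ⟨by omega, ih h (by omega)⟩

theorem InK.eq_zero {l : List ℕ} {d : ℕ} (h : InK l 0 d) : d = 0 := by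
  induction l with
  | nil => exact h
  | cons a l ih =>
    rcases h with h | ⟨h0, -⟩
    · exact ih h
    · exact absurd rfl h0

theorem InSp.map {r : ℕ → ℕ} (h0 : r 0 = 0) (hr : ∀ x y, r (x ^^^ y) = r x ^^^ r y) {l : List ℕ}
    {d : ℕ} (h : InSp l d) : InSp (l.map r) (r d) := by
  induction l generalizing d with
  | nil => rw [show d = 0 from h]; exact h0
  | cons a l ih =>
    rcases h with h | h
    · exact Or.inl (ih h)
    · exact Or.inr (hr d a ▸ ih h)

theorem InK.map {r : ℕ → ℕ} (h0 : r 0 = 0) (hr : ∀ x y, r (x ^^^ y) = r x ^^^ r y) {l : List ℕ}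
    {k d : ℕ} (h : InK l k d) : InK (l.map r) k (r d) := by
  induction l generalizing k d with
  | nil => rw [show d = 0 from h]; exact h0
  | cons a l ih =>
    rcases h with h | ⟨h1, h⟩
    · exact Or.inl (ih h)
    · exact Or.inr ⟨h1, hr d a ▸ ih h⟩

theorem InSp.append {l₁ l₂ : List ℕ} {d : ℕ} (h : InSp (l₁ ++ l₂) d) :
    ∃ e, InSp l₁ e ∧ InSp l₂ (e ^^^ d) := by
  induction l₁ generalizing d with
  | nil => exact ⟨0, rfl, by rwa [Nat.zero_xor]⟩
  | cons a l ih =>
    rcases h with h | h
    · obtain ⟨e, h1, h2⟩ := ih h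
      exact ⟨e, Or.inl h1, h2⟩
    · obtain ⟨e, h1, h2⟩ := ih h
      exact ⟨e ^^^ a, Or.inr (by rwa [Nat.xor_xor_cancel_right]), by
        rwa [Nat.xor_assoc, Nat.xor_comm a]⟩

/-- the combination of the list given by the bits of `j` -/
noncomputable def comb (l : List ℕ) : ℕ → ℕ :=
  List.rec (motive := fun _ => ℕ → ℕ) (fun _ => 0)
    (fun a _ ih j => Nat.xor (Nat.mul (Nat.mod j 2) a) (force (Nat.div j 2) ih)) l

theorem comb_cons (a : ℕ) (l : List ℕ) (j : ℕ) : comb (a :: l) j = (j % 2 * a) ^^^ comb l (j / 2) :=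
  rfl

theorem inSp_comb (l : List ℕ) (j : ℕ) : InSp l (comb l j) := by
  induction l generalizing j with
  | nil => rfl
  | cons a l ih =>
    rw [comb_cons]
    rcases Nat.mod_two_eq_zero_or_one j with h | h <;> rw [h]
    · exact Or.inl (by simpa using ih _)
    · exact Or.inr (by rw [one_mul, Nat.xor_comm a, Nat.xor_xor_cancel_right]; exact ih _)

theorem InSp.comb {l : List ℕ} {d : ℕ} (h : InSp l d) : ∃ j < 2 ^ l.length, comb l j = d := by
  induction l generalizing d with
  | nil => exact ⟨0, by simp, (show d = 0 from h).symm⟩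
  | cons a l ih =>
    rcases h with h | h <;> obtain ⟨j, hj, e⟩ := ih h
    · refine ⟨2 * j, by rw [List.length_cons, pow_succ]; omega, ?_⟩
      rw [comb_cons, Nat.mul_mod_right, Nat.mul_div_cancel_left _ two_pos, e]; simp
    · refine ⟨2 * j + 1, by rw [List.length_cons, pow_succ]; omega, ?_⟩
      rw [comb_cons, show (2 * j + 1) % 2 = 1 by omega, show (2 * j + 1) / 2 = j by omega, e, one_mul,
        Nat.xor_comm d, Nat.xor_xor_cancel_left]

/-- sum of `f` over an affine span -/
noncomputable def enumX (l : List ℕ) (f : ℕ → ℕ) : ℕ → ℕ :=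
  List.rec (motive := fun _ => ℕ → ℕ) f (fun a _ ih t => Nat.add (ih t) (force (Nat.xor t a) ih)) l

theorem enumX_zero {l : List ℕ} {f : ℕ → ℕ} {t d : ℕ} (h : enumX l f t = 0) (hd : InSp l d) :
    f (t ^^^ d) = 0 := by
  induction l generalizing t d with
  | nil => rw [show d = 0 from hd, Nat.xor_zero]; exact h
  | cons a l ih =>
    obtain ⟨h1, h2⟩ := add_eq_zero' h
    rcases hd with hd | hd
    · exact ih h1 hd
    · have := ih h2 hd
      change f ((t ^^^ a) ^^^ (d ^^^ a)) = 0 at this
      rwa [Nat.xor_assoc, Nat.xor_comm d, Nat.xor_xor_cancel_left] at this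

/-- sum of `f` over the sums of at most `k` elements -/
noncomputable def subK (l : List ℕ) (r f : ℕ → ℕ) : ℕ → ℕ → ℕ :=
  List.rec (motive := fun _ => ℕ → ℕ → ℕ) (fun _ t => f t)
    (fun a _ ih k t => Nat.rec (motive := fun _ => ℕ) (f t)
      (fun k' _ => Nat.add (ih (Nat.succ k') t) (force (Nat.xor t (r a)) (ih k'))) k) l

theorem subK_zero {l : List ℕ} {r f : ℕ → ℕ} {k t d : ℕ} (h : subK l r f k t = 0)
    (hd : InK (l.map r) k d) : f (t ^^^ d) = 0 := by
  induction l generalizing k t d with
  | nil => rw [show d = 0 from hd, Nat.xor_zero]; exact h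
  | cons a l ih =>
    cases k with
    | zero => rw [hd.eq_zero, Nat.xor_zero]; exact h
    | succ k =>
      obtain ⟨h1, h2⟩ := add_eq_zero' h
      rcases hd with hd | ⟨-, hd⟩
      · exact ih h1 hd
      · have := ih h2 hd
        change f ((t ^^^ r a) ^^^ (d ^^^ r a)) = 0 at this
        rwa [Nat.xor_assoc, Nat.xor_comm d, Nat.xor_xor_cancel_left] at this

/-- clear bit `j` with the help of `a` -/
def red (a j x : ℕ) : ℕ := Nat.xor x (Nat.mul (Nat.land (Nat.shiftRight x j) 1) a)

theorem red_eq (a j x : ℕ) : red a j x = if x.testBit j then x ^^^ a else x := by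
  change x ^^^ ((x >>> j &&& 1) * a) = _
  rw [Nat.and_one_is_mod, Nat.shiftRight_eq_div_pow, ← Nat.toNat_testBit]
  cases x.testBit j <;> simp

theorem red_xor (a j x y : ℕ) : red a j (x ^^^ y) = red a j x ^^^ red a j y := by
  simp only [red_eq, Nat.testBit_xor]
  cases x.testBit j <;> cases y.testBit j <;> simp
  · rw [Nat.xor_assoc]
  · rw [Nat.xor_right_comm]
  · rw [Nat.xor_assoc, Nat.xor_comm y, Nat.xor_xor_cancel_left]

/-- a guess for the index of a set bit -/
def lowb (s : ℕ) : ℕ :=
  fld 0x124c850524e56218c29d3df5998d11c43612dc79840381b5c2681000 6 63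
    (Nat.mod (Nat.xor s (Nat.land s (Nat.pred s))) 37)

/-- elimination: `F r t` is called for all solutions -/
noncomputable def elim (S : ℕ) (l : List ℕ) (F : (ℕ → ℕ) → ℕ → ℕ) : (ℕ → ℕ) → ℕ → ℕ :=
  List.rec (motive := fun _ => (ℕ → ℕ) → ℕ → ℕ) F
    (fun a _ ih r t => force (r a) fun a' => force (Nat.land a' S) fun s =>
      ifz s (Nat.add (ih r t) (force (Nat.xor t a') (ih r)))
        (force (lowb s) fun j => Nat.add (Nat.xor (Nat.land (Nat.shiftRight s j) 1) 1)
          (force (red a' j t) (ih fun x => force (r x) (red a' j))))) l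

theorem elim_zero {S : ℕ} {l o : List ℕ} {f r : ℕ → ℕ} {k t d e : ℕ}
    (h : elim S l (fun r t => subK o r f k t) r t = 0) (hd : InSp (l.map r) d)
    (he : InK (o.map r) k e) (hS : (t ^^^ d ^^^ e) &&& S = 0) : f (t ^^^ d ^^^ e) = 0 := by
  induction l generalizing r t d e with
  | nil =>
    rw [show d = 0 from hd, Nat.xor_zero]
    exact subK_zero h he
  | cons a l ih =>
    change ifz (r a &&& S) (Nat.add (elim S l _ r t) (elim S l _ r (t ^^^ r a)))
      (Nat.add (Nat.xor (((r a &&& S) >>> lowb (r a &&& S)) &&& 1) 1)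
        (elim S l _ (fun x => red (r a) (lowb (r a &&& S)) (r x))
          (red (r a) (lowb (r a &&& S)) t))) = 0 at h
    rw [ifz_eq] at h
    split_ifs at h with h0
    · obtain ⟨h1, h2⟩ := add_eq_zero' h
      rcases hd with hd | hd
      · exact ih h1 hd he hS
      · have e1 : t ^^^ r a ^^^ (d ^^^ r a) = t ^^^ d := by
          rw [Nat.xor_assoc, Nat.xor_comm d, Nat.xor_xor_cancel_left]
        have := ih h2 hd he (by rwa [e1])
        rwa [e1] at this
    · obtain ⟨h1, h2⟩ := add_eq_zero' h
      generalize lowb (r a &&& S) = j at h1 h2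
      have h3 : (r a &&& S).testBit j = true := by
        have := xor_eq_zero' h1
        rw [Nat.and_one_is_mod, Nat.shiftRight_eq_div_pow, ← Nat.toNat_testBit] at this
        revert this; cases (r a &&& S).testBit j <;> simp
      rw [Nat.testBit_and, Bool.and_eq_true] at h3
      have h4 : (t ^^^ d ^^^ e).testBit j = false := by
        have := congrArg (Nat.testBit · j) hS
        simpa only [Nat.testBit_and, h3.2, Bool.and_true, Nat.zero_testBit] using this
      have h5 : red (r a) j (r a) = 0 := by rw [red_eq, h3.1]; simp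
      have h6 : red (r a) j 0 = 0 := by rw [red_eq]; simp
      have h7 : InSp (l.map fun x => red (r a) j (r x)) (red (r a) j d) := by
        rw [show (fun x => red (r a) j (r x)) = red (r a) j ∘ r from rfl, ← List.map_map]
        rcases hd with hd | hd
        · exact hd.map h6 (red_xor _ _)
        · have := hd.map h6 (red_xor (r a) j)
          rwa [red_xor, h5, Nat.xor_zero] at this
      have h8 : InK (o.map fun x => red (r a) j (r x)) k (red (r a) j e) := by
        rw [show (fun x => red (r a) j (r x)) = red (r a) j ∘ r from rfl, ← List.map_map]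
        exact he.map h6 (red_xor _ _)
      have e1 : red (r a) j t ^^^ red (r a) j d ^^^ red (r a) j e = t ^^^ d ^^^ e := by
        rw [← red_xor, ← red_xor, red_eq, h4]; rfl
      have := ih h2 h7 h8 (by rwa [e1])
      rwa [e1] at this

/-- the values `col t` for the `t < n` with `b t ≠ 0` -/
noncomputable def selL (col b : ℕ → ℕ) (n : ℕ) : List ℕ :=
  Nat.rec (motive := fun _ => List ℕ) []
    (fun t ih => Nat.rec (motive := fun _ => List ℕ) ih (fun _ _ => col t :: ih) (b t)) n

/-- the values `col t` for the `t < n` with `b t = 0` -/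
noncomputable def selO (col b : ℕ → ℕ) (n : ℕ) : List ℕ :=
  Nat.rec (motive := fun _ => List ℕ) []
    (fun t ih => Nat.rec (motive := fun _ => List ℕ) (col t :: ih) (fun _ _ => ih) (b t)) n

theorem sel_split (col b : ℕ → ℕ) (y : ℕ → Prop) [DecidablePred y] (n : ℕ) :
    ∃ d e, InSp (selL col b n) d ∧
      InK (selO col b n) (∑ t ∈ Finset.range n, if b t = 0 ∧ y t then 1 else 0) e ∧
      d ^^^ e = xorTo (fun t => if y t then col t else 0) n := by
  induction n with
  | zero => exact ⟨0, 0, rfl, rfl, rfl⟩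
  | succ n ih =>
    obtain ⟨d, e, h1, h2, h3⟩ := ih
    have e3 : xorTo (fun t => if y t then col t else 0) (n + 1) =
      xorTo (fun t => if y t then col t else 0) n ^^^ (if y n then col n else 0) := rfl
    have e1 : selL col b (n + 1) = if b n = 0 then selL col b n else col n :: selL col b n := by
      change Nat.rec (motive := fun _ => List ℕ) _ _ (b n) = _
      cases b n <;> rfl
    have e2 : selO col b (n + 1) = if b n = 0 then col n :: selO col b n else selO col b n := by
      change Nat.rec (motive := fun _ => List ℕ) _ _ (b n) = _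
      cases b n <;> rfl
    rw [e1, e2, e3, ← h3, Finset.sum_range_succ]
    by_cases hb : b n = 0 <;> by_cases hy : y n <;> simp only [hb, hy, if_true, if_false, and_self,
      and_false, false_and, add_zero, Nat.xor_zero]
    · exact ⟨d, e ^^^ col n, h1, Or.inr ⟨by omega, by
        rwa [Nat.add_sub_cancel, Nat.xor_xor_cancel_right]⟩, by rw [Nat.xor_assoc]⟩
    · exact ⟨d, e, h1, Or.inl h2, rfl⟩
    · exact ⟨d ^^^ col n, e, Or.inr (by rwa [Nat.xor_xor_cancel_right]), h2, by
        rw [Nat.xor_right_comm]⟩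
    · exact ⟨d, e, Or.inl h1, h2, rfl⟩

/-- split off the last chosen element -/
theorem subK_selO {col f : ℕ → ℕ} {k n : ℕ} (h0 : f 0 = 0)
    (h : ∀ j < n, subK (selO col (fun _ => 0) j) (fun x => x) f k (col j) = 0) :
    subK (selO col (fun _ => 0) n) (fun x => x) f (k + 1) 0 = 0 := by
  induction n with
  | zero => exact h0
  | succ n ih =>
    change subK (selO col (fun _ => 0) n) (fun x => x) f (k + 1) 0 +
      subK (selO col (fun _ => 0) n) (fun x => x) f k (0 ^^^ col n) = 0
    rw [ih fun j hj => h j (by omega), Nat.zero_xor, h n (by omega)]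

/-- binary search (no property is used) -/
noncomputable def bsearch (W : ℕ → ℕ) (c n : ℕ) : ℕ :=
  Nat.rec (motive := fun _ => ℕ → ℕ) (fun lo => lo)
    (fun b ih lo => force (Nat.add lo (Nat.shiftLeft 1 b)) fun m =>
      force (Bool.rec (motive := fun _ => ℕ) lo m (Nat.ble (W m) c)) ih) n 0

end Cfsg.Agent.H5
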